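/-
Small executable sparse vectors with integer coefficients and a binary lookup tree, for checks in the kernel.
-/
import Mathlib

set_option autoImplicit false

namespace CfsgLib.Chev

/-- binary lookup tree indexed by natural numbers -/
inductive Tr (α : Type) : Type where
  | nil : Tr α
  | node : α → Tr α → Tr α → Tr α

/-- lookup; written with `Tr.rec` and primitive `Nat` operations so that the kernel evaluates it fast -/
noncomputable def Tr.get {α : Type} (d : α) (t : Tr α) : ℕ → α :=
  Tr.rec (motive := fun _ => ℕ → α) (fun _ => d)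
    (fun v _ _ gl gr k => cond (Nat.beq k 0) v
      (cond (Nat.beq (Nat.mod k 2) 1) (gl (Nat.div k 2)) (gr (Nat.sub (Nat.div k 2) 1)))) t

/-- the indices at which a tree of lists stores a non-empty list -/
noncomputable def Tr.keys {α : Type} (t : Tr (List α)) : List ℕ :=
  Tr.rec (motive := fun _ => List ℕ) []
    (fun v _ _ kl kr => (cond v.isEmpty [] [0]) ++
      (kl.map fun k => 2 * k + 1) ++ (kr.map fun k => 2 * k + 2)) t

/-- strictly increasing and all at least the given bound -/
def incFrom : ℕ → List ℕ → Bool
  | _, [] => true
  | b, x :: xs => Nat.ble b x && incFrom (x + 1) xs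

section Sparse

variable {κ : Type} [DecidableEq κ] {M : Type*} [AddCommGroup M]

/-- add a term to a sparse vector -/
def sins (x : κ × ℤ) : List (κ × ℤ) → List (κ × ℤ)
  | [] => [x]
  | y :: ys => bif decide (x.1 = y.1) then (y.1, x.2 + y.2) :: ys else y :: sins x ys

/-- collect equal keys -/
def snorm (v : List (κ × ℤ)) : List (κ × ℤ) := v.foldr sins []

/-- collect equal keys and drop zero coefficients -/
def scompact (v : List (κ × ℤ)) : List (κ × ℤ) := (snorm v).filter fun p => p.2 != 0

/-- are two sparse vectors equal -/
def seq' (v w : List (κ × ℤ)) : Bool :=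
  (snorm (v ++ w.map fun p => (p.1, -p.2))).all fun p => p.2 == 0

omit [DecidableEq κ] in
/-- the value of a sparse vector -/
def sval (g : κ → M) (v : List (κ × ℤ)) : M := (v.map fun p => p.2 • g p.1).sum

omit [DecidableEq κ] in
lemma sval_nil (g : κ → M) : sval g ([] : List (κ × ℤ)) = 0 := rfl

omit [DecidableEq κ] in
lemma sval_cons (g : κ → M) (x : κ × ℤ) (v : List (κ × ℤ)) :
    sval g (x :: v) = x.2 • g x.1 + sval g v := by simp [sval]

omit [DecidableEq κ] in
lemma sval_append (g : κ → M) (v w : List (κ × ℤ)) : sval g (v ++ w) = sval g v + sval g w := by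
  simp [sval]

lemma sval_sins (g : κ → M) (x : κ × ℤ) (v : List (κ × ℤ)) :
    sval g (sins x v) = x.2 • g x.1 + sval g v := by
  induction v with
  | nil => simp [sins, sval]
  | cons y ys ih =>
    by_cases h : x.1 = y.1
    · simp [sins, h, sval_cons, add_smul, add_assoc]
    · simp [sins, h, sval_cons, ih, add_left_comm]

lemma sval_snorm (g : κ → M) (v : List (κ × ℤ)) : sval g (snorm v) = sval g v := by
  induction v with
  | nil => rfl
  | cons x v ih =>
    show sval g (sins x (snorm v)) = _
    rw [sval_sins, ih, sval_cons]

lemma sval_scompact (g : κ → M) (v : List (κ × ℤ)) : sval g (scompact v) = sval g v := by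
  rw [← sval_snorm g v, scompact]
  induction snorm v with
  | nil => rfl
  | cons x w ih =>
    by_cases h : x.2 = 0
    · simp [List.filter_cons, h, sval_cons, ih]
    · simp [List.filter_cons, h, sval_cons, ih]

lemma sval_eq_of_seq (g : κ → M) {v w : List (κ × ℤ)} (h : seq' v w = true) :
    sval g v = sval g w := by
  have h0 : sval g (snorm (v ++ w.map fun p => (p.1, -p.2))) = 0 := by
    rw [seq', List.all_eq_true] at h
    refine List.sum_eq_zero fun y hy => ?_
    obtain ⟨p, hp, rfl⟩ := List.mem_map.1 hy
    have := h p hp
    simp only [beq_iff_eq] at this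
    simp [this]
  have hneg : ∀ u : List (κ × ℤ), sval g (u.map fun p => (p.1, -p.2)) = -sval g u := by
    intro u
    induction u with
    | nil => simp [sval]
    | cons x u ih => simp [sval_cons, ih, add_comm]
  rw [sval_snorm, sval_append, hneg, ← sub_eq_add_neg, sub_eq_zero] at h0
  exact h0

end Sparse

end CfsgLib.Chev
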