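/-
Fast accessor tables for a `ChevalleyDatum` and the Boolean checks run on them.
-/
import Cfsg.Prelude.Def_ChevStructure
import Cfsg.Agent.Lib.Chev.Sparse

set_option autoImplicit false

namespace CfsgLib.Chev

open Cfsg.Lie

/-- auxiliary tables: root coordinates, tree copies of the tables, reflections and signs, and
reduction paths to representatives -/
structure Aux where
  rootT : Tr (List ℤ)
  negT : Tr ℕ
  coroT : Tr (List ℤ)
  cartT : List (Tr ℤ)
  chainT : Tr (Tr (List (ℕ × ℤ)))
  reflT : List (Tr ℕ)
  etaT : List (Tr ℤ)
  upT : Tr ℕ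
  distT : Tr ℕ
  reps : List ℕ
  stabT : List (Tr ℕ)

namespace Aux

variable (A : Aux)

/-- coefficient of a root on a fundamental root -/
noncomputable def a (r j : ℕ) : ℤ := (A.rootT.get [] r).getD j 0
/-- negative -/
noncomputable def neg (r : ℕ) : ℕ := A.negT.get 0 r
/-- coroot coefficient -/
noncomputable def coro (r j : ℕ) : ℤ := (A.coroT.get [] r).getD j 0
/-- Cartan integer -/
noncomputable def cart (i s : ℕ) : ℤ := (A.cartT.getD i .nil).get 0 s
/-- chain -/
noncomputable def chain (r s : ℕ) : List (ℕ × ℤ) := (A.chainT.get .nil r).get [] s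
/-- reflection -/
noncomputable def refl (i s : ℕ) : ℕ := (A.reflT.getD i .nil).get 0 s
/-- sign -/
noncomputable def eta (i s : ℕ) : ℤ := (A.etaT.getD i .nil).get 1 s
/-- reflection towards a representative -/
noncomputable def up (r : ℕ) : ℕ := A.upT.get 0 r
/-- distance to a representative -/
noncomputable def dist (r : ℕ) : ℕ := A.distT.get 0 r
/-- reflection within the stabiliser of a representative -/
noncomputable def stab (k s : ℕ) : ℕ := (A.stabT.getD k .nil).get 0 s

/-- height -/
noncomputable def ht (l r : ℕ) : ℤ := ((List.range l).map (A.a r)).sum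

/-- the non-trivial terms (row, coefficient, degree) of column `c` of `x_r(t)` -/
noncomputable def col (l n r c : ℕ) : List (ℕ × ℤ × ℕ) :=
  bif c < l then [(l + r, -A.cart c r, 1)]
  else bif c < l + n then
    (bif c - l == r then []
    else bif c - l == A.neg r then
      (List.range l).map (fun j => (j, A.coro r j, 1)) ++ [(l + r, -1, 2)]
    else (A.chain r (c - l)).zipIdx.map fun q => (l + q.1.1, q.1.2, q.2 + 1))
  else []

/-- apply `x_r(t)`, `t` an integer, to a sparse vector -/
noncomputable def appX (l n r : ℕ) (t : ℤ) (v : List (ℕ × ℤ)) : List (ℕ × ℤ) :=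
  scompact (v.flatMap fun p =>
    (p.1, p.2) :: (A.col l n r p.1).map fun q => (q.1, p.2 * q.2.1 * t ^ q.2.2))

/-- apply a word -/
noncomputable def appWord (l n : ℕ) : List (ℕ × ℤ) → List (ℕ × ℤ) → List (ℕ × ℤ)
  | [], v => v
  | (r, t) :: w, v => A.appX l n r t (appWord l n w v)

/-- the predicted column of `n_{p_i}(1)` -/
noncomputable def nCol (l i p c : ℕ) : List (ℕ × ℤ) :=
  bif c < l then [(c, 1), (i, -A.cart c p)]
  else [(l + A.refl i (c - l), A.eta i (c - l))]

/-- `D.reflectRoot` computed from the tables -/
noncomputable def reflFast (p i s : ℕ) : ℕ :=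
  let A' := A.cart i s
  bif decide (s = p) then A.neg p
  else bif decide (s = A.neg p) then p
  else bif decide (0 < A') then (((A.chain (A.neg p) s)[A'.toNat - 1]?).map Prod.fst).getD s
  else bif decide (A' < 0) then (((A.chain p s)[(-A').toNat - 1]?).map Prod.fst).getD s
  else s

/-- the i-th term of the chain -/
noncomputable def chRoot (r s i : ℕ) : Option ℕ := ((A.chain r s)[i - 1]?).map Prod.fst
/-- its coefficient -/
noncomputable def chM (r s i : ℕ) : ℤ := (((A.chain r s)[i - 1]?).map Prod.snd).getD 0

/-- `D.commTerms` computed from the tables -/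
noncomputable def terms (r s : ℕ) : List (ℕ × ℤ × ℕ × ℕ) :=
  let rs := A.chRoot r s 1
  let cands : List (Option ℕ × ℤ × ℕ × ℕ) :=
    [ (A.chRoot r s 1, A.chM r s 1, 1, 1),
      (A.chRoot r s 2, A.chM r s 2, 2, 1),
      (A.chRoot s r 2, A.chM s r 2, 1, 2),
      (A.chRoot r s 3, A.chM r s 3, 3, 1),
      (A.chRoot s r 3, - A.chM s r 3, 1, 3),
      ((A.chRoot r s 3).bind fun k => A.chRoot k s 1, (rs.map fun k => A.chM k r 2 / 3).getD 0, 3, 2),
      ((A.chRoot s r 3).bind fun k => A.chRoot k r 1, (rs.map fun k => -2 * A.chM k s 2 / 3).getD 0, 2, 3) ]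
  cands.filterMap fun c => c.1.map fun k => (k, c.2)

end Aux

variable (D : ChevalleyDatum) (A : Aux)

/-- a row of the chain table agrees with the tree -/
noncomputable def rowCheck (n : ℕ) (T : Tr (List (ℕ × ℤ))) (row : List (ℕ × Array (ℕ × ℤ))) : Bool :=
  Nat.beq T.keys.length row.length && incFrom 0 (row.map Prod.fst) &&
    row.all fun e => Nat.blt e.1 n && !e.2.toList.isEmpty && decide (T.get [] e.1 = e.2.toList)

/-- the tables agree with the datum -/
noncomputable def checkSync : Bool :=
  decide (D.negIdx.toList = (List.range D.nroots).map A.neg) &&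
  decide (D.coroot.toList.map Array.toList = (List.range D.nroots).map fun r => A.coroT.get [] r) &&
  decide (D.cartanSR.toList.map Array.toList =
    (List.range D.rank).map fun i => (List.range D.nroots).map (A.cart i)) &&
  D.chain.size == D.nroots &&
  D.chain.toList.zipIdx.all (fun q => rowCheck D.nroots (A.chainT.get .nil q.2) q.1.toList) &&
  (List.range D.rank).all (fun i => D.simple i < D.nroots) &&
  (List.range D.nroots).all (fun r => (A.rootT.get [] r).length == D.rank) &&
  (List.range D.nroots).all (fun r => (A.coroT.get [] r).length == D.rank)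

/-- strict lexicographic order -/
noncomputable def lexLt : List ℤ → List ℤ → Bool
  | x :: xs, y :: ys => decide (x < y) || (decide (x = y) && lexLt xs ys)
  | _, _ => false

/-- basic properties of the roots -/
noncomputable def checkRoots : Bool :=
  (List.range D.nroots).all (fun r =>
    let s := A.neg r
    s < D.nroots && s != r && A.neg s == r &&
    decide (A.rootT.get [] s = (A.rootT.get [] r).map (fun x => -x)) &&
    decide (A.coroT.get [] s = (A.coroT.get [] r).map (fun x => -x)) &&
    (List.range D.rank).all (fun i => decide (A.cart i s = -A.cart i r)) &&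
    (r + 1 == D.nroots || lexLt (A.rootT.get [] r) (A.rootT.get [] (r + 1))) &&
    ((A.rootT.get [] r).all (fun x => decide (0 ≤ x)) || (A.rootT.get [] r).all (fun x => decide (x ≤ 0))) &&
    ((A.rootT.get [] r).all (fun x => decide (0 ≤ x)) == (A.coroT.get [] r).all (fun x => decide (0 ≤ x))) &&
    ((A.rootT.get [] r).all (fun x => decide (x ≤ 0)) == (A.coroT.get [] r).all (fun x => decide (x ≤ 0)))) &&
  (List.range D.rank).all (fun i =>
    decide (A.rootT.get [] (D.simple i) = (List.range D.rank).map (fun j => if j = i then 1 else 0)) &&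
    decide (A.coroT.get [] (D.simple i) = (List.range D.rank).map (fun j => if j = i then 1 else 0)) &&
    decide (A.cart i (D.simple i) = 2))

/-- the chain table is compatible with the root lattice -/
noncomputable def checkChains : Bool :=
  D.chain.toList.zipIdx.all fun q => q.1.toList.all fun e =>
    e.1 != q.2 && e.1 != A.neg q.2 && e.2.size ≤ 3 &&
    e.2.toList.zipIdx.all fun g =>
      g.1.1 < D.nroots && g.1.2 != 0 &&
      decide (A.rootT.get [] g.1.1 =
        List.zipWith (fun x y => x + ((g.2 : ℤ) + 1) * y) (A.rootT.get [] e.1) (A.rootT.get [] q.2)) &&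
      (e.2.size < 3 || g.2 != 0 ||
        ((decide (3 ∣ A.chM g.1.1 q.2 2) && decide (3 ∣ 2 * A.chM g.1.1 e.1 2))))

/-- properties of the i-th fundamental reflection -/
noncomputable def checkRefl (i : ℕ) : Bool :=
  let p := D.simple i
  (List.range D.nroots).all (fun s =>
    let w := A.refl i s
    w < D.nroots && A.refl i w == s && A.reflFast p i s == w && A.refl i (A.neg s) == A.neg w &&
    decide (A.rootT.get [] w =
      (List.range D.rank).map (fun j => A.a s j - if j = i then A.cart i s else 0)) &&
    decide (A.coroT.get [] w = (List.range D.rank).map (fun j => A.coro s j -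
      if j = i then ((List.range D.rank).map fun k => A.coro s k * A.cart k p).sum else 0)) &&
    (List.range D.rank).all (fun j => decide (A.cart j w = A.cart j s - A.cart i s * A.cart j p)) &&
    (decide (A.eta i s = 1) || decide (A.eta i s = -1)) &&
    decide (A.eta i s * A.eta i w = (-1) ^ (A.cart i s).natAbs) &&
    decide (A.eta i s * A.eta i (A.neg s) = 1)) &&
  decide (A.eta i p = -1)

/-- the i-th reflection preserves the structure constants -/
noncomputable def checkEquiv (i : ℕ) : Bool :=
  D.chain.toList.zipIdx.all fun q => q.1.toList.all fun e =>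
    decide (A.chain (A.refl i q.2) (A.refl i e.1) = e.2.toList.zipIdx.map fun g =>
      (A.refl i g.1.1, A.eta i g.1.1 * A.eta i q.2 ^ (g.2 + 1) * A.eta i e.1 * g.1.2))

/-- the columns of `n_{p_i}(1)` -/
noncomputable def checkN (i : ℕ) : Bool :=
  let p := D.simple i
  (List.range (D.rank + D.nroots)).all fun c =>
    seq' (A.appWord D.rank D.nroots [(p, 1), (A.neg p, -1), (p, 1)] [(c, 1)]) (A.nCol D.rank i p c)

/-- every root reduces to a representative -/
noncomputable def checkUp : Bool :=
  A.reps.all (fun j => j < D.rank) &&
  (List.range D.nroots).all fun r =>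
    A.reps.any (fun j => D.simple j == r) ||
      (A.up r < D.rank && A.dist (A.refl (A.up r) r) < A.dist r)

/-- additivity of `x_r` for the representatives -/
noncomputable def checkAdd : Bool :=
  A.reps.all fun j =>
    let r := D.simple j
    (List.range (D.rank + D.nroots)).all fun c =>
      let one : List (ℕ × ℤ × ℕ) := (c, 1, 0) :: A.col D.rank D.nroots r c
      seq' (one.flatMap fun p =>
          ((p.1, 0, p.2.2), p.2.1) :: (A.col D.rank D.nroots r p.1).map
            (fun q => ((q.1, q.2.2, p.2.2), p.2.1 * q.2.1)))
        (one.flatMap fun p => (List.range (p.2.2 + 1)).map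
            (fun k => ((p.1, k, p.2.2 - k), p.2.1 * (p.2.2.choose k : ℕ))))

/-- the commutator formula for a representative and the roots that cannot be reduced further -/
noncomputable def checkComm : Bool :=
  A.reps.zipIdx.all fun q =>
    let r := D.simple q.1
    (List.range D.nroots).all fun s =>
      s == r || s == A.neg r ||
      (A.stab q.2 s < D.rank && decide (A.cart (A.stab q.2 s) r = 0) &&
        decide (0 < A.cart (A.stab q.2 s) s)) ||
      (List.range (D.rank + D.nroots)).all fun c =>
        seq' (A.appWord D.rank D.nroots [(s, 1), (r, 1)] [(c, 1)])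
          (A.appWord D.rank D.nroots ((r, 1) :: (s, 1) ::
            (A.terms r s).map (fun k => (k.1, k.2.1 * (-1) ^ k.2.2.1))) [(c, 1)])

end CfsgLib.Chev

namespace CfsgLib.Chev

open Cfsg.Lie

/-- all checks pass -/
structure AllOK (D : ChevalleyDatum) (A : Aux) : Prop where
  sync : checkSync D A = true
  roots : checkRoots D A = true
  chains : checkChains D A = true
  up : checkUp D A = true
  add : checkAdd D A = true
  comm : checkComm D A = true
  refl : ∀ i < D.rank, checkRefl D A i = true
  equiv : ∀ i < D.rank, checkEquiv D A i = true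
  nmat : ∀ i < D.rank, checkN D A i = true

end CfsgLib.Chev
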