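/-
The meaning of the table checks: the combinatorial facts about a `ChevalleyDatum` used by the theory.
-/
import Cfsg.Agent.Lib.Chev.Fast

set_option autoImplicit false

namespace CfsgLib.Chev

open Cfsg.Lie

variable {D : ChevalleyDatum} {A : Aux}

lemma array_getD_toList {α : Type} (a : Array α) (i : ℕ) (d : α) :
    a.getD i d = a.toList.getD i d := by
  simp only [Array.getD_eq_getD_getElem?, List.getD_eq_getElem?_getD, Array.getElem?_toList]

lemma getD_map_of_default {α β : Type} (f : α → β) (L : List α) (i : ℕ) {d : α} {d' : β}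
    (h : f d = d') : (L.map f).getD i d' = f (L.getD i d) := by
  subst h
  simp [List.getD_eq_getElem?_getD, List.getElem?_map]

lemma getD_map_range {β : Type} (f : ℕ → β) {n i : ℕ} (d : β) (h : i < n) :
    ((List.range n).map f).getD i d = f i := by
  simp [List.getD_eq_getElem?_getD, h]

lemma forall_getD_iff {l : List ℤ} (P : ℤ → Prop) (h0 : P 0) :
    (∀ j, P (l.getD j 0)) ↔ ∀ x ∈ l, P x := by
  constructor
  · intro h x hx
    obtain ⟨j, hj, rfl⟩ := List.getElem_of_mem hx
    simpa [List.getD_eq_getElem?_getD, hj] using h j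
  · intro h j
    rcases lt_or_ge j l.length with hj | hj
    · simpa [List.getD_eq_getElem?_getD, hj] using h _ (List.getElem_mem hj)
    · simpa [List.getD_eq_getElem?_getD, hj] using h0

lemma lexLt_irrefl : ∀ l : List ℤ, lexLt l l = false
  | [] => rfl
  | x :: xs => by simp [lexLt, lexLt_irrefl xs]

lemma lexLt_trans : ∀ {a b c : List ℤ}, lexLt a b = true → lexLt b c = true → lexLt a c = true
  | x :: xs, y :: ys, z :: zs, h₁, h₂ => by
    simp only [lexLt, Bool.or_eq_true, Bool.and_eq_true, decide_eq_true_eq] at h₁ h₂ ⊢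
    rcases h₁ with h₁ | ⟨rfl, h₁⟩ <;> rcases h₂ with h₂ | ⟨rfl, h₂⟩
    · exact Or.inl (lt_trans h₁ h₂)
    · exact Or.inl h₁
    · exact Or.inl h₂
    · exact Or.inr ⟨rfl, lexLt_trans h₁ h₂⟩
  | [], _, _, h₁, _ => by simp [lexLt] at h₁
  | _ :: _, [], _, h₁, _ => by simp [lexLt] at h₁
  | _ :: _, _ :: _, [], _, h₂ => by simp [lexLt] at h₂

lemma incFrom_spec : ∀ {b : ℕ} {l : List ℕ}, incFrom b l = true → (∀ x ∈ l, b ≤ x) ∧ l.Nodup
  | _, [], _ => by simp
  | b, x :: xs, h => by
    simp only [incFrom, Bool.and_eq_true, Nat.ble_eq] at h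
    obtain ⟨h1, h2⟩ := incFrom_spec h.2
    refine ⟨fun y hy => ?_, List.nodup_cons.2 ⟨fun hx => ?_, h2⟩⟩
    · rcases List.mem_cons.1 hy with rfl | hy
      · exact h.1
      · have := h1 y hy; omega
    · have := h1 x hx; omega

lemma mem_keys {α : Type} : ∀ (t : Tr (List α)) (k : ℕ), t.get [] k ≠ [] → k ∈ t.keys
  | .nil, k, h => (h rfl).elim
  | .node v l r, k, h => by
    simp only [Tr.get, Tr.keys, List.mem_append, List.mem_map] at h ⊢
    by_cases h0 : k = 0
    · subst h0
      simp only [Nat.beq_refl, cond_true] at h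
      left; left
      cases hv : v.isEmpty
      · simp
      · simp [List.isEmpty_iff.1 hv] at h
    have e0 : Nat.beq k 0 = false := by
      cases hb : Nat.beq k 0
      · rfl
      · exact absurd (Nat.eq_of_beq_eq_true hb) h0
    rw [e0, cond_false] at h
    by_cases h1 : k % 2 = 1
    · have e1 : Nat.beq (Nat.mod k 2) 1 = true := by
        show Nat.beq (k % 2) 1 = true
        rw [h1]; rfl
      rw [e1, cond_true] at h
      have := mem_keys l _ h
      exact Or.inl (Or.inr ⟨k / 2, this, by omega⟩)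
    · have h2 : k % 2 = 0 := by omega
      have e1 : Nat.beq (Nat.mod k 2) 1 = false := by
        show Nat.beq (k % 2) 1 = false
        rw [h2]; rfl
      rw [e1, cond_false] at h
      have := mem_keys r _ h
      refine Or.inr ⟨k / 2 - 1, this, ?_⟩
      omega

lemma filter_eq_singleton {β : Type} {row : List (ℕ × β)} (hnd : (row.map Prod.fst).Nodup)
    {e : ℕ × β} (he : e ∈ row) : (row.filter fun e' => e'.1 = e.1) = [e] := by
  induction row with
  | nil => simp at he
  | cons x xs ih =>
    simp only [List.map_cons, List.nodup_cons] at hnd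
    rcases List.mem_cons.1 he with rfl | he
    · simp only [List.filter_cons, decide_true, if_true, List.cons.injEq, true_and]
      refine List.filter_eq_nil_iff.2 fun y hy hye => hnd.1 ?_
      exact List.mem_map.2 ⟨y, hy, by simpa using hye⟩
    · have hx : x.1 ≠ e.1 := fun hx => hnd.1 (List.mem_map.2 ⟨e, he, hx.symm⟩)
      simp [hx, ih hnd.2 he]

lemma rowCheck_spec {n : ℕ} {T : Tr (List (ℕ × ℤ))} {row : List (ℕ × Array (ℕ × ℤ))}
    (h : rowCheck n T row = true) (s : ℕ) :
    ((row.filter fun e => e.1 = s).map fun e => e.2.toList) =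
      if T.get [] s = [] then [] else [T.get [] s] := by
  simp only [rowCheck, Bool.and_eq_true, List.all_eq_true, Bool.not_eq_true',
    decide_eq_true_eq, List.isEmpty_eq_false_iff] at h
  obtain ⟨⟨hlen, hinc⟩, hall⟩ := h
  have hlen := Nat.eq_of_beq_eq_true hlen
  have hnd := (incFrom_spec hinc).2
  have hsub : row.map Prod.fst ⊆ T.keys := by
    intro x hx
    obtain ⟨e, he, rfl⟩ := List.mem_map.1 hx
    obtain ⟨⟨_, hne⟩, heq⟩ := hall e he
    exact mem_keys T _ (by rw [heq]; exact hne)
  have hperm : (row.map Prod.fst).Perm T.keys :=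
    (hnd.subperm hsub).perm_of_length_le (by rw [hlen, List.length_map])
  by_cases hs : s ∈ row.map Prod.fst
  · obtain ⟨e, he, rfl⟩ := List.mem_map.1 hs
    obtain ⟨⟨_, hne⟩, heq⟩ := hall e he
    have hne' : T.get [] e.1 ≠ [] := by rw [heq]; exact hne
    have hfil : (row.filter fun e' => e'.1 = e.1) = [e] := filter_eq_singleton hnd he
    rw [hfil, if_neg hne', heq]
    rfl
  · have hT : T.get [] s = [] := by
      by_contra hne
      exact hs (hperm.mem_iff.2 (mem_keys T s hne))
    rw [if_pos hT, List.map_eq_nil_iff, List.filter_eq_nil_iff]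
    exact fun y hy hye => hs (List.mem_map.2 ⟨y, hy, by simpa using hye⟩)

/-- The combinatorial facts about the tables. -/
structure Good (D : ChevalleyDatum) (A : Aux) : Prop where
  ok : AllOK D A
  neg_eq : ∀ r < D.nroots, D.neg r = A.neg r
  coro_eq : ∀ r < D.nroots, ∀ j, (D.coroot.getD r #[]).getD j 0 = A.coro r j
  cart_eq : ∀ i < D.rank, ∀ s < D.nroots, D.cartan i s = A.cart i s
  chain_eq : ∀ r < D.nroots, ∀ s < D.nroots, D.chainEntry r s = A.chain r s
  coeff_eq : ∀ r < D.nroots, ∀ s < D.nroots, ∀ u, D.chainCoeff r s u =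
    ((A.chain r s).zipIdx.filter fun q => q.1.1 = u).map fun q => (q.2 + 1, q.1.2)
  simple_lt : ∀ i < D.rank, D.simple i < D.nroots
  neg_lt : ∀ r < D.nroots, A.neg r < D.nroots
  neg_ne : ∀ r < D.nroots, A.neg r ≠ r
  neg_neg : ∀ r < D.nroots, A.neg (A.neg r) = r
  a_neg : ∀ r < D.nroots, ∀ j, A.a (A.neg r) j = -A.a r j
  coro_neg : ∀ r < D.nroots, ∀ j, A.coro (A.neg r) j = -A.coro r j
  cart_neg : ∀ i < D.rank, ∀ r < D.nroots, A.cart i (A.neg r) = -A.cart i r
  a_zero : ∀ r < D.nroots, ∀ j, D.rank ≤ j → A.a r j = 0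
  coro_zero : ∀ r < D.nroots, ∀ j, D.rank ≤ j → A.coro r j = 0
  a_inj : ∀ r < D.nroots, ∀ s < D.nroots, (∀ j < D.rank, A.a r j = A.a s j) → r = s
  pos_iff : ∀ r < D.nroots, D.IsPosRoot r ↔ ∀ j, 0 ≤ A.a r j
  negRoot_iff : ∀ r < D.nroots, D.IsNegRoot r ↔ ∀ j, A.a r j ≤ 0
  pos_or_neg : ∀ r < D.nroots, (∀ j, 0 ≤ A.a r j) ∨ (∀ j, A.a r j ≤ 0)
  a_simple : ∀ i < D.rank, ∀ j < D.rank, A.a (D.simple i) j = if j = i then 1 else 0
  coro_simple : ∀ i < D.rank, ∀ j < D.rank, A.coro (D.simple i) j = if j = i then 1 else 0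
  cart_simple : ∀ i < D.rank, A.cart i (D.simple i) = 2
  chain_self : ∀ r < D.nroots, A.chain r r = []
  chain_negSelf : ∀ r < D.nroots, A.chain r (A.neg r) = []
  chain_mem : ∀ r < D.nroots, ∀ s < D.nroots, ∀ (k u : ℕ) (m : ℤ), (A.chain r s)[k]? = some (u, m) →
    u < D.nroots ∧ m ≠ 0 ∧ k < 3 ∧ ∀ j < D.rank, A.a u j = A.a s j + ((k : ℤ) + 1) * A.a r j
  chain_dvd : ∀ r < D.nroots, ∀ s < D.nroots, ∀ u m, (A.chain r s)[0]? = some (u, m) →
    2 < (A.chain r s).length → 3 ∣ A.chM u r 2 ∧ 3 ∣ 2 * A.chM u s 2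
  refl_lt : ∀ i < D.rank, ∀ s < D.nroots, A.refl i s < D.nroots
  refl_refl : ∀ i < D.rank, ∀ s < D.nroots, A.refl i (A.refl i s) = s
  reflectRoot_eq : ∀ i < D.rank, ∀ s < D.nroots, D.reflectRoot i s = A.refl i s
  refl_neg : ∀ i < D.rank, ∀ s < D.nroots, A.refl i (A.neg s) = A.neg (A.refl i s)
  a_refl : ∀ i < D.rank, ∀ s < D.nroots, ∀ j < D.rank,
    A.a (A.refl i s) j = A.a s j - if j = i then A.cart i s else 0
  coro_refl : ∀ i < D.rank, ∀ s < D.nroots, ∀ j < D.rank,
    A.coro (A.refl i s) j = A.coro s j -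
      if j = i then ∑ k ∈ Finset.range D.rank, A.coro s k * A.cart k (D.simple i) else 0
  cart_refl : ∀ i < D.rank, ∀ s < D.nroots, ∀ j < D.rank,
    A.cart j (A.refl i s) = A.cart j s - A.cart i s * A.cart j (D.simple i)
  eta_sign : ∀ i < D.rank, ∀ s < D.nroots, A.eta i s = 1 ∨ A.eta i s = -1
  eta_mul : ∀ i < D.rank, ∀ s < D.nroots,
    A.eta i s * A.eta i (A.refl i s) = (-1) ^ (A.cart i s).natAbs
  eta_neg : ∀ i < D.rank, ∀ s < D.nroots, A.eta i s * A.eta i (A.neg s) = 1
  eta_simple : ∀ i < D.rank, A.eta i (D.simple i) = -1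
  chain_refl : ∀ i < D.rank, ∀ r < D.nroots, ∀ s < D.nroots,
    A.chain (A.refl i r) (A.refl i s) = (A.chain r s).zipIdx.map fun g =>
      (A.refl i g.1.1, A.eta i g.1.1 * A.eta i r ^ (g.2 + 1) * A.eta i s * g.1.2)

lemma sum_map_range (f : ℕ → ℤ) (n : ℕ) :
    ((List.range n).map f).sum = ∑ k ∈ Finset.range n, f k := by
  induction n with
  | zero => rfl
  | succ n ih => simp [List.range_succ, Finset.sum_range_succ, ih]

lemma all_range_iff {n : ℕ} {p : ℕ → Bool} :
    (List.range n).all p = true ↔ ∀ i < n, p i = true := by simp [List.all_eq_true]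

lemma getElem?_toList_zipIdx_mem {α : Type} {L : List α} {i : ℕ} (hi : i < L.length) (d : α) :
    (L.getD i d, i) ∈ L.zipIdx := by
  rw [List.mem_zipIdx_iff_getElem?]
  simp [List.getD_eq_getElem?_getD, hi]

theorem good_of_allOK (h : AllOK D A) : Good D A := by
  have hsync := h.sync
  simp only [checkSync, Bool.and_eq_true, decide_eq_true_eq, beq_iff_eq, all_range_iff] at hsync
  obtain ⟨⟨⟨⟨⟨⟨⟨hneg, hcoro⟩, hcart⟩, hsize⟩, hrows⟩, hsimple⟩, hlenA⟩, hlenC⟩ := hsync
  have hrow : ∀ r < D.nroots,
      rowCheck D.nroots (A.chainT.get .nil r) (D.chain.getD r #[]).toList = true := by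
    intro r hr
    rw [List.all_eq_true] at hrows
    have := hrows _ (getElem?_toList_zipIdx_mem (L := D.chain.toList) (i := r)
      (by simpa [hsize] using hr) #[])
    rwa [← array_getD_toList] at this
  have key : ∀ r < D.nroots, ∀ s,
      (((D.chain.getD r #[]).toList.filter fun e => e.1 = s).map fun e => e.2.toList) =
        if A.chain r s = [] then [] else [A.chain r s] := fun r hr s => rowCheck_spec (hrow r hr) s
  have neg_eq : ∀ r < D.nroots, D.neg r = A.neg r := by
    intro r hr
    rw [ChevalleyDatum.neg, array_getD_toList, hneg, getD_map_range _ _ hr]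
  have coro_list : ∀ r < D.nroots, (D.coroot.getD r #[]).toList = A.coroT.get [] r := by
    intro r hr
    rw [array_getD_toList, ← getD_map_of_default Array.toList _ r (d := #[]) (d' := ([] : List ℤ)) rfl,
      hcoro, getD_map_range _ _ hr]
  have cart_eq : ∀ i < D.rank, ∀ s < D.nroots, D.cartan i s = A.cart i s := by
    intro i hi s hs
    rw [ChevalleyDatum.cartan, array_getD_toList, array_getD_toList D.cartanSR,
      ← getD_map_of_default Array.toList _ i (d := #[]) (d' := ([] : List ℤ)) rfl, hcart,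
      getD_map_range _ _ hi, getD_map_range _ _ hs]
  have chain_eq : ∀ r < D.nroots, ∀ s, D.chainEntry r s = A.chain r s := by
    intro r hr s
    have := key r hr s
    unfold ChevalleyDatum.chainEntry
    rw [← List.head?_filter]
    generalize List.filter (fun e => decide (e.1 = s)) (D.chain.getD r #[]).toList = L at this ⊢
    cases L with
    | nil =>
      simp only [List.map_nil] at this
      split_ifs at this with hA
      · simp [hA]
    | cons e L =>
      simp only [List.map_cons] at this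
      split_ifs at this with hA
      simp only [List.cons.injEq] at this
      simpa using this.1
  have entry : ∀ r < D.nroots, ∀ s, A.chain r s ≠ [] →
      ∃ e ∈ (D.chain.getD r #[]).toList, e.1 = s ∧ e.2.toList = A.chain r s := by
    intro r hr s hne
    have := key r hr s
    rw [if_neg hne] at this
    obtain ⟨e, he, h2⟩ := List.mem_map.1 (this.symm ▸ List.mem_singleton.2 rfl :
      A.chain r s ∈ ((D.chain.getD r #[]).toList.filter fun e => e.1 = s).map fun e => e.2.toList)
    exact ⟨e, (List.mem_filter.1 he).1, by simpa using (List.mem_filter.1 he).2, h2⟩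
  have hroots := h.roots
  simp only [checkRoots, Bool.and_eq_true, all_range_iff, decide_eq_true_eq, bne_iff_ne, ne_eq,
    beq_iff_eq, Bool.or_eq_true] at hroots
  obtain ⟨hR, hS⟩ := hroots
  have hchains := h.chains
  rw [checkChains, List.all_eq_true] at hchains
  have hchain : ∀ r < D.nroots, ∀ e ∈ (D.chain.getD r #[]).toList, _ := fun r hr e he => by
    have h1 := hchains _ (getElem?_toList_zipIdx_mem (L := D.chain.toList) (i := r)
      (by simpa [hsize] using hr) #[])
    rw [← array_getD_toList, List.all_eq_true] at h1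
    have := h1 e he
    simp only [Bool.and_eq_true, bne_iff_ne, ne_eq, decide_eq_true_eq, List.all_eq_true,
      Bool.or_eq_true] at this
    exact this
  have simple_lt : ∀ i < D.rank, D.simple i < D.nroots := fun i hi => by simpa using hsimple i hi
  have hrefl : ∀ i < D.rank, _ := fun i hi => by
    have := h.refl i hi
    simp only [checkRefl, Bool.and_eq_true, all_range_iff, decide_eq_true_eq, beq_iff_eq,
      Bool.or_eq_true] at this
    exact this
  have refl_refl : ∀ i < D.rank, ∀ s < D.nroots, A.refl i (A.refl i s) = s := fun i hi s hs =>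
    ((hrefl i hi).1 s hs).1.1.1.1.1.1.1.1.2
  have refl_lt : ∀ i < D.rank, ∀ s < D.nroots, A.refl i s < D.nroots := fun i hi s hs =>
    ((hrefl i hi).1 s hs).1.1.1.1.1.1.1.1.1
  refine {
    ok := h
    neg_eq := neg_eq
    cart_eq := cart_eq
    simple_lt := simple_lt
    chain_eq := fun r hr s _ => chain_eq r hr s
    refl_lt := refl_lt
    refl_refl := refl_refl
    coro_eq := ?_, coeff_eq := ?_, neg_lt := ?_, neg_ne := ?_, neg_neg := ?_, a_neg := ?_
    coro_neg := ?_, cart_neg := ?_, a_zero := ?_, coro_zero := ?_, a_inj := ?_, pos_iff := ?_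
    negRoot_iff := ?_, pos_or_neg := ?_, a_simple := ?_, coro_simple := ?_, cart_simple := ?_
    chain_self := ?_, chain_negSelf := ?_, chain_mem := ?_, chain_dvd := ?_, reflectRoot_eq := ?_
    refl_neg := ?_, a_refl := ?_, coro_refl := ?_, cart_refl := ?_, eta_sign := ?_, eta_mul := ?_
    eta_neg := ?_, eta_simple := ?_, chain_refl := ?_ }
  · intro r hr j
    rw [array_getD_toList, coro_list r hr]
    rfl
  · intro r hr s _ u
    have := key r hr s
    unfold ChevalleyDatum.chainCoeff
    have e1 : ∀ L : List (ℕ × Array (ℕ × ℤ)),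
        (L.flatMap fun e => (e.2.toList.zipIdx.filter fun q => q.1.1 = u).map
          fun q => (q.2 + 1, q.1.2)) =
        (L.map fun e => e.2.toList).flatMap fun c =>
          (c.zipIdx.filter fun q => q.1.1 = u).map fun q => (q.2 + 1, q.1.2) := by
      intro L; simp [List.flatMap_map]
    rw [e1, this]
    split_ifs with hA
    · simp [hA]
    · simp
  · exact fun r hr => (hR r hr).1.1.1.1.1.1.1.1.1
  · exact fun r hr => (hR r hr).1.1.1.1.1.1.1.1.2
  · exact fun r hr => (hR r hr).1.1.1.1.1.1.1.2
  · intro r hr j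
    rw [Aux.a, Aux.a, (hR r hr).1.1.1.1.1.1.2, getD_map_of_default _ _ _ (d := 0) (by simp)]
  · intro r hr j
    rw [Aux.coro, Aux.coro, (hR r hr).1.1.1.1.1.2, getD_map_of_default _ _ _ (d := 0) (by simp)]
  · exact fun i hi r hr => (hR r hr).1.1.1.1.2 i hi
  · intro r hr j hj
    rw [Aux.a, List.getD_eq_getElem?_getD, List.getElem?_eq_none (by rw [hlenA r hr]; exact hj)]
    rfl
  · intro r hr j hj
    rw [Aux.coro, List.getD_eq_getElem?_getD, List.getElem?_eq_none (by rw [hlenC r hr]; exact hj)]
    rfl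
  · intro r hr s hs heq
    have hl : A.rootT.get [] r = A.rootT.get [] s := by
      refine List.ext_getElem (by rw [hlenA r hr, hlenA s hs]) fun j h1 h2 => ?_
      have := heq j (by rwa [hlenA r hr] at h1)
      simpa [Aux.a, List.getD_eq_getElem?_getD, h1, h2] using this
    have mono : ∀ k r, r + k + 1 < D.nroots →
        lexLt (A.rootT.get [] r) (A.rootT.get [] (r + k + 1)) = true := by
      intro k
      induction k with
      | zero =>
        intro r hr
        rcases (hR r (by omega)).1.1.1.2 with h' | h'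
        · omega
        · exact h'
      | succ k ih =>
        intro r hr
        refine lexLt_trans (ih r (by omega)) ?_
        rcases (hR (r + k + 1) (by omega)).1.1.1.2 with h' | h'
        · omega
        · exact h'
    rcases lt_trichotomy r s with h' | h' | h'
    · obtain ⟨k, rfl⟩ : ∃ k, s = r + k + 1 := ⟨s - r - 1, by omega⟩
      have := mono k r hs
      rw [hl, lexLt_irrefl] at this
      exact absurd this (by simp)
    · exact h'
    · obtain ⟨k, rfl⟩ : ∃ k, r = s + k + 1 := ⟨r - s - 1, by omega⟩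
      have := mono k s hr
      rw [hl, lexLt_irrefl] at this
      exact absurd this (by simp)
  · intro r hr
    rw [ChevalleyDatum.IsPosRoot, coro_list r hr]
    simp only [hr, true_and, Aux.a]
    rw [forall_getD_iff (fun x => 0 ≤ x) le_rfl]
    have := (hR r hr).1.2
    rw [Bool.eq_iff_iff] at this
    simpa [List.all_eq_true] using this.symm
  · intro r hr
    rw [ChevalleyDatum.IsNegRoot, coro_list r hr]
    simp only [hr, true_and, Aux.a]
    rw [forall_getD_iff (fun x => x ≤ 0) le_rfl]
    have := (hR r hr).2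
    rw [Bool.eq_iff_iff] at this
    simpa [List.all_eq_true] using this.symm
  · intro r hr
    simp only [Aux.a]
    rw [forall_getD_iff (fun x => 0 ≤ x) le_rfl, forall_getD_iff (fun x => x ≤ 0) le_rfl]
    simpa [List.all_eq_true] using (hR r hr).1.1.2
  · intro i hi j hj
    rw [Aux.a, (hS i hi).1.1, getD_map_range _ _ hj]
  · intro i hi j hj
    rw [Aux.coro, (hS i hi).1.2, getD_map_range _ _ hj]
  · exact fun i hi => (hS i hi).2
  · intro r hr
    by_contra hne
    obtain ⟨e, he, he1, _⟩ := entry r hr r hne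
    exact (hchain r hr e he).1.1.1 he1
  · intro r hr
    by_contra hne
    obtain ⟨e, he, he1, _⟩ := entry r hr (A.neg r) hne
    exact (hchain r hr e he).1.1.2 he1
  · intro r hr s hs k u m hk
    have hne : A.chain r s ≠ [] := fun h' => by simp [h'] at hk
    obtain ⟨e, he, he1, he2⟩ := entry r hr s hne
    obtain ⟨⟨_, hsz⟩, hall⟩ := hchain r hr e he
    rw [← he2] at hk
    have hkl : k < e.2.toList.length := by
      by_contra h'
      rw [List.getElem?_eq_none (by omega)] at hk
      simp at hk
    obtain ⟨⟨⟨hu, hm⟩, hroot⟩, _⟩ := hall ((u, m), k) (List.mem_zipIdx_iff_getElem?.2 hk)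
    refine ⟨hu, hm, by simp at hkl; omega, fun j hj => ?_⟩
    subst he1
    simp only [Aux.a]
    rw [hroot]
    simp [List.getD_eq_getElem?_getD, List.getElem?_zipWith, hj, hlenA _ hs, hlenA _ hr]
  · intro r hr s hs u m hk hlen
    have hne : A.chain r s ≠ [] := fun h' => by simp [h'] at hk
    obtain ⟨e, he, he1, he2⟩ := entry r hr s hne
    obtain ⟨_, hall⟩ := hchain r hr e he
    rw [← he2] at hk hlen
    subst he1
    rcases (hall ((u, m), 0) (List.mem_zipIdx_iff_getElem?.2 hk)).2 with (h' | h') | h'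
    · simp at hlen; omega
    · exact absurd rfl h'
    · exact h'
  · intro i hi s hs
    rw [← ((hrefl i hi).1 s hs).1.1.1.1.1.1.1.2]
    have hp := simple_lt i hi
    have hnp : A.neg (D.simple i) < D.nroots := (hR _ hp).1.1.1.1.1.1.1.1.1
    simp only [ChevalleyDatum.reflectRoot, Aux.reflFast, ChevalleyDatum.chainRoot, cart_eq i hi s hs,
      neg_eq _ hp, chain_eq _ hp, chain_eq _ hnp, Bool.cond_decide]
  · exact fun i hi s hs => ((hrefl i hi).1 s hs).1.1.1.1.1.1.2
  · intro i hi s hs j hj
    rw [Aux.a, ((hrefl i hi).1 s hs).1.1.1.1.1.2, getD_map_range _ _ hj]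
  · intro i hi s hs j hj
    rw [Aux.coro, ((hrefl i hi).1 s hs).1.1.1.1.2, getD_map_range _ _ hj, sum_map_range]
  · exact fun i hi s hs j hj => ((hrefl i hi).1 s hs).1.1.1.2 j hj
  · exact fun i hi s hs => ((hrefl i hi).1 s hs).1.1.2
  · exact fun i hi s hs => ((hrefl i hi).1 s hs).1.2
  · exact fun i hi s hs => ((hrefl i hi).1 s hs).2
  · exact fun i hi => (hrefl i hi).2
  · intro i hi r hr s hs
    have heq := h.equiv i hi
    rw [checkEquiv, List.all_eq_true] at heq
    have step : ∀ r < D.nroots, ∀ s, A.chain r s ≠ [] →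
        A.chain (A.refl i r) (A.refl i s) = (A.chain r s).zipIdx.map fun g =>
          (A.refl i g.1.1, A.eta i g.1.1 * A.eta i r ^ (g.2 + 1) * A.eta i s * g.1.2) := by
      intro r hr s hne
      have h1 := heq _ (getElem?_toList_zipIdx_mem (L := D.chain.toList) (i := r)
        (by simpa [hsize] using hr) #[])
      rw [← array_getD_toList, List.all_eq_true] at h1
      obtain ⟨e, he, he1, he2⟩ := entry r hr s hne
      have := h1 e he
      simp only [decide_eq_true_eq] at this
      rwa [he1, he2] at this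
    by_cases hne : A.chain r s = []
    · rw [hne]
      by_contra hne'
      have h2 := step _ (refl_lt i hi r hr) _ hne'
      rw [refl_refl i hi r hr, refl_refl i hi s hs, hne] at h2
      exact hne' (List.zipIdx_eq_nil_iff.1 (List.map_eq_nil_iff.1 h2.symm))
    · exact step r hr s hne

end CfsgLib.Chev
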