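/-
Column-wise description of the matrices `x_r(t)`, soundness of the integer evaluator,
the homogeneity under diagonal matrices, and naturality in the field.
-/
import Cfsg.Agent.Lib.Chev.Good

set_option autoImplicit false

namespace CfsgLib.Chev

open Cfsg.Lie Matrix

variable {D : ChevalleyDatum} {A : Aux} {F : Type*} [Field F]

/-- coordinates as natural numbers: the coroots first, then the roots -/
def idx (D : ChevalleyDatum) : D.Idx → ℕ
  | Sum.inl i => i.val
  | Sum.inr s => D.rank + s.val

lemma idx_inj {x y : D.Idx} (h : idx D x = idx D y) : x = y := by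
  rcases x with i | s <;> rcases y with j | u <;> simp only [idx] at h
  · exact congrArg Sum.inl (Fin.ext h)
  · exact absurd h (by have := i.isLt; omega)
  · exact absurd h (by have := j.isLt; omega)
  · exact congrArg Sum.inr (Fin.ext (by omega))

lemma idx_lt (x : D.Idx) : idx D x < D.rank + D.nroots := by
  rcases x with i | s <;> simp only [idx]
  · have := i.isLt; omega
  · have := s.isLt; omega

lemma exists_idx {c : ℕ} (h : c < D.rank + D.nroots) : ∃ x, idx D x = c := by
  rcases lt_or_ge c D.rank with hc | hc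
  · exact ⟨Sum.inl ⟨c, hc⟩, rfl⟩
  · exact ⟨Sum.inr ⟨c - D.rank, by omega⟩, by simp only [idx]; omega⟩

variable (D F) in
/-- the basis vector with the given number (0 out of range) -/
def ev (k : ℕ) : D.Idx → F := fun x => if idx D x = k then 1 else 0

lemma ev_single (x : D.Idx) : ev D F (idx D x) = Pi.single x 1 := by
  ext y
  by_cases h : y = x
  · subst h; simp [ev]
  · have h' : idx D y ≠ idx D x := fun h' => h (idx_inj h')
    simp [ev, h', h]

lemma ev_eq_zero {k : ℕ} (h : D.rank + D.nroots ≤ k) : ev D F k = 0 := by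
  ext x
  have := idx_lt x
  simp [ev, show idx D x ≠ k by omega]

lemma mulVec_ev (M : Matrix D.Idx D.Idx F) (x : D.Idx) :
    M *ᵥ ev D F (idx D x) = fun row => M row x := by
  rw [ev_single, Matrix.mulVec_single_one]
  rfl

lemma matrix_ext {M N : Matrix D.Idx D.Idx F}
    (h : ∀ c < D.rank + D.nroots, M *ᵥ ev D F c = N *ᵥ ev D F c) : M = N := by
  ext i j
  have := h _ (idx_lt j)
  rw [mulVec_ev, mulVec_ev] at this
  exact congrFun this i

variable (D) in
/-- the value of a list of terms (row, coefficient, degree) at `t` -/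
def tval (t : F) (L : List (ℕ × ℤ × ℕ)) : D.Idx → F :=
  (L.map fun q => ((q.2.1 : F) * t ^ q.2.2) • ev D F q.1).sum

@[simp] lemma tval_nil (t : F) : tval D t [] = 0 := rfl

lemma tval_cons (t : F) (q : ℕ × ℤ × ℕ) (L : List (ℕ × ℤ × ℕ)) :
    tval D t (q :: L) = ((q.2.1 : F) * t ^ q.2.2) • ev D F q.1 + tval D t L := by
  simp [tval]

lemma mulVec_tval (M : Matrix D.Idx D.Idx F) (t : F) (L : List (ℕ × ℤ × ℕ)) :
    M *ᵥ tval D t L = (L.map fun q => ((q.2.1 : F) * t ^ q.2.2) • (M *ᵥ ev D F q.1)).sum := by
  induction L with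
  | nil => simp [tval]
  | cons q L ih => simp [tval_cons, Matrix.mulVec_add, Matrix.mulVec_smul, ih]

lemma tval_apply (t : F) (L : List (ℕ × ℤ × ℕ)) (x : D.Idx) :
    tval D t L x = (L.map fun q => if idx D x = q.1 then (q.2.1 : F) * t ^ q.2.2 else 0).sum := by
  induction L with
  | nil => simp [tval]
  | cons q L ih =>
    rw [tval_cons, Pi.add_apply, ih]
    simp [ev]

lemma sum_filter_map {α : Type} (L : List α) (p : α → Prop) [DecidablePred p] (f : α → F) :
    ((L.filter fun x => decide (p x)).map f).sum = (L.map fun x => if p x then f x else 0).sum := by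
  induction L with
  | nil => simp
  | cons a L ih => by_cases h : p a <;> simp [h, ih]

lemma sum_range_ite {m i : ℕ} (f : ℕ → F) :
    ((List.range m).map fun j => if i = j then f j else 0).sum = if i < m then f i else 0 := by
  induction m with
  | zero => simp
  | succ m ih =>
    rw [List.range_succ, List.map_append, List.sum_append, ih]
    simp only [List.map_cons, List.map_nil, List.sum_cons, List.sum_nil, add_zero]
    rcases lt_trichotomy i m with h | h | h
    · simp [h, h.ne, show i < m + 1 by omega]
    · subst h; simp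
    · simp [show ¬ i < m by omega, show ¬ i < m + 1 by omega, show i ≠ m by omega]

lemma x_of_ge {r : ℕ} (hr : ¬ r < D.nroots) (t : F) : D.x F r t = 1 := by
  simp [ChevalleyDatum.x, hr]

lemma col_h {l n r c : ℕ} (hc : c < l) : A.col l n r c = [(l + r, -A.cart c r, 1)] := by
  simp [Aux.col, hc]

lemma col_self {l n r : ℕ} (hr : r < n) : A.col l n r (l + r) = [] := by
  simp [Aux.col, hr]

lemma col_neg {l n r : ℕ} (hr : A.neg r < n) (hne : A.neg r ≠ r) :
    A.col l n r (l + A.neg r) =
      (List.range l).map (fun j => (j, A.coro r j, 1)) ++ [(l + r, -1, 2)] := by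
  simp [Aux.col, hr, beq_eq_false_iff_ne.2 hne]

lemma col_chain {l n r s : ℕ} (hs : s < n) (h1 : s ≠ r) (h2 : s ≠ A.neg r) :
    A.col l n r (l + s) = (A.chain r s).zipIdx.map fun q => (l + q.1.1, q.1.2, q.2 + 1) := by
  simp [Aux.col, hs, beq_eq_false_iff_ne.2 h1, beq_eq_false_iff_ne.2 h2]

/-- the columns of `x_r(t)` -/
lemma x_mulVec (g : Good D A) {r : ℕ} (hr : r < D.nroots) (t : F) (c : ℕ) :
    D.x F r t *ᵥ ev D F c = ev D F c + tval D t (A.col D.rank D.nroots r c) := by
  rcases lt_or_ge c (D.rank + D.nroots) with hc | hc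
  swap
  · have h1 : ¬ c < D.rank := by omega
    have h2 : ¬ c < D.rank + D.nroots := by omega
    rw [ev_eq_zero hc]
    simp [Aux.col, h1, h2]
  obtain ⟨x, rfl⟩ := exists_idx hc
  rw [mulVec_ev]
  simp only [ChevalleyDatum.x, hr, dif_pos, ChevalleyDatum.xMat, Matrix.of_apply]
  rcases x with i | s
  · funext row
    dsimp only
    rw [Pi.add_apply, tval_apply, show idx D (Sum.inl i) = i.val from rfl, col_h i.isLt,
      show ((D.cartanSR.getD i.val #[]).getD r 0) = A.cart i.val r from g.cart_eq i i.isLt r hr]
    rcases row with i' | u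
    · have := i'.isLt
      simp [ev, idx, Fin.ext_iff, show i'.val ≠ D.rank + r by omega] <;> split_ifs <;> simp_all
    · have := i.isLt
      simp [ev, idx, Fin.ext_iff, show D.rank + u.val ≠ i.val by omega]
  · funext row
    dsimp only
    rw [Pi.add_apply, tval_apply, show idx D (Sum.inr s) = D.rank + s.val from rfl,
      show D.negIdx.getD r 0 = A.neg r from g.neg_eq r hr]
    rcases eq_or_ne s.val r with hsr | hsr
    · subst hsr
      rw [col_self s.isLt, if_pos (Fin.ext rfl : s = ⟨s.val, hr⟩)]
      rcases row with i' | u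
      · have := i'.isLt
        simp [ev, idx, show i'.val ≠ D.rank + s.val by omega]
      · simp [ev, idx, Fin.ext_iff]
    have hne : s ≠ (⟨r, hr⟩ : Fin D.nroots) := fun h => hsr (congrArg Fin.val h)
    rw [if_neg hne]
    rcases eq_or_ne s.val (A.neg r) with hsn | hsn
    · rw [if_pos hsn, hsn, col_neg (g.neg_lt r hr) (g.neg_ne r hr), List.map_append, List.map_map,
        List.sum_append]
      simp only [Function.comp_def]
      rw [sum_range_ite (f := fun j => ((A.coro r j : ℤ) : F) * t ^ 1)]
      rcases row with i' | u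
      · have := i'.isLt
        dsimp only
        rw [g.coro_eq r hr]
        simp [ev, idx, this, show i'.val ≠ D.rank + A.neg r by omega,
          show i'.val ≠ D.rank + r by omega]
      · have hnr := g.neg_ne r hr
        by_cases hu : u.val = A.neg r
        · simp [ev, idx, Fin.ext_iff, hu, hsn, hnr]
        · simp [ev, idx, Fin.ext_iff, hu, hsn]
    · rw [if_neg hsn, col_chain s.isLt hsr hsn, List.map_map]
      simp only [Function.comp_def]
      rcases row with i' | u
      · have := i'.isLt
        simp [ev, idx, show i'.val ≠ D.rank + s.val by omega]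
        symm
        refine List.sum_eq_zero fun y hy => ?_
        obtain ⟨q, _, rfl⟩ := List.mem_map.1 hy
        simp [show i'.val ≠ D.rank + q.1.1 by omega]
      · dsimp only
        rw [g.coeff_eq r hr s.val s.isLt, List.map_map]
        simp only [Function.comp_def]
        rw [sum_filter_map]
        simp [ev, idx, Fin.ext_iff, eq_comm]

lemma x_zero (g : Good D A) {r : ℕ} (hr : r < D.nroots) : D.x F r 0 = 1 := by
  refine matrix_ext fun c _ => ?_
  rw [x_mulVec g hr, Matrix.one_mulVec, add_eq_left, tval]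
  refine List.sum_eq_zero fun y hy => ?_
  obtain ⟨q, hq, rfl⟩ := List.mem_map.1 hy
  have hk : q.2.2 ≠ 0 := by
    rcases lt_or_ge c D.rank with h | h
    · rw [col_h h, List.mem_singleton] at hq
      simp [hq]
    obtain ⟨s, rfl⟩ : ∃ s, c = D.rank + s := ⟨c - D.rank, by omega⟩
    by_cases h2 : s < D.nroots
    swap
    · simp [Aux.col, h2, show ¬ D.rank + s < D.rank by omega] at hq
    rcases eq_or_ne s r with rfl | h3
    · simp [col_self h2] at hq
    rcases eq_or_ne s (A.neg r) with rfl | h4
    · rw [col_neg h2 h3] at hq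
      simp only [List.mem_append, List.mem_map, List.mem_range, List.mem_singleton] at hq
      rcases hq with ⟨j, _, rfl⟩ | rfl <;> simp
    · rw [col_chain h2 h3 h4] at hq
      obtain ⟨p, _, rfl⟩ := List.mem_map.1 hq
      simp
  simp [zero_pow hk]

lemma x_map {K : Type*} [Field K] (f : F →+* K) (r : ℕ) (t : F) :
    (D.x F r t).map f = D.x K r (f t) := by
  unfold ChevalleyDatum.x
  split_ifs with h
  · ext row col
    rcases col with i | s
    · rcases row with i' | u <;>
        simp only [Matrix.map_apply, ChevalleyDatum.xMat, Matrix.of_apply] <;> split_ifs <;> simp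
    · rcases row with i' | u <;>
        simp only [Matrix.map_apply, ChevalleyDatum.xMat, Matrix.of_apply] <;> split_ifs <;>
        simp [map_list_sum, List.map_map, Function.comp_def]
  · exact Matrix.map_one _ (map_zero f) (map_one f)

lemma wordMat_nil : D.wordMat F [] = 1 := rfl

lemma wordMat_cons (p : ℕ × F) (w : List (ℕ × F)) :
    D.wordMat F (p :: w) = D.x F p.1 p.2 * D.wordMat F w := by
  simp [ChevalleyDatum.wordMat]

lemma wordMat_append (w₁ w₂ : List (ℕ × F)) :
    D.wordMat F (w₁ ++ w₂) = D.wordMat F w₁ * D.wordMat F w₂ := by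
  simp [ChevalleyDatum.wordMat]

lemma wordMat_map {K : Type*} [Field K] (f : F →+* K) (w : List (ℕ × F)) :
    (D.wordMat F w).map f = D.wordMat K (w.map fun p => (p.1, f p.2)) := by
  induction w with
  | nil => exact Matrix.map_one _ (map_zero f) (map_one f)
  | cons p w ih =>
    rw [List.map_cons, wordMat_cons, wordMat_cons, ← ih, ← x_map f, Matrix.map_mul]

lemma sval_appX (g : Good D A) {r : ℕ} (hr : r < D.nroots) (t : ℤ) (v : List (ℕ × ℤ)) :
    sval (ev D F) (A.appX D.rank D.nroots r t v) = D.x F r (t : F) *ᵥ sval (ev D F) v := by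
  rw [Aux.appX, sval_scompact]
  induction v with
  | nil => simp [sval]
  | cons p v ih =>
    rw [List.flatMap_cons, sval_append, ih, sval_cons, sval_cons, Matrix.mulVec_add]
    congr 1
    rw [Matrix.mulVec_smul, x_mulVec g hr, smul_add]
    congr 1
    simp only [sval, tval, List.map_map, List.smul_sum, Function.comp_def]
    congr 1
    refine List.map_congr_left fun q _ => ?_
    rw [← Int.cast_smul_eq_zsmul F, ← Int.cast_smul_eq_zsmul F, smul_smul]
    push_cast
    ring_nf

lemma sval_appWord (g : Good D A) : ∀ {w : List (ℕ × ℤ)}, (∀ p ∈ w, p.1 < D.nroots) →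
    ∀ v : List (ℕ × ℤ), sval (ev D F) (A.appWord D.rank D.nroots w v) =
      D.wordMat F (w.map fun p => (p.1, (p.2 : F))) *ᵥ sval (ev D F) v
  | [], _, v => by simp [Aux.appWord, wordMat_nil]
  | (r, t) :: w, h, v => by
    rw [Aux.appWord, sval_appX g (h (r, t) (by simp)), sval_appWord g (fun p hp => h p (by simp [hp])),
      List.map_cons, wordMat_cons, Matrix.mulVec_mulVec]

/-- weights of roots for given values on the fundamental roots -/
noncomputable def wt (D : ChevalleyDatum) (A : Aux) (ξ : ℕ → Fˣ) (r : ℕ) : Fˣ :=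
  ∏ j ∈ Finset.range D.rank, ξ j ^ A.a r j

/-- the diagonal matrix with value 1 on coroots and `d s` on the root vector `e_s` -/
def dia (D : ChevalleyDatum) (d : ℕ → F) : Matrix D.Idx D.Idx F :=
  Matrix.diagonal (Sum.elim (fun _ => (1 : F)) fun s => d s.val)

lemma dia_mulVec_h (d : ℕ → F) {c : ℕ} (hc : c < D.rank) : dia D d *ᵥ ev D F c = ev D F c := by
  funext x
  rw [dia, Matrix.mulVec_diagonal]
  rcases x with i | s
  · simp
  · simp [ev, idx, show D.rank + s.val ≠ c by omega]

lemma dia_mulVec_root (d : ℕ → F) (s : ℕ) :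
    dia D d *ᵥ ev D F (D.rank + s) = d s • ev D F (D.rank + s) := by
  funext x
  rw [dia, Matrix.mulVec_diagonal]
  rcases x with i | u
  · have := i.isLt
    simp [ev, idx, show i.val ≠ D.rank + s by omega]
  · by_cases h : u.val = s
    · subst h; simp
    · simp [ev, idx, h]

lemma dia_mul (d e : ℕ → F) : dia D d * dia D e = dia D fun s => d s * e s := by
  rw [dia, dia, Matrix.diagonal_mul_diagonal]
  refine congrArg Matrix.diagonal (funext fun x => ?_)
  rcases x with i | s <;> simp

lemma dia_one : dia D (fun _ => (1 : F)) = 1 := by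
  rw [dia, ← Matrix.diagonal_one]
  refine congrArg Matrix.diagonal (funext fun x => ?_)
  rcases x with i | s <;> simp

lemma wt_neg (g : Good D A) (ξ : ℕ → Fˣ) {r : ℕ} (hr : r < D.nroots) :
    wt D A ξ (A.neg r) = (wt D A ξ r)⁻¹ := by
  simp [wt, g.a_neg r hr, Finset.prod_inv_distrib]

lemma wt_add_mul (ξ : ℕ → Fˣ) {r s u : ℕ} (k : ℕ)
    (h : ∀ j < D.rank, A.a u j = A.a s j + (k : ℤ) * A.a r j) :
    wt D A ξ u = wt D A ξ s * wt D A ξ r ^ k := by
  rw [wt, wt, wt, ← Finset.prod_pow, ← Finset.prod_mul_distrib]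
  refine Finset.prod_congr rfl fun j hj => ?_
  rw [h j (Finset.mem_range.1 hj), _root_.zpow_add, mul_comm (k : ℤ), _root_.zpow_mul, zpow_natCast]

lemma wt_simple (g : Good D A) (ξ : ℕ → Fˣ) {i : ℕ} (hi : i < D.rank) :
    wt D A ξ (D.simple i) = ξ i := by
  rw [wt, Finset.prod_eq_single i]
  · simp [g.a_simple i hi i hi]
  · intro j hj hji
    simp [g.a_simple i hi j (Finset.mem_range.1 hj), hji]
  · intro h
    exact absurd (Finset.mem_range.2 hi) h

/-- homogeneity: diagonal matrices of weights scale the root elements -/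
lemma dia_mul_x (g : Good D A) (ξ : ℕ → Fˣ) {r : ℕ} (hr : r < D.nroots) (t : F) :
    dia D (fun s => (wt D A ξ s : F)) * D.x F r t =
      D.x F r ((wt D A ξ r : F) * t) * dia D (fun s => (wt D A ξ s : F)) := by
  set w := fun s => (wt D A ξ s : F) with hw
  refine matrix_ext fun c hc => ?_
  rw [← Matrix.mulVec_mulVec, ← Matrix.mulVec_mulVec, x_mulVec g hr, Matrix.mulVec_add, mulVec_tval]
  rcases lt_or_ge c D.rank with h | h
  · rw [dia_mulVec_h _ h, x_mulVec g hr, col_h h]
    simp [tval_cons, dia_mulVec_root, smul_smul, hw]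
    ring_nf
  obtain ⟨s, rfl⟩ : ∃ s, c = D.rank + s := ⟨c - D.rank, by omega⟩
  have hs : s < D.nroots := by omega
  rw [dia_mulVec_root, Matrix.mulVec_smul, x_mulVec g hr, smul_add]
  congr 1
  rcases eq_or_ne s r with hsr | hsr
  · subst hsr
    simp [col_self hs]
  rcases eq_or_ne s (A.neg r) with hsn | hsn
  · subst hsn
    rw [col_neg hs hsr, tval, List.smul_sum, List.map_map]
    refine congrArg List.sum (List.map_congr_left fun q hq => ?_)
    simp only [Function.comp_def]
    simp only [List.mem_append, List.mem_map, List.mem_range, List.mem_singleton] at hq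
    rcases hq with ⟨j, hj, rfl⟩ | rfl
    · rw [dia_mulVec_h _ hj, smul_smul]
      congr 1
      simp [hw, wt_neg g ξ hr]
      field_simp
    · rw [dia_mulVec_root, smul_smul, smul_smul]
      congr 1
      simp [hw, wt_neg g ξ hr]
      field_simp
  · rw [col_chain hs hsr hsn, tval, List.smul_sum]
    simp only [List.map_map]
    refine congrArg List.sum (List.map_congr_left fun q hq => ?_)
    simp only [Function.comp_def]
    rw [dia_mulVec_root, smul_smul, smul_smul]
    congr 1
    have hm := g.chain_mem r hr s hs q.2 q.1.1 q.1.2 (List.mem_zipIdx_iff_getElem?.1 hq)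
    have := wt_add_mul (D := D) (A := A) ξ (r := r) (s := s) (u := q.1.1) (q.2 + 1)
      (by intro j hj; rw [hm.2.2.2 j hj]; push_cast; ring)
    simp [hw, this, mul_pow]
    ring

lemma dia_mul_word (g : Good D A) (ξ : ℕ → Fˣ) : ∀ {w : List (ℕ × F)}, (∀ p ∈ w, p.1 < D.nroots) →
    dia D (fun s => (wt D A ξ s : F)) * D.wordMat F w =
      D.wordMat F (w.map fun p => (p.1, (wt D A ξ p.1 : F) * p.2)) *
        dia D (fun s => (wt D A ξ s : F))
  | [], _ => by simp [wordMat_nil]
  | p :: w, h => by
    rw [List.map_cons, wordMat_cons, wordMat_cons, ← mul_assoc, dia_mul_x g ξ (h p (by simp)),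
      mul_assoc, dia_mul_word g ξ (fun q hq => h q (by simp [hq])), ← mul_assoc]

end CfsgLib.Chev
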