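/-
The monomial matrices `n_p`, the Weyl group equivariance of root elements, additivity,
and the diagonal matrices `h_r(t)`.
-/
import Cfsg.Agent.Lib.Chev.Basic

set_option autoImplicit false

namespace CfsgLib.Chev

open Cfsg.Lie Matrix

variable {D : ChevalleyDatum} {A : Aux} {F : Type*} [Field F]

variable (D F) in
/-- the matrix `n_p(1)` of the `i`-th fundamental root -/
abbrev nM (i : ℕ) : Matrix D.Idx D.Idx F := D.nMat F (D.simple i) 1

lemma x_mulVec_h (g : Good D A) {r : ℕ} (hr : r < D.nroots) (t : F) {j : ℕ} (hj : j < D.rank) :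
    D.x F r t *ᵥ ev D F j = ev D F j + (-(A.cart j r : F) * t) • ev D F (D.rank + r) := by
  rw [x_mulVec g hr, col_h hj]
  simp [tval_cons]

lemma x_mulVec_self (g : Good D A) {r : ℕ} (hr : r < D.nroots) (t : F) :
    D.x F r t *ᵥ ev D F (D.rank + r) = ev D F (D.rank + r) := by
  rw [x_mulVec g hr, col_self hr]
  simp

variable (D F) in
/-- the coroot of `r` as a vector -/
noncomputable def hsum (A : Aux) (r : ℕ) : D.Idx → F := ∑ j ∈ Finset.range D.rank, (A.coro r j : F) • ev D F j

lemma sum_map_range' {M : Type*} [AddCommMonoid M] (f : ℕ → M) (n : ℕ) :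
    ((List.range n).map f).sum = ∑ k ∈ Finset.range n, f k := by
  induction n with
  | zero => rfl
  | succ n ih => simp [List.range_succ, Finset.sum_range_succ, ih]

lemma x_mulVec_neg (g : Good D A) {r : ℕ} (hr : r < D.nroots) (t : F) :
    D.x F r t *ᵥ ev D F (D.rank + A.neg r) =
      ev D F (D.rank + A.neg r) + t • hsum D F A r + (-t ^ 2) • ev D F (D.rank + r) := by
  rw [x_mulVec g hr, col_neg (g.neg_lt r hr) (g.neg_ne r hr), add_assoc]
  congr 1
  rw [tval, List.map_append, List.sum_append, List.map_map, sum_map_range', hsum, Finset.smul_sum]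
  simp [smul_smul, mul_comm]

lemma x_mulVec_chain (g : Good D A) {r s : ℕ} (hr : r < D.nroots) (hs : s < D.nroots)
    (h1 : s ≠ r) (h2 : s ≠ A.neg r) (t : F) :
    D.x F r t *ᵥ ev D F (D.rank + s) = ev D F (D.rank + s) +
      ((A.chain r s).zipIdx.map fun q =>
        ((q.1.2 : F) * t ^ (q.2 + 1)) • ev D F (D.rank + q.1.1)).sum := by
  rw [x_mulVec g hr, col_chain hs h1 h2, tval, List.map_map]
  rfl

lemma neg_lt' (g : Good D A) {r : ℕ} (hr : r < D.nroots) : D.neg r < D.nroots := by
  rw [g.neg_eq r hr]; exact g.neg_lt r hr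

lemma nMat_eq (r : ℕ) (c : F) :
    D.nMat F r c = D.x F r c * D.x F (D.neg r) (-c⁻¹) * D.x F r c := by
  simp [ChevalleyDatum.nMat, ChevalleyDatum.nWord, wordMat_cons, wordMat_nil, mul_assoc]

lemma hMat_eq (r : ℕ) (c : F) : D.hMat F r c = D.nMat F r c * D.nMat F r (-1) := by
  rw [ChevalleyDatum.hMat, ChevalleyDatum.hWord, wordMat_append]
  rfl

lemma nM_col (g : Good D A) {i : ℕ} (hi : i < D.rank) {c : ℕ} (hc : c < D.rank + D.nroots) :
    nM D F i *ᵥ ev D F c = sval (ev D F) (A.nCol D.rank i (D.simple i) c) := by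
  have hp := g.simple_lt i hi
  have h := g.ok.nmat i hi
  simp only [checkN, List.all_eq_true, List.mem_range] at h
  have h2 := sval_eq_of_seq (ev D F) (h c hc)
  rw [sval_appWord g (by
    intro p hp'
    simp only [List.mem_cons, List.not_mem_nil, or_false] at hp'
    rcases hp' with rfl | rfl | rfl
    exacts [hp, g.neg_lt _ hp, hp])] at h2
  rw [← h2]
  simp [nM, ChevalleyDatum.nMat, ChevalleyDatum.nWord, g.neg_eq _ hp, sval]

lemma nM_h (g : Good D A) {i j : ℕ} (hi : i < D.rank) (hj : j < D.rank) :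
    nM D F i *ᵥ ev D F j = ev D F j - (A.cart j (D.simple i) : F) • ev D F i := by
  rw [nM_col g hi (by omega)]
  simp [Aux.nCol, hj, sval, ← Int.cast_smul_eq_zsmul F, sub_eq_add_neg]

lemma nM_root (g : Good D A) {i s : ℕ} (hi : i < D.rank) (hs : s < D.nroots) :
    nM D F i *ᵥ ev D F (D.rank + s) = (A.eta i s : F) • ev D F (D.rank + A.refl i s) := by
  rw [nM_col g hi (by omega)]
  simp [Aux.nCol, sval, ← Int.cast_smul_eq_zsmul F]

lemma nM_hsum (g : Good D A) {i r : ℕ} (hi : i < D.rank) (hr : r < D.nroots) :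
    nM D F i *ᵥ hsum D F A r = hsum D F A (A.refl i r) := by
  rw [hsum, hsum, Matrix.mulVec_sum]
  have h1 : ∀ j ∈ Finset.range D.rank, nM D F i *ᵥ ((A.coro r j : F) • ev D F j) =
      (A.coro r j : F) • ev D F j -
        ((A.coro r j * A.cart j (D.simple i) : ℤ) : F) • ev D F i := by
    intro j hj
    rw [Matrix.mulVec_smul, nM_h g hi (Finset.mem_range.1 hj), smul_sub, smul_smul]
    push_cast
    rfl
  have h2 : ∀ j ∈ Finset.range D.rank, (A.coro (A.refl i r) j : F) • ev D F j =
      (A.coro r j : F) • ev D F j - (if j = i then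
        ((∑ k ∈ Finset.range D.rank, A.coro r k * A.cart k (D.simple i) : ℤ) : F) • ev D F j else 0) := by
    intro j hj
    rw [g.coro_refl i hi r hr j (Finset.mem_range.1 hj)]
    split_ifs <;> simp [sub_smul]
  rw [Finset.sum_congr rfl h1, Finset.sum_congr rfl h2, Finset.sum_sub_distrib,
    Finset.sum_sub_distrib, Finset.sum_ite_eq', if_pos (Finset.mem_range.2 hi), Int.cast_sum,
    Finset.sum_smul]

lemma eta_sq (g : Good D A) {i s : ℕ} (hi : i < D.rank) (hs : s < D.nroots) :
    (A.eta i s : F) * (A.eta i s : F) = 1 := by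
  rcases g.eta_sign i hi s hs with h | h <;> simp [h]

lemma eta_neg_eq (g : Good D A) {i s : ℕ} (hi : i < D.rank) (hs : s < D.nroots) :
    A.eta i (A.neg s) = A.eta i s := by
  have := g.eta_neg i hi s hs
  rcases g.eta_sign i hi s hs with h | h <;> rw [h] at this ⊢ <;> omega

lemma refl_inj (g : Good D A) {i r s : ℕ} (hi : i < D.rank) (hr : r < D.nroots) (hs : s < D.nroots)
    (h : A.refl i r = A.refl i s) : r = s := by
  rw [← g.refl_refl i hi r hr, h, g.refl_refl i hi s hs]

lemma zipIdx_map_zipIdx {α β : Type} (L : List α) (f : α × ℕ → β) :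
    (L.zipIdx.map f).zipIdx = L.zipIdx.map fun q => (f q, q.2) := by
  apply List.ext_getElem <;> simp

/-- the root elements are permuted, up to sign, by the fundamental reflections -/
lemma nM_mul_x (g : Good D A) {i r : ℕ} (hi : i < D.rank) (hr : r < D.nroots) (t : F) :
    nM D F i * D.x F r t = D.x F (A.refl i r) ((A.eta i r : F) * t) * nM D F i := by
  have hwr := g.refl_lt i hi r hr
  have hp := g.simple_lt i hi
  refine matrix_ext fun c hc => ?_
  rw [← Matrix.mulVec_mulVec, ← Matrix.mulVec_mulVec]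
  rcases lt_or_ge c D.rank with h | h
  · have e1 : A.cart c (A.refl i r) = A.cart c r - A.cart i r * A.cart c (D.simple i) :=
      g.cart_refl i hi r hr c h
    have e2 : A.cart i (A.refl i r) = - A.cart i r := by
      rw [g.cart_refl i hi r hr i hi, g.cart_simple i hi]; ring
    rw [x_mulVec_h g hr t h, Matrix.mulVec_add, Matrix.mulVec_smul, nM_h g hi h, nM_root g hi hr,
      Matrix.mulVec_sub, Matrix.mulVec_smul, x_mulVec_h g hwr _ h, x_mulVec_h g hwr _ hi, e1, e2]
    push_cast
    module
  obtain ⟨s, rfl⟩ : ∃ s, c = D.rank + s := ⟨c - D.rank, by omega⟩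
  have hs : s < D.nroots := by omega
  have hsq : ∀ u : ℕ, u < D.nroots → (A.eta i u : F) * (A.eta i u : F) = 1 :=
    fun u hu => eta_sq g hi hu
  rw [nM_root g hi hs, Matrix.mulVec_smul]
  rcases eq_or_ne s r with hsr | hsr
  · subst hsr
    rw [x_mulVec_self g hs, x_mulVec_self g hwr, nM_root g hi hs]
  rcases eq_or_ne s (A.neg r) with hsn | hsn
  · subst hsn
    rw [x_mulVec_neg g hr, Matrix.mulVec_add, Matrix.mulVec_add, Matrix.mulVec_smul,
      Matrix.mulVec_smul, nM_root g hi hr, nM_root g hi (g.neg_lt r hr), nM_hsum g hi hr,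
      g.refl_neg i hi r hr, x_mulVec_neg g hwr, eta_neg_eq g hi hr, smul_add, smul_add, smul_smul,
      smul_smul, smul_smul]
    congr 1
    · congr 2
      rw [← mul_assoc, hsq r hr, one_mul]
    · congr 1
      linear_combination ((A.eta i r : F) * t ^ 2) * hsq r hr
  · have h1 : A.refl i s ≠ A.refl i r := fun e => hsr (refl_inj g hi hs hr e)
    have h2 : A.refl i s ≠ A.neg (A.refl i r) := fun e => hsn (by
      rw [← g.refl_neg i hi r hr] at e
      exact refl_inj g hi hs (g.neg_lt r hr) e)
    rw [x_mulVec_chain g hr hs hsr hsn, x_mulVec_chain g hwr (g.refl_lt i hi s hs) h1 h2,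
      g.chain_refl i hi r hr s hs, Matrix.mulVec_add, smul_add, nM_root g hi hs]
    congr 1
    rw [zipIdx_map_zipIdx, List.map_map, List.smul_sum, List.map_map]
    have hlin : ∀ L : List (D.Idx → F), nM D F i *ᵥ L.sum = (L.map (nM D F i *ᵥ ·)).sum := by
      intro L
      induction L with
      | nil => simp
      | cons a L ih => simp [Matrix.mulVec_add, ih]
    rw [hlin, List.map_map]
    refine congrArg List.sum (List.map_congr_left fun q hq => ?_)
    simp only [Function.comp_def]
    have hu := (g.chain_mem r hr s hs q.2 q.1.1 q.1.2 (List.mem_zipIdx_iff_getElem?.1 hq)).1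
    rw [Matrix.mulVec_smul, nM_root g hi hu, smul_smul, smul_smul]
    congr 1
    push_cast
    rw [mul_pow]
    have e1 : (A.eta i r : F) ^ (q.2 + 1) * (A.eta i r : F) ^ (q.2 + 1) = 1 := by
      rw [← mul_pow, hsq r hr, one_pow]
    calc (q.1.2 : F) * t ^ (q.2 + 1) * (A.eta i q.1.1 : F)
        = ((q.1.2 : F) * t ^ (q.2 + 1) * (A.eta i q.1.1 : F)) *
            (((A.eta i r : F) ^ (q.2 + 1) * (A.eta i r : F) ^ (q.2 + 1)) *
              ((A.eta i s : F) * (A.eta i s : F))) := by
          rw [e1, hsq s hs]; ring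
      _ = _ := by ring

lemma neg_one_pow_natAbs_mul_zpow (z : ℤ) : (-1 : F) ^ z.natAbs * (-1 : F) ^ (-z) = 1 := by
  rcases Int.natAbs_eq z with h | h <;> generalize z.natAbs = m at h <;> subst h <;>
    simp [← inv_pow, inv_neg, ← mul_pow]

lemma nM_sq (g : Good D A) {i : ℕ} (hi : i < D.rank) :
    nM D F i * nM D F i = dia D fun s => (-1 : F) ^ (A.cart i s).natAbs := by
  refine matrix_ext fun c hc => ?_
  rw [← Matrix.mulVec_mulVec]
  rcases lt_or_ge c D.rank with h | h
  · rw [dia_mulVec_h _ h, nM_h g hi h, Matrix.mulVec_sub, Matrix.mulVec_smul, nM_h g hi h,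
      nM_h g hi hi, g.cart_simple i hi]
    push_cast
    module
  obtain ⟨s, rfl⟩ : ∃ s, c = D.rank + s := ⟨c - D.rank, by omega⟩
  have hs : s < D.nroots := by omega
  rw [dia_mulVec_root, nM_root g hi hs, Matrix.mulVec_smul, nM_root g hi (g.refl_lt i hi s hs),
    g.refl_refl i hi s hs, smul_smul, ← Int.cast_mul, g.eta_mul i hi s hs]
  push_cast
  rfl

lemma nM_mul_inv (g : Good D A) {i : ℕ} (hi : i < D.rank) :
    nM D F i * (nM D F i * nM D F i * nM D F i) = 1 := by
  rw [mul_assoc (nM D F i), ← mul_assoc (nM D F i) (nM D F i), nM_sq g hi, dia_mul,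
    ← dia_one]
  congr 1
  funext s
  rw [← mul_pow]
  simp

lemma nM_inv_mul (g : Good D A) {i : ℕ} (hi : i < D.rank) :
    (nM D F i * nM D F i * nM D F i) * nM D F i = 1 := by
  have := nM_mul_inv (F := F) g hi
  simpa [mul_assoc] using this

lemma nM_right_cancel (g : Good D A) {i : ℕ} (hi : i < D.rank) {X Y : Matrix D.Idx D.Idx F}
    (h : X * nM D F i = Y * nM D F i) : X = Y := by
  have := congrArg (· * (nM D F i * nM D F i * nM D F i)) h
  rwa [mul_assoc, mul_assoc Y, nM_mul_inv g hi, mul_one, mul_one] at this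

/-- induction over the roots along fundamental reflections, starting at the representatives -/
theorem root_induction (g : Good D A) {P : ℕ → Prop} (h0 : ∀ j < D.rank, j ∈ A.reps → P (D.simple j))
    (step : ∀ i < D.rank, ∀ r < D.nroots, P r → P (A.refl i r)) : ∀ r < D.nroots, P r := by
  have hup := g.ok.up
  simp only [checkUp, Bool.and_eq_true, List.all_eq_true, List.mem_range, decide_eq_true_eq,
    Bool.or_eq_true, List.any_eq_true, beq_iff_eq] at hup
  suffices ∀ d, ∀ r < D.nroots, A.dist r = d → P r from fun r hr => this _ r hr rfl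
  intro d
  induction d using Nat.strong_induction_on with
  | _ d ih =>
    intro r hr hd
    rcases hup.2 r hr with ⟨j, hj, rfl⟩ | ⟨hu, hlt⟩
    · exact h0 j (hup.1 j hj) hj
    · have h1 := g.refl_lt _ hu r hr
      have := step _ hu _ h1 (ih _ (hd ▸ hlt) _ h1 rfl)
      rwa [g.refl_refl _ hu r hr] at this

lemma x_add_rep (g : Good D A) {j : ℕ} (hj : j < D.rank) (hjr : j ∈ A.reps) (t u : F) :
    D.x F (D.simple j) t * D.x F (D.simple j) u = D.x F (D.simple j) (t + u) := by
  have h := g.ok.add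
  simp only [checkAdd, List.all_eq_true, List.mem_range] at h
  set r := D.simple j with hr'
  have hr : r < D.nroots := g.simple_lt j hj
  refine matrix_ext fun c hc => ?_
  have h2 := sval_eq_of_seq (fun k : ℕ × ℕ × ℕ => (t ^ k.2.1 * u ^ k.2.2) • ev D F k.1) (h j hjr c hc)
  set L := (c, (1 : ℤ), 0) :: A.col D.rank D.nroots r c with hL
  have key : ∀ s : F, D.x F r s *ᵥ ev D F c = tval D s L := by
    intro s
    rw [x_mulVec g hr, hL, tval_cons]
    simp
  rw [← Matrix.mulVec_mulVec, key, key, mulVec_tval]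
  refine Eq.trans ?_ (Eq.trans h2 ?_)
  · simp only [sval, List.map_flatMap]
    rw [List.flatMap_def, List.sum_flatten, List.map_map]
    refine congrArg List.sum (List.map_congr_left fun p _ => ?_)
    simp only [Function.comp_def, List.map_cons, List.sum_cons, List.map_map]
    rw [x_mulVec g hr, smul_add, tval, List.smul_sum, List.map_map]
    congr 1
    · rw [← Int.cast_smul_eq_zsmul F, smul_smul]; simp
    · refine congrArg List.sum (List.map_congr_left fun q _ => ?_)
      simp only [Function.comp_def]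
      rw [← Int.cast_smul_eq_zsmul F, smul_smul, smul_smul]
      congr 1
      push_cast
      ring
  · simp only [sval, List.map_flatMap]
    rw [List.flatMap_def, List.sum_flatten, List.map_map, tval]
    refine congrArg List.sum (List.map_congr_left fun p _ => ?_)
    simp only [Function.comp_def, List.map_map]
    rw [sum_map_range', add_pow, Finset.mul_sum, Finset.sum_smul]
    refine Finset.sum_congr rfl fun k _ => ?_
    rw [← Int.cast_smul_eq_zsmul F, smul_smul]
    congr 1
    push_cast
    ring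

/-- `x_r(t) x_r(u) = x_r(t + u)` -/
theorem x_add (g : Good D A) {r : ℕ} (hr : r < D.nroots) (t u : F) :
    D.x F r t * D.x F r u = D.x F r (t + u) := by
  revert r
  suffices ∀ r, r < D.nroots → ∀ t u : F, D.x F r t * D.x F r u = D.x F r (t + u) from
    fun {r} hr => this r hr t u
  refine root_induction g (fun j hj hjr t u => x_add_rep g hj hjr t u) ?_
  intro i hi r hr ih t u
  refine nM_right_cancel g hi ?_
  have he := eta_sq (F := F) g hi hr
  set e := (A.eta i r : F)
  have key : ∀ v : F, D.x F (A.refl i r) v * nM D F i = nM D F i * D.x F r (e * v) := by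
    intro v
    rw [nM_mul_x g hi hr, ← mul_assoc, he, one_mul]
  rw [mul_assoc, key, ← mul_assoc, key, mul_assoc, ih, key, mul_add]

lemma x_mul_neg (g : Good D A) {r : ℕ} (hr : r < D.nroots) (t : F) :
    D.x F r t * D.x F r (-t) = 1 := by
  rw [x_add g hr, add_neg_cancel, x_zero g hr]

lemma nMat_mul_neg (g : Good D A) {r : ℕ} (hr : r < D.nroots) (c : F) :
    D.nMat F r c * D.nMat F r (-c) = 1 := by
  rw [nMat_eq, nMat_eq, inv_neg, neg_neg]
  calc _ = D.x F r c * (D.x F (D.neg r) (-c⁻¹) * (D.x F r c * D.x F r (-c)) *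
        D.x F (D.neg r) c⁻¹) * D.x F r (-c) := by simp only [mul_assoc]
    _ = 1 := by
      rw [x_mul_neg g hr, mul_one, x_add g (neg_lt' g hr), neg_add_cancel,
        x_zero g (neg_lt' g hr), mul_one, x_mul_neg g hr]

lemma nM_mul_nMat (g : Good D A) {i r : ℕ} (hi : i < D.rank) (hr : r < D.nroots) (c : F) :
    nM D F i * D.nMat F r c = D.nMat F (A.refl i r) ((A.eta i r : F) * c) * nM D F i := by
  have e1 : D.neg r = A.neg r := g.neg_eq r hr
  have e2 : D.neg (A.refl i r) = A.refl i (A.neg r) := by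
    rw [g.neg_eq _ (g.refl_lt i hi r hr), g.refl_neg i hi r hr]
  have e3 : (A.eta i (A.neg r) : F) * -c⁻¹ = -((A.eta i r : F) * c)⁻¹ := by
    rw [eta_neg_eq g hi hr]
    rcases g.eta_sign i hi r hr with h | h <;> simp [h, inv_neg]
  rw [nMat_eq, nMat_eq, e1, e2, ← e3]
  rw [← mul_assoc, ← mul_assoc, nM_mul_x g hi hr, mul_assoc (D.x F _ _) (nM D F i),
    nM_mul_x g hi (g.neg_lt r hr), ← mul_assoc, mul_assoc _ (nM D F i), nM_mul_x g hi hr]
  simp only [mul_assoc]

lemma wt_refl (g : Good D A) (ξ : ℕ → Fˣ) {i s : ℕ} (hi : i < D.rank) (hs : s < D.nroots) :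
    wt D A ξ (A.refl i s) = wt D A ξ s * ξ i ^ (-A.cart i s) := by
  have h1 : ∀ j ∈ Finset.range D.rank, ξ j ^ A.a (A.refl i s) j =
      ξ j ^ A.a s j * (if j = i then ξ j ^ (-A.cart i s) else 1) := by
    intro j hj
    rw [g.a_refl i hi s hs j (Finset.mem_range.1 hj)]
    split_ifs with h
    · rw [sub_eq_add_neg, _root_.zpow_add]
    · simp
  rw [wt, Finset.prod_congr rfl h1, Finset.prod_mul_distrib, Finset.prod_ite_eq',
    if_pos (Finset.mem_range.2 hi)]
  rfl

lemma nMat_simple_root (g : Good D A) {i s : ℕ} (hi : i < D.rank) (hs : s < D.nroots) {c : F}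
    (hc : c ≠ 0) : D.nMat F (D.simple i) c *ᵥ ev D F (D.rank + s) =
      ((A.eta i s : F) * c ^ (-A.cart i s)) • ev D F (D.rank + A.refl i s) := by
  let ξ : ℕ → Fˣ := fun j => if j = i then Units.mk0 c hc else 1
  have hp := g.simple_lt i hi
  have hξ : wt D A ξ (D.simple i) = Units.mk0 c hc := by simp [wt_simple g ξ hi, ξ]
  have hword := dia_mul_word g ξ (w := [(D.simple i, (1 : F)), (A.neg (D.simple i), -1), (D.simple i, 1)])
    (by
      intro p hp'
      simp only [List.mem_cons, List.not_mem_nil, or_false] at hp'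
      rcases hp' with rfl | rfl | rfl
      exacts [hp, g.neg_lt _ hp, hp])
  have hN : nM D F i = D.wordMat F [(D.simple i, (1 : F)), (A.neg (D.simple i), -1), (D.simple i, 1)] := by
    simp [nM, ChevalleyDatum.nMat, ChevalleyDatum.nWord, g.neg_eq _ hp]
  have hNc : D.nMat F (D.simple i) c = D.wordMat F ([(D.simple i, (1 : F)),
      (A.neg (D.simple i), -1), (D.simple i, 1)].map fun p => (p.1, (wt D A ξ p.1 : F) * p.2)) := by
    simp [ChevalleyDatum.nMat, ChevalleyDatum.nWord, g.neg_eq _ hp, wt_neg g ξ hp, hξ]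
  rw [← hN, ← hNc] at hword
  have := congrArg (· *ᵥ ev D F (D.rank + s)) hword
  simp only [← Matrix.mulVec_mulVec] at this
  rw [nM_root g hi hs, Matrix.mulVec_smul, dia_mulVec_root, dia_mulVec_root, Matrix.mulVec_smul,
    smul_smul, wt_refl g ξ hi hs] at this
  have h1 : ((wt D A ξ s : Fˣ) : F) ≠ 0 := Units.ne_zero _
  calc D.nMat F (D.simple i) c *ᵥ ev D F (D.rank + s)
      = ((wt D A ξ s : F))⁻¹ • ((wt D A ξ s : F) •
          (D.nMat F (D.simple i) c *ᵥ ev D F (D.rank + s))) := by
        rw [smul_smul, inv_mul_cancel₀ h1, one_smul]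
    _ = _ := by
      rw [← this, smul_smul]
      congr 1
      simp [ξ]
      field_simp

lemma nMat_simple_h (g : Good D A) {i j : ℕ} (hi : i < D.rank) (hj : j < D.rank) {c : F}
    (hc : c ≠ 0) :
    D.nMat F (D.simple i) c *ᵥ ev D F j = ev D F j - (A.cart j (D.simple i) : F) • ev D F i := by
  let ξ : ℕ → Fˣ := fun j => if j = i then Units.mk0 c hc else 1
  have hp := g.simple_lt i hi
  have hξ : wt D A ξ (D.simple i) = Units.mk0 c hc := by simp [wt_simple g ξ hi, ξ]
  have hword := dia_mul_word g ξ (w := [(D.simple i, (1 : F)), (A.neg (D.simple i), -1), (D.simple i, 1)])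
    (by
      intro p hp'
      simp only [List.mem_cons, List.not_mem_nil, or_false] at hp'
      rcases hp' with rfl | rfl | rfl
      exacts [hp, g.neg_lt _ hp, hp])
  have hN : nM D F i = D.wordMat F [(D.simple i, (1 : F)), (A.neg (D.simple i), -1), (D.simple i, 1)] := by
    simp [nM, ChevalleyDatum.nMat, ChevalleyDatum.nWord, g.neg_eq _ hp]
  have hNc : D.nMat F (D.simple i) c = D.wordMat F ([(D.simple i, (1 : F)),
      (A.neg (D.simple i), -1), (D.simple i, 1)].map fun p => (p.1, (wt D A ξ p.1 : F) * p.2)) := by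
    simp [ChevalleyDatum.nMat, ChevalleyDatum.nWord, g.neg_eq _ hp, wt_neg g ξ hp, hξ]
  rw [← hN, ← hNc] at hword
  have := congrArg (· *ᵥ ev D F j) hword
  simp only [← Matrix.mulVec_mulVec] at this
  rw [dia_mulVec_h _ hj, nM_h g hi hj, Matrix.mulVec_sub, Matrix.mulVec_smul, dia_mulVec_h _ hj,
    dia_mulVec_h _ hi] at this
  exact this.symm

/-- `h_p(c)` for a fundamental root is diagonal -/
theorem hMat_simple (g : Good D A) {i : ℕ} (hi : i < D.rank) {c : F} (hc : c ≠ 0) :
    D.hMat F (D.simple i) c = dia D fun s => c ^ A.cart i s := by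
  have h1 : (-1 : F) ≠ 0 := neg_ne_zero.2 one_ne_zero
  rw [hMat_eq]
  refine matrix_ext fun k hk => ?_
  rw [← Matrix.mulVec_mulVec]
  rcases lt_or_ge k D.rank with h | h
  · rw [dia_mulVec_h _ h, nMat_simple_h g hi h h1, Matrix.mulVec_sub, Matrix.mulVec_smul,
      nMat_simple_h g hi h hc, nMat_simple_h g hi hi hc, g.cart_simple i hi]
    push_cast
    module
  obtain ⟨s, rfl⟩ : ∃ s, k = D.rank + s := ⟨k - D.rank, by omega⟩
  have hs : s < D.nroots := by omega
  have e1 : A.cart i (A.refl i s) = - A.cart i s := by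
    rw [g.cart_refl i hi s hs i hi, g.cart_simple i hi]; ring
  rw [dia_mulVec_root, nMat_simple_root g hi hs h1, Matrix.mulVec_smul,
    nMat_simple_root g hi (g.refl_lt i hi s hs) hc, g.refl_refl i hi s hs, smul_smul, e1, neg_neg]
  congr 1
  have e2 : (A.eta i s : F) * (A.eta i (A.refl i s) : F) = (-1) ^ (A.cart i s).natAbs := by
    rw [← Int.cast_mul, g.eta_mul i hi s hs]
    push_cast
    rfl
  calc (A.eta i s : F) * (-1) ^ (-A.cart i s) * ((A.eta i (A.refl i s) : F) * c ^ A.cart i s)
      = ((A.eta i s : F) * (A.eta i (A.refl i s) : F)) * (-1) ^ (-A.cart i s) * c ^ A.cart i s := by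
        ring
    _ = _ := by rw [e2, neg_one_pow_natAbs_mul_zpow, one_mul]

variable (D) in
/-- `⟨r^∨, s⟩` computed from the tables -/
noncomputable def pr (A : Aux) (r s : ℕ) : ℤ := ∑ k ∈ Finset.range D.rank, A.coro r k * A.cart k s

lemma pr_simple (g : Good D A) {i : ℕ} (hi : i < D.rank) (s : ℕ) : pr D A (D.simple i) s = A.cart i s := by
  rw [pr, Finset.sum_eq_single i]
  · simp [g.coro_simple i hi i hi]
  · intro j hj hji
    simp [g.coro_simple i hi j (Finset.mem_range.1 hj), hji]
  · intro h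
    exact absurd (Finset.mem_range.2 hi) h

lemma pr_refl (g : Good D A) {i r s : ℕ} (hi : i < D.rank) (hr : r < D.nroots) (hs : s < D.nroots) :
    pr D A (A.refl i r) (A.refl i s) = pr D A r s := by
  have h1 : ∀ k ∈ Finset.range D.rank, A.coro (A.refl i r) k * A.cart k (A.refl i s) =
      (A.coro r k * A.cart k s - A.cart i s * (A.coro r k * A.cart k (D.simple i))) -
      (if k = i then (∑ k ∈ Finset.range D.rank, A.coro r k * A.cart k (D.simple i)) *
        (A.cart k s - A.cart i s * A.cart k (D.simple i)) else 0) := by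
    intro k hk
    rw [g.coro_refl i hi r hr k (Finset.mem_range.1 hk), g.cart_refl i hi s hs k (Finset.mem_range.1 hk)]
    split_ifs <;> ring
  rw [pr, Finset.sum_congr rfl h1, Finset.sum_sub_distrib, Finset.sum_sub_distrib, Finset.sum_ite_eq',
    if_pos (Finset.mem_range.2 hi), ← Finset.mul_sum, g.cart_simple i hi, pr]
  ring

lemma nM_mul_dia (g : Good D A) {i : ℕ} (hi : i < D.rank) (d : ℕ → F) :
    nM D F i * dia D d = dia D (fun s => d (A.refl i s)) * nM D F i := by
  refine matrix_ext fun c hc => ?_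
  rw [← Matrix.mulVec_mulVec, ← Matrix.mulVec_mulVec]
  rcases lt_or_ge c D.rank with h | h
  · rw [dia_mulVec_h _ h, nM_h g hi h, Matrix.mulVec_sub, Matrix.mulVec_smul, dia_mulVec_h _ h,
      dia_mulVec_h _ hi]
  obtain ⟨s, rfl⟩ : ∃ s, c = D.rank + s := ⟨c - D.rank, by omega⟩
  have hs : s < D.nroots := by omega
  rw [dia_mulVec_root, Matrix.mulVec_smul, nM_root g hi hs, Matrix.mulVec_smul, dia_mulVec_root,
    g.refl_refl i hi s hs, smul_smul, smul_smul, mul_comm]

lemma dia_congr {d e : ℕ → F} (h : ∀ s < D.nroots, d s = e s) : dia D d = dia D e := by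
  rw [dia, dia]
  refine congrArg Matrix.diagonal (funext fun x => ?_)
  rcases x with i | s
  · rfl
  · exact h s s.isLt

/-- `h_r(c)` is diagonal -/
theorem hMat_dia (g : Good D A) {r : ℕ} (hr : r < D.nroots) {c : F} (hc : c ≠ 0) :
    D.hMat F r c = dia D fun s => c ^ pr D A r s := by
  revert r
  suffices ∀ r, r < D.nroots → ∀ c : F, c ≠ 0 → D.hMat F r c = dia D fun s => c ^ pr D A r s from
    fun {r} hr => this r hr c hc
  refine root_induction g (fun j hj _ c hc => ?_) ?_
  · rw [hMat_simple g hj hc]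
    simp only [pr_simple g hj]
  intro i hi r hr ih c hc
  refine nM_right_cancel g hi ?_
  have he := eta_sq (F := F) g hi hr
  have key : ∀ v : F, D.nMat F (A.refl i r) v * nM D F i =
      nM D F i * D.nMat F r ((A.eta i r : F) * v) := by
    intro v
    rw [nM_mul_nMat g hi hr, ← mul_assoc, he, one_mul]
  have h1 : (-1 : F) ≠ 0 := neg_ne_zero.2 one_ne_zero
  have hX : D.nMat F r ((A.eta i r : F) * c) * D.nMat F r ((A.eta i r : F) * -1) =
      dia D fun s => c ^ pr D A r s := by
    rcases g.eta_sign i hi r hr with h | h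
    · simp only [h, Int.cast_one, one_mul]
      rw [← hMat_eq, ih c hc]
    · simp only [h, Int.cast_neg, Int.cast_one, neg_mul, one_mul, neg_neg]
      set X := D.nMat F r (-c) * D.nMat F r 1
      have h2 : X * D.hMat F r (-1) = D.hMat F r (-c) := by
        rw [hMat_eq, hMat_eq, mul_assoc (D.nMat F r (-c)), ← mul_assoc (D.nMat F r 1),
          nMat_mul_neg g hr, one_mul]
      rw [ih _ h1, ih _ (neg_ne_zero.2 hc)] at h2
      have h3 := congrArg (· * dia D (fun s => ((-1 : F) ^ pr D A r s)⁻¹)) h2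
      simp only [mul_assoc, dia_mul] at h3
      rw [dia_congr (e := fun _ => (1 : F)) (fun s _ => mul_inv_cancel₀ (zpow_ne_zero _ h1)),
        dia_one, mul_one] at h3
      rw [h3]
      refine dia_congr fun s _ => ?_
      rw [← div_eq_mul_inv, ← div_zpow, neg_div_neg_eq, div_one]
  rw [hMat_eq, mul_assoc, key, ← mul_assoc, key, mul_assoc, hX, nM_mul_dia g hi]
  congr 1
  refine dia_congr fun s hs => ?_
  have := pr_refl g hi hr (g.refl_lt i hi s hs)
  rw [g.refl_refl i hi s hs] at this
  rw [this]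

/-- Cartan integers are linear in the root coordinates -/
theorem cart_linear (g : Good D A) {i s : ℕ} (hi : i < D.rank) (hs : s < D.nroots) :
    A.cart i s = ∑ k ∈ Finset.range D.rank, A.a s k * A.cart i (D.simple k) := by
  revert s
  suffices ∀ s, s < D.nroots →
      A.cart i s = ∑ k ∈ Finset.range D.rank, A.a s k * A.cart i (D.simple k) from fun {s} hs => this s hs
  refine root_induction g (fun j hj _ => ?_) ?_
  · rw [Finset.sum_eq_single j]
    · simp [g.a_simple j hj j hj]
    · intro k hk hkj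
      simp [g.a_simple j hj k (Finset.mem_range.1 hk), hkj]
    · intro h
      exact absurd (Finset.mem_range.2 hj) h
  intro q hq s hs ih
  have h1 : ∀ k ∈ Finset.range D.rank, A.a (A.refl q s) k * A.cart i (D.simple k) =
      A.a s k * A.cart i (D.simple k) - (if k = q then A.cart q s * A.cart i (D.simple k) else 0) := by
    intro k hk
    rw [g.a_refl q hq s hs k (Finset.mem_range.1 hk)]
    split_ifs <;> ring
  rw [g.cart_refl q hq s hs i hi, Finset.sum_congr rfl h1, Finset.sum_sub_distrib, ← ih,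
    Finset.sum_ite_eq', if_pos (Finset.mem_range.2 hq)]

lemma pr_linear (g : Good D A) (r : ℕ) {s : ℕ} (hs : s < D.nroots) :
    pr D A r s = ∑ k ∈ Finset.range D.rank, A.a s k * pr D A r (D.simple k) := by
  simp only [pr, Finset.mul_sum]
  rw [Finset.sum_comm]
  refine Finset.sum_congr rfl fun i hi => ?_
  rw [cart_linear g (Finset.mem_range.1 hi) hs, Finset.mul_sum]
  refine Finset.sum_congr rfl fun k _ => ?_
  ring

/-- `h_r(c)` as the diagonal matrix of a weight -/
lemma hMat_weight (g : Good D A) {r : ℕ} (hr : r < D.nroots) {c : F} (hc : c ≠ 0) :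
    D.hMat F r c = dia D fun s =>
      (wt D A (fun k => Units.mk0 c hc ^ pr D A r (D.simple k)) s : F) := by
  rw [hMat_dia g hr hc]
  refine dia_congr fun s hs => ?_
  rw [pr_linear g r hs, wt]
  simp only [Units.coe_prod, Units.val_zpow_eq_zpow_val, Units.val_mk0]
  induction Finset.range D.rank using Finset.induction_on with
  | empty => simp
  | insert a S ha ih =>
    rw [Finset.sum_insert ha, Finset.prod_insert ha, zpow_add₀ hc, ih, ← _root_.zpow_mul,
      mul_comm (A.a s a)]

/-- `h_r(c) x_s(t) = x_s(c^{⟨r,s⟩} t) h_r(c)` -/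
theorem hMat_mul_x (g : Good D A) {r s : ℕ} (hr : r < D.nroots) (hs : s < D.nroots) {c : F}
    (hc : c ≠ 0) (t : F) :
    D.hMat F r c * D.x F s t = D.x F s (c ^ pr D A r s * t) * D.hMat F r c := by
  have hd := hMat_dia g hr hc
  have hw := hMat_weight g hr hc
  rw [hw, dia_mul_x g _ hs]
  congr 2
  have := congrFun (congrFun (hw.symm.trans hd) (Sum.inr ⟨s, hs⟩)) (Sum.inr ⟨s, hs⟩)
  simp only [dia, Matrix.diagonal_apply_eq, Sum.elim_inr] at this
  rw [this]

end CfsgLib.Chev
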