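/-
Chevalley's commutator formula for the tabulated data.
-/
import Cfsg.Agent.Lib.Chev.Conj

set_option autoImplicit false

namespace CfsgLib.Chev

open Cfsg.Lie Matrix

variable {D : ChevalleyDatum} {A : Aux} {F : Type*} [Field F]

variable (D A) in
/-- a root supported on one fundamental root has coefficient `±1` there -/
noncomputable def checkThin : Bool :=
  (List.range D.nroots).all fun r => (List.range D.rank).all fun j =>
    !((List.range D.rank).all fun k => k == j || decide (A.a r k = 0)) ||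
      decide ((A.a r j).natAbs = 1)

variable (D A) in
/-- the lexicographic code of a root: linear in the coordinates and increasing with the index -/
noncomputable def code (r : ℕ) : ℤ :=
  ((List.range D.rank).map fun j => A.a r j * (16 : ℤ) ^ (D.rank - 1 - j)).sum

variable (D A) in
/-- the code increases with the index -/
noncomputable def checkCode : Bool :=
  (List.range (D.nroots - 1)).all fun r => decide (code D A r < code D A (r + 1))

/-- a datum whose tables pass all checks -/
structure Std (D : ChevalleyDatum) (A : Aux) : Prop where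
  good : Good D A
  thin : checkThin D A = true
  codeMono : checkCode D A = true

lemma thin_spec (h : Std D A) {r j : ℕ} (hr : r < D.nroots) (hj : j < D.rank)
    (h0 : ∀ k < D.rank, k ≠ j → A.a r k = 0) : A.a r j = 1 ∨ A.a r j = -1 := by
  have := h.thin
  simp only [checkThin, List.all_eq_true, List.mem_range, Bool.or_eq_true, Bool.not_eq_true',
    decide_eq_true_eq] at this
  rcases this r hr j hj with h1 | h1
  · exfalso
    rw [List.all_eq_false] at h1
    obtain ⟨k, hk, hk'⟩ := h1
    simp only [Bool.or_eq_true, beq_iff_eq, decide_eq_true_eq, not_or] at hk'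
    exact hk'.2 (h0 k (List.mem_range.1 hk) hk'.1)
  · omega

/-- what a chain entry is -/
lemma ch_cases (g : Good D A) {r s k : ℕ} (hr : r < D.nroots) (hs : s < D.nroots) (hk : 1 ≤ k) :
    (A.chRoot r s k = none ∧ A.chM r s k = 0) ∨
    ∃ u, A.chRoot r s k = some u ∧ u < D.nroots ∧ k ≤ (A.chain r s).length ∧
      (A.chain r s)[k - 1]? = some (u, A.chM r s k) ∧
      ∀ j < D.rank, A.a u j = A.a s j + (k : ℤ) * A.a r j := by
  unfold Aux.chRoot Aux.chM
  cases h : (A.chain r s)[k - 1]? with
  | none => exact Or.inl ⟨rfl, rfl⟩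
  | some q =>
    obtain ⟨u, m⟩ := q
    obtain ⟨hu, _, _, ha⟩ := g.chain_mem r hr s hs (k - 1) u m h
    refine Or.inr ⟨u, rfl, hu, ?_, rfl, fun j hj => ?_⟩
    · by_contra hlt
      rw [List.getElem?_eq_none (by omega)] at h
      simp at h
    · rw [ha j hj]
      congr 2
      omega

lemma ch_refl (g : Good D A) {i r s k : ℕ} (hi : i < D.rank) (hr : r < D.nroots)
    (hs : s < D.nroots) (hk : 1 ≤ k) :
    A.chRoot (A.refl i r) (A.refl i s) k = (A.chRoot r s k).map (A.refl i) ∧
    ∀ u, A.chRoot r s k = some u → A.chM (A.refl i r) (A.refl i s) k =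
      A.eta i u * A.eta i r ^ k * A.eta i s * A.chM r s k := by
  have e : k - 1 + 1 = k := by omega
  unfold Aux.chRoot Aux.chM
  rw [g.chain_refl i hi r hr s hs, List.getElem?_map, List.getElem?_zipIdx]
  cases h : (A.chain r s)[k - 1]? with
  | none => simp
  | some q => simp [e]

lemma ch_refl_none (g : Good D A) {i r s k : ℕ} (hi : i < D.rank) (hr : r < D.nroots)
    (hs : s < D.nroots) (hk : 1 ≤ k) (h : A.chRoot r s k = none) :
    A.chM (A.refl i r) (A.refl i s) k = 0 := by
  have := (ch_refl g hi hr hs hk).1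
  rw [h] at this
  rcases ch_cases g (g.refl_lt i hi r hr) (g.refl_lt i hi s hs) hk with h' | ⟨u, h', _⟩
  · exact h'.2
  · simp [h'] at this

/-- the candidate terms of the commutator formula -/
noncomputable def cands (A : Aux) (r s : ℕ) : List (Option ℕ × ℤ × ℕ × ℕ) :=
  [ (A.chRoot r s 1, A.chM r s 1, 1, 1),
    (A.chRoot r s 2, A.chM r s 2, 2, 1),
    (A.chRoot s r 2, A.chM s r 2, 1, 2),
    (A.chRoot r s 3, A.chM r s 3, 3, 1),
    (A.chRoot s r 3, - A.chM s r 3, 1, 3),
    ((A.chRoot r s 3).bind fun k => A.chRoot k s 1,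
      ((A.chRoot r s 1).map fun k => A.chM k r 2 / 3).getD 0, 3, 2),
    ((A.chRoot s r 3).bind fun k => A.chRoot k r 1,
      ((A.chRoot r s 1).map fun k => -2 * A.chM k s 2 / 3).getD 0, 2, 3) ]

lemma terms_eq (r s : ℕ) :
    A.terms r s = (cands A r s).filterMap fun c => c.1.map fun k => (k, c.2) := rfl

lemma a_eq (g : Good D A) {u v : ℕ} (hu : u < D.nroots) (hv : v < D.nroots)
    (h : ∀ j < D.rank, A.a u j = A.a v j) : u = v := g.a_inj u hu v hv h

/-- roots and exponents of the commutator terms -/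
lemma terms_mem (g : Good D A) {r s : ℕ} (hr : r < D.nroots) (hs : s < D.nroots)
    {q : ℕ × ℤ × ℕ × ℕ} (hq : q ∈ A.terms r s) :
    q.1 < D.nroots ∧ 1 ≤ q.2.2.1 ∧ 1 ≤ q.2.2.2 ∧
      ∀ j < D.rank, A.a q.1 j = (q.2.2.1 : ℤ) * A.a r j + (q.2.2.2 : ℤ) * A.a s j := by
  rw [terms_eq, List.mem_filterMap] at hq
  obtain ⟨c, hc, hq⟩ := hq
  have simple1 : ∀ (r s : ℕ), r < D.nroots → s < D.nroots → ∀ k, 1 ≤ k → ∀ u,
      A.chRoot r s k = some u → u < D.nroots ∧ ∀ j < D.rank, A.a u j = A.a s j + (k : ℤ) * A.a r j := by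
    intro r s hr hs k hk u hu
    rcases ch_cases g hr hs hk with ⟨h, _⟩ | ⟨v, h, hv, _, _, ha⟩
    · simp [h] at hu
    · rw [h] at hu; cases hu; exact ⟨hv, ha⟩
  simp only [cands, List.mem_cons, List.not_mem_nil, or_false] at hc
  rcases hc with rfl | rfl | rfl | rfl | rfl | rfl | rfl <;>
    simp only [Option.map_eq_some_iff, Option.bind_eq_some_iff] at hq
  all_goals obtain ⟨k, hk, rfl⟩ := hq
  · obtain ⟨h1, h2⟩ := simple1 r s hr hs 1 le_rfl k hk
    exact ⟨h1, by simp, by simp, fun j hj => by rw [h2 j hj]; push_cast; ring⟩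
  · obtain ⟨h1, h2⟩ := simple1 r s hr hs 2 (by simp) k hk
    exact ⟨h1, by simp, by simp, fun j hj => by rw [h2 j hj]; push_cast; ring⟩
  · obtain ⟨h1, h2⟩ := simple1 s r hs hr 2 (by simp) k hk
    exact ⟨h1, by simp, by simp, fun j hj => by rw [h2 j hj]; push_cast; ring⟩
  · obtain ⟨h1, h2⟩ := simple1 r s hr hs 3 (by simp) k hk
    exact ⟨h1, by simp, by simp, fun j hj => by rw [h2 j hj]; push_cast; ring⟩
  · obtain ⟨h1, h2⟩ := simple1 s r hs hr 3 (by simp) k hk
    exact ⟨h1, by simp, by simp, fun j hj => by rw [h2 j hj]; push_cast; ring⟩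
  · obtain ⟨v, hv, hk⟩ := hk
    obtain ⟨hv1, hv2⟩ := simple1 r s hr hs 3 (by simp) v hv
    obtain ⟨h1, h2⟩ := simple1 v s hv1 hs 1 le_rfl k hk
    exact ⟨h1, by simp, by simp, fun j hj => by rw [h2 j hj, hv2 j hj]; push_cast; ring⟩
  · obtain ⟨v, hv, hk⟩ := hk
    obtain ⟨hv1, hv2⟩ := simple1 s r hs hr 3 (by simp) v hv
    obtain ⟨h1, h2⟩ := simple1 v r hv1 hr 1 le_rfl k hk
    exact ⟨h1, by simp, by simp, fun j hj => by rw [h2 j hj, hv2 j hj]; push_cast; ring⟩

/-- the commutator terms are permuted by the reflections -/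
lemma terms_refl (g : Good D A) {i r s : ℕ} (hi : i < D.rank) (hr : r < D.nroots)
    (hs : s < D.nroots) :
    A.terms (A.refl i r) (A.refl i s) = (A.terms r s).map fun q =>
      (A.refl i q.1, q.2.1 * (A.eta i q.1 * A.eta i r ^ q.2.2.1 * A.eta i s ^ q.2.2.2),
        q.2.2.1, q.2.2.2) := by
  set φ : ℕ × ℤ × ℕ × ℕ → ℕ × ℤ × ℕ × ℕ := fun q =>
    (A.refl i q.1, q.2.1 * (A.eta i q.1 * A.eta i r ^ q.2.2.1 * A.eta i s ^ q.2.2.2),
      q.2.2.1, q.2.2.2) with hφ
  have sq : ∀ u, u < D.nroots → A.eta i u * A.eta i u = 1 := fun u hu => by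
    rcases g.eta_sign i hi u hu with h | h <;> simp [h]
  have key : (cands A (A.refl i r) (A.refl i s)).map (fun c => c.1.map fun k => (k, c.2)) =
      (cands A r s).map fun c => (c.1.map fun k => (k, c.2)).map φ := by
    have hsr := ch_refl g hi hs hr (k := 2) (by simp)
    have hsr3 := ch_refl g hi hs hr (k := 3) (by simp)
    have h1 := ch_refl g hi hr hs (k := 1) le_rfl
    have h2 := ch_refl g hi hr hs (k := 2) (by simp)
    have h3 := ch_refl g hi hr hs (k := 3) (by simp)
    simp only [cands, List.map_cons, List.map_nil, List.cons.injEq, and_true]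
    refine ⟨?_, ?_, ?_, ?_, ?_, ?_, ?_⟩
    · cases hu : A.chRoot r s 1 with
      | none => simp [h1.1, hu]
      | some u => simp [h1.1, hu, hφ, h1.2 u hu]; ring
    · cases hu : A.chRoot r s 2 with
      | none => simp [h2.1, hu]
      | some u => simp [h2.1, hu, hφ, h2.2 u hu]; ring
    · cases hu : A.chRoot s r 2 with
      | none => simp [hsr.1, hu]
      | some u => simp [hsr.1, hu, hφ, hsr.2 u hu]; ring
    · cases hu : A.chRoot r s 3 with
      | none => simp [h3.1, hu]
      | some u => simp [h3.1, hu, hφ, h3.2 u hu]; ring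
    · cases hu : A.chRoot s r 3 with
      | none => simp [hsr3.1, hu]
      | some u => simp [hsr3.1, hu, hφ, hsr3.2 u hu]; ring
    · rcases ch_cases g hr hs (k := 3) (by simp) with ⟨hk, _⟩ | ⟨k, hk, hkn, hlen, _, hka⟩
      · simp [h3.1, hk]
      have h4 := ch_refl g hi hkn hs (k := 1) le_rfl
      rcases ch_cases g hkn hs (k := 1) le_rfl with ⟨hu, _⟩ | ⟨u, hu, hun, _, _, hua⟩
      · simp [h3.1, hk, h4.1, hu]
      rcases ch_cases g hr hs (k := 1) le_rfl with ⟨hv, _⟩ | ⟨v, hv, hvn, _, hv0, hva⟩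
      · simp [h3.1, hk, h4.1, hu, h1.1, hv, hφ]
      have h5 := ch_refl g hi hvn hr (k := 2) (by simp)
      have hdvd := (g.chain_dvd r hr s hs v _ hv0 (by omega)).1
      rcases ch_cases g hvn hr (k := 2) (by simp) with ⟨hw, hw0⟩ | ⟨w, hw, hwn, _, _, hwa⟩
      · simp [h3.1, hk, h4.1, hu, h1.1, hv, hφ, hw0, ch_refl_none g hi hvn hr (by simp) hw]
      obtain rfl : w = u := a_eq g hwn hun fun j hj => by
        rw [hwa j hj, hva j hj, hua j hj, hka j hj]; push_cast; ring
      simp only [h3.1, hk, h4.1, hu, h1.1, hv, hφ, Option.map_some, Option.bind_some,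
        Option.getD_some, h5.2 w hw, Int.mul_ediv_assoc _ hdvd]
      have e1 : A.eta i w * A.eta i v ^ 2 * A.eta i r = A.eta i w * A.eta i r ^ 3 * A.eta i s ^ 2 := by
        rw [pow_two, sq v hvn, pow_two, sq s hs, pow_succ, pow_two, sq r hr]; ring
      rw [e1, mul_comm]
    · rcases ch_cases g hs hr (k := 3) (by simp) with ⟨hk, _⟩ | ⟨k, hk, hkn, hlen, _, hka⟩
      · simp [hsr3.1, hk]
      have h4 := ch_refl g hi hkn hr (k := 1) le_rfl
      rcases ch_cases g hkn hr (k := 1) le_rfl with ⟨hu, _⟩ | ⟨u, hu, hun, _, _, hua⟩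
      · simp [hsr3.1, hk, h4.1, hu]
      rcases ch_cases g hr hs (k := 1) le_rfl with ⟨hv, _⟩ | ⟨v, hv, hvn, _, _, hva⟩
      · simp [hsr3.1, hk, h4.1, hu, h1.1, hv, hφ]
      have h5 := ch_refl g hi hvn hs (k := 2) (by simp)
      rcases ch_cases g hvn hs (k := 2) (by simp) with ⟨hw, hw0⟩ | ⟨w, hw, hwn, _, _, hwa⟩
      · simp [hsr3.1, hk, h4.1, hu, h1.1, hv, hφ, hw0, ch_refl_none g hi hvn hs (by simp) hw]
      obtain rfl : w = u := a_eq g hwn hun fun j hj => by
        rw [hwa j hj, hva j hj, hua j hj, hka j hj]; push_cast; ring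
      have hdvd : 3 ∣ A.chM v s 2 := by
        rcases ch_cases g hs hr (k := 1) le_rfl with ⟨hv', hM⟩ | ⟨v', _, hv'n, _, hv0, hv'a⟩
        · exfalso
          simp only [Aux.chRoot, Option.map_eq_none_iff, List.getElem?_eq_none_iff] at hv'
          omega
        obtain rfl : v' = v := a_eq g hv'n hvn fun j hj => by
          rw [hv'a j hj, hva j hj]; ring
        exact (g.chain_dvd s hs r hr v' _ hv0 (by omega)).1
      have hd2 : (3 : ℤ) ∣ -2 * A.chM v s 2 := Dvd.dvd.mul_left hdvd _
      simp only [hsr3.1, hk, h4.1, hu, h1.1, hv, hφ, Option.map_some, Option.bind_some,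
        Option.getD_some, h5.2 w hw]
      have e1 : A.eta i w * A.eta i v ^ 2 * A.eta i s = A.eta i w * A.eta i r ^ 2 * A.eta i s ^ 3 := by
        rw [pow_two, sq v hvn, pow_two, sq r hr, pow_succ, pow_two, sq s hs]; ring
      rw [e1, mul_left_comm (-2 : ℤ), Int.mul_ediv_assoc _ hd2, mul_comm]
  rw [terms_eq, terms_eq, List.map_filterMap]
  have e : ∀ (L : List (Option ℕ × ℤ × ℕ × ℕ)) (f : _ → Option (ℕ × ℤ × ℕ × ℕ)),
      L.filterMap f = (L.map f).filterMap id := by
    intro L f; simp [List.filterMap_map]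
  rw [e, key, ← e]

variable (A) in
/-- the right hand side of the commutator formula -/
noncomputable def tword (r s : ℕ) (t u : F) : List (ℕ × F) :=
  (A.terms r s).map fun c => (c.1, (c.2.1 : F) * (-t) ^ c.2.2.1 * u ^ c.2.2.2)

variable (D A F) in
/-- the commutator formula for the pair `(r, s)` -/
def CommF (r s : ℕ) : Prop := ∀ t u : F,
  D.x F s u * D.x F r t = D.x F r t * D.x F s u * D.wordMat F (tword A r s t u)

lemma word_mul_nM (g : Good D A) {i : ℕ} (hi : i < D.rank) : ∀ {w : List (ℕ × F)},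
    (∀ p ∈ w, p.1 < D.nroots) →
    D.wordMat F (w.map fun p => (A.refl i p.1, (A.eta i p.1 : F) * p.2)) * nM D F i =
      nM D F i * D.wordMat F w
  | [], _ => by simp [wordMat_nil]
  | p :: w, h => by
    rw [List.map_cons, wordMat_cons, wordMat_cons, mul_assoc,
      word_mul_nM g hi (fun q hq => h q (by simp [hq])), ← mul_assoc, ← nM_mul_x g hi (h p (by simp)),
      mul_assoc]

lemma commF_refl (g : Good D A) {i r s : ℕ} (hi : i < D.rank) (hr : r < D.nroots)
    (hs : s < D.nroots) (h : CommF D A F r s) : CommF D A F (A.refl i r) (A.refl i s) := by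
  intro t u
  refine nM_right_cancel g hi ?_
  set a := (A.eta i r : F) with ha
  set b := (A.eta i s : F) with hb
  have key : ∀ (r : ℕ), r < D.nroots → ∀ v : F, D.x F (A.refl i r) v * nM D F i =
      nM D F i * D.x F r ((A.eta i r : F) * v) := by
    intro r hr v
    rw [nM_mul_x g hi hr, ← mul_assoc, eta_sq g hi hr, one_mul]
  have htw : tword A (A.refl i r) (A.refl i s) t u =
      (tword A r s (a * t) (b * u)).map fun p => (A.refl i p.1, (A.eta i p.1 : F) * p.2) := by
    rw [tword, tword, terms_refl g hi hr hs, List.map_map, List.map_map]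
    refine List.map_congr_left fun q _ => ?_
    simp only [Function.comp_def, Prod.mk.injEq, true_and, ha, hb]
    push_cast
    ring
  have hroots : ∀ p ∈ tword A r s (a * t) (b * u), p.1 < D.nroots := by
    intro p hp
    obtain ⟨q, hq, rfl⟩ := List.mem_map.1 hp
    exact (terms_mem g hr hs hq).1
  calc D.x F (A.refl i s) u * D.x F (A.refl i r) t * nM D F i
      = nM D F i * (D.x F s (b * u) * D.x F r (a * t)) := by
        rw [mul_assoc, key r hr, ← mul_assoc, key s hs, mul_assoc]
    _ = nM D F i * (D.x F r (a * t) * D.x F s (b * u) * D.wordMat F (tword A r s (a * t) (b * u))) := by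
        rw [h]
    _ = _ := by
        rw [htw, mul_assoc (D.x F (A.refl i r) t * _), word_mul_nM g hi hroots, ← mul_assoc,
          ← mul_assoc, ← mul_assoc, mul_assoc (D.x F (A.refl i r) t), key s hs, ← mul_assoc,
          key r hr]

lemma exists_zpow_eq {K : Type*} [Field K] [IsAlgClosed K] (w : Kˣ) {z : ℤ} (hz : z ≠ 0) :
    ∃ x : Kˣ, x ^ z = w := by
  obtain ⟨y, hy⟩ := IsAlgClosed.exists_pow_nat_eq (w : K) (n := z.natAbs) (by omega)
  have hy0 : y ≠ 0 := by
    rintro rfl
    rw [zero_pow (by omega)] at hy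
    exact w.ne_zero hy.symm
  have : Units.mk0 y hy0 ^ z.natAbs = w := Units.ext (by simpa using hy)
  rcases Int.natAbs_eq z with h | h
  · exact ⟨Units.mk0 y hy0, by rw [h, zpow_natCast, this]⟩
  · exact ⟨(Units.mk0 y hy0)⁻¹, by rw [h, _root_.inv_zpow, _root_.zpow_neg, inv_inv, zpow_natCast, this]⟩

lemma dia_right_cancel {d : ℕ → F} (hd : ∀ s, d s ≠ 0) {X Y : Matrix D.Idx D.Idx F}
    (h : X * dia D d = Y * dia D d) : X = Y := by
  have := congrArg (· * dia D fun s => (d s)⁻¹) h
  rw [mul_assoc, mul_assoc Y, dia_mul, dia_congr (e := fun _ => (1 : F)) (fun s _ =>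
    mul_inv_cancel₀ (hd s)), dia_one, mul_one, mul_one] at this
  exact this

lemma word_zero (g : Good D A) : ∀ {w : List (ℕ × F)}, (∀ p ∈ w, p.1 < D.nroots ∧ p.2 = 0) →
    D.wordMat F w = 1
  | [], _ => wordMat_nil
  | p :: w, h => by
    obtain ⟨hp, hp0⟩ := h p (by simp)
    rw [wordMat_cons, hp0, x_zero g hp, one_mul, word_zero g fun q hq => h q (by simp [hq])]

lemma commF_descend {K : Type*} [Field K] (f : F →+* K) {r s : ℕ} (h : CommF D A K r s) :
    CommF D A F r s := by
  intro t u
  apply Matrix.map_injective f.injective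
  simp only [Matrix.map_mul, x_map, wordMat_map]
  rw [h (f t) (f u)]
  congr 2
  simp [tword, List.map_map, Function.comp_def]

/-- scaling of the formula at `t = u = 1` over an algebraically closed field -/
lemma commF_of_one {K : Type*} [Field K] [IsAlgClosed K] (h : Std D A) {j s : ℕ} (hj : j < D.rank)
    (hs : s < D.nroots) (hsr : s ≠ D.simple j) (hsn : s ≠ A.neg (D.simple j))
    (h1 : D.x K s 1 * D.x K (D.simple j) 1 = D.x K (D.simple j) 1 * D.x K s 1 *
      D.wordMat K (tword A (D.simple j) s 1 1)) : CommF D A K (D.simple j) s := by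
  have g := h.good
  have hr := g.simple_lt j hj
  intro t u
  by_cases ht : t = 0
  · subst ht
    rw [x_zero g hr, mul_one, one_mul, word_zero g, mul_one]
    intro p hp
    obtain ⟨q, hq, rfl⟩ := List.mem_map.1 hp
    obtain ⟨h2, h3, _⟩ := terms_mem g hr hs hq
    exact ⟨h2, by simp [zero_pow (show q.2.2.1 ≠ 0 by omega)]⟩
  by_cases hu : u = 0
  · subst hu
    rw [x_zero g hs, one_mul, mul_one, word_zero g, mul_one]
    intro p hp
    obtain ⟨q, hq, rfl⟩ := List.mem_map.1 hp
    obtain ⟨h2, _, h4, _⟩ := terms_mem g hr hs hq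
    exact ⟨h2, by simp [zero_pow (show q.2.2.2 ≠ 0 by omega)]⟩
  obtain ⟨k, hk, hkj, hak⟩ : ∃ k < D.rank, k ≠ j ∧ A.a s k ≠ 0 := by
    by_contra hcon
    push Not at hcon
    rcases thin_spec h hs hj hcon with h' | h'
    · refine hsr (g.a_inj s hs _ hr fun k hk => ?_)
      rw [g.a_simple j hj k hk]
      split_ifs with hkj
      · rw [hkj, h']
      · exact hcon k hk hkj
    · refine hsn (g.a_inj s hs _ (g.neg_lt _ hr) fun k hk => ?_)
      rw [g.a_neg _ hr, g.a_simple j hj k hk]
      split_ifs with hkj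
      · rw [hkj, h']
      · rw [hcon k hk hkj, neg_zero]
  obtain ⟨x, hx⟩ := exists_zpow_eq (Units.mk0 u hu * (Units.mk0 t ht ^ A.a s j)⁻¹) hak
  let ξ : ℕ → Kˣ := fun m => if m = j then Units.mk0 t ht else if m = k then x else 1
  have hξr : wt D A ξ (D.simple j) = Units.mk0 t ht := by simp [wt_simple g ξ hj, ξ]
  have hξs : wt D A ξ s = Units.mk0 u hu := by
    rw [wt, ← Finset.prod_subset (s₁ := ({j, k} : Finset ℕ))]
    · rw [Finset.prod_pair (Ne.symm hkj)]
      simp only [ξ, if_pos, if_neg hkj, hx]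
      rw [mul_left_comm, mul_inv_cancel, mul_one]
    · intro m hm
      simp only [Finset.mem_insert, Finset.mem_singleton] at hm
      rcases hm with rfl | rfl <;> simpa
    · intro m _ hm
      simp only [Finset.mem_insert, Finset.mem_singleton, not_or] at hm
      simp [ξ, hm.1, hm.2]
  refine dia_right_cancel (d := fun m => (wt D A ξ m : K)) (fun m => Units.ne_zero _) ?_
  set W := dia D fun m => (wt D A ξ m : K)
  have e1 : W * D.x K (D.simple j) 1 = D.x K (D.simple j) t * W := by
    rw [dia_mul_x g ξ hr, hξr]; simp [W]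
  have e2 : W * D.x K s 1 = D.x K s u * W := by
    rw [dia_mul_x g ξ hs, hξs]; simp [W]
  have e3 : W * D.wordMat K (tword A (D.simple j) s 1 1) =
      D.wordMat K (tword A (D.simple j) s t u) * W := by
    rw [dia_mul_word g ξ (fun p hp => by
      obtain ⟨q, hq, rfl⟩ := List.mem_map.1 hp
      exact (terms_mem g hr hs hq).1)]
    congr 2
    rw [tword, tword, List.map_map]
    refine List.map_congr_left fun q hq => ?_
    obtain ⟨_, _, _, ha⟩ := terms_mem g hr hs hq
    have hw : wt D A ξ q.1 = wt D A ξ (D.simple j) ^ q.2.2.1 * wt D A ξ s ^ q.2.2.2 := by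
      rw [wt, wt, wt, ← Finset.prod_pow, ← Finset.prod_pow, ← Finset.prod_mul_distrib]
      refine Finset.prod_congr rfl fun m hm => ?_
      rw [ha m (Finset.mem_range.1 hm), _root_.zpow_add, mul_comm (q.2.2.1 : ℤ),
        mul_comm (q.2.2.2 : ℤ), _root_.zpow_mul, _root_.zpow_mul, zpow_natCast, zpow_natCast]
    simp only [Function.comp_def, Prod.mk.injEq, true_and, hw, hξr, hξs]
    push_cast
    rw [neg_pow t, Units.val_mk0, Units.val_mk0]
    ring
  calc D.x K s u * D.x K (D.simple j) t * W = W * (D.x K s 1 * D.x K (D.simple j) 1) := by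
        rw [mul_assoc, ← e1, ← mul_assoc, ← e2, mul_assoc]
    _ = W * (D.x K (D.simple j) 1 * D.x K s 1 * D.wordMat K (tword A (D.simple j) s 1 1)) := by
        rw [h1]
    _ = _ := by
        rw [← mul_assoc, ← mul_assoc, e1, mul_assoc (D.x K _ t), e2, ← mul_assoc, mul_assoc, e3,
          ← mul_assoc]

/-- roots strictly lower than `s` -/
noncomputable def lower (D : ChevalleyDatum) (A : Aux) (s : ℕ) : ℕ :=
  ((Finset.range D.nroots).filter fun v =>
    ∑ j ∈ Finset.range D.rank, A.a v j < ∑ j ∈ Finset.range D.rank, A.a s j).card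

lemma commF_rep (h : Std D A) {j k : ℕ} (hjk : (j, k) ∈ A.reps.zipIdx) (hj : j < D.rank) :
    ∀ {s : ℕ}, s < D.nroots → s ≠ D.simple j → s ≠ A.neg (D.simple j) →
      CommF D A F (D.simple j) s := by
  have g := h.good
  have hr := g.simple_lt j hj
  have hc := g.ok.comm
  simp only [checkComm, List.all_eq_true, List.mem_range, Bool.or_eq_true, Bool.and_eq_true,
    decide_eq_true_eq, beq_iff_eq] at hc
  suffices ∀ d, ∀ s, lower D A s = d → s < D.nroots → s ≠ D.simple j →
      s ≠ A.neg (D.simple j) → CommF D A F (D.simple j) s from fun {s} => this _ s rfl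
  intro d
  induction d using Nat.strong_induction_on with
  | _ d ih =>
    intro s hd hs hsr hsn
    rcases hc (j, k) hjk s hs with ((h' | h') | ⟨⟨hq, hq0⟩, hqs⟩) | hcol
    · exact absurd h' hsr
    · exact absurd h' hsn
    · set q := A.stab k s
      have hs' := g.refl_lt q hq s hs
      have hfix : A.refl q (D.simple j) = D.simple j :=
        g.a_inj _ (g.refl_lt q hq _ hr) _ hr fun m hm => by
          rw [g.a_refl q hq _ hr m hm, hq0]; simp
      have hlt : lower D A (A.refl q s) < d := by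
        rw [← hd]
        have hsum : ∑ m ∈ Finset.range D.rank, A.a (A.refl q s) m <
            ∑ m ∈ Finset.range D.rank, A.a s m := by
          rw [Finset.sum_congr rfl fun m hm => g.a_refl q hq s hs m (Finset.mem_range.1 hm),
            Finset.sum_sub_distrib, Finset.sum_ite_eq', if_pos (Finset.mem_range.2 hq)]
          omega
        refine Finset.card_lt_card ⟨fun v hv => ?_, fun hsub => ?_⟩
        · simp only [Finset.mem_filter] at hv ⊢
          exact ⟨hv.1, lt_trans hv.2 hsum⟩
        · have := hsub (Finset.mem_filter.2 ⟨Finset.mem_range.2 hs', hsum⟩)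
          simp at this
      have := commF_refl g hq hr hs' (ih _ hlt _ rfl hs'
        (fun e => hsr (by rw [← g.refl_refl q hq s hs, e, hfix]))
        (fun e => hsn (by rw [← g.refl_refl q hq s hs, e, g.refl_neg q hq _ hr, hfix])))
      rwa [hfix, g.refl_refl q hq s hs] at this
    · refine commF_descend (algebraMap F (AlgebraicClosure F))
        (commF_of_one h hj hs hsr hsn (matrix_ext fun c hc' => ?_))
      have h2 := sval_eq_of_seq (ev D (AlgebraicClosure F)) (hcol c hc')
      rw [sval_appWord g (by simp [hs, hr]), sval_appWord g (by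
        intro p hp
        simp only [List.mem_cons, List.mem_map] at hp
        rcases hp with rfl | rfl | ⟨q, hq, rfl⟩
        exacts [hr, hs, (terms_mem g hr hs hq).1])] at h2
      simpa [sval, wordMat_cons, wordMat_nil, tword, List.map_map, Function.comp_def,
        mul_assoc] using h2

/-- Chevalley's commutator formula, in terms of the fast tables -/
theorem commF_all (h : Std D A) {r s : ℕ} (hr : r < D.nroots) (hs : s < D.nroots) (hsr : s ≠ r)
    (hsn : s ≠ A.neg r) : CommF D A F r s := by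
  revert r s
  suffices ∀ r, r < D.nroots → ∀ s, s < D.nroots → s ≠ r → s ≠ A.neg r → CommF D A F r s from
    fun {r s} hr => this r hr s
  have g := h.good
  refine root_induction g (fun j hj hjr s hs hsr hsn => ?_) ?_
  · obtain ⟨k, hk, e⟩ := List.getElem_of_mem hjr
    exact commF_rep h (k := k) (List.mem_zipIdx_iff_getElem?.2 (by simp [hk, e])) hj hs hsr hsn
  intro i hi r hr ih s hs hsr hsn
  have hs' := g.refl_lt i hi s hs
  have := commF_refl g hi hr hs' (ih _ hs'
    (fun e => hsr (by rw [← e, g.refl_refl i hi s hs]))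
    (fun e => hsn (by rw [← g.refl_refl i hi s hs, e, g.refl_neg i hi r hr])))
  rwa [g.refl_refl i hi s hs] at this

lemma commTerms_eq (g : Good D A) {r s : ℕ} (hr : r < D.nroots) (hs : s < D.nroots) :
    D.commTerms r s = A.terms r s := by
  have cr : ∀ r s k, r < D.nroots → s < D.nroots → D.chainRoot r s k = A.chRoot r s k := by
    intro r s k hr hs
    rw [ChevalleyDatum.chainRoot, g.chain_eq r hr s hs]; rfl
  have cm : ∀ r s k, r < D.nroots → s < D.nroots → D.chainM r s k = A.chM r s k := by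
    intro r s k hr hs
    rw [ChevalleyDatum.chainM, g.chain_eq r hr s hs]; rfl
  have hlt : ∀ r s k, r < D.nroots → s < D.nroots → 1 ≤ k → ∀ u, A.chRoot r s k = some u →
      u < D.nroots := by
    intro r s k hr hs hk u hu
    rcases ch_cases g hr hs hk with ⟨h, _⟩ | ⟨v, h, hv, _⟩
    · simp [h] at hu
    · rw [h] at hu; cases hu; exact hv
  simp only [ChevalleyDatum.commTerms, Aux.terms, cr r s _ hr hs, cr s r _ hs hr, cm r s _ hr hs,
    cm s r _ hs hr]
  have b1 : ((A.chRoot r s 3).bind fun k => D.chainRoot k s 1) =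
      (A.chRoot r s 3).bind fun k => A.chRoot k s 1 := by
    cases e : A.chRoot r s 3 with
    | none => rfl
    | some k => simp [cr k s 1 (hlt r s 3 hr hs (by simp) k e) hs]
  have b2 : ((A.chRoot s r 3).bind fun k => D.chainRoot k r 1) =
      (A.chRoot s r 3).bind fun k => A.chRoot k r 1 := by
    cases e : A.chRoot s r 3 with
    | none => rfl
    | some k => simp [cr k r 1 (hlt s r 3 hs hr (by simp) k e) hr]
  have b3 : ∀ v, A.chRoot r s 1 = some v → v < D.nroots := hlt r s 1 hr hs le_rfl
  rw [b1, b2]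
  cases e : A.chRoot r s 1 with
  | none => rfl
  | some v => simp [cm v _ _ (b3 v e) hr, cm v _ _ (b3 v e) hs]

/-- Chevalley's commutator formula -/
theorem comm_formula (h : Std D A) {r s : ℕ} (hr : r < D.nroots) (hs : s < D.nroots) (hsr : s ≠ r)
    (hsn : s ≠ D.neg r) (t u : F) :
    D.x F s u * D.x F r t = D.x F r t * D.x F s u * D.wordMat F (D.commWord F r s t u) := by
  rw [h.good.neg_eq r hr] at hsn
  rw [commF_all h hr hs hsr hsn t u]
  simp [tword, ChevalleyDatum.commWord, commTerms_eq h.good hr hs]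

end CfsgLib.Chev
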