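/-
Root elements, the diagonal subgroup and the monomial subgroup as subgroups of GL.
-/
import Cfsg.Agent.Lib.Chev.Comm

set_option autoImplicit false

namespace CfsgLib.Chev

open Cfsg.Lie Matrix

variable {D : ChevalleyDatum} {A : Aux} {F : Type*} [Field F]

/-- `x_r(t)` as an invertible matrix (the identity for `r` out of range) -/
noncomputable def xG (g : Good D A) (r : ℕ) (t : F) : GL D.Idx F :=
  if h : r < D.nroots then
    ⟨D.x F r t, D.x F r (-t), x_mul_neg g h t, by
      have := x_mul_neg g h (-t); rwa [neg_neg] at this⟩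
  else 1

@[simp] lemma xG_val (g : Good D A) (r : ℕ) (t : F) :
    ((xG g r t : GL D.Idx F) : Matrix D.Idx D.Idx F) = D.x F r t := by
  unfold xG
  split_ifs with h
  · rfl
  · rw [x_of_ge h]; rfl

lemma xG_add (g : Good D A) (r : ℕ) (t u : F) : xG g r t * xG g r u = xG g r (t + u) := by
  apply Units.ext
  rw [Units.val_mul, xG_val, xG_val, xG_val]
  by_cases h : r < D.nroots
  · exact x_add g h t u
  · simp [x_of_ge h]

lemma xG_zero (g : Good D A) (r : ℕ) : xG g r (0 : F) = 1 := by
  have := xG_add g r (0 : F) 0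
  rwa [add_zero, mul_eq_left] at this

lemma xG_inv (g : Good D A) (r : ℕ) (t : F) : (xG g r t)⁻¹ = xG g r (-t) := by
  rw [inv_eq_iff_mul_eq_one, xG_add, add_neg_cancel, xG_zero]

lemma eq_xG_iff (g : Good D A) {y : GL D.Idx F} {r : ℕ} {t : F} :
    (y : Matrix D.Idx D.Idx F) = D.x F r t ↔ y = xG g r t := by
  rw [Units.ext_iff, xG_val]

/-- root elements determine the root -/
lemma xG_inj_root (g : Good D A) {r s : ℕ} (hr : r < D.nroots) (hs : s < D.nroots) {t u : F}
    (ht : t ≠ 0) (h : xG g r t = xG g s u) : r = s := by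
  have h1 : D.x F r t = D.x F s u := by rw [← xG_val g, h, xG_val]
  by_contra hne
  have hnn : A.neg r ≠ A.neg s := fun e => hne (by rw [← g.neg_neg r hr, e, g.neg_neg s hs])
  have h2 := congrFun (congrArg (· *ᵥ ev D F (D.rank + A.neg r)) h1) (Sum.inr ⟨r, hr⟩)
  simp only [x_mulVec_neg g hr] at h2
  have hz : ∀ v : ℕ, hsum D F A v (Sum.inr ⟨r, hr⟩) = 0 := by
    intro v
    rw [hsum, Finset.sum_apply]
    refine Finset.sum_eq_zero fun j hj => ?_
    have := Finset.mem_range.1 hj
    simp [ev, idx, show D.rank + r ≠ j by omega]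
  by_cases hs' : A.neg r = s
  · rw [hs', x_mulVec_self g hs] at h2
    have hrs : s ≠ r := fun e => hne e.symm
    simp [ev, idx, hz, hrs.symm] at h2
    exact ht h2
  · have h3 := congrArg (· *ᵥ ev D F (D.rank + A.neg r)) h1
    simp only [x_mulVec_neg g hr, x_mulVec_chain g hs (g.neg_lt r hr) hs' hnn] at h3
    have h4 : ∀ i : Fin D.rank, t * (A.coro r i : F) = 0 := by
      intro i
      have := congrFun h3 (Sum.inl i)
      have hi := i.isLt
      have hsum' : hsum D F A r (Sum.inl i) = (A.coro r i : F) := by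
        rw [hsum, Finset.sum_apply, Finset.sum_eq_single i.val]
        · simp [ev, idx]
        · intro j _ hji; simp [ev, idx, Ne.symm hji]
        · intro h; exact absurd (Finset.mem_range.2 i.isLt) h
      have hlist : ∀ L : List ((ℕ × ℤ) × ℕ), ((L.map fun q =>
          ((q.1.2 : F) * u ^ (q.2 + 1)) • ev D F (D.rank + q.1.1)).sum) (Sum.inl i) = 0 := by
        intro L
        induction L with
        | nil => simp
        | cons q L ih => simp [ih, ev, idx, show i.val ≠ D.rank + q.1.1 by omega]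
      simpa [ev, idx, show i.val ≠ D.rank + A.neg r by omega, show i.val ≠ D.rank + r by omega,
        hsum', hlist] using this
    obtain ⟨i, hi⟩ := exists_coro_ne_zero g hr
    exact hi (by simpa [ht] using h4 i)
where
  exists_coro_ne_zero (g : Good D A) {r : ℕ} (hr : r < D.nroots) :
      ∃ i : Fin D.rank, (A.coro r i : F) ≠ 0 := by
    revert r
    suffices ∀ r, r < D.nroots → ∃ i : Fin D.rank, (A.coro r i : F) ≠ 0 from fun {r} => this r
    refine root_induction g (fun j hj _ => ⟨⟨j, hj⟩, by simp [g.coro_simple j hj j hj]⟩) ?_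
    intro i hi r hr ih
    by_contra hcon
    push Not at hcon
    obtain ⟨j, hj⟩ := ih
    apply hj
    have hr' := g.refl_lt i hi r hr
    have h := g.coro_refl i hi _ hr' j j.isLt
    rw [g.refl_refl i hi r hr] at h
    rw [h, Int.cast_sub, hcon j, zero_sub, neg_eq_zero]
    split_ifs
    · rw [Int.cast_sum]
      refine Finset.sum_eq_zero fun k hk => ?_
      rw [Int.cast_mul, hcon ⟨k, Finset.mem_range.1 hk⟩, zero_mul]
    · simp

lemma group_eq (g : Good D A) :
    D.group F = Subgroup.closure {y | ∃ r t, r < D.nroots ∧ y = xG g r t} := by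
  refine congrArg Subgroup.closure (Set.ext fun y => ?_)
  constructor
  · rintro ⟨r, t, h⟩
    exact ⟨r, t, r.isLt, (eq_xG_iff g).1 (by simpa [ChevalleyDatum.x, r.isLt] using h)⟩
  · rintro ⟨r, t, hr, rfl⟩
    exact ⟨⟨r, hr⟩, t, by simp [ChevalleyDatum.x, hr]⟩

lemma xG_mem_group (g : Good D A) (r : ℕ) (t : F) : xG g r t ∈ D.group F := by
  by_cases h : r < D.nroots
  · rw [group_eq g]; exact Subgroup.subset_closure ⟨r, t, h, rfl⟩
  · simp [xG, h]

lemma posUnipotent_eq (g : Good D A) :
    D.posUnipotent F = Subgroup.closure {y | ∃ r t, D.IsPosRoot r ∧ y = xG g r t} := by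
  simp only [ChevalleyDatum.posUnipotent, eq_xG_iff g]

lemma negUnipotent_eq (g : Good D A) :
    D.negUnipotent F = Subgroup.closure {y | ∃ r t, D.IsNegRoot r ∧ y = xG g r t} := by
  simp only [ChevalleyDatum.negUnipotent, eq_xG_iff g]

lemma mem_rootSubgroup_iff (g : Good D A) {r : ℕ} {y : GL D.Idx F} :
    y ∈ D.rootSubgroup F r ↔ ∃ t, y = xG g r t := by
  refine ⟨fun h => ?_, fun ⟨t, h⟩ => Subgroup.subset_closure ⟨t, by rw [h, xG_val]⟩⟩
  induction h using Subgroup.closure_induction with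
  | mem y hy => obtain ⟨t, ht⟩ := hy; exact ⟨t, (eq_xG_iff g).1 ht⟩
  | one => exact ⟨0, (xG_zero g r).symm⟩
  | mul a b _ _ ha hb =>
    obtain ⟨t, rfl⟩ := ha; obtain ⟨u, rfl⟩ := hb
    exact ⟨t + u, xG_add g r t u⟩
  | inv a _ ha => obtain ⟨t, rfl⟩ := ha; exact ⟨-t, xG_inv g r t⟩

/-- `n_r(c)` -/
noncomputable def nG (g : Good D A) (r : ℕ) (c : F) : GL D.Idx F :=
  xG g r c * xG g (D.neg r) (-c⁻¹) * xG g r c

/-- `h_r(c)` -/
noncomputable def hG (g : Good D A) (r : ℕ) (c : F) : GL D.Idx F := nG g r c * nG g r (-1)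

@[simp] lemma nG_val (g : Good D A) (r : ℕ) (c : F) :
    ((nG g r c : GL D.Idx F) : Matrix D.Idx D.Idx F) = D.nMat F r c := by
  simp [nG, nMat_eq]

@[simp] lemma hG_val (g : Good D A) (r : ℕ) (c : F) :
    ((hG g r c : GL D.Idx F) : Matrix D.Idx D.Idx F) = D.hMat F r c := by
  simp [hG, hMat_eq]

lemma nG_neg (g : Good D A) {r : ℕ} (hr : r < D.nroots) (c : F) :
    nG g r (-c) = (nG g r c)⁻¹ := by
  refine (inv_eq_of_mul_eq_one_right (Units.ext ?_)).symm
  rw [Units.val_mul, nG_val, nG_val, nMat_mul_neg g hr]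
  rfl

lemma nG_mem_group (g : Good D A) (r : ℕ) (c : F) : nG g r c ∈ D.group F :=
  mul_mem (mul_mem (xG_mem_group g _ _) (xG_mem_group g _ _)) (xG_mem_group g _ _)

lemma hG_mem_group (g : Good D A) (r : ℕ) (c : F) : hG g r c ∈ D.group F :=
  mul_mem (nG_mem_group g _ _) (nG_mem_group g _ _)

/-- the torus character at the root `s` -/
noncomputable def chi (D : ChevalleyDatum) (A : Aux) (c : Fin D.rank → Fˣ) (s : ℕ) : Fˣ :=
  ∏ i, c i ^ A.cart i.val s

lemma chi_mul (c d : Fin D.rank → Fˣ) (s : ℕ) :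
    chi D A (c * d) s = chi D A c s * chi D A d s := by
  simp [chi, mul_zpow, Finset.prod_mul_distrib]

lemma chi_one (s : ℕ) : chi D A (1 : Fin D.rank → Fˣ) s = 1 := by simp [chi]

/-- the diagonal torus -/
noncomputable def tor (D : ChevalleyDatum) (A : Aux) : (Fin D.rank → Fˣ) →* GL D.Idx F :=
  MonoidHom.toHomUnits
    { toFun := fun c => dia D (fun s => (chi D A c s : F))
      map_one' := by
        rw [← dia_one]
        exact congrArg _ (funext fun s => by rw [chi_one, Units.val_one])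
      map_mul' := fun c d => by
        rw [dia_mul]
        exact congrArg _ (funext fun s => by rw [chi_mul, Units.val_mul]) }

lemma tor_val (c : Fin D.rank → Fˣ) :
    ((tor D A c : GL D.Idx F) : Matrix D.Idx D.Idx F) = dia D fun s => (chi D A c s : F) :=
  MonoidHom.coe_toHomUnits _ c

lemma hG_eq_tor (g : Good D A) {r : ℕ} (hr : r < D.nroots) (u : Fˣ) :
    hG g r (u : F) = tor D A fun i => u ^ A.coro r i.val := by
  apply Units.ext
  rw [hG_val, hMat_dia g hr u.ne_zero, tor_val]
  refine dia_congr fun s _ => ?_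
  rw [← Units.val_zpow_eq_zpow_val]
  congr 1
  simp only [chi, pr, ← _root_.zpow_mul, Finset.sum_range]
  induction (Finset.univ : Finset (Fin D.rank)) using Finset.induction_on with
  | empty => simp
  | insert a S ha ih => rw [Finset.sum_insert ha, Finset.prod_insert ha, _root_.zpow_add, ih]

lemma hG_simple (g : Good D A) (i : Fin D.rank) (u : Fˣ) :
    hG g (D.simple i) (u : F) = tor D A (Pi.mulSingle i u) := by
  rw [hG_eq_tor g (g.simple_lt i i.isLt)]
  congr 1
  funext j
  rw [g.coro_simple i i.isLt j j.isLt]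
  by_cases h : j = i
  · subst h; simp
  · have h' : j.val ≠ i.val := fun e => h (Fin.ext e)
    simp [h, h']

lemma diagonalSubgroup_eq (g : Good D A) :
    D.diagonalSubgroup F = (tor D A).range := by
  refine le_antisymm ((Subgroup.closure_le _).2 ?_) ?_
  · rintro y ⟨r, t, hr, ht, hy⟩
    refine ⟨_, ((hG_eq_tor g hr (Units.mk0 t ht)).symm.trans (Units.ext ?_))⟩
    rw [hG_val, hy]; rfl
  · rintro y ⟨c, rfl⟩
    suffices ∀ S : Finset (Fin D.rank), tor D A (fun i => if i ∈ S then c i else 1) ∈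
        D.diagonalSubgroup F by simpa using this Finset.univ
    intro S
    induction S using Finset.induction_on with
    | empty =>
      rw [show (fun i : Fin D.rank => if i ∈ (∅ : Finset (Fin D.rank)) then c i else 1) =
        (1 : Fin D.rank → Fˣ) by funext i; simp, map_one]
      exact one_mem _
    | insert a S ha ih =>
      have : (fun i => if i ∈ insert a S then c i else 1) =
          Pi.mulSingle a (c a) * fun i => if i ∈ S then c i else 1 := by
        funext i
        by_cases h : i = a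
        · subst h; simp [ha]
        · simp [h]
      rw [this, map_mul, ← hG_simple g]
      refine mul_mem (Subgroup.subset_closure ⟨D.simple a, (c a : F), g.simple_lt a a.isLt,
        (c a).ne_zero, hG_val g _ _⟩) ih

lemma diagonalSubgroup_le_group (g : Good D A) : D.diagonalSubgroup F ≤ D.group F := by
  refine (Subgroup.closure_le _).2 ?_
  rintro y ⟨r, t, _, _, hy⟩
  rw [show y = hG g r t from Units.ext (by rw [hy, hG_val])]
  exact hG_mem_group g r t

lemma tor_mul_comm (c d : Fin D.rank → Fˣ) :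
    tor D A c * tor D A d = (tor D A d * tor D A c : GL D.Idx F) := by
  rw [← map_mul, ← map_mul, mul_comm]

lemma chi_neg (g : Good D A) (c : Fin D.rank → Fˣ) {s : ℕ} (hs : s < D.nroots) :
    chi D A c (A.neg s) = (chi D A c s)⁻¹ := by
  simp [chi, g.cart_neg _ (Fin.isLt _) s hs, Finset.prod_inv_distrib]

lemma chi_eq_wt (g : Good D A) (c : Fin D.rank → Fˣ) {s : ℕ} (hs : s < D.nroots) :
    chi D A c s = wt D A (fun k => chi D A c (D.simple k)) s := by
  simp only [chi, wt, ← Finset.prod_zpow, ← _root_.zpow_mul]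
  rw [Finset.prod_comm]
  refine Finset.prod_congr rfl fun i _ => ?_
  rw [cart_linear g i.isLt hs]
  induction Finset.range D.rank using Finset.induction_on with
  | empty => simp
  | insert a S ha ih =>
    rw [Finset.sum_insert ha, Finset.prod_insert ha, _root_.zpow_add, ih, mul_comm (A.a s a)]

/-- the torus scales each root subgroup by its character -/
lemma tor_conj_xG (g : Good D A) (c : Fin D.rank → Fˣ) {r : ℕ} (hr : r < D.nroots) (t : F) :
    tor D A c * xG g r t * (tor D A c)⁻¹ = xG g r ((chi D A c r : F) * t) := by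
  rw [mul_inv_eq_iff_eq_mul]
  apply Units.ext
  rw [Units.val_mul, Units.val_mul, tor_val, xG_val, xG_val,
    dia_congr (e := fun s => ((wt D A (fun k => chi D A c (D.simple k)) s : Fˣ) : F))
      (fun s hs => by rw [chi_eq_wt g c hs]), dia_mul_x g _ hr, ← chi_eq_wt g c hr]

/-- the element `n_p(1)` for the `i`-th fundamental root -/
noncomputable def nS (F : Type*) [Field F] (g : Good D A) (i : ℕ) : GL D.Idx F := nG g (D.simple i) 1

lemma nS_conj_xG (g : Good D A) {i r : ℕ} (hi : i < D.rank) (hr : r < D.nroots) (t : F) :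
    nS F g i * xG g r t * (nS F g i)⁻¹ = xG g (A.refl i r) ((A.eta i r : F) * t) := by
  rw [mul_inv_eq_iff_eq_mul]
  apply Units.ext
  simp only [nS, Units.val_mul, nG_val, xG_val]
  exact nM_mul_x g hi hr t

lemma nS_conj_nG (g : Good D A) {i r : ℕ} (hi : i < D.rank) (hr : r < D.nroots) (c : F) :
    nS F g i * nG g r c * (nS F g i)⁻¹ = nG g (A.refl i r) ((A.eta i r : F) * c) := by
  rw [mul_inv_eq_iff_eq_mul]
  apply Units.ext
  simp only [nS, Units.val_mul, nG_val]
  exact nM_mul_nMat g hi hr c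

lemma monomialSubgroup_eq (g : Good D A) :
    D.monomialSubgroup F =
      D.diagonalSubgroup F ⊔ Subgroup.closure {y | ∃ i < D.rank, y = nS F g i} := by
  refine le_antisymm (sup_le le_sup_left ((Subgroup.closure_le _).2 ?_))
    (sup_le le_sup_left ((Subgroup.closure_le _).2 ?_))
  swap
  · rintro y ⟨i, hi, rfl⟩
    exact (le_sup_right : _ ≤ D.monomialSubgroup F)
      (Subgroup.subset_closure ⟨D.simple i, g.simple_lt i hi, nG_val g _ _⟩)
  rintro y ⟨r, hr, hy⟩
  rw [show y = nG g r 1 from Units.ext (by rw [hy, nG_val])]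
  set N' := D.diagonalSubgroup F ⊔ Subgroup.closure {y | ∃ i < D.rank, y = nS F g i}
  suffices ∀ r, r < D.nroots → nG g r (1 : F) ∈ N' from this r hr
  refine root_induction g (fun j hj _ => ?_) ?_
  · exact (le_sup_right : _ ≤ N') (Subgroup.subset_closure ⟨j, hj, rfl⟩)
  intro i hi r hr ih
  have hn : nS F g i ∈ N' := (le_sup_right : _ ≤ N') (Subgroup.subset_closure ⟨i, hi, rfl⟩)
  have h2 := mul_mem (mul_mem hn ih) (inv_mem hn)
  rw [nS_conj_nG g hi hr, mul_one] at h2
  rcases g.eta_sign i hi r hr with h | h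
  · simpa [h] using h2
  · rw [h, Int.cast_neg, Int.cast_one, nG_neg g (g.refl_lt i hi r hr)] at h2
    exact inv_mem_iff.1 h2

lemma monomialSubgroup_le_group (g : Good D A) : D.monomialSubgroup F ≤ D.group F := by
  rw [monomialSubgroup_eq g]
  refine sup_le (diagonalSubgroup_le_group g) ((Subgroup.closure_le _).2 ?_)
  rintro y ⟨i, _, rfl⟩
  exact nG_mem_group g _ _

lemma nS_conj_tor (g : Good D A) {i : ℕ} (hi : i < D.rank) (c : Fin D.rank → Fˣ) :
    nS F g i * tor D A c * (nS F g i)⁻¹ =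
      tor D A (c * Pi.mulSingle ⟨i, hi⟩ (∏ j, c j ^ (-A.cart j.val (D.simple i)))) := by
  rw [mul_inv_eq_iff_eq_mul]
  apply Units.ext
  simp only [nS, Units.val_mul, nG_val, tor_val]
  show nM D F i * _ = _
  rw [nM_mul_dia g hi]
  congr 1
  refine dia_congr fun s hs => ?_
  congr 1
  rw [chi_mul]
  have h2 : chi D A (Pi.mulSingle (⟨i, hi⟩ : Fin D.rank)
      (∏ j, c j ^ (-A.cart j.val (D.simple i)))) s =
      (∏ j, c j ^ (-A.cart j.val (D.simple i))) ^ A.cart i s := by
    rw [chi, Finset.prod_eq_single ⟨i, hi⟩]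
    · simp
    · intro j _ hj; simp [hj]
    · simp
  rw [h2, ← Finset.prod_zpow, chi, chi, ← Finset.prod_mul_distrib]
  refine Finset.prod_congr rfl fun j _ => ?_
  rw [g.cart_refl i hi s hs j j.isLt, ← _root_.zpow_mul, ← _root_.zpow_add]
  congr 1
  ring

lemma nS_sq (g : Good D A) {i : ℕ} (hi : i < D.rank) :
    nS F g i * nS F g i = (hG g (D.simple i) (-1))⁻¹ := by
  rw [hG, nG_neg g (g.simple_lt i hi), _root_.mul_inv_rev, inv_inv]
  rfl

lemma hG_mem_range (g : Good D A) {r : ℕ} (hr : r < D.nroots) {c : F} (hc : c ≠ 0) :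
    hG g r c ∈ (tor D A).range :=
  ⟨_, (hG_eq_tor g hr (Units.mk0 c hc)).symm⟩

lemma nS_sq_mem (g : Good D A) {i : ℕ} (hi : i < D.rank) :
    nS F g i * nS F g i ∈ (tor D A).range := by
  rw [nS_sq g hi]
  exact inv_mem (hG_mem_range g (g.simple_lt i hi) (neg_ne_zero.2 one_ne_zero))

/-- `D.diagonalSubgroup` is normalised by the monomial subgroup -/
lemma monomial_conj_tor (g : Good D A) {n : GL D.Idx F} (hn : n ∈ D.monomialSubgroup F)
    (c : Fin D.rank → Fˣ) : ∃ d, n * tor D A c * n⁻¹ = tor D A d := by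
  suffices (∀ c, ∃ d, n * tor D A c * n⁻¹ = tor D A d) ∧
      (∀ c, ∃ d, n⁻¹ * tor D A c * n = tor D A d) from this.1 c
  clear c
  rw [monomialSubgroup_eq g, ← Subgroup.closure_eq (D.diagonalSubgroup F), ← Subgroup.closure_union] at hn
  induction hn using Subgroup.closure_induction with
  | one => exact ⟨fun c => ⟨c, by simp⟩, fun c => ⟨c, by simp⟩⟩
  | mul a b _ _ ha hb =>
    constructor
    · intro c
      obtain ⟨d, hd⟩ := hb.1 c
      obtain ⟨e, he⟩ := ha.1 d
      exact ⟨e, by rw [← he, ← hd]; group⟩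
    · intro c
      obtain ⟨d, hd⟩ := ha.2 c
      obtain ⟨e, he⟩ := hb.2 d
      exact ⟨e, by rw [← he, ← hd]; group⟩
  | inv a _ ih => exact ⟨fun c => by simpa using ih.2 c, fun c => by simpa using ih.1 c⟩
  | mem y hy =>
    rcases hy with hy | ⟨i, hi, rfl⟩
    · obtain ⟨d, rfl⟩ : y ∈ (tor D A).range := by rw [← diagonalSubgroup_eq g]; exact hy
      exact ⟨fun c => ⟨c, by rw [tor_mul_comm, mul_inv_cancel_right]⟩,
        fun c => ⟨c, by rw [mul_assoc, tor_mul_comm c d, inv_mul_cancel_left]⟩⟩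
    · refine ⟨fun c => ⟨_, nS_conj_tor g hi c⟩, fun c => ?_⟩
      obtain ⟨e, he⟩ := nS_sq_mem (F := F) g hi
      refine ⟨_, Eq.trans ?_ (nS_conj_tor g hi c)⟩
      have h2 : tor D A e * tor D A c * (tor D A e)⁻¹ = tor D A c := by
        rw [tor_mul_comm, mul_inv_cancel_right]
      conv_lhs => rw [← h2, he]
      group

lemma diagonal_normal (g : Good D A) :
    ((D.diagonalSubgroup F).subgroupOf (D.monomialSubgroup F)).Normal := by
  refine ⟨fun h hh n => ?_⟩
  rw [Subgroup.mem_subgroupOf, diagonalSubgroup_eq g] at hh ⊢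
  obtain ⟨c, hc⟩ := hh
  obtain ⟨d, hd⟩ := monomial_conj_tor g n.2 c
  exact ⟨d, by rw [← hd, hc]; rfl⟩

end CfsgLib.Chev
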