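/-
Triangularity of root elements for the weight grading by root codes.
-/
import Cfsg.Agent.Lib.Chev.Group

set_option autoImplicit false

namespace CfsgLib.Chev

open Cfsg.Lie Matrix

variable {D : ChevalleyDatum} {A : Aux} {F : Type*} [Field F]

lemma code_mono (h : Std D A) {r s : ℕ} (hrs : r < s) (hs : s < D.nroots) :
    code D A r < code D A s := by
  have hc := h.codeMono
  simp only [checkCode, List.all_eq_true, List.mem_range, decide_eq_true_eq] at hc
  induction s with
  | zero => omega
  | succ s ih =>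
    have h1 := hc s (by omega)
    rcases Nat.lt_succ_iff_lt_or_eq.1 hrs with h' | h'
    · exact lt_trans (ih h' (by omega)) h1
    · subst h'; exact h1

lemma code_lt_iff (h : Std D A) {r s : ℕ} (hr : r < D.nroots) (hs : s < D.nroots) :
    code D A r < code D A s ↔ r < s := by
  refine ⟨fun hc => ?_, fun hc => code_mono h hc hs⟩
  by_contra hle
  rcases (not_lt.1 hle).lt_or_eq with h' | h'
  · exact lt_irrefl _ (lt_trans hc (code_mono h h' hr))
  · subst h'; exact lt_irrefl _ hc

lemma code_lin {r s u : ℕ} (i k : ℤ)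
    (ha : ∀ j < D.rank, A.a u j = i * A.a r j + k * A.a s j) :
    code D A u = i * code D A r + k * code D A s := by
  simp only [code, ← List.sum_map_mul_left, ← List.sum_map_add]
  refine congrArg List.sum (List.map_congr_left fun j hj => ?_)
  rw [ha j (List.mem_range.1 hj)]
  ring

lemma code_neg (g : Good D A) {r : ℕ} (hr : r < D.nroots) :
    code D A (A.neg r) = - code D A r := by
  rw [code_lin (D := D) (A := A) (r := r) (s := r) (u := A.neg r) (-1) 0
    (fun j _ => by rw [g.a_neg r hr j]; ring)]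
  ring

lemma code_eq_zero_of_a (r : ℕ) (ha : ∀ j < D.rank, A.a r j = 0) : code D A r = 0 := by
  simp only [code]
  refine List.sum_eq_zero fun y hy => ?_
  obtain ⟨j, hj, rfl⟩ := List.mem_map.1 hy
  simp [ha j (List.mem_range.1 hj)]

lemma code_ne_zero (h : Std D A) {r : ℕ} (hr : r < D.nroots) : code D A r ≠ 0 := by
  intro h0
  have hn := h.good.neg_lt r hr
  rcases lt_trichotomy r (A.neg r) with h' | h' | h'
  · have := code_mono h h' hn
    rw [code_neg h.good hr, h0] at this; omega
  · exact h.good.neg_ne r hr h'.symm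
  · have := code_mono h h' hr
    rw [code_neg h.good hr, h0] at this; omega

lemma code_pos (h : Std D A) {r : ℕ} (hr : r < D.nroots) (hp : ∀ j, 0 ≤ A.a r j) :
    0 < code D A r := by
  refine lt_of_le_of_ne ?_ (Ne.symm (code_ne_zero h hr))
  refine List.sum_nonneg fun y hy => ?_
  obtain ⟨j, _, rfl⟩ := List.mem_map.1 hy
  exact mul_nonneg (hp j) (by positivity)

lemma code_neg_of_neg (h : Std D A) {r : ℕ} (hr : r < D.nroots) (hn : ∀ j, A.a r j ≤ 0) :
    code D A r < 0 := by
  have := code_pos h (h.good.neg_lt r hr) (fun j => by rw [h.good.a_neg r hr j]; linarith [hn j])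
  rw [code_neg h.good hr] at this
  linarith

lemma pos_iff_code (h : Std D A) {r : ℕ} (hr : r < D.nroots) :
    D.IsPosRoot r ↔ 0 < code D A r := by
  refine ⟨fun hp => code_pos h hr ((h.good.pos_iff r hr).1 hp), fun hc => ?_⟩
  rcases h.good.pos_or_neg r hr with hp | hn
  · exact (h.good.pos_iff r hr).2 hp
  · linarith [code_neg_of_neg h hr hn]

lemma negRoot_iff_code (h : Std D A) {r : ℕ} (hr : r < D.nroots) :
    D.IsNegRoot r ↔ code D A r < 0 := by
  refine ⟨fun hn => code_neg_of_neg h hr ((h.good.negRoot_iff r hr).1 hn), fun hc => ?_⟩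
  rcases h.good.pos_or_neg r hr with hp | hn
  · linarith [code_pos h hr hp]
  · exact (h.good.negRoot_iff r hr).2 hn

variable (D A) in
/-- the weight of a coordinate -/
noncomputable def wgt : D.Idx → ℤ
  | Sum.inl _ => 0
  | Sum.inr s => code D A s.val

variable (D A) in
/-- the weight of a numbered coordinate -/
noncomputable def wN (k : ℕ) : ℤ := if k < D.rank then 0 else code D A (k - D.rank)

lemma wN_idx (x : D.Idx) : wN D A (idx D x) = wgt D A x := by
  rcases x with i | s
  · simp [wN, idx, wgt, i.isLt]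
  · simp [wN, idx, wgt]

lemma col_weight (g : Good D A) {r c : ℕ} (hr : r < D.nroots) {q : ℕ × ℤ × ℕ}
    (hq : q ∈ A.col D.rank D.nroots r c) :
    wN D A q.1 = wN D A c + (q.2.2 : ℤ) * code D A r ∧ 1 ≤ q.2.2 := by
  rcases lt_or_ge c D.rank with hc | hc
  · rw [col_h hc, List.mem_singleton] at hq
    subst hq
    simp [wN, hc]
  obtain ⟨s, rfl⟩ : ∃ s, c = D.rank + s := ⟨c - D.rank, by omega⟩
  by_cases hs : s < D.nroots
  swap
  · simp [Aux.col, hs, show ¬ D.rank + s < D.rank by omega] at hq
  rcases eq_or_ne s r with rfl | h3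
  · simp [col_self hs] at hq
  rcases eq_or_ne s (A.neg r) with rfl | h4
  · rw [col_neg hs h3] at hq
    simp only [List.mem_append, List.mem_map, List.mem_range, List.mem_singleton] at hq
    rcases hq with ⟨j, hj, rfl⟩ | rfl
    · simp [wN, hj, code_neg g hr]
    · simp [wN, code_neg g hr]; ring
  · rw [col_chain hs h3 h4] at hq
    obtain ⟨p, hp, rfl⟩ := List.mem_map.1 hq
    have hm := g.chain_mem r hr s hs p.2 p.1.1 p.1.2 (List.mem_zipIdx_iff_getElem?.1 hp)
    refine ⟨?_, by simp⟩
    simp only [wN, show ¬ D.rank + p.1.1 < D.rank by omega, show ¬ D.rank + s < D.rank by omega,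
      if_false, Nat.add_sub_cancel_left]
    rw [code_lin (D := D) (A := A) (r := r) (s := s) (u := p.1.1) ((p.2 : ℤ) + 1) 1
      (fun j hj => by rw [hm.2.2.2 j hj]; ring)]
    push_cast
    ring

/-- `M` is unitriangular with steps larger than `b` for the weight `w` -/
def Tri (w : D.Idx → ℤ) (b : ℤ) (M : Matrix D.Idx D.Idx F) : Prop :=
  ∀ x y, w x ≤ w y + b → M x y = if x = y then 1 else 0

lemma tri_one (w : D.Idx → ℤ) (b : ℤ) : Tri w b (1 : Matrix D.Idx D.Idx F) :=
  fun _ _ _ => Matrix.one_apply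

lemma tri_mul {w : D.Idx → ℤ} {b : ℤ} (hb : 0 ≤ b) {M N : Matrix D.Idx D.Idx F}
    (hM : Tri w b M) (hN : Tri w b N) : Tri w b (M * N) := by
  intro x y hxy
  rw [Matrix.mul_apply, Finset.sum_eq_single x]
  · rw [hM x x (by omega), if_pos rfl, one_mul, hN x y hxy]
  · intro z _ hzx
    by_cases hz : w x ≤ w z + b
    · rw [hM x z hz, if_neg (Ne.symm hzx), zero_mul]
    · rw [hN z y (by omega), if_neg (fun e => by subst e; omega), mul_zero]
  · simp

/-- unitriangular invertible matrices -/
def triG (w : D.Idx → ℤ) (b : ℤ) (hb : 0 ≤ b) : Subgroup (GL D.Idx F) where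
  carrier := {y | Tri w b (y : Matrix D.Idx D.Idx F) ∧
    Tri w b ((y⁻¹ : GL D.Idx F) : Matrix D.Idx D.Idx F)}
  one_mem' := by simp [tri_one]
  mul_mem' := fun {a c} ha hc => ⟨by
    rw [Units.val_mul]; exact tri_mul hb ha.1 hc.1, by
    rw [_root_.mul_inv_rev, Units.val_mul]; exact tri_mul hb hc.2 ha.2⟩
  inv_mem' := fun {a} ha => ⟨ha.2, by rw [inv_inv]; exact ha.1⟩

lemma x_tri (g : Good D A) {r : ℕ} (hr : r < D.nroots) (t : F) {b : ℤ} {σ : ℤ}
    (hσ : σ = 1 ∨ σ = -1) (hb : 0 ≤ b) (hcb : b < σ * code D A r) :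
    Tri (fun x => σ * wgt D A x) b (D.x F r t) := by
  intro x y hxy
  have h := congrFun (x_mulVec (F := F) g hr t (idx D y)) x
  rw [mulVec_ev] at h
  refine h.trans ?_
  rw [Pi.add_apply, tval_apply, List.sum_eq_zero, add_zero]
  · by_cases e : x = y
    · subst e; simp [ev]
    · have e2 : idx D x ≠ idx D y := fun e' => e (idx_inj e')
      simp [ev, e, e2]
  · intro v hv
    obtain ⟨q, hq, rfl⟩ := List.mem_map.1 hv
    rw [if_neg]
    intro e
    obtain ⟨h1, h2⟩ := col_weight g hr hq
    rw [← e, wN_idx, wN_idx] at h1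
    have h3 : (1 : ℤ) ≤ (q.2.2 : ℤ) := by exact_mod_cast h2
    have h4 : σ * wgt D A x = σ * wgt D A y + (q.2.2 : ℤ) * (σ * code D A r) := by rw [h1]; ring
    dsimp only at hxy
    nlinarith

lemma xG_mem_triG (g : Good D A) {r : ℕ} (hr : r < D.nroots) (t : F) {b : ℤ} {σ : ℤ}
    (hσ : σ = 1 ∨ σ = -1) (hb : 0 ≤ b) (hcb : b < σ * code D A r) :
    xG g r t ∈ triG (fun x => σ * wgt D A x) b hb := by
  refine ⟨?_, ?_⟩
  · rw [xG_val]; exact x_tri g hr t hσ hb hcb
  · rw [xG_inv, xG_val]; exact x_tri g hr (-t) hσ hb hcb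

/-- the parameter of a root element is read off at coroot row, negative column -/
lemma x_entry (g : Good D A) {r : ℕ} (hr : r < D.nroots) (t : F) (i : Fin D.rank) :
    D.x F r t (Sum.inl i) (Sum.inr ⟨A.neg r, g.neg_lt r hr⟩) = t * (A.coro r i : F) := by
  have h := congrFun (x_mulVec_neg (F := F) g hr t) (Sum.inl i)
  rw [show D.rank + A.neg r = idx D (Sum.inr ⟨A.neg r, g.neg_lt r hr⟩) from rfl, mulVec_ev] at h
  refine h.trans ?_
  have hi := i.isLt
  have hsum' : hsum D F A r (Sum.inl i) = (A.coro r i : F) := by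
    rw [hsum, Finset.sum_apply, Finset.sum_eq_single i.val]
    · simp [ev, idx]
    · intro j _ hji; simp [ev, idx, Ne.symm hji]
    · intro h; exact absurd (Finset.mem_range.2 i.isLt) h
  simp [ev, idx, hsum', show i.val ≠ D.rank + A.neg r by omega, show i.val ≠ D.rank + r by omega]

lemma eq_zero_of_mem_triG (g : Good D A) {r : ℕ} (hr : r < D.nroots) (t : F) {σ : ℤ}
    (hb : 0 ≤ σ * code D A r)
    (hm : xG g r t ∈ triG (fun x => σ * wgt D A x) (σ * code D A r) hb) : t = 0 := by
  obtain ⟨i, hi⟩ := xG_inj_root.exists_coro_ne_zero (F := F) g hr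
  have := hm.1 (Sum.inl i) (Sum.inr ⟨A.neg r, g.neg_lt r hr⟩) (by simp [wgt, code_neg g hr])
  rw [xG_val, x_entry g hr, if_neg (by simp)] at this
  simpa [hi] using this

/-- strictly triangular matrices are nilpotent -/
lemma pow_eq_zero_of_lt {w : D.Idx → ℤ} {N : Matrix D.Idx D.Idx F}
    (hN : ∀ x y, w x ≤ w y → N x y = 0) {k : ℕ} (hk : Fintype.card D.Idx ≤ k) : N ^ k = 0 := by
  classical
  have key : ∀ (m : ℕ) (x y : D.Idx), (N ^ m) x y ≠ 0 →
      m ≤ (Finset.univ.filter fun z => w z < w x).card := by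
    intro m
    induction m with
    | zero => intros; omega
    | succ m ih =>
      intro x y hne
      rw [pow_succ', Matrix.mul_apply] at hne
      obtain ⟨z, _, hz⟩ := Finset.exists_ne_zero_of_sum_ne_zero hne
      obtain ⟨h1, h2⟩ := mul_ne_zero_iff.1 hz
      have hlt : w z < w x := by
        by_contra hh
        exact h1 (hN x z (not_lt.1 hh))
      have := ih z y h2
      have hss : (Finset.univ.filter fun v => w v < w z) ⊂ Finset.univ.filter fun v => w v < w x := by
        refine (Finset.ssubset_iff_of_subset ?_).2 ⟨z, by simp [hlt], by simp⟩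
        intro v hv
        simp only [Finset.mem_filter, Finset.mem_univ, true_and] at hv ⊢
        omega
      have := Finset.card_lt_card hss
      omega
  ext x y
  by_contra hne
  have h1 := key k x y hne
  have h2 : (Finset.univ.filter fun z => w z < w x).card < Fintype.card D.Idx :=
    Finset.card_lt_card ((Finset.filter_ssubset).2 ⟨x, Finset.mem_univ x, by simp⟩)
  omega

/-- block upper triangular invertible matrices -/
def utG (w : D.Idx → ℤ) : Subgroup (GL D.Idx F) where
  carrier := {y | (∀ u v, w u < w v → (y : Matrix D.Idx D.Idx F) u v = 0) ∧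
    (∀ u v, w u < w v → ((y⁻¹ : GL D.Idx F) : Matrix D.Idx D.Idx F) u v = 0)}
  one_mem' := by
    refine ⟨?_, ?_⟩ <;>
      exact fun u v h => by
        simp only [inv_one, Units.val_one]
        exact Matrix.one_apply_ne fun e => by subst e; exact lt_irrefl _ h
  mul_mem' := fun {a c} ha hc => by
    refine ⟨fun u v h => ?_, fun u v h => ?_⟩
    · rw [Units.val_mul, Matrix.mul_apply]
      refine Finset.sum_eq_zero fun z _ => ?_
      by_cases hz : w u < w z
      · rw [ha.1 u z hz, zero_mul]
      · rw [hc.1 z v (by omega), mul_zero]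
    · rw [_root_.mul_inv_rev, Units.val_mul, Matrix.mul_apply]
      refine Finset.sum_eq_zero fun z _ => ?_
      by_cases hz : w u < w z
      · rw [hc.2 u z hz, zero_mul]
      · rw [ha.2 z v (by omega), mul_zero]
  inv_mem' := fun {a} ha => ⟨ha.2, by rw [inv_inv]; exact ha.1⟩

lemma triG_le_utG (w : D.Idx → ℤ) : (triG w 0 le_rfl : Subgroup (GL D.Idx F)) ≤ utG w := by
  intro y hy
  refine ⟨fun u v h => ?_, fun u v h => ?_⟩
  · rw [hy.1 u v (by omega), if_neg fun e => by subst e; omega]
  · rw [hy.2 u v (by omega), if_neg fun e => by subst e; omega]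

lemma tor_mem_utG (w : D.Idx → ℤ) (c : Fin D.rank → Fˣ) : tor D A c ∈ utG w := by
  refine ⟨fun u v h => ?_, fun u v h => ?_⟩
  · rw [tor_val, dia, Matrix.diagonal_apply_ne _ fun e => by subst e; omega]
  · rw [← map_inv, tor_val, dia, Matrix.diagonal_apply_ne _ fun e => by subst e; omega]

/-- a triangular and oppositely unitriangular matrix is trivial -/
lemma utG_inf_triG (w : D.Idx → ℤ) {y : GL D.Idx F} (h1 : y ∈ utG w)
    (h2 : y ∈ triG (fun x => -w x) 0 le_rfl) : y = 1 := by
  apply Units.ext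
  ext u v
  rw [Units.val_one, Matrix.one_apply]
  by_cases h : w u < w v
  · rw [h1.1 u v h, if_neg fun e => by subst e; omega]
  · exact h2.1 u v (by simp; omega)

end CfsgLib.Chev
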