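/-
The unipotent subgroups `U`, `V`: ordered product decomposition, uniqueness, nilpotency;
the subgroup `B = UH`.
-/
import Cfsg.Agent.Lib.Chev.Tri

set_option autoImplicit false

namespace CfsgLib.Chev

open Cfsg.Lie Matrix

variable {D : ChevalleyDatum} {A : Aux} {F : Type*} [Field F]

variable (F) in
/-- the subgroup generated by the root subgroups of the listed roots -/
noncomputable def UL (g : Good D A) (L : List ℕ) : Subgroup (GL D.Idx F) :=
  Subgroup.closure {y | ∃ r t, r ∈ L ∧ y = xG g r t}

/-- the ordered product of root elements -/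
noncomputable def pw (g : Good D A) (L : List ℕ) (T : ℕ → F) : GL D.Idx F :=
  (L.map fun r => xG g r (T r)).prod

lemma pw_val (g : Good D A) (L : List ℕ) (T : ℕ → F) :
    ((pw g L T : GL D.Idx F) : Matrix D.Idx D.Idx F) = D.wordMat F (L.map fun r => (r, T r)) := by
  induction L with
  | nil => simp [pw, wordMat_nil]
  | cons r L ih =>
    simp only [pw, List.map_cons, List.prod_cons, Units.val_mul] at ih ⊢
    rw [wordMat_cons, ih, xG_val]

/-- increasing lists of positive roots, closed upwards -/
structure UpList (D : ChevalleyDatum) (L : List ℕ) : Prop where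
  sorted : L.Pairwise (· < ·)
  pos : ∀ r ∈ L, D.IsPosRoot r
  up : ∀ r ∈ L, ∀ q, D.IsPosRoot q → r < q → q ∈ L

lemma posRoots_mem {r : ℕ} : r ∈ D.posRoots ↔ D.IsPosRoot r := by
  simp only [ChevalleyDatum.posRoots, List.mem_filter, List.mem_range, decide_eq_true_eq]
  exact ⟨fun h => h.2, fun h => ⟨h.1, h⟩⟩

lemma upList_posRoots : UpList D D.posRoots :=
  ⟨List.Pairwise.filter _ List.pairwise_lt_range, fun _ h => posRoots_mem.1 h,
    fun _ _ _ hq _ => posRoots_mem.2 hq⟩

lemma UpList.tail {x : ℕ} {L : List ℕ} (h : UpList D (x :: L)) : UpList D L := by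
  refine ⟨(List.pairwise_cons.1 h.sorted).2, fun r hr => h.pos r (List.mem_cons_of_mem _ hr),
    fun r hr q hq hrq => ?_⟩
  have hxr := (List.pairwise_cons.1 h.sorted).1 r hr
  rcases List.mem_cons.1 (h.up r (List.mem_cons_of_mem _ hr) q hq hrq) with e | e
  · omega
  · exact e

lemma UpList.drop {L : List ℕ} (h : UpList D L) : ∀ k : ℕ, UpList D (L.drop k) := by
  intro k
  induction k generalizing L with
  | zero => simpa using h
  | succ k ih =>
    cases L with
    | nil => simpa using h
    | cons x L => simpa using ih h.tail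

/-- the commutator of two positive root elements lies in higher terms -/
lemma comm_mem (h : Std D A) {L : List ℕ} (hL : UpList D L) {r s : ℕ} (hr : D.IsPosRoot r)
    (hs : D.IsPosRoot s) (hmem : ∀ q, D.IsPosRoot q → s < q → q ∈ L) (t u : F) :
    xG h.good r t * xG h.good s u * (xG h.good r t)⁻¹ * (xG h.good s u)⁻¹ ∈ UL F h.good L := by
  have g := h.good
  rcases eq_or_ne s r with rfl | hsr
  · rw [xG_inv, xG_inv, xG_add, xG_add, xG_add,
      show t + u + -t + -u = 0 by ring, xG_zero]
    exact one_mem _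
  have hcr := code_pos h hr.1 ((g.pos_iff r hr.1).1 hr)
  have hcs := code_pos h hs.1 ((g.pos_iff s hs.1).1 hs)
  have hsn : s ≠ A.neg r := fun e => by
    rw [e, code_neg g hr.1] at hcs; omega
  set W : GL D.Idx F := ((tword A r s (-t) u).map fun p => xG g p.1 p.2).prod with hW
  have hWval : (W : Matrix D.Idx D.Idx F) = D.wordMat F (tword A r s (-t) u) := by
    rw [hW]
    induction tword A r s (-t) u with
    | nil => simp [wordMat_nil]
    | cons p w ih => rw [List.map_cons, List.prod_cons, Units.val_mul, wordMat_cons, ih, xG_val]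
  have hWmem : W ∈ UL F g L := by
    refine list_prod_mem fun y hy => ?_
    obtain ⟨p, hp, rfl⟩ := List.mem_map.1 hy
    obtain ⟨q, hq, rfl⟩ := List.mem_map.1 hp
    obtain ⟨h1, h2, h3, h4⟩ := terms_mem g hr.1 hs.1 hq
    have hc := code_lin (D := D) (A := A) (r := r) (s := s) (u := q.1) _ _ h4
    have h2' : (1 : ℤ) ≤ (q.2.2.1 : ℤ) := by exact_mod_cast h2
    have h3' : (1 : ℤ) ≤ (q.2.2.2 : ℤ) := by exact_mod_cast h3
    have hlt : code D A s < code D A q.1 := by rw [hc]; nlinarith
    exact Subgroup.subset_closure ⟨q.1, _, hmem q.1 ((pos_iff_code h h1).2 (by omega))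
      ((code_lt_iff h hs.1 h1).1 hlt), rfl⟩
  have e : xG g s u * xG g r (-t) = xG g r (-t) * xG g s u * W := by
    apply Units.ext
    simp only [Units.val_mul, xG_val, hWval]
    exact commF_all h hr.1 hs.1 hsr hsn (-t) u
  have e2 : xG g r t * xG g s u * (xG g r t)⁻¹ * (xG g s u)⁻¹ =
      xG g s u * W * (xG g s u)⁻¹ := by
    rw [xG_inv g r t, mul_assoc (xG g r t), e, ← mul_assoc (xG g r t), ← mul_assoc (xG g r t),
      xG_add, add_neg_cancel, xG_zero, one_mul]
  rw [e2]
  -- conjugation by `x_s(u)` preserves `UL L`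
  have hnorm : ∀ y ∈ UL F g L, ∀ v, xG g s v * y * (xG g s v)⁻¹ ∈ UL F g L := by
    intro y hy v
    by_cases hsL : s ∈ L
    · have hxs : xG g s v ∈ UL F g L := Subgroup.subset_closure ⟨s, v, hsL, rfl⟩
      exact mul_mem (mul_mem hxs hy) (inv_mem hxs)
    · induction hy using Subgroup.closure_induction with
      | one => simp [one_mem]
      | mul a b _ _ ha hb =>
        have e : xG g s v * (a * b) * (xG g s v)⁻¹ =
          (xG g s v * a * (xG g s v)⁻¹) * (xG g s v * b * (xG g s v)⁻¹) := by group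
        rw [e]; exact mul_mem ha hb
      | inv a _ ha =>
        have e : xG g s v * a⁻¹ * (xG g s v)⁻¹ = (xG g s v * a * (xG g s v)⁻¹)⁻¹ := by group
        rw [e]; exact inv_mem ha
      | mem a ha =>
        obtain ⟨q, w, hq, rfl⟩ := ha
        have hqp := hL.pos q hq
        have hlt : s < q := by
          by_contra hh
          rcases (not_lt.1 hh).lt_or_eq with h' | h'
          · exact hsL (hL.up q hq s hs h')
          · exact hsL (h' ▸ hq)
        exact aux h hL hs hqp (fun p hp hqpp => hL.up q hq p hp hqpp) hq v w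
  exact hnorm W hWmem u
where
  aux (h : Std D A) {L : List ℕ} (hL : UpList D L) {r s : ℕ} (hr : D.IsPosRoot r)
      (hs : D.IsPosRoot s) (hmem : ∀ q, D.IsPosRoot q → s < q → q ∈ L) (hsL : s ∈ L) (t u : F) :
      xG h.good r t * xG h.good s u * (xG h.good r t)⁻¹ ∈ UL F h.good L := by
    have g := h.good
    have hxs : ∀ v : F, xG g s v ∈ UL F g L := fun v => Subgroup.subset_closure ⟨s, v, hsL, rfl⟩
    rcases eq_or_ne s r with rfl | hsr
    · exact mul_mem (mul_mem (hxs t) (hxs u)) (inv_mem (hxs t))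
    have hcr := code_pos h hr.1 ((g.pos_iff r hr.1).1 hr)
    have hcs := code_pos h hs.1 ((g.pos_iff s hs.1).1 hs)
    have hsn : s ≠ A.neg r := fun e => by
      rw [e, code_neg g hr.1] at hcs; omega
    set W : GL D.Idx F := ((tword A r s (-t) u).map fun p => xG g p.1 p.2).prod with hW
    have hWval : (W : Matrix D.Idx D.Idx F) = D.wordMat F (tword A r s (-t) u) := by
      rw [hW]
      induction tword A r s (-t) u with
      | nil => simp [wordMat_nil]
      | cons p w ih => rw [List.map_cons, List.prod_cons, Units.val_mul, wordMat_cons, ih, xG_val]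
    have hWmem : W ∈ UL F g L := by
      refine list_prod_mem fun y hy => ?_
      obtain ⟨p, hp, rfl⟩ := List.mem_map.1 hy
      obtain ⟨q, hq, rfl⟩ := List.mem_map.1 hp
      obtain ⟨h1, h2, h3, h4⟩ := terms_mem g hr.1 hs.1 hq
      have hc := code_lin (D := D) (A := A) (r := r) (s := s) (u := q.1) _ _ h4
      have h2' : (1 : ℤ) ≤ (q.2.2.1 : ℤ) := by exact_mod_cast h2
      have h3' : (1 : ℤ) ≤ (q.2.2.2 : ℤ) := by exact_mod_cast h3
      have hlt : code D A s < code D A q.1 := by rw [hc]; nlinarith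
      exact Subgroup.subset_closure ⟨q.1, _, hmem q.1 ((pos_iff_code h h1).2 (by omega))
        ((code_lt_iff h hs.1 h1).1 hlt), rfl⟩
    have e : xG g s u * xG g r (-t) = xG g r (-t) * xG g s u * W := by
      apply Units.ext
      simp only [Units.val_mul, xG_val, hWval]
      exact commF_all h hr.1 hs.1 hsr hsn (-t) u
    rw [xG_inv g r t, mul_assoc (xG g r t), e, ← mul_assoc (xG g r t), ← mul_assoc (xG g r t),
      xG_add, add_neg_cancel, xG_zero, one_mul]
    exact mul_mem (hxs u) hWmem

lemma UL_nil (g : Good D A) : UL F g [] = ⊥ := by simp [UL]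

lemma xG_mem_UL (g : Good D A) {L : List ℕ} {r : ℕ} (hr : r ∈ L) (t : F) : xG g r t ∈ UL F g L :=
  Subgroup.subset_closure ⟨r, t, hr, rfl⟩

lemma UL_mono (g : Good D A) {L L' : List ℕ} (hsub : ∀ r ∈ L, r ∈ L') : UL F g L ≤ UL F g L' :=
  Subgroup.closure_mono fun _ ⟨r, t, hr, e⟩ => ⟨r, t, hsub r hr, e⟩

lemma UL_posRoots (g : Good D A) : UL F g D.posRoots = D.posUnipotent F := by
  rw [posUnipotent_eq g]; simp only [UL, posRoots_mem]

/-- the filtration subgroups are normalised by positive root elements -/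
lemma UL_conj (h : Std D A) {L : List ℕ} (hL : UpList D L) {r : ℕ} (hr : D.IsPosRoot r) (t : F)
    {y : GL D.Idx F} (hy : y ∈ UL F h.good L) :
    xG h.good r t * y * (xG h.good r t)⁻¹ ∈ UL F h.good L := by
  induction hy using Subgroup.closure_induction with
  | one => simp [one_mem]
  | mul a b _ _ ha hb =>
    have e : xG h.good r t * (a * b) * (xG h.good r t)⁻¹ = (xG h.good r t * a * (xG h.good r t)⁻¹) *
      (xG h.good r t * b * (xG h.good r t)⁻¹) := by group
    rw [e]; exact mul_mem ha hb
  | inv a _ ha =>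
    have e : xG h.good r t * a⁻¹ * (xG h.good r t)⁻¹ =
      (xG h.good r t * a * (xG h.good r t)⁻¹)⁻¹ := by group
    rw [e]; exact inv_mem ha
  | mem a ha =>
    obtain ⟨q, w, hq, rfl⟩ := ha
    have := mul_mem (comm_mem h hL hr (hL.pos q hq) (fun p hp hqp => hL.up q hq p hp hqp) t w)
      (xG_mem_UL h.good hq w)
    rwa [inv_mul_cancel_right] at this

/-- existence in the ordered product decomposition -/
theorem exists_pw (h : Std D A) : ∀ {L : List ℕ}, UpList D L → ∀ {y : GL D.Idx F},
    y ∈ UL F h.good L → ∃ T, y = pw h.good L T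
  | [], _, y, hy => ⟨0, by rw [UL_nil, Subgroup.mem_bot] at hy; simpa [pw] using hy⟩
  | x :: L, hL, y, hy => by
    have g := h.good
    obtain ⟨t, v, hv, rfl⟩ : ∃ t, ∃ v ∈ UL F g L, y = xG g x t * v := by
      induction hy using Subgroup.closure_induction with
      | one => exact ⟨0, 1, one_mem _, by simp [xG_zero]⟩
      | mul a b _ _ ha hb =>
        obtain ⟨t, v, hv, rfl⟩ := ha
        obtain ⟨u, w, hw, rfl⟩ := hb
        refine ⟨t + u, (xG g x (-u) * v * (xG g x (-u))⁻¹) * w,
          mul_mem (UL_conj h hL.tail (hL.pos x (by simp)) (-u) hv) hw, ?_⟩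
        rw [← xG_add, ← xG_inv g x u, inv_inv]; group
      | inv a _ ha =>
        obtain ⟨t, v, hv, rfl⟩ := ha
        refine ⟨-t, xG g x t * v⁻¹ * (xG g x t)⁻¹,
          UL_conj h hL.tail (hL.pos x (by simp)) t (inv_mem hv), ?_⟩
        rw [← xG_inv]; group
      | mem a ha =>
        obtain ⟨q, w, hq, rfl⟩ := ha
        rcases List.mem_cons.1 hq with rfl | hq
        · exact ⟨w, 1, one_mem _, by simp⟩
        · exact ⟨0, _, xG_mem_UL g hq w, by simp [xG_zero]⟩
    obtain ⟨T, rfl⟩ := exists_pw h hL.tail hv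
    refine ⟨Function.update T x t, ?_⟩
    simp only [pw, List.map_cons, List.prod_cons, Function.update_self]
    congr 2
    refine List.map_congr_left fun r hr => ?_
    rw [Function.update_of_ne]
    have := (List.pairwise_cons.1 hL.sorted).1 r hr
    omega

lemma pw_mem_UL (g : Good D A) (L : List ℕ) (T : ℕ → F) : pw g L T ∈ UL F g L := by
  refine list_prod_mem fun y hy => ?_
  obtain ⟨r, hr, rfl⟩ := List.mem_map.1 hy
  exact xG_mem_UL g hr _

lemma UL_le_triG (h : Std D A) {L : List ℕ} {b : ℤ} (hb : 0 ≤ b) (hn : ∀ r ∈ L, r < D.nroots)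
    (hlt : ∀ r ∈ L, b < code D A r) :
    UL F h.good L ≤ triG (fun x => 1 * wgt D A x) b hb := by
  refine (Subgroup.closure_le _).2 ?_
  rintro y ⟨r, t, hr, rfl⟩
  exact xG_mem_triG h.good (hn r hr) t (Or.inl rfl) hb (by rw [one_mul]; exact hlt r hr)

/-- uniqueness in the ordered product decomposition -/
theorem pw_inj (h : Std D A) : ∀ {L : List ℕ}, UpList D L → ∀ {T T' : ℕ → F},
    pw h.good L T = pw h.good L T' → ∀ r ∈ L, T r = T' r
  | [], _, _, _, _, r, hr => by simp at hr
  | x :: L, hL, T, T', e, r, hr => by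
    have g := h.good
    have hxp := hL.pos x (by simp)
    have hcx : 0 ≤ 1 * code D A x := by
      rw [one_mul]; exact (code_pos h hxp.1 ((g.pos_iff x hxp.1).1 hxp)).le
    simp only [pw, List.map_cons, List.prod_cons] at e
    have hx : T x = T' x := by
      have e2 : xG g x (-T' x + T x) = pw g L T' * (pw g L T)⁻¹ := by
        rw [← xG_add, ← xG_inv, pw, pw, inv_mul_eq_iff_eq_mul, eq_comm, ← mul_assoc,
          mul_inv_eq_iff_eq_mul, ← e]
      have hm : xG g x (-T' x + T x) ∈ triG (fun z => 1 * wgt D A z) (1 * code D A x) hcx := by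
        rw [e2]
        refine UL_le_triG h hcx (fun r hr => (hL.tail.pos r hr).1) (fun r hr => ?_)
          (mul_mem (pw_mem_UL g L T') (inv_mem (pw_mem_UL g L T)))
        rw [one_mul]
        exact code_mono h ((List.pairwise_cons.1 hL.sorted).1 r hr) (hL.tail.pos r hr).1
      have := eq_zero_of_mem_triG g hxp.1 _ hcx hm
      linear_combination this
    rcases List.mem_cons.1 hr with rfl | hr
    · exact hx
    · rw [hx, mul_right_inj] at e
      exact pw_inj h hL.tail e r hr

/-- `U` is unitriangular -/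
lemma posUnipotent_le_triG (h : Std D A) :
    D.posUnipotent F ≤ triG (fun x => 1 * wgt D A x) 0 le_rfl := by
  rw [← UL_posRoots h.good]
  exact UL_le_triG h le_rfl (fun r hr => (posRoots_mem.1 hr).1) fun r hr =>
    (pos_iff_code h (posRoots_mem.1 hr).1).1 (posRoots_mem.1 hr)

/-- `V` is unitriangular the other way -/
lemma negUnipotent_le_triG (h : Std D A) :
    D.negUnipotent F ≤ triG (fun x => -1 * wgt D A x) 0 le_rfl := by
  rw [negUnipotent_eq h.good]
  refine (Subgroup.closure_le _).2 ?_
  rintro y ⟨r, t, hr, rfl⟩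
  exact xG_mem_triG h.good hr.1 t (Or.inr rfl) le_rfl
    (by linarith [(negRoot_iff_code h hr.1).1 hr])

lemma posUnipotent_le_group (g : Good D A) : D.posUnipotent F ≤ D.group F := by
  rw [posUnipotent_eq g]
  refine (Subgroup.closure_le _).2 ?_
  rintro y ⟨r, t, _, rfl⟩
  exact xG_mem_group g r t

/-- the nilpotent series -/
theorem posUnipotent_nilpotent (h : Std D A) : Group.IsNilpotent (D.posUnipotent F) := by
  rw [Subgroup.nilpotent_iff_finite_descending_central_series]
  have g := h.good
  have hU := UL_posRoots (F := F) g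
  refine ⟨D.posRoots.length, fun k => (UL F g (D.posRoots.drop k)).subgroupOf (D.posUnipotent F),
    ⟨?_, ?_⟩, ?_⟩
  · simp only []; rw [List.drop_zero, hU, Subgroup.subgroupOf_self]
  · intro x k hx y
    rw [Subgroup.mem_subgroupOf] at hx ⊢
    set K := UL F g (D.posRoots.drop (k + 1))
    have hL := (upList_posRoots (D := D)).drop k
    have hK := (upList_posRoots (D := D)).drop (k + 1)
    have hnorm : ∀ z ∈ D.posUnipotent F, ∀ w ∈ K, z * w * z⁻¹ ∈ K := by
      intro z hz
      rw [posUnipotent_eq g] at hz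
      induction hz using Subgroup.closure_induction_left with
      | one => intro w hw; simpa using hw
      | mul_left a ha b _ ih =>
        intro w hw
        obtain ⟨r, t, hr, rfl⟩ := ha
        have e : xG g r t * b * w * (xG g r t * b)⁻¹ = xG g r t * (b * w * b⁻¹) * (xG g r t)⁻¹ := by
          group
        rw [e]; exact UL_conj h hK hr t (ih w hw)
      | inv_mul_cancel a ha b _ ih =>
        intro w hw
        obtain ⟨r, t, hr, rfl⟩ := ha
        rw [xG_inv]
        have e : xG g r (-t) * b * w * (xG g r (-t) * b)⁻¹ =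
            xG g r (-t) * (b * w * b⁻¹) * (xG g r (-t))⁻¹ := by group
        rw [e]; exact UL_conj h hK hr (-t) (ih w hw)
    have hLU : UL F g (D.posRoots.drop k) ≤ D.posUnipotent F := by
      rw [← hU]; exact UL_mono g fun r hr => List.mem_of_mem_drop hr
    suffices ∀ a ∈ UL F g (D.posRoots.drop k), ∀ z ∈ D.posUnipotent F,
        a * z * a⁻¹ * z⁻¹ ∈ K by
      have := this _ hx _ y.2
      simpa [commutatorElement_def] using this
    intro a ha
    induction ha using Subgroup.closure_induction with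
    | one => intro z _; simp [one_mem]
    | mul a b ha' hb' iha ihb =>
      intro z hz
      have e : a * b * z * (a * b)⁻¹ * z⁻¹ = (a * (b * z * b⁻¹ * z⁻¹) * a⁻¹) * (a * z * a⁻¹ * z⁻¹) := by
        group
      rw [e]; exact mul_mem (hnorm a (hLU ha') _ (ihb z hz)) (iha z hz)
    | inv a ha' iha =>
      intro z hz
      have e : a⁻¹ * z * a⁻¹⁻¹ * z⁻¹ = a⁻¹ * (a * z * a⁻¹ * z⁻¹)⁻¹ * a⁻¹⁻¹ := by group
      rw [e]; exact hnorm a⁻¹ (inv_mem (hLU ha')) _ (inv_mem (iha z hz))
    | mem a ha =>
      obtain ⟨q, w, hq, rfl⟩ := ha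
      have hqp := hL.pos q hq
      have hup : ∀ p, D.IsPosRoot p → q < p → p ∈ D.posRoots.drop (k + 1) := by
        intro p hp hqp'
        have h1 : p ∈ D.posRoots.drop k := hL.up q hq p hp hqp'
        rw [← List.drop_drop]
        cases hd : D.posRoots.drop k with
        | nil => simp [hd] at h1
        | cons e L' =>
          rw [hd] at h1 hq
          have hs := hL.sorted
          rw [hd] at hs
          simp only [List.drop_succ_cons, List.drop_zero]
          rcases List.mem_cons.1 h1 with h2 | h2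
          · subst h2
            rcases List.mem_cons.1 hq with h3 | h3
            · omega
            · have := (List.pairwise_cons.1 hs).1 q h3; omega
          · exact h2
      intro z hz
      rw [posUnipotent_eq g] at hz
      induction hz using Subgroup.closure_induction_left with
      | one => simp [one_mem]
      | mul_left c hc b _ ih =>
        obtain ⟨r, t, hr, rfl⟩ := hc
        have e : xG g q w * (xG g r t * b) * (xG g q w)⁻¹ * (xG g r t * b)⁻¹ =
            (xG g r t * xG g q w * (xG g r t)⁻¹ * (xG g q w)⁻¹)⁻¹ *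
              (xG g r t * (xG g q w * b * (xG g q w)⁻¹ * b⁻¹) * (xG g r t)⁻¹) := by group
        rw [e]; exact mul_mem (inv_mem (comm_mem h hK hr hqp hup t w)) (UL_conj h hK hr t ih)
      | inv_mul_cancel c hc b _ ih =>
        obtain ⟨r, t, hr, rfl⟩ := hc
        rw [xG_inv]
        have e : xG g q w * (xG g r (-t) * b) * (xG g q w)⁻¹ * (xG g r (-t) * b)⁻¹ =
            (xG g r (-t) * xG g q w * (xG g r (-t))⁻¹ * (xG g q w)⁻¹)⁻¹ *
              (xG g r (-t) * (xG g q w * b * (xG g q w)⁻¹ * b⁻¹) * (xG g r (-t))⁻¹) := by group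
        rw [e]; exact mul_mem (inv_mem (comm_mem h hK hr hqp hup (-t) w)) (UL_conj h hK hr (-t) ih)
  · simp only []; rw [List.drop_length, UL_nil]
    simp

lemma length_posRoots (g : Good D A) : D.posRoots.length = D.nroots / 2 := by
  classical
  have hnd : D.posRoots.Nodup := List.Nodup.filter _ List.nodup_range
  rw [← List.toFinset_card_of_nodup hnd]
  set P := D.posRoots.toFinset
  have hP : ∀ r, r ∈ P ↔ D.IsPosRoot r := fun r => by rw [List.mem_toFinset, posRoots_mem]
  have hN : (Finset.range D.nroots).filter (fun r => r ∉ P) = P.image A.neg := by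
    ext r
    simp only [Finset.mem_filter, Finset.mem_range, Finset.mem_image, hP]
    constructor
    · rintro ⟨hr, hn⟩
      refine ⟨A.neg r, ?_, g.neg_neg r hr⟩
      rcases g.pos_or_neg r hr with hp | hn'
      · exact absurd ((g.pos_iff r hr).2 hp) hn
      · exact (g.pos_iff _ (g.neg_lt r hr)).2 fun j => by rw [g.a_neg r hr j]; linarith [hn' j]
    · rintro ⟨q, hq, rfl⟩
      refine ⟨g.neg_lt q hq.1, fun hp => ?_⟩
      have h1 := (g.pos_iff q hq.1).1 hq
      have h2 := (g.pos_iff _ hp.1).1 hp
      apply g.neg_ne q hq.1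
      refine g.a_inj _ (g.neg_lt q hq.1) q hq.1 fun j hj => ?_
      have := h2 j
      rw [g.a_neg q hq.1 j] at this ⊢
      linarith [h1 j]
  have hcard : (P.image A.neg).card = P.card := by
    refine Finset.card_image_of_injOn fun r hr s hs e => ?_
    rw [← g.neg_neg r ((hP r).1 hr).1, e, g.neg_neg s ((hP s).1 hs).1]
  have hsub : (Finset.range D.nroots).filter (fun r => r ∈ P) = P := by
    ext r
    simp only [Finset.mem_filter, Finset.mem_range, hP]
    exact ⟨fun h => h.2, fun h => ⟨h.1, h⟩⟩
  have := Finset.card_filter_add_card_filter_not (s := Finset.range D.nroots) (fun r => r ∈ P)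
  rw [hsub, hN, hcard, Finset.card_range] at this
  omega

theorem card_posUnipotent [Fintype F] (h : Std D A) :
    Nat.card (D.posUnipotent F) = Fintype.card F ^ (D.nroots / 2) := by
  classical
  have g := h.good
  let e : ({r // r ∈ D.posRoots} → F) → D.posUnipotent F := fun T =>
    ⟨pw g D.posRoots fun r => if hr : r ∈ D.posRoots then T ⟨r, hr⟩ else 0,
      UL_posRoots (F := F) g ▸ pw_mem_UL g _ _⟩
  have hbij : Function.Bijective e := by
    constructor
    · intro T T' eq
      funext ⟨r, hr⟩
      have := pw_inj h upList_posRoots (congrArg Subtype.val eq) r hr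
      simpa [hr] using this
    · rintro ⟨y, hy⟩
      rw [← UL_posRoots g] at hy
      obtain ⟨T, rfl⟩ := exists_pw h upList_posRoots hy
      refine ⟨fun r => T r.1, Subtype.ext ?_⟩
      show pw g _ _ = pw g _ _
      unfold pw
      refine congrArg List.prod (List.map_congr_left fun r hr => ?_)
      dsimp only
      rw [dif_pos hr]
  rw [← Nat.card_congr (Equiv.ofBijective e hbij), Nat.card_fun, Nat.card_eq_fintype_card (α := F)]
  congr 1
  have hnd : D.posRoots.Nodup := List.Nodup.filter _ List.nodup_range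
  rw [Nat.card_congr (Equiv.subtypeEquivRight (q := fun r => r ∈ D.posRoots.toFinset)
    fun r => List.mem_toFinset.symm), Nat.card_eq_finsetCard,
    List.toFinset_card_of_nodup hnd, length_posRoots g]

lemma tor_conj_posUnipotent (g : Good D A) (c : Fin D.rank → Fˣ) {y : GL D.Idx F}
    (hy : y ∈ D.posUnipotent F) : tor D A c * y * (tor D A c)⁻¹ ∈ D.posUnipotent F := by
  rw [posUnipotent_eq g] at hy ⊢
  induction hy using Subgroup.closure_induction with
  | one => simp [one_mem]
  | mul a b _ _ ha hb =>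
    have e : tor D A c * (a * b) * (tor D A c)⁻¹ =
      (tor D A c * a * (tor D A c)⁻¹) * (tor D A c * b * (tor D A c)⁻¹) := by group
    rw [e]; exact mul_mem ha hb
  | inv a _ ha =>
    have e : tor D A c * a⁻¹ * (tor D A c)⁻¹ = (tor D A c * a * (tor D A c)⁻¹)⁻¹ := by group
    rw [e]; exact inv_mem ha
  | mem a ha =>
    obtain ⟨r, t, hr, rfl⟩ := ha
    rw [tor_conj_xG g c hr.1]
    exact Subgroup.subset_closure ⟨r, _, hr, rfl⟩

lemma mem_borel_iff (g : Good D A) {y : GL D.Idx F} :
    y ∈ D.borelSubgroup F ↔ ∃ u ∈ D.posUnipotent F, ∃ c, y = u * tor D A c := by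
  constructor
  · intro hy
    have hset : ∃ S : Subgroup (GL D.Idx F),
        ∀ z, z ∈ S ↔ ∃ u ∈ D.posUnipotent F, ∃ c, z = u * tor D A c := by
      refine ⟨{ carrier := {z | ∃ u ∈ D.posUnipotent F, ∃ c, z = u * tor D A c}
                one_mem' := ⟨1, one_mem _, 1, by simp⟩
                mul_mem' := ?_
                inv_mem' := ?_ }, fun z => Iff.rfl⟩
      · rintro a b ⟨u, hu, c, rfl⟩ ⟨v, hv, d, rfl⟩
        exact ⟨u * (tor D A c * v * (tor D A c)⁻¹),
          mul_mem hu (tor_conj_posUnipotent g c hv), c * d, by rw [map_mul]; group⟩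
      · rintro a ⟨u, hu, c, rfl⟩
        exact ⟨tor D A c⁻¹ * u⁻¹ * (tor D A c⁻¹)⁻¹, tor_conj_posUnipotent g c⁻¹ (inv_mem hu), c⁻¹,
          by rw [map_inv]; group⟩
    obtain ⟨S, hS⟩ := hset
    refine (hS y).1 ((sup_le ?_ ?_ : D.borelSubgroup F ≤ S) hy)
    · exact fun z hz => (hS z).2 ⟨z, hz, 1, by simp⟩
    · rw [diagonalSubgroup_eq g]
      rintro z ⟨c, rfl⟩
      exact (hS _).2 ⟨1, one_mem _, c, by simp⟩
  · rintro ⟨u, hu, c, rfl⟩
    refine mul_mem ((le_sup_left : _ ≤ D.borelSubgroup F) hu)
      ((le_sup_right : _ ≤ D.borelSubgroup F) ?_)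
    rw [diagonalSubgroup_eq g]; exact ⟨c, rfl⟩

lemma borel_le_utG (h : Std D A) :
    D.borelSubgroup F ≤ utG (fun x => 1 * wgt D A x) := by
  refine sup_le (le_trans (posUnipotent_le_triG h) (triG_le_utG _)) ?_
  rw [diagonalSubgroup_eq h.good]
  rintro y ⟨c, rfl⟩
  exact tor_mem_utG _ c

lemma tor_eq_one_of_mem_triG {w : D.Idx → ℤ} {c : Fin D.rank → Fˣ}
    (hm : tor D A c ∈ triG w 0 le_rfl) : (tor D A c : GL D.Idx F) = 1 := by
  apply Units.ext
  ext u v
  rw [tor_val, Units.val_one, Matrix.one_apply]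
  by_cases e : u = v
  · subst e
    have := hm.1 u u (by omega)
    rw [tor_val] at this
    rw [this]
  · rw [dia, Matrix.diagonal_apply_ne _ e, if_neg e]

lemma posUnipotent_inf_diagonal (h : Std D A) :
    D.posUnipotent F ⊓ D.diagonalSubgroup F = ⊥ := by
  rw [eq_bot_iff]
  rintro y ⟨hu, hd⟩
  have hd' : y ∈ (tor D A).range := by rw [← diagonalSubgroup_eq h.good]; exact hd
  obtain ⟨c, rfl⟩ := hd'
  exact Subgroup.mem_bot.2 (tor_eq_one_of_mem_triG (posUnipotent_le_triG h hu))

lemma borel_inf_negUnipotent (h : Std D A) : D.borelSubgroup F ⊓ D.negUnipotent F = ⊥ := by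
  rw [eq_bot_iff]
  rintro y ⟨hb, hv⟩
  refine Subgroup.mem_bot.2 (utG_inf_triG _ (borel_le_utG h hb) ?_)
  have := negUnipotent_le_triG h hv
  simpa only [neg_mul, one_mul] using this

lemma borel_le_group (g : Good D A) : D.borelSubgroup F ≤ D.group F :=
  sup_le (posUnipotent_le_group g) (diagonalSubgroup_le_group g)

end CfsgLib.Chev
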