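/-
Further facts about `B = UH`.
-/
import Cfsg.Agent.Lib.Chev.Unip

set_option autoImplicit false

namespace CfsgLib.Chev

open Cfsg.Lie Matrix

variable {D : ChevalleyDatum} {A : Aux} {F : Type*} [Field F]

lemma tor_conj_negUnipotent (g : Good D A) (c : Fin D.rank → Fˣ) {y : GL D.Idx F}
    (hy : y ∈ D.negUnipotent F) : tor D A c * y * (tor D A c)⁻¹ ∈ D.negUnipotent F := by
  rw [negUnipotent_eq g] at hy ⊢
  induction hy using Subgroup.closure_induction with
  | one => simp [one_mem]
  | mul a b _ _ ha hb =>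
    have e : tor D A c * (a * b) * (tor D A c)⁻¹ =
      (tor D A c * a * (tor D A c)⁻¹) * (tor D A c * b * (tor D A c)⁻¹) := by group
    rw [e]; exact mul_mem ha hb
  | inv a _ ha =>
    have e : tor D A c * a⁻¹ * (tor D A c)⁻¹ = (tor D A c * a * (tor D A c)⁻¹)⁻¹ := by group
    rw [e]; exact inv_mem ha
  | mem a ha =>
    obtain ⟨r, t, hr, rfl⟩ := ha
    rw [tor_conj_xG g c hr.1]
    exact Subgroup.subset_closure ⟨r, _, hr, rfl⟩

lemma diagonal_le_normalizer_pos (g : Good D A) :
    D.diagonalSubgroup F ≤ Subgroup.normalizer (D.posUnipotent F : Set (GL D.Idx F)) := by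
  rw [diagonalSubgroup_eq g]
  rintro y ⟨c, rfl⟩
  intro z
  refine ⟨fun hz => tor_conj_posUnipotent g c hz, fun hz => ?_⟩
  have := tor_conj_posUnipotent g c⁻¹ hz
  rw [map_inv] at this
  simpa [mul_assoc] using this

lemma borel_inf_negBorel (h : Std D A) :
    D.borelSubgroup F ⊓ (D.negUnipotent F ⊔ D.diagonalSubgroup F) = D.diagonalSubgroup F := by
  refine le_antisymm ?_ (le_inf le_sup_right le_sup_right)
  rintro y ⟨hb, hn⟩
  change y ∈ D.borelSubgroup F at hb
  have g := h.good
  have hnorm : D.diagonalSubgroup F ≤ Subgroup.normalizer (D.negUnipotent F : Set (GL D.Idx F)) := by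
    rw [diagonalSubgroup_eq g]
    rintro y ⟨c, rfl⟩
    intro z
    refine ⟨fun hz => tor_conj_negUnipotent g c hz, fun hz => ?_⟩
    have := tor_conj_negUnipotent g c⁻¹ hz
    rw [map_inv] at this
    simpa [mul_assoc] using this
  have hn' : y ∈ ((D.negUnipotent F ⊔ D.diagonalSubgroup F : Subgroup (GL D.Idx F)) : Set (GL D.Idx F)) := hn
  rw [Subgroup.coe_mul_of_right_le_normalizer_left _ _ hnorm] at hn'
  obtain ⟨v, hv, d, hd, rfl⟩ := hn'
  have hd' : d ∈ D.borelSubgroup F := (le_sup_right : _ ≤ D.borelSubgroup F) hd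
  have : v ∈ D.borelSubgroup F ⊓ D.negUnipotent F :=
    ⟨by simpa using mul_mem hb (inv_mem hd'), hv⟩
  rw [borel_inf_negUnipotent h, Subgroup.mem_bot] at this
  simpa [this] using hd

lemma borel_solvable (h : Std D A) : Group.IsSolvable ↥(D.borelSubgroup F) := by
  have g := h.good
  set U := (D.posUnipotent F).subgroupOf (D.borelSubgroup F)
  have hU : U.Normal := by
    refine ⟨fun x hx y => ?_⟩
    rw [Subgroup.mem_subgroupOf] at hx ⊢
    obtain ⟨u, hu, c, e⟩ := (mem_borel_iff g).1 y.2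
    push_cast
    rw [e, show u * tor D A c * x.1 * (u * tor D A c)⁻¹ = u * (tor D A c * x.1 * (tor D A c)⁻¹) * u⁻¹
      by group]
    exact mul_mem (mul_mem hu (tor_conj_posUnipotent g c hx)) (inv_mem hu)
  have := posUnipotent_nilpotent (F := F) h
  let f : ↥(D.posUnipotent F) →* ↥(D.borelSubgroup F) :=
    Subgroup.inclusion (le_sup_left : D.posUnipotent F ≤ D.borelSubgroup F)
  have hq : Group.IsSolvable (↥(D.borelSubgroup F) ⧸ U) := by
    refine Group.isSolvable_of_comm fun a b => ?_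
    obtain ⟨x, rfl⟩ := QuotientGroup.mk_surjective a
    obtain ⟨y, rfl⟩ := QuotientGroup.mk_surjective b
    rw [← QuotientGroup.mk_mul, ← QuotientGroup.mk_mul, QuotientGroup.eq, Subgroup.mem_subgroupOf]
    obtain ⟨u, hu, c, ex⟩ := (mem_borel_iff g).1 x.2
    obtain ⟨v, hv, d, ey⟩ := (mem_borel_iff g).1 y.2
    push_cast
    rw [ex, ey]
    have hcd : tor D A c * tor D A d = tor D A d * tor D A (F := F) c := by
      rw [← map_mul, ← map_mul, mul_comm]
    set a := tor D A (F := F) c with ha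
    set b := tor D A (F := F) d with hb
    have e : (u * a * (v * b))⁻¹ * (v * b * (u * a)) =
        ((a * b)⁻¹ * (a * v * a⁻¹)⁻¹ * u⁻¹ * v * (b * u * b⁻¹) * (a * b)) := by
      rw [show v * b * (u * a) = v * (b * u * b⁻¹) * (b * a) by group, ← hcd]
      group
    rw [e]
    have hab : a * b = tor D A (c * d) := (map_mul _ _ _).symm
    have key : ∀ z ∈ D.posUnipotent F, (a * b)⁻¹ * z * (a * b) ∈ D.posUnipotent F := by
      intro z hz
      rw [hab]
      have := tor_conj_posUnipotent g (c * d)⁻¹ hz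
      rwa [map_inv, inv_inv] at this
    have := key _ (mul_mem (mul_mem (mul_mem (inv_mem (tor_conj_posUnipotent g c hv)) (inv_mem hu)) hv)
      (tor_conj_posUnipotent g d hu))
    rw [← ha, ← hb] at this
    simpa [mul_assoc] using this
  refine Group.isSolvable_of_ker_le_range f (QuotientGroup.mk' U) ?_
  rw [QuotientGroup.ker_mk']
  intro x hx
  exact ⟨⟨x.1, hx⟩, Subtype.ext rfl⟩

end CfsgLib.Chev
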