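/-
The action of the monomial subgroup `N` on roots, root elements and coordinates.
-/
import Cfsg.Agent.Lib.Chev.Borel

set_option autoImplicit false

namespace CfsgLib.Chev

open Cfsg.Lie Matrix

variable {D : ChevalleyDatum} {A : Aux} {F : Type*} [Field F]

/-- a map of roots given by an integral matrix in coordinates -/
def RootMap (D : ChevalleyDatum) (A : Aux) (σ : ℕ → ℕ) : Prop :=
  (∀ r < D.nroots, σ r < D.nroots) ∧
    ∃ M : ℕ → ℕ → ℤ, ∀ r < D.nroots, ∀ j < D.rank,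
      A.a (σ r) j = ∑ k ∈ Finset.range D.rank, A.a r k * M k j

lemma rootMap_id : RootMap D A id := by
  refine ⟨fun _ h => h, fun k j => if k = j then 1 else 0, fun r _ j hj => ?_⟩
  simp [hj]

lemma RootMap.comp {σ τ : ℕ → ℕ} (hσ : RootMap D A σ) (hτ : RootMap D A τ) :
    RootMap D A (σ ∘ τ) := by
  obtain ⟨h1, M, hM⟩ := hσ
  obtain ⟨h2, N, hN⟩ := hτ
  refine ⟨fun r hr => h1 _ (h2 r hr), fun k j => ∑ i ∈ Finset.range D.rank, N k i * M i j,
    fun r hr j hj => ?_⟩
  rw [Function.comp_apply, hM _ (h2 r hr) j hj]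
  rw [Finset.sum_congr rfl fun i hi => by rw [hN r hr i (Finset.mem_range.1 hi), Finset.sum_mul],
    Finset.sum_comm]
  simp_rw [Finset.mul_sum, mul_assoc]

lemma rootMap_refl (g : Good D A) {i : ℕ} (hi : i < D.rank) : RootMap D A (A.refl i) := by
  refine ⟨g.refl_lt i hi, fun k j => (if k = j then 1 else 0) -
    if j = i then A.cart i (D.simple k) else 0, fun r hr j hj => ?_⟩
  rw [g.a_refl i hi r hr j hj]
  simp only [mul_sub, Finset.sum_sub_distrib]
  congr 1
  · simp [hj]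
  · by_cases h : j = i
    · subst h; simp only [if_true]; rw [cart_linear g hi hr]
    · simp [h]

lemma RootMap.lin {σ : ℕ → ℕ} (h : RootMap D A σ) {r s u : ℕ} (hr : r < D.nroots)
    (hs : s < D.nroots) (hu : u < D.nroots) {i k : ℤ}
    (e : ∀ j < D.rank, A.a u j = i * A.a r j + k * A.a s j) :
    ∀ j < D.rank, A.a (σ u) j = i * A.a (σ r) j + k * A.a (σ s) j := by
  obtain ⟨h1, M, hM⟩ := h
  intro j hj
  rw [hM u hu j hj, hM r hr j hj, hM s hs j hj, Finset.mul_sum, Finset.mul_sum,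
    ← Finset.sum_add_distrib]
  refine Finset.sum_congr rfl fun l hl => ?_
  rw [e l (Finset.mem_range.1 hl)]; ring

lemma RootMap.map_neg (g : Good D A) {σ : ℕ → ℕ} (h : RootMap D A σ) {r : ℕ} (hr : r < D.nroots) :
    σ (A.neg r) = A.neg (σ r) := by
  refine g.a_inj _ (h.1 _ (g.neg_lt r hr)) _ (g.neg_lt _ (h.1 r hr)) fun j hj => ?_
  have := h.lin (i := -1) (k := 0) hr hr (g.neg_lt r hr)
    (fun l _ => by rw [g.a_neg r hr l]; ring) j hj
  rw [this, g.a_neg _ (h.1 r hr)]; ring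

/-- `n` acts monomially, permuting the roots by `σ` -/
structure Acts (g : Good D A) (n : GL D.Idx F) (σ : ℕ → ℕ) : Prop where
  map : RootMap D A σ
  conj : ∀ r < D.nroots, ∃ k : F, k ≠ 0 ∧ ∀ t, n * xG g r t * n⁻¹ = xG g (σ r) (k * t)
  root : ∀ r < D.nroots, ∃ k : F, k ≠ 0 ∧
    (n : Matrix D.Idx D.Idx F) *ᵥ ev D F (D.rank + r) = k • ev D F (D.rank + σ r)
  hspan : ∀ j < D.rank, ∀ u : Fin D.nroots,
    ((n : Matrix D.Idx D.Idx F) *ᵥ ev D F j) (Sum.inr u) = 0

lemma eq_sum_h {v : D.Idx → F} (h : ∀ u : Fin D.nroots, v (Sum.inr u) = 0) :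
    v = ∑ i : Fin D.rank, v (Sum.inl i) • ev D F i.val := by
  funext x
  rw [Finset.sum_apply]
  rcases x with j | u
  · rw [Finset.sum_eq_single j]
    · simp [ev, idx]
    · intro i _ hij
      have : j.val ≠ i.val := fun e => hij (Fin.ext e.symm)
      simp [ev, idx, this]
    · simp
  · rw [h u, Finset.sum_eq_zero]
    intro i _
    have := i.isLt
    simp [ev, idx, show D.rank + u.val ≠ i.val by omega]

lemma Acts.mul {g : Good D A} {n m : GL D.Idx F} {σ τ : ℕ → ℕ} (hn : Acts g n σ) (hm : Acts g m τ) :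
    Acts g (n * m) (σ ∘ τ) := by
  refine ⟨hn.map.comp hm.map, fun r hr => ?_, fun r hr => ?_, fun j hj u => ?_⟩
  · obtain ⟨k, hk, e⟩ := hm.conj r hr
    obtain ⟨k', hk', e'⟩ := hn.conj _ (hm.map.1 r hr)
    refine ⟨k' * k, mul_ne_zero hk' hk, fun t => ?_⟩
    rw [show n * m * xG g r t * (n * m)⁻¹ = n * (m * xG g r t * m⁻¹) * n⁻¹ by group, e, e']
    simp [mul_assoc]
  · obtain ⟨k, hk, e⟩ := hm.root r hr
    obtain ⟨k', hk', e'⟩ := hn.root _ (hm.map.1 r hr)
    refine ⟨k * k', mul_ne_zero hk hk', ?_⟩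
    rw [Units.val_mul, ← Matrix.mulVec_mulVec, e, Matrix.mulVec_smul, e', smul_smul]
    rfl
  · rw [Units.val_mul, ← Matrix.mulVec_mulVec, eq_sum_h (hm.hspan j hj), Matrix.mulVec_sum,
      Finset.sum_apply]
    refine Finset.sum_eq_zero fun i _ => ?_
    simp [Matrix.mulVec_smul, hn.hspan i i.isLt u]

lemma acts_tor (g : Good D A) (c : Fin D.rank → Fˣ) : Acts g (tor D A c) id := by
  refine ⟨rootMap_id, fun r hr => ⟨_, (chi D A c r).ne_zero, fun t => tor_conj_xG g c hr t⟩,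
    fun r hr => ⟨(chi D A c r : F), (chi D A c r).ne_zero, ?_⟩, fun j hj u => ?_⟩
  · rw [tor_val, dia_mulVec_root]; rfl
  · rw [tor_val, dia_mulVec_h _ hj]
    simp [ev, idx, show D.rank + u.val ≠ j by omega]

lemma eta_ne_zero (g : Good D A) {i s : ℕ} (hi : i < D.rank) (hs : s < D.nroots) :
    (A.eta i s : F) ≠ 0 := by
  rcases g.eta_sign i hi s hs with h | h <;> simp [h]

lemma acts_nS (g : Good D A) {i : ℕ} (hi : i < D.rank) : Acts g (nS F g i) (A.refl i) := by
  refine ⟨rootMap_refl g hi, fun r hr => ⟨_, eta_ne_zero g hi hr, nS_conj_xG g hi hr⟩,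
    fun r hr => ⟨_, eta_ne_zero g hi hr, ?_⟩, fun j hj u => ?_⟩
  · rw [nS, nG_val]; exact nM_root g hi hr
  · rw [nS, nG_val]
    show (nM D F i *ᵥ _) _ = _
    rw [nM_h g hi hj]
    simp [ev, idx, show D.rank + u.val ≠ j by omega, show D.rank + u.val ≠ i by omega]

lemma nS_mem_monomial (g : Good D A) {i : ℕ} (hi : i < D.rank) :
    nS F g i ∈ D.monomialSubgroup F := by
  rw [monomialSubgroup_eq g]
  exact (le_sup_right : _ ≤ D.diagonalSubgroup F ⊔ _) (Subgroup.subset_closure ⟨i, hi, rfl⟩)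

lemma tor_mem_monomial (g : Good D A) (c : Fin D.rank → Fˣ) :
    tor D A c ∈ D.monomialSubgroup F := by
  rw [monomialSubgroup_eq g]
  refine (le_sup_left : D.diagonalSubgroup F ≤ _) ?_
  rw [diagonalSubgroup_eq g]; exact ⟨c, rfl⟩

/-- every monomial element has a root permutation -/
theorem exists_acts (g : Good D A) {n : GL D.Idx F} (hn : n ∈ D.monomialSubgroup F) :
    ∃ σ, Acts g n σ := by
  rw [monomialSubgroup_eq g, ← Subgroup.closure_eq (D.diagonalSubgroup F), ← Subgroup.closure_union] at hn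
  induction hn using Subgroup.closure_induction_left with
  | one => exact ⟨id, by simpa using acts_tor (F := F) g 1⟩
  | mul_left a ha b _ ih =>
    obtain ⟨τ, hτ⟩ := ih
    rcases ha with ha | ⟨i, hi, rfl⟩
    · obtain ⟨c, rfl⟩ : a ∈ (tor D A).range := by rw [← diagonalSubgroup_eq g]; exact ha
      exact ⟨_, (acts_tor g c).mul hτ⟩
    · exact ⟨_, (acts_nS g hi).mul hτ⟩
  | inv_mul_cancel a ha b _ ih =>
    obtain ⟨τ, hτ⟩ := ih
    rcases ha with ha | ⟨i, hi, rfl⟩
    · obtain ⟨c, rfl⟩ : a ∈ (tor D A).range := by rw [← diagonalSubgroup_eq g]; exact ha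
      rw [← map_inv]
      exact ⟨_, (acts_tor g c⁻¹).mul hτ⟩
    · obtain ⟨e, he⟩ := nS_sq_mem (F := F) g hi
      have : (nS F g i)⁻¹ = tor D A e⁻¹ * nS F g i := by
        rw [map_inv, he]; group
      rw [this]
      exact ⟨_, ((acts_tor g e⁻¹).mul (acts_nS g hi)).mul hτ⟩

lemma Acts.unique {g : Good D A} {n : GL D.Idx F} {σ τ : ℕ → ℕ} (h : Acts g n σ) (h' : Acts g n τ)
    {r : ℕ} (hr : r < D.nroots) : σ r = τ r := by
  obtain ⟨k, hk, e⟩ := h.conj r hr
  obtain ⟨k', _, e'⟩ := h'.conj r hr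
  have := (e 1).symm.trans (e' 1)
  exact xG_inj_root g (h.map.1 r hr) (h'.map.1 r hr) (by simpa using hk) this

lemma Acts.inj {g : Good D A} {n : GL D.Idx F} {σ : ℕ → ℕ} (h : Acts g n σ) {r s : ℕ}
    (hr : r < D.nroots) (hs : s < D.nroots) (e : σ r = σ s) : r = s := by
  obtain ⟨k, hk, er⟩ := h.conj r hr
  obtain ⟨k', hk', es⟩ := h.conj s hs
  refine xG_inj_root g hr hs (t := (1 : F)) (u := k / k') one_ne_zero
    (mul_left_cancel (a := n) (mul_right_cancel (b := n⁻¹) ?_))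
  rw [er, es, e]
  congr 1
  field_simp

lemma Acts.surj {g : Good D A} {n : GL D.Idx F} {σ : ℕ → ℕ} (h : Acts g n σ) {s : ℕ}
    (hs : s < D.nroots) : ∃ r < D.nroots, σ r = s := by
  let f : Fin D.nroots → Fin D.nroots := fun r => ⟨σ r, h.map.1 r r.isLt⟩
  have hf : Function.Surjective f := Finite.injective_iff_surjective.1 fun a b e =>
    Fin.ext (h.inj a.isLt b.isLt (congrArg Fin.val e))
  obtain ⟨r, hr⟩ := hf ⟨s, hs⟩
  exact ⟨r, r.isLt, congrArg Fin.val hr⟩

/-- `U ∩ N = 1` -/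
theorem posUnipotent_inf_monomial (h : Std D A) :
    D.posUnipotent F ⊓ D.monomialSubgroup F = ⊥ := by
  rw [eq_bot_iff]
  rintro y ⟨hu, hn⟩
  have g := h.good
  obtain ⟨σ, hσ⟩ := exists_acts h.good (SetLike.mem_coe.1 hn)
  have ht := (posUnipotent_le_triG h hu).1
  refine Subgroup.mem_bot.2 (Units.ext (matrix_ext fun c hc => ?_))
  obtain ⟨x, rfl⟩ := exists_idx hc
  rw [mulVec_ev, Units.val_one, one_mulVec, ev_single]
  funext row
  rw [Pi.single_apply]
  rcases x with j | ⟨r, hr⟩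
  · rcases row with i | u
    · exact ht _ _ (by simp [wgt])
    · have := hσ.hspan j j.isLt u
      rw [show (j.val) = idx D (Sum.inl j) from rfl, mulVec_ev] at this
      simpa using this
  · obtain ⟨k, _, e⟩ := hσ.root r hr
    rw [show D.rank + r = idx D (Sum.inr ⟨r, hr⟩) from rfl, mulVec_ev,
      show D.rank + σ r = idx D (Sum.inr ⟨σ r, hσ.map.1 r hr⟩) from rfl, ev_single] at e
    have e1 := congrFun e (Sum.inr ⟨r, hr⟩)
    simp only [Pi.smul_apply, Pi.single_apply, smul_eq_mul] at e1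
    rw [ht _ _ (by simp), if_pos rfl] at e1
    by_cases hrs : σ r = r
    · rw [if_pos (by simp [hrs])] at e1
      have e2 := congrFun e row
      simp only [Pi.smul_apply, Pi.single_apply, smul_eq_mul] at e2
      rw [e2]
      simp [← mul_one k ▸ e1, hrs]
    · rw [if_neg (by simp [Ne.symm hrs]), mul_zero] at e1
      exact absurd e1 one_ne_zero

theorem borel_inf_monomial (h : Std D A) :
    D.borelSubgroup F ⊓ D.monomialSubgroup F = D.diagonalSubgroup F := by
  refine le_antisymm ?_ (le_inf le_sup_right le_sup_left)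
  rintro y ⟨hb, hn⟩
  change y ∈ D.monomialSubgroup F at hn
  obtain ⟨u, hu, c, rfl⟩ := (mem_borel_iff h.good).1 hb
  have : u ∈ D.posUnipotent F ⊓ D.monomialSubgroup F :=
    ⟨hu, by simpa using mul_mem hn (inv_mem (tor_mem_monomial h.good c))⟩
  rw [posUnipotent_inf_monomial h, Subgroup.mem_bot] at this
  rw [this, one_mul, diagonalSubgroup_eq h.good]
  exact ⟨c, rfl⟩

lemma primitive_coords (g : Good D A) : ∀ r < D.nroots,
    ∃ c : ℕ → ℤ, ∑ j ∈ Finset.range D.rank, c j * A.a r j = 1 := by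
  refine root_induction g (fun j hj _ => ⟨fun k => if k = j then 1 else 0, by
    simp [hj, g.a_simple j hj j hj]⟩) ?_
  rintro i hi r hr ⟨c, hc⟩
  refine ⟨fun k => c k - c i * A.cart i (D.simple k), ?_⟩
  rw [← hc]
  have hr' := g.refl_lt i hi r hr
  have key : ∀ j ∈ Finset.range D.rank, c j * A.a r j =
      c j * A.a (A.refl i r) j - if j = i then c i * A.cart i (A.refl i r) else 0 := by
    intro j hj
    have := g.a_refl i hi _ hr' j (Finset.mem_range.1 hj)
    rw [g.refl_refl i hi r hr] at this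
    rw [this, mul_sub]
    by_cases e : j = i <;> simp [e]
  rw [Finset.sum_congr rfl key, Finset.sum_sub_distrib, Finset.sum_ite_eq' ,
    if_pos (Finset.mem_range.2 hi), cart_linear g hi hr', Finset.mul_sum, ← Finset.sum_sub_distrib]
  exact Finset.sum_congr rfl fun j _ => by ring

/-- a positive root other than `p_i` has a positive coordinate off `i` -/
lemma exists_coord_pos (g : Good D A) {i r : ℕ} (hi : i < D.rank) (hr : D.IsPosRoot r)
    (hne : r ≠ D.simple i) : ∃ j < D.rank, j ≠ i ∧ 0 < A.a r j := by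
  by_contra hcon
  push Not at hcon
  have hp := (g.pos_iff r hr.1).1 hr
  have hz : ∀ j < D.rank, j ≠ i → A.a r j = 0 := fun j hj hji =>
    le_antisymm (hcon j hj hji) (hp j)
  obtain ⟨c, hc⟩ := primitive_coords g r hr.1
  rw [Finset.sum_eq_single i (fun j hj hji => by simp [hz j (Finset.mem_range.1 hj) hji])
    (fun h => absurd (Finset.mem_range.2 hi) h)] at hc
  have h1 : A.a r i = 1 := Int.eq_one_of_mul_eq_one_left (hp i) hc
  refine hne (g.a_inj r hr.1 _ (g.simple_lt i hi) fun j hj => ?_)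
  rw [g.a_simple i hi j hj]
  split_ifs with e
  · rw [e, h1]
  · exact hz j hj e

lemma simple_pos (g : Good D A) {i : ℕ} (hi : i < D.rank) : D.IsPosRoot (D.simple i) := by
  refine (g.pos_iff _ (g.simple_lt i hi)).2 fun j => ?_
  by_cases hj : j < D.rank
  · rw [g.a_simple i hi j hj]; split_ifs <;> simp
  · rw [g.a_zero _ (g.simple_lt i hi) j (not_lt.1 hj)]

lemma refl_simple (g : Good D A) {i : ℕ} (hi : i < D.rank) :
    A.refl i (D.simple i) = A.neg (D.simple i) := by
  rw [← g.reflectRoot_eq i hi _ (g.simple_lt i hi), ← g.neg_eq _ (g.simple_lt i hi)]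
  simp [ChevalleyDatum.reflectRoot]

lemma not_pos_neg (g : Good D A) {r : ℕ} (hr : D.IsPosRoot r) : ¬ D.IsPosRoot (A.neg r) := by
  intro h
  have h1 := (g.pos_iff r hr.1).1 hr
  have h2 := (g.pos_iff _ h.1).1 h
  refine g.neg_ne r hr.1 (g.a_inj _ h.1 r hr.1 fun j _ => ?_)
  have := h2 j
  rw [g.a_neg r hr.1] at this ⊢
  linarith [h1 j]

lemma pos_or_pos_neg (g : Good D A) {r : ℕ} (hr : r < D.nroots) :
    D.IsPosRoot r ∨ D.IsPosRoot (A.neg r) := by
  rcases g.pos_or_neg r hr with h | h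
  · exact Or.inl ((g.pos_iff r hr).2 h)
  · refine Or.inr ((g.pos_iff _ (g.neg_lt r hr)).2 fun j => ?_)
    rw [g.a_neg r hr]; linarith [h j]

lemma refl_pos (g : Good D A) {i r : ℕ} (hi : i < D.rank) (hr : D.IsPosRoot r)
    (hne : r ≠ D.simple i) : D.IsPosRoot (A.refl i r) ∧ A.refl i r ≠ D.simple i := by
  obtain ⟨j, hj, hji, hjp⟩ := exists_coord_pos g hi hr hne
  have hlt := g.refl_lt i hi r hr.1
  have e : A.a (A.refl i r) j = A.a r j := by rw [g.a_refl i hi r hr.1 j hj]; simp [hji]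
  refine ⟨(g.pos_iff _ hlt).2 ?_, fun he => ?_⟩
  · rcases g.pos_or_neg _ hlt with h | h
    · exact h
    · exact absurd (h j) (by rw [e]; omega)
  · rw [he, g.a_simple i hi j hj, if_neg hji] at e
    omega

end CfsgLib.Chev
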