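/-
The BN-pair of a Chevalley group.
-/
import Cfsg.Agent.Lib.Chev.Mono
import Cfsg.Prelude.Def_LieExceptional

set_option autoImplicit false

namespace CfsgLib.Chev

open Cfsg.Lie Matrix

variable {D : ChevalleyDatum} {A : Aux} {F : Type*} [Field F]

variable (F) in
/-- the subgroup generated by the root subgroups of the roots satisfying `P` -/
noncomputable def UP (g : Good D A) (P : ℕ → Prop) : Subgroup (GL D.Idx F) :=
  Subgroup.closure {y | ∃ r t, P r ∧ y = xG g r t}

lemma xG_mem_UP (g : Good D A) {P : ℕ → Prop} {r : ℕ} (hr : P r) (t : F) : xG g r t ∈ UP F g P :=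
  Subgroup.subset_closure ⟨r, t, hr, rfl⟩

lemma UP_le {g : Good D A} {P : ℕ → Prop} {K : Subgroup (GL D.Idx F)}
    (h : ∀ r t, P r → xG g r t ∈ K) : UP F g P ≤ K :=
  (Subgroup.closure_le _).2 fun _ ⟨r, t, hr, e⟩ => e ▸ h r t hr

/-- conjugation by a root element, from the commutator formula -/
lemma conj_xG_mem (h : Std D A) {P : ℕ → Prop} {r s : ℕ} (hr : r < D.nroots) (hs : s < D.nroots)
    (hsr : s ≠ r) (hsn : s ≠ A.neg r) (hPs : P s)
    (hcl : ∀ u < D.nroots, ∀ i k : ℕ, 1 ≤ i → 1 ≤ k →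
      (∀ j < D.rank, A.a u j = (i : ℤ) * A.a r j + (k : ℤ) * A.a s j) → P u) (t u : F) :
    xG h.good r t * xG h.good s u * (xG h.good r t)⁻¹ ∈ UP F h.good P := by
  have g := h.good
  set W : GL D.Idx F := ((tword A r s (-t) u).map fun p => xG g p.1 p.2).prod with hW
  have hWval : (W : Matrix D.Idx D.Idx F) = D.wordMat F (tword A r s (-t) u) := by
    rw [hW]
    induction tword A r s (-t) u with
    | nil => simp [wordMat_nil]
    | cons p w ih => rw [List.map_cons, List.prod_cons, Units.val_mul, wordMat_cons, ih, xG_val]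
  have hWmem : W ∈ UP F g P := by
    refine list_prod_mem fun y hy => ?_
    obtain ⟨p, hp, rfl⟩ := List.mem_map.1 hy
    obtain ⟨q, hq, rfl⟩ := List.mem_map.1 hp
    obtain ⟨h1, h2, h3, h4⟩ := terms_mem g hr hs hq
    exact xG_mem_UP g (hcl q.1 h1 _ _ h2 h3 h4) _
  have e : xG g s u * xG g r (-t) = xG g r (-t) * xG g s u * W := by
    apply Units.ext
    simp only [Units.val_mul, xG_val, hWval]
    exact commF_all h hr hs hsr hsn (-t) u
  rw [xG_inv g r t, mul_assoc (xG g r t), e, ← mul_assoc (xG g r t), ← mul_assoc (xG g r t),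
    xG_add, add_neg_cancel, xG_zero, one_mul]
  exact mul_mem (xG_mem_UP g hPs u) hWmem

lemma mem_normalizer_UP {g : Good D A} {P : ℕ → Prop} {K : Subgroup (GL D.Idx F)}
    (hK : ∀ y ∈ K, ∀ r t, P r → y * xG g r t * y⁻¹ ∈ UP F g P) :
    K ≤ Subgroup.normalizer (UP F g P : Set (GL D.Idx F)) := by
  have key : ∀ y ∈ K, ∀ z ∈ UP F g P, y * z * y⁻¹ ∈ UP F g P := by
    intro y hy z hz
    induction hz using Subgroup.closure_induction with
    | one => simp [one_mem]
    | mul a b _ _ ha hb =>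
      rw [show y * (a * b) * y⁻¹ = (y * a * y⁻¹) * (y * b * y⁻¹) by group]
      exact mul_mem ha hb
    | inv a _ ha =>
      rw [show y * a⁻¹ * y⁻¹ = (y * a * y⁻¹)⁻¹ by group]
      exact inv_mem ha
    | mem a ha => obtain ⟨r, t, hr, rfl⟩ := ha; exact hK y hy r t hr
  intro y hy z
  refine ⟨key y hy z, fun hz => ?_⟩
  have := key y⁻¹ (inv_mem hy) _ hz
  simpa [mul_assoc] using this

/-- positive roots other than `p_i` -/
def posBut (D : ChevalleyDatum) (i : ℕ) (r : ℕ) : Prop := D.IsPosRoot r ∧ r ≠ D.simple i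

lemma posBut_closed (g : Good D A) {i r s u : ℕ} (hi : i < D.rank) (hr : r < D.nroots)
    (hs : posBut D i s) (hu : u < D.nroots) {m k : ℕ} (hk : 1 ≤ k)
    (hr0 : ∀ j < D.rank, j ≠ i → 0 ≤ A.a r j)
    (e : ∀ j < D.rank, A.a u j = (m : ℤ) * A.a r j + (k : ℤ) * A.a s j) : posBut D i u := by
  obtain ⟨j, hj, hji, hjp⟩ := exists_coord_pos g hi hs.1 hs.2
  have hjq : 0 < A.a u j := by
    rw [e j hj]
    have := hr0 j hj hji
    have h1 : (1 : ℤ) ≤ (k : ℤ) := by exact_mod_cast hk
    have h2 : (0 : ℤ) ≤ (m : ℤ) := Int.natCast_nonneg m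
    nlinarith [mul_nonneg h2 this]
  refine ⟨(g.pos_iff u hu).2 ?_, fun he => ?_⟩
  · rcases g.pos_or_neg u hu with h | h
    · exact h
    · exact absurd (h j) (by omega)
  · rw [he, g.a_simple i hi j hj, if_neg hji] at hjq
    omega

lemma simple_coord (g : Good D A) {i j : ℕ} (hi : i < D.rank) (hj : j < D.rank) (hji : j ≠ i) :
    A.a (D.simple i) j = 0 ∧ A.a (A.neg (D.simple i)) j = 0 := by
  have h := g.a_simple i hi j hj
  rw [if_neg hji] at h
  exact ⟨h, by rw [g.a_neg _ (g.simple_lt i hi), h, neg_zero]⟩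

lemma rootPair_conj (h : Std D A) {i s : ℕ} (hi : i < D.rank) (hs : posBut D i s) {p : ℕ}
    (hp : p = D.simple i ∨ p = A.neg (D.simple i)) (t u : F) :
    xG h.good p t * xG h.good s u * (xG h.good p t)⁻¹ ∈ UP F h.good (posBut D i) := by
  have g := h.good
  have hsi := g.simple_lt i hi
  have hne1 : s ≠ A.neg (D.simple i) := fun e =>
    not_pos_neg g (simple_pos g hi) (e ▸ hs.1)
  have hp' : p < D.nroots ∧ s ≠ p ∧ s ≠ A.neg p := by
    rcases hp with rfl | rfl
    · exact ⟨hsi, hs.2, hne1⟩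
    · exact ⟨g.neg_lt _ hsi, hne1, by rw [g.neg_neg _ hsi]; exact hs.2⟩
  refine conj_xG_mem h hp'.1 hs.1.1 hp'.2.1 hp'.2.2 hs (fun q hq m k _ hk e => ?_) t u
  refine posBut_closed g hi hp'.1 hs hq hk (fun j hj hji => ?_) e
  obtain ⟨h1, h2⟩ := simple_coord g hi hj hji
  rcases hp with rfl | rfl
  · exact le_of_eq h1.symm
  · exact le_of_eq h2.symm

variable (F) in
/-- the rank one subgroup generated by `X_p` and `X_{-p}` -/
noncomputable def rankOne (D : ChevalleyDatum) (i : ℕ) : Subgroup (GL D.Idx F) :=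
  D.rootSubgroup F (D.simple i) ⊔ D.rootSubgroup F (D.neg (D.simple i))

lemma rankOne_le_normalizer (h : Std D A) {i : ℕ} (hi : i < D.rank) :
    rankOne F D i ≤ Subgroup.normalizer (UP F h.good (posBut D i) : Set (GL D.Idx F)) := by
  have g := h.good
  refine sup_le (mem_normalizer_UP fun y hy r u hr => ?_) (mem_normalizer_UP fun y hy r u hr => ?_)
  · obtain ⟨t, rfl⟩ := (mem_rootSubgroup_iff g).1 hy
    exact rootPair_conj h hi hr (Or.inl rfl) t u
  · obtain ⟨t, rfl⟩ := (mem_rootSubgroup_iff g).1 hy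
    exact rootPair_conj h hi hr (Or.inr (g.neg_eq _ (g.simple_lt i hi))) t u

lemma xG_mem_rootSubgroup (g : Good D A) (r : ℕ) (t : F) : xG g r t ∈ D.rootSubgroup F r :=
  (mem_rootSubgroup_iff g).2 ⟨t, rfl⟩

lemma nS_mem_rankOne (g : Good D A) (i : ℕ) : nS F g i ∈ rankOne F D i := by
  have h1 : ∀ t, xG g (D.simple i) t ∈ rankOne F D i := fun t =>
    (le_sup_left : _ ≤ rankOne F D i) (xG_mem_rootSubgroup g _ t)
  have h2 : ∀ t, xG g (D.neg (D.simple i)) t ∈ rankOne F D i := fun t =>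
    (le_sup_right : _ ≤ rankOne F D i) (xG_mem_rootSubgroup g _ t)
  exact mul_mem (mul_mem (h1 _) (h2 _)) (h1 _)

lemma UP_posBut_le (g : Good D A) (i : ℕ) : UP F g (posBut D i) ≤ D.posUnipotent F :=
  UP_le fun r t hr => by
    rw [posUnipotent_eq g]; exact Subgroup.subset_closure ⟨r, t, hr.1, rfl⟩

lemma xG_mem_posUnipotent (g : Good D A) {r : ℕ} (hr : D.IsPosRoot r) (t : F) :
    xG g r t ∈ D.posUnipotent F := by
  rw [posUnipotent_eq g]; exact Subgroup.subset_closure ⟨r, t, hr, rfl⟩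

lemma posBut_sup (g : Good D A) {i : ℕ} (hi : i < D.rank) :
    UP F g (posBut D i) ⊔ D.rootSubgroup F (D.simple i) = D.posUnipotent F := by
  refine le_antisymm (sup_le (UP_posBut_le g i) fun y hy => ?_) ?_
  · obtain ⟨t, rfl⟩ := (mem_rootSubgroup_iff g).1 hy
    exact xG_mem_posUnipotent g (simple_pos g hi) t
  · rw [posUnipotent_eq g]
    refine (Subgroup.closure_le _).2 ?_
    rintro y ⟨r, t, hr, rfl⟩
    by_cases e : r = D.simple i
    · exact (le_sup_right : _ ≤ UP F g (posBut D i) ⊔ _) (e ▸ xG_mem_rootSubgroup g r t)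
    · exact (le_sup_left : _ ≤ UP F g (posBut D i) ⊔ D.rootSubgroup F (D.simple i))
        (xG_mem_UP g ⟨hr, e⟩ t)

/-- `U = U_i X_p` -/
lemma pos_decomp (h : Std D A) {i : ℕ} (hi : i < D.rank) {u : GL D.Idx F}
    (hu : u ∈ D.posUnipotent F) :
    ∃ v ∈ UP F h.good (posBut D i), ∃ a, u = v * xG h.good (D.simple i) a := by
  have hnorm : D.rootSubgroup F (D.simple i) ≤
      Subgroup.normalizer (UP F h.good (posBut D i) : Set (GL D.Idx F)) :=
    le_trans le_sup_left (rankOne_le_normalizer h hi)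
  rw [← posBut_sup h.good hi, ← SetLike.mem_coe,
    Subgroup.coe_mul_of_right_le_normalizer_left _ _ hnorm] at hu
  obtain ⟨v, hv, x, hx, rfl⟩ := hu
  obtain ⟨a, rfl⟩ := (mem_rootSubgroup_iff h.good).1 hx
  exact ⟨v, hv, a, rfl⟩

lemma nS_conj_posBut (h : Std D A) {i : ℕ} (hi : i < D.rank) {v : GL D.Idx F}
    (hv : v ∈ UP F h.good (posBut D i)) :
    nS F h.good i * v * (nS F h.good i)⁻¹ ∈ UP F h.good (posBut D i) :=
  (Subgroup.mem_normalizer_iff.1 (rankOne_le_normalizer h hi (nS_mem_rankOne h.good i)) v).1 hv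

lemma tor_mem_borel (g : Good D A) (c : Fin D.rank → Fˣ) : tor D A c ∈ D.borelSubgroup F := by
  refine (le_sup_right : _ ≤ D.borelSubgroup F) ?_
  rw [diagonalSubgroup_eq g]; exact ⟨c, rfl⟩

lemma pos_le_borel : D.posUnipotent F ≤ D.borelSubgroup F := le_sup_left

lemma xG_mem_borel (g : Good D A) {r : ℕ} (hr : D.IsPosRoot r) (t : F) :
    xG g r t ∈ D.borelSubgroup F := pos_le_borel (xG_mem_posUnipotent g hr t)

/-- pushing a root element through a monomial element -/
lemma Acts.push {g : Good D A} {n : GL D.Idx F} {σ : ℕ → ℕ} (hn : Acts g n σ) {r : ℕ}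
    (hr : r < D.nroots) (a : F) : ∃ a', xG g (σ r) a * n = n * xG g r a' := by
  obtain ⟨k, hk, e⟩ := hn.conj r hr
  refine ⟨k⁻¹ * a, ?_⟩
  have := e (k⁻¹ * a)
  rw [mul_inv_cancel_left₀ hk] at this
  rw [← this, inv_mul_cancel_right]

lemma nG_simple_mem (g : Good D A) {i : ℕ} (hi : i < D.rank) {b : F} (hb : b ≠ 0) :
    ∃ e, nG g (D.simple i) b = tor D A e * nS F g i := by
  obtain ⟨e, he⟩ := hG_mem_range g (g.simple_lt i hi) hb
  refine ⟨e, ?_⟩
  rw [he, hG, nS, nG_neg g (g.simple_lt i hi)]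
  group

/-- the double coset rule -/
theorem bn_rule (h : Std D A) {i : ℕ} (hi : i < D.rank) {n b : GL D.Idx F}
    (hn : n ∈ D.monomialSubgroup F) (hb : b ∈ D.borelSubgroup F) :
    nS F h.good i * b * n ∈
      DoubleCoset.doubleCoset (nS F h.good i * n) (D.borelSubgroup F : Set (GL D.Idx F))
        (D.borelSubgroup F) ∪
      DoubleCoset.doubleCoset n (D.borelSubgroup F : Set (GL D.Idx F)) (D.borelSubgroup F) := by
  have g := h.good
  obtain ⟨u, hu, c, rfl⟩ := (mem_borel_iff g).1 hb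
  obtain ⟨v, hv, a, rfl⟩ := pos_decomp h hi hu
  obtain ⟨d, hd⟩ := monomial_conj_tor g (inv_mem hn) c
  rw [inv_inv] at hd
  set s := nS F g i
  set p := D.simple i
  have hp := g.simple_lt i hi
  have hv' : s * v * s⁻¹ ∈ D.borelSubgroup F :=
    pos_le_borel (UP_posBut_le g i (nS_conj_posBut h hi hv))
  have e : s * (v * xG g p a * tor D A c) * n = (s * v * s⁻¹) * (s * xG g p a * n) * tor D A d := by
    rw [← hd]; group
  rw [e]
  suffices s * xG g p a * n ∈
      DoubleCoset.doubleCoset (s * n) (D.borelSubgroup F : Set (GL D.Idx F)) (D.borelSubgroup F) ∪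
      DoubleCoset.doubleCoset n (D.borelSubgroup F : Set (GL D.Idx F)) (D.borelSubgroup F) by
    rcases this with h' | h'
    · obtain ⟨x, hx, y, hy, e'⟩ := DoubleCoset.mem_doubleCoset.1 h'
      exact Or.inl (DoubleCoset.mem_doubleCoset.2 ⟨(s * v * s⁻¹) * x, mul_mem hv' hx,
        y * tor D A d, mul_mem hy (tor_mem_borel g d), by rw [e']; group⟩)
    · obtain ⟨x, hx, y, hy, e'⟩ := DoubleCoset.mem_doubleCoset.1 h'
      exact Or.inr (DoubleCoset.mem_doubleCoset.2 ⟨(s * v * s⁻¹) * x, mul_mem hv' hx,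
        y * tor D A d, mul_mem hy (tor_mem_borel g d), by rw [e']; group⟩)
  obtain ⟨σ, hσ⟩ := exists_acts g hn
  obtain ⟨q, hq, hσq⟩ := hσ.surj hp
  rcases pos_or_pos_neg g hq with hpos | hneg
  · obtain ⟨a', ha'⟩ := hσ.push hq a
    rw [hσq] at ha'
    refine Or.inl (DoubleCoset.mem_doubleCoset.2 ⟨1, one_mem _, _, xG_mem_borel g hpos a', ?_⟩)
    rw [mul_assoc s, ha']; group
  rcases eq_or_ne a 0 with rfl | ha
  · exact Or.inl (DoubleCoset.mem_doubleCoset.2 ⟨1, one_mem _, 1, one_mem _, by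
      rw [xG_zero]; group⟩)
  refine Or.inr ?_
  have hv0 : (A.eta i p : F) * a ≠ 0 := mul_ne_zero (eta_ne_zero g hi hp) ha
  have e1 : s * xG g p a = xG g (A.neg p) ((A.eta i p : F) * a) * s := by
    rw [← refl_simple g hi, ← nS_conj_xG g hi hp a, inv_mul_cancel_right]
  set w := (A.eta i p : F) * a
  obtain ⟨f, hf⟩ := nG_simple_mem g hi (b := -w⁻¹) (neg_ne_zero.2 (inv_ne_zero hv0))
  have e2 : xG g (A.neg p) w = xG g p w⁻¹ * (tor D A f * s) * xG g p w⁻¹ := by
    rw [← hf, nG, g.neg_eq p hp, inv_neg, inv_inv, neg_neg]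
    rw [← xG_inv g p w⁻¹]
    group
  have hσ' : Acts g (s * n) (A.refl i ∘ σ) := (acts_nS g hi).mul hσ
  obtain ⟨a', ha'⟩ := hσ'.push (g.neg_lt q hq) w⁻¹
  rw [Function.comp_apply, hσ.map.map_neg g hq, hσq, g.refl_neg i hi p hp, refl_simple g hi,
    g.neg_neg p hp] at ha'
  obtain ⟨z, hz⟩ := nS_sq_mem (F := F) g hi
  refine DoubleCoset.mem_doubleCoset.2 ⟨xG g p w⁻¹ * tor D A f * tor D A z,
    mul_mem (mul_mem (xG_mem_borel g (simple_pos g hi) _) (tor_mem_borel g f)) (tor_mem_borel g z),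
    xG g (A.neg q) a', xG_mem_borel g hneg a', ?_⟩
  rw [e1, e2, hz]
  simp only [mul_assoc]
  rw [ha']
  simp only [s, mul_assoc]

lemma nS_mem_group (g : Good D A) (i : ℕ) : nS F g i ∈ D.group F := nG_mem_group g _ _

lemma borel_sup_monomial (g : Good D A) :
    D.borelSubgroup F ⊔ D.monomialSubgroup F = D.group F := by
  refine le_antisymm (sup_le (borel_le_group g) (monomialSubgroup_le_group g)) ?_
  rw [group_eq g]
  refine (Subgroup.closure_le _).2 ?_
  rintro y ⟨r, t, hr, rfl⟩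
  suffices ∀ r < D.nroots, ∀ t : F, xG g r t ∈ D.borelSubgroup F ⊔ D.monomialSubgroup F from
    this r hr t
  refine root_induction g (fun j hj _ t => ?_) ?_
  · exact (le_sup_left : _ ≤ D.borelSubgroup F ⊔ D.monomialSubgroup F)
      (xG_mem_borel g (simple_pos g hj) t)
  · intro i hi r hr ih t
    have hn : nS F g i ∈ D.borelSubgroup F ⊔ D.monomialSubgroup F :=
      (le_sup_right : _ ≤ D.borelSubgroup F ⊔ D.monomialSubgroup F) (nS_mem_monomial g hi)
    have := mul_mem (mul_mem hn (ih ((A.eta i r : F) * t))) (inv_mem hn)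
    rwa [nS_conj_xG g hi hr, ← mul_assoc, eta_sq g hi hr, one_mul] at this

lemma nS_mul_conj_ne (h : Std D A) {i : ℕ} (hi : i < D.rank) :
    nS F h.good i * xG h.good (D.simple i) 1 * nS F h.good i ∉ D.borelSubgroup F := by
  intro hmem
  have g := h.good
  have hp := g.simple_lt i hi
  obtain ⟨z, hz⟩ := nS_sq_mem (F := F) g hi
  have e : nS F g i * xG g (D.simple i) 1 * nS F g i =
      xG g (A.neg (D.simple i)) ((A.eta i (D.simple i) : F) * 1) * tor D A z := by
    rw [← refl_simple g hi, ← nS_conj_xG g hi hp, hz]; group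
  rw [e, Subgroup.mul_mem_cancel_right _ (tor_mem_borel g z)] at hmem
  have hv : xG g (A.neg (D.simple i)) ((A.eta i (D.simple i) : F) * 1) ∈ D.negUnipotent F := by
    rw [negUnipotent_eq g]
    refine Subgroup.subset_closure ⟨_, _, ?_, rfl⟩
    refine (g.negRoot_iff _ (g.neg_lt _ hp)).2 fun j => ?_
    rw [g.a_neg _ hp]
    linarith [(g.pos_iff _ hp).1 (simple_pos g hi) j]
  have h0 := (Subgroup.mem_bot.1 ((borel_inf_negUnipotent h).le ⟨hmem, hv⟩))
  rw [mul_one] at h0
  exact xG_ne_one g (g.neg_lt _ hp) (eta_ne_zero g hi hp) h0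
where
  xG_ne_one (g : Good D A) {r : ℕ} (hr : r < D.nroots) {t : F} (ht : t ≠ 0) : xG g r t ≠ 1 := by
    intro e
    exact g.neg_ne r hr (xG_inj_root g hr (g.neg_lt r hr) ht (e.trans (xG_zero g _).symm)).symm

lemma nS_inj (h : Std D A) {i j : ℕ} (hi : i < D.rank) (hj : j < D.rank)
    (e : (nS F h.good i)⁻¹ * nS F h.good j ∈ D.borelSubgroup F) : i = j := by
  have g := h.good
  have hH : (nS F g i)⁻¹ * nS F g j ∈ D.diagonalSubgroup F := by
    rw [← borel_inf_monomial h]
    exact Subgroup.mem_inf.2 ⟨e, mul_mem (inv_mem (nS_mem_monomial g hi)) (nS_mem_monomial g hj)⟩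
  rw [diagonalSubgroup_eq g] at hH
  obtain ⟨c, hc⟩ := hH
  have e2 : nS F g j = nS F g i * tor D A c := by rw [hc]; group
  have hact := (acts_nS (F := F) g hi).mul (acts_tor g c)
  rw [← e2] at hact
  have := (acts_nS g hj).unique hact (g.simple_lt i hi)
  rw [Function.comp_apply, id, refl_simple g hi] at this
  by_contra hne
  have h1 := congrArg (fun r => A.a r i) this
  simp only [g.a_refl j hj _ (g.simple_lt i hi) i hi, g.a_neg _ (g.simple_lt i hi), if_neg hne,
    sub_zero, g.a_simple i hi i hi, if_true] at h1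
  omega

/-- the BN-pair -/
noncomputable def bnPair (h : Std D A) : Cfsg.BNPair ↥(D.group F) where
  B := (D.borelSubgroup F).subgroupOf (D.group F)
  N := (D.monomialSubgroup F).subgroupOf (D.group F)
  S := {n | ∃ i < D.rank, (n : GL D.Idx F) = nS F h.good i}
  sup_eq_top := by
    rw [← Subgroup.subgroupOf_sup (borel_le_group h.good) (monomialSubgroup_le_group h.good),
      borel_sup_monomial h.good, Subgroup.subgroupOf_self]
  conj_mem := by
    intro n hn t ht
    have hH : (t : GL D.Idx F) ∈ D.diagonalSubgroup F := by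
      rw [← borel_inf_monomial h]; exact ⟨ht.1, ht.2⟩
    rw [diagonalSubgroup_eq h.good] at hH
    obtain ⟨c, hc⟩ := hH
    obtain ⟨d, hd⟩ := monomial_conj_tor h.good (Subgroup.mem_subgroupOf.1 hn) c
    rw [Subgroup.mem_subgroupOf]
    push_cast
    rw [← hc, hd]
    exact tor_mem_borel h.good d
  subset := by
    rintro n ⟨i, hi, e⟩
    simp only [SetLike.mem_coe, Subgroup.mem_subgroupOf, e]
    exact nS_mem_monomial h.good hi
  sq_mem := by
    rintro n ⟨i, hi, e⟩
    rw [Subgroup.mem_subgroupOf, Subgroup.coe_mul, e]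
    obtain ⟨z, hz⟩ := nS_sq_mem (F := F) h.good hi
    rw [← hz]
    exact tor_mem_borel h.good z
  inj := by
    rintro s ⟨i, hi, e⟩ s' ⟨j, hj, e'⟩ hmem
    rw [Subgroup.mem_subgroupOf, Subgroup.coe_mul, Subgroup.coe_inv, e, e'] at hmem
    exact Subtype.ext (by rw [e, e', nS_inj h hi hj hmem])
  closure_sup := by
    refine le_antisymm (sup_le ((Subgroup.closure_le _).2 ?_) inf_le_right) ?_
    · rintro n ⟨i, hi, e⟩
      simp only [SetLike.mem_coe, Subgroup.mem_subgroupOf, e]
      exact nS_mem_monomial h.good hi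
    · rintro ⟨y, hy⟩ hn
      rw [Subgroup.mem_subgroupOf] at hn
      have hle : D.monomialSubgroup F ≤
          (Subgroup.closure {n : ↥(D.group F) | ∃ i < D.rank, (n : GL D.Idx F) = nS F h.good i} ⊔
            (D.borelSubgroup F).subgroupOf (D.group F) ⊓
              (D.monomialSubgroup F).subgroupOf (D.group F)).map (D.group F).subtype := by
        rw [monomialSubgroup_eq h.good, Subgroup.map_sup]
        refine sup_le (le_trans ?_ le_sup_right) (le_trans ?_ le_sup_left)
        · intro z hz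
          have hz2 : z ∈ D.borelSubgroup F ⊓ D.monomialSubgroup F := by
            rw [borel_inf_monomial h]; exact hz
          exact ⟨⟨z, diagonalSubgroup_le_group h.good hz⟩, ⟨hz2.1,
            by rw [← monomialSubgroup_eq h.good]; exact hz2.2⟩, rfl⟩
        · rw [Subgroup.closure_le]
          rintro z ⟨i, hi, rfl⟩
          exact ⟨⟨_, nS_mem_group h.good i⟩, Subgroup.subset_closure ⟨i, hi, rfl⟩, rfl⟩
      obtain ⟨z, hz, e⟩ := hle hn
      rwa [show (⟨y, hy⟩ : ↥(D.group F)) = z from Subtype.ext e.symm]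
  mul_mem_union := by
    rintro s ⟨i, hi, e⟩ n hn b hb
    rw [Subgroup.mem_subgroupOf] at hn hb
    have := bn_rule h hi hn hb
    rw [← e, ← Subgroup.coe_mul, ← Subgroup.coe_mul] at this
    have lift : ∀ m : ↥(D.group F), ((s * b * n : ↥(D.group F)) : GL D.Idx F) ∈
        DoubleCoset.doubleCoset (m : GL D.Idx F) (D.borelSubgroup F : Set (GL D.Idx F))
          (D.borelSubgroup F) →
        s * b * n ∈ DoubleCoset.doubleCoset m
          ((D.borelSubgroup F).subgroupOf (D.group F) : Set ↥(D.group F))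
          ((D.borelSubgroup F).subgroupOf (D.group F)) := by
      intro m hm
      obtain ⟨x, hx, y, hy, e'⟩ := DoubleCoset.mem_doubleCoset.1 hm
      exact DoubleCoset.mem_doubleCoset.2 ⟨⟨x, borel_le_group h.good hx⟩, hx,
        ⟨y, borel_le_group h.good hy⟩, hy, Subtype.ext e'⟩
    rcases this with h' | h'
    · rw [← Subgroup.coe_mul] at h'
      exact Or.inl (lift _ h')
    · exact Or.inr (lift _ h')
  conj_ne := by
    rintro s ⟨i, hi, e⟩ hB
    have hx : (⟨xG h.good (D.simple i) 1, xG_mem_group h.good _ _⟩ : ↥(D.group F)) ∈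
        (D.borelSubgroup F).subgroupOf (D.group F) :=
      xG_mem_borel h.good (simple_pos h.good hi) 1
    have := (Set.ext_iff.1 hB _).1 ⟨_, hx, rfl⟩
    rw [SetLike.mem_coe, Subgroup.mem_subgroupOf] at this
    push_cast at this
    rw [e] at this
    exact nS_mul_conj_ne h hi this

/-- the minimal parabolic subgroups -/
theorem minimal_parabolic (h : Std D A) {i : ℕ} (hi : i < D.rank) :
    ∃ P : Subgroup (GL D.Idx F), (P : Set (GL D.Idx F)) =
      (D.borelSubgroup F : Set (GL D.Idx F)) ∪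
        DoubleCoset.doubleCoset (nS F h.good i) (D.borelSubgroup F : Set (GL D.Idx F))
          (D.borelSubgroup F) := by
  set B := D.borelSubgroup F
  set s := nS F h.good i
  obtain ⟨z, hz⟩ := nS_sq_mem (F := F) h.good hi
  have hss : s * s ∈ B := hz ▸ tor_mem_borel h.good z
  have mem : ∀ {x : GL D.Idx F}, x ∈ DoubleCoset.doubleCoset s (B : Set (GL D.Idx F)) B ↔
      ∃ a ∈ B, ∃ b ∈ B, x = a * s * b := DoubleCoset.mem_doubleCoset
  refine ⟨{ carrier := (B : Set (GL D.Idx F)) ∪ DoubleCoset.doubleCoset s B B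
            one_mem' := Or.inl (one_mem B)
            mul_mem' := ?_
            inv_mem' := ?_ }, rfl⟩
  · intro x y hx hy
    rcases hx with hx | hx
    · rcases hy with hy | hy
      · exact Or.inl (mul_mem hx hy)
      · obtain ⟨a, ha, b, hb, rfl⟩ := mem.1 hy
        exact Or.inr (mem.2 ⟨x * a, mul_mem hx ha, b, hb, by group⟩)
    · obtain ⟨a, ha, b, hb, rfl⟩ := mem.1 hx
      rcases hy with hy | hy
      · exact Or.inr (mem.2 ⟨a, ha, b * y, mul_mem hb hy, by group⟩)
      · obtain ⟨a', ha', b', hb', rfl⟩ := mem.1 hy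
        rcases bn_rule h hi (nS_mem_monomial h.good hi) (mul_mem hb ha') with h' | h'
        · obtain ⟨u, hu, v, hv, e⟩ := DoubleCoset.mem_doubleCoset.1 h'
          refine Or.inl ?_
          rw [show a * s * b * (a' * s * b') = a * (s * (b * a') * s) * b' by group, e]
          exact mul_mem (mul_mem ha (mul_mem (mul_mem hu hss) hv)) hb'
        · obtain ⟨u, hu, v, hv, e⟩ := DoubleCoset.mem_doubleCoset.1 h'
          refine Or.inr (mem.2 ⟨a * u, mul_mem ha hu, v * b', mul_mem hv hb', ?_⟩)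
          rw [show a * s * b * (a' * s * b') = a * (s * (b * a') * s) * b' by group, e]
          simp only [s, mul_assoc]
  · intro x hx
    rcases hx with hx | hx
    · exact Or.inl (inv_mem (SetLike.mem_coe.1 hx))
    · obtain ⟨a, ha, b, hb, rfl⟩ := mem.1 hx
      exact Or.inr (mem.2 ⟨b⁻¹, inv_mem hb, (s * s)⁻¹ * a⁻¹, mul_mem (inv_mem hss) (inv_mem ha),
        by group⟩)

end CfsgLib.Chev
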