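/-
Basic theory of (B,N)-pairs (Tits systems) for `Cfsg.BNPair`: Bruhat decomposition, lengths,
exchange, standard parabolic subgroups.
-/
import Mathlib
import Cfsg.Prelude.Def_LieExceptional

set_option autoImplicit false

namespace CfsgLib.Chev.BN

open Cfsg

variable {G : Type*} [Group G] (P : Cfsg.BNPair G)

/-- the double coset `B n B` -/
def cell (n : G) : Set G := DoubleCoset.doubleCoset n (P.B : Set G) P.B

/-- `n` and `n'` agree modulo `B` (on the right). -/
def Eqv (n n' : G) : Prop := n⁻¹ * n' ∈ P.B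

variable {P}

lemma eqv_refl (n : G) : Eqv P n n := by simp [Eqv]

lemma eqv_symm {n n' : G} (h : Eqv P n n') : Eqv P n' n := by
  simpa [Eqv] using P.B.inv_mem h

lemma eqv_trans {a b c : G} (h : Eqv P a b) (h' : Eqv P b c) : Eqv P a c := by
  simpa [Eqv, mul_assoc] using P.B.mul_mem h h'

lemma eqv_mul_left (a : G) {n n' : G} (h : Eqv P n n') : Eqv P (a * n) (a * n') := by
  simpa [Eqv, mul_assoc] using h

lemma eqv_mul_left_iff (a : G) {n n' : G} : Eqv P (a * n) (a * n') ↔ Eqv P n n' := by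
  simp [Eqv, mul_assoc]

lemma mem_cell {g n : G} : g ∈ cell P n ↔ ∃ b ∈ P.B, ∃ b' ∈ P.B, g = b * n * b' :=
  DoubleCoset.mem_doubleCoset

lemma self_mem_cell (n : G) : n ∈ cell P n := DoubleCoset.mem_doubleCoset_self _ _ n

lemma cell_eq_of_mem {g n : G} (h : g ∈ cell P n) : cell P g = cell P n :=
  DoubleCoset.doubleCoset_eq_of_mem h

lemma mul_mem_cell_left {b g n : G} (hb : b ∈ P.B) (h : g ∈ cell P n) : b * g ∈ cell P n := by
  obtain ⟨c, hc, c', hc', rfl⟩ := mem_cell.1 h
  exact mem_cell.2 ⟨b * c, mul_mem hb hc, c', hc', by group⟩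

lemma mul_mem_cell_right {b g n : G} (hb : b ∈ P.B) (h : g ∈ cell P n) : g * b ∈ cell P n := by
  obtain ⟨c, hc, c', hc', rfl⟩ := mem_cell.1 h
  exact mem_cell.2 ⟨c, hc, c' * b, mul_mem hc' hb, by group⟩

lemma cell_eq_of_eqv {n n' : G} (h : Eqv P n n') : cell P n = cell P n' := by
  refine (cell_eq_of_mem ?_).symm
  exact mem_cell.2 ⟨1, one_mem _, n⁻¹ * n', h, by group⟩

lemma cell_eq_B {n : G} (h : n ∈ P.B) : cell P n = (P.B : Set G) := by
  ext g
  refine ⟨fun hg => ?_, fun hg => mem_cell.2 ⟨g * n⁻¹, mul_mem hg (inv_mem h), 1, one_mem _, by group⟩⟩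
  obtain ⟨b, hb, b', hb', rfl⟩ := mem_cell.1 hg
  exact mul_mem (mul_mem hb h) hb'

lemma S_mem_N {s : G} (hs : s ∈ P.S) : s ∈ P.N := P.subset hs

lemma sq_mem_T {s : G} (hs : s ∈ P.S) : s * s ∈ P.B ⊓ P.N :=
  ⟨P.sq_mem s hs, mul_mem (P.subset hs) (P.subset hs)⟩

lemma conj_mem_T {n t : G} (hn : n ∈ P.N) (ht : t ∈ P.B ⊓ P.N) : n * t * n⁻¹ ∈ P.B ⊓ P.N :=
  ⟨P.conj_mem n hn t ht, mul_mem (mul_mem hn (show t ∈ P.N from ht.2)) (P.N.inv_mem hn)⟩

lemma conj_mem_T' {n t : G} (hn : n ∈ P.N) (ht : t ∈ P.B ⊓ P.N) : n⁻¹ * t * n ∈ P.B ⊓ P.N := by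
  simpa using conj_mem_T (inv_mem hn) ht

/-- `t * n ≡ n` for `t ∈ B ∩ N`. -/
lemma eqv_T_mul {n t : G} (hn : n ∈ P.N) (ht : t ∈ P.B ⊓ P.N) : Eqv P n (t * n) := by
  simpa [Eqv, mul_assoc] using (conj_mem_T' hn ht).1

/-- right multiplication by an element of `N` respects `Eqv` on `N`. -/
lemma eqv_mul_right {a n n' : G} (ha : a ∈ P.N) (hn : n ∈ P.N) (hn' : n' ∈ P.N) (h : Eqv P n n') :
    Eqv P (n * a) (n' * a) := by
  have h' : n⁻¹ * n' ∈ P.B ⊓ P.N := ⟨h, mul_mem (P.N.inv_mem hn) hn'⟩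
  have := conj_mem_T' ha h'
  simpa [Eqv, mul_assoc] using this.1

lemma sq_mul_eqv {s n : G} (hs : s ∈ P.S) (hn : n ∈ P.N) : Eqv P (s * (s * n)) n := by
  refine eqv_symm ?_
  rw [← mul_assoc]
  exact eqv_T_mul hn (sq_mem_T hs)

lemma inv_eqv_self {s : G} (hs : s ∈ P.S) : Eqv P s⁻¹ s := by
  simpa [Eqv] using P.sq_mem s hs

lemma not_mem_B {s : G} (hs : s ∈ P.S) : s ∉ P.B := by
  intro h
  refine P.conj_ne s hs (Set.ext fun x => ⟨?_, fun hx => ?_⟩)
  · rintro ⟨b, hb, rfl⟩
    exact mul_mem (mul_mem h hb) h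
  · exact ⟨s⁻¹ * x * s⁻¹, mul_mem (mul_mem (inv_mem h) hx) (inv_mem h), by group⟩

/-- left rule, element form -/
lemma left_rule {s n b : G} (hs : s ∈ P.S) (hn : n ∈ P.N) (hb : b ∈ P.B) :
    s * b * n ∈ cell P (s * n) ∨ s * b * n ∈ cell P n :=
  P.mul_mem_union s hs n hn b hb

lemma left_rule_cell {s n g : G} (hs : s ∈ P.S) (hn : n ∈ P.N) (hg : g ∈ cell P n) :
    s * g ∈ cell P (s * n) ∨ s * g ∈ cell P n := by
  obtain ⟨b, hb, b', hb', rfl⟩ := mem_cell.1 hg
  have e : s * (b * n * b') = s * b * n * b' := by group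
  rw [e]
  exact (left_rule hs hn hb).imp (mul_mem_cell_right hb') (mul_mem_cell_right hb')

lemma left_rule_inv {s n g : G} (hs : s ∈ P.S) (hn : n ∈ P.N) (hg : g ∈ cell P n) :
    s⁻¹ * g ∈ cell P (s * n) ∨ s⁻¹ * g ∈ cell P n := by
  have e : s⁻¹ * g = (s * s)⁻¹ * (s * g) := by group
  rw [e]
  exact (left_rule_cell hs hn hg).imp (mul_mem_cell_left (inv_mem (P.sq_mem s hs)))
    (mul_mem_cell_left (inv_mem (P.sq_mem s hs)))

/-- right rule -/
lemma right_rule {s n g : G} (hs : s ∈ P.S) (hn : n ∈ P.N) (hg : g ∈ cell P n) :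
    g * s ∈ cell P (n * s) ∨ g * s ∈ cell P n := by
  obtain ⟨b, hb, b', hb', rfl⟩ := mem_cell.1 hg
  have hi : (b * n * b')⁻¹ ∈ cell P n⁻¹ :=
    mem_cell.2 ⟨b'⁻¹, inv_mem hb', b⁻¹, inv_mem hb, by group⟩
  rcases left_rule_inv hs (inv_mem hn) hi with h | h <;>
    obtain ⟨c, hc, c', hc', e⟩ := mem_cell.1 h
  · left
    have e1 : b * n * b' * s = c'⁻¹ * (s * n⁻¹)⁻¹ * c⁻¹ := by
      have := congrArg (·⁻¹) e
      simpa [mul_assoc] using this
    have e2 : Eqv P (n * s⁻¹) (n * s) := eqv_mul_left n (inv_eqv_self hs)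
    rw [← cell_eq_of_eqv e2, e1]
    exact mem_cell.2 ⟨c'⁻¹, inv_mem hc', c⁻¹, inv_mem hc, by group⟩
  · right
    have e1 : b * n * b' * s = c'⁻¹ * n * c⁻¹ := by
      have := congrArg (·⁻¹) e
      simpa [mul_assoc] using this
    rw [e1]
    exact mem_cell.2 ⟨c'⁻¹, inv_mem hc', c⁻¹, inv_mem hc, by group⟩

/-- the union of the cells indexed by a subgroup generated by a subset of `S` is closed. -/
lemma exists_cell_of_mem_sup {J : Set G} (hJ : J ⊆ P.S) {g : G} (hg : g ∈ P.B ⊔ Subgroup.closure J) :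
    ∃ n ∈ Subgroup.closure J, g ∈ cell P n := by
  have hJN : Subgroup.closure J ≤ P.N := (Subgroup.closure_le _).2 (hJ.trans P.subset)
  rw [← Subgroup.closure_eq P.B, ← Subgroup.closure_union] at hg
  induction hg using Subgroup.closure_induction_left with
  | one => exact ⟨1, one_mem _, self_mem_cell 1⟩
  | mul_left x hx y _ ih =>
    obtain ⟨n, hn, hyn⟩ := ih
    rcases hx with hx | hx
    · exact ⟨n, hn, mul_mem_cell_left hx hyn⟩
    · rcases left_rule_cell (hJ hx) (hJN hn) hyn with h | h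
      · exact ⟨x * n, mul_mem (Subgroup.subset_closure hx) hn, h⟩
      · exact ⟨n, hn, h⟩
  | inv_mul_cancel x hx y _ ih =>
    obtain ⟨n, hn, hyn⟩ := ih
    rcases hx with hx | hx
    · exact ⟨n, hn, mul_mem_cell_left (inv_mem hx) hyn⟩
    · rcases left_rule_inv (hJ hx) (hJN hn) hyn with h | h
      · exact ⟨x * n, mul_mem (Subgroup.subset_closure hx) hn, h⟩
      · exact ⟨n, hn, h⟩

lemma mem_parabolic_iff {J : Set G} (hJ : J ⊆ P.S) {g : G} :
    g ∈ P.parabolic J ↔ ∃ n ∈ Subgroup.closure J, g ∈ cell P n := by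
  refine ⟨exists_cell_of_mem_sup hJ, ?_⟩
  rintro ⟨n, hn, h⟩
  obtain ⟨b, hb, b', hb', rfl⟩ := mem_cell.1 h
  have hB : P.B ≤ P.parabolic J := le_sup_left
  exact mul_mem (mul_mem (hB hb) ((le_sup_right : Subgroup.closure J ≤ P.parabolic J) hn)) (hB hb')

lemma parabolic_S : P.parabolic P.S = ⊤ := by
  have hB : P.B ≤ P.parabolic P.S := le_sup_left
  rw [eq_top_iff, ← P.sup_eq_top]
  refine sup_le hB ?_
  rw [← P.closure_sup]
  exact sup_le le_sup_right (le_trans inf_le_left hB)

lemma bruhat (g : G) : ∃ n ∈ P.N, g ∈ cell P n := by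
  obtain ⟨n, hn, h⟩ := (mem_parabolic_iff (P := P) subset_rfl).1
    (show g ∈ P.parabolic P.S by rw [parabolic_S]; trivial)
  exact ⟨n, (Subgroup.closure_le _).2 P.subset hn, h⟩

/-- Elements of `closure J` are products of words in `J`, modulo `B`. -/
lemma exists_word_of_mem_closure {J : Set G} (hJ : J ⊆ P.S) {n : G}
    (hn : n ∈ Subgroup.closure J) : ∃ l : List G, (∀ x ∈ l, x ∈ J) ∧ Eqv P l.prod n := by
  have hN : ∀ l : List G, (∀ x ∈ l, x ∈ J) → l.prod ∈ P.N := fun l hl =>
    list_prod_mem fun x hx => P.subset (hJ (hl x hx))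
  induction hn using Subgroup.closure_induction_left with
  | one => exact ⟨[], by simp, eqv_refl 1⟩
  | mul_left x hx y _ ih =>
    obtain ⟨l, hl, e⟩ := ih
    exact ⟨x :: l, by simpa [hx] using hl, by simpa using eqv_mul_left x e⟩
  | inv_mul_cancel x hx y hy ih =>
    obtain ⟨l, hl, e⟩ := ih
    have hyN : y ∈ P.N := (Subgroup.closure_le _).2 (hJ.trans P.subset) hy
    refine ⟨x :: l, by simpa [hx] using hl, ?_⟩
    simp only [List.prod_cons]
    refine eqv_trans (eqv_mul_left x e) (eqv_symm ?_)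
    exact eqv_mul_right hyN (inv_mem (P.subset (hJ hx))) (P.subset (hJ hx)) (inv_eqv_self (hJ hx))

/-- every element of `N` is a word in `S` modulo `B`. -/
lemma exists_word {n : G} (hn : n ∈ P.N) : ∃ l : List G, (∀ x ∈ l, x ∈ P.S) ∧ Eqv P l.prod n := by
  rw [← P.closure_sup, ← Subgroup.closure_eq (P.B ⊓ P.N), ← Subgroup.closure_union] at hn
  have hle : Subgroup.closure (P.S ∪ ((P.B ⊓ P.N : Subgroup G) : Set G)) ≤ P.N :=
    (Subgroup.closure_le _).2 (Set.union_subset P.subset fun t ht => ht.2)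
  induction hn using Subgroup.closure_induction_left with
  | one => exact ⟨[], by simp, eqv_refl 1⟩
  | mul_left x hx y hy ih =>
    obtain ⟨l, hl, e⟩ := ih
    rcases hx with hx | hx
    · exact ⟨x :: l, by simpa [hx] using hl, by simpa using eqv_mul_left x e⟩
    · exact ⟨l, hl, eqv_trans e (eqv_T_mul (hle hy) hx)⟩
  | inv_mul_cancel x hx y hy ih =>
    obtain ⟨l, hl, e⟩ := ih
    rcases hx with hx | hx
    · refine ⟨x :: l, by simpa [hx] using hl, ?_⟩
      simp only [List.prod_cons]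
      refine eqv_trans (eqv_mul_left x e) (eqv_symm ?_)
      exact eqv_mul_right (hle hy) (inv_mem (P.subset hx)) (P.subset hx) (inv_eqv_self hx)
    · exact ⟨l, hl, eqv_trans e (eqv_T_mul (hle hy) (inv_mem hx))⟩

variable (P) in
/-- the length of `n` with respect to the distinguished generators, modulo `B`. -/
noncomputable def len (n : G) : ℕ :=
  sInf {k | ∃ l : List G, l.length = k ∧ (∀ x ∈ l, x ∈ P.S) ∧ Eqv P l.prod n}

variable (P) in
/-- `l` is a reduced word. -/
def Reduced (l : List G) : Prop := (∀ x ∈ l, x ∈ P.S) ∧ len P l.prod = l.length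

lemma prod_mem_N {l : List G} (hl : ∀ x ∈ l, x ∈ P.S) : l.prod ∈ P.N :=
  list_prod_mem fun x hx => P.subset (hl x hx)

lemma len_le {l : List G} (hl : ∀ x ∈ l, x ∈ P.S) {n : G} (e : Eqv P l.prod n) :
    len P n ≤ l.length := Nat.sInf_le ⟨l, rfl, hl, e⟩

lemma len_congr {n n' : G} (e : Eqv P n n') : len P n = len P n' := by
  have : ∀ l : List G, Eqv P l.prod n ↔ Eqv P l.prod n' :=
    fun l => ⟨fun h => eqv_trans h e, fun h => eqv_trans h (eqv_symm e)⟩
  simp [len, this]

lemma exists_reduced {n : G} (hn : n ∈ P.N) : ∃ l : List G, Reduced P l ∧ Eqv P l.prod n := by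
  obtain ⟨l₀, h₀, e₀⟩ := exists_word hn
  obtain ⟨l, hk, hl, e⟩ := Nat.sInf_mem (s := {k | ∃ l : List G, l.length = k ∧
    (∀ x ∈ l, x ∈ P.S) ∧ Eqv P l.prod n}) ⟨_, l₀, rfl, h₀, e₀⟩
  exact ⟨l, ⟨hl, by rw [len_congr e]; exact hk.symm⟩, e⟩

lemma len_S_mul_le {s n : G} (hs : s ∈ P.S) (hn : n ∈ P.N) : len P (s * n) ≤ len P n + 1 := by
  obtain ⟨l, hl, e⟩ := exists_reduced hn
  have := len_le (l := s :: l) (fun x hx => by
    rcases List.mem_cons.1 hx with rfl | hx
    exacts [hs, hl.1 x hx]) (n := s * n) (by simpa using eqv_mul_left s e)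
  rw [← len_congr e, hl.2]
  simpa using this

lemma len_le_S_mul {s n : G} (hs : s ∈ P.S) (hn : n ∈ P.N) : len P n ≤ len P (s * n) + 1 := by
  have := len_S_mul_le hs (mul_mem (P.subset hs) hn)
  rwa [len_congr (sq_mul_eqv hs hn)] at this

lemma len_mul_S_le {s n : G} (hs : s ∈ P.S) (hn : n ∈ P.N) : len P (n * s) ≤ len P n + 1 := by
  obtain ⟨l, hl, e⟩ := exists_reduced hn
  have := len_le (l := l ++ [s]) (fun x hx => by
    rcases List.mem_append.1 hx with hx | hx
    exacts [hl.1 x hx, List.mem_singleton.1 hx ▸ hs]) (n := n * s)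
    (by simpa using eqv_mul_right (P.subset hs) (prod_mem_N hl.1) hn e)
  rw [← len_congr e, hl.2]
  simpa using this

lemma len_eq_zero {n : G} (hn : n ∈ P.N) : len P n = 0 ↔ n ∈ P.B := by
  refine ⟨fun h => ?_, fun h => Nat.le_zero.1 (len_le (l := []) (by simp) (by simpa [Eqv] using h))⟩
  obtain ⟨l, hl, e⟩ := exists_reduced hn
  have : l = [] := List.length_eq_zero_iff.1 (by rw [← hl.2, len_congr e, h])
  subst this
  simpa [Eqv] using e

/-- uniqueness in the Bruhat decomposition. -/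
lemma eqv_of_cell_eq_aux : ∀ k : ℕ, ∀ n n' : G, n ∈ P.N → n' ∈ P.N → len P n = k →
    len P n ≤ len P n' → cell P n = cell P n' → Eqv P n n' := by
  intro k
  induction k using Nat.strong_induction_on with
  | _ k ih =>
    intro n n' hn hn' hk hle hc
    have hmem : n ∈ cell P n' := hc ▸ self_mem_cell n
    rcases Nat.eq_zero_or_pos (len P n) with h0 | hpos
    · have hB := (len_eq_zero hn).1 h0
      have : n' ∈ P.B := by
        have : n' ∈ cell P n := hc.symm ▸ self_mem_cell n'
        rwa [cell_eq_B hB] at this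
      exact mul_mem (inv_mem hB) this
    obtain ⟨l, hl, e⟩ := exists_reduced hn
    cases l with
    | nil =>
      have h2 : len P n = 0 := by
        have := hl.2
        rw [len_congr e] at this
        exact this
      omega
    | cons s m =>
      have hs : s ∈ P.S := hl.1 s (by simp)
      have hm : ∀ x ∈ m, x ∈ P.S := fun x hx => hl.1 x (by simp [hx])
      have hmN := prod_mem_N hm
      have hlm : len P m.prod < len P n := by
        have h1 := len_le hm (eqv_refl (P := P) m.prod)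
        have h2 : len P n = m.length + 1 := by rw [← len_congr e, hl.2]; simp
        omega
      have hsm : s * m.prod ∈ cell P n' := by
        rw [← hc, ← cell_eq_of_eqv e]
        simpa using self_mem_cell (P := P) (s :: m).prod
      have := left_rule_inv hs hn' hsm
      rw [inv_mul_cancel_left] at this
      rcases this with h | h
      · have hsn' := mul_mem (P.subset hs) hn'
        have hle' : len P m.prod ≤ len P (s * n') := by
          have := len_le_S_mul hs hn'
          omega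
        have e' := ih _ (hk ▸ hlm) _ _ hmN hsn' rfl hle' (cell_eq_of_mem h)
        refine eqv_trans (eqv_symm e) ?_
        simp only [List.prod_cons]
        exact eqv_trans (eqv_mul_left s e') (sq_mul_eqv hs hn')
      · have e' := ih _ (hk ▸ hlm) _ _ hmN hn' rfl (by omega) (cell_eq_of_mem h)
        have := len_congr e'
        omega

lemma eqv_of_cell_eq {n n' : G} (hn : n ∈ P.N) (hn' : n' ∈ P.N) (h : cell P n = cell P n') :
    Eqv P n n' := by
  rcases le_total (len P n) (len P n') with hle | hle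
  · exact eqv_of_cell_eq_aux _ n n' hn hn' rfl hle h
  · exact eqv_symm (eqv_of_cell_eq_aux _ n' n hn' hn rfl hle h.symm)

lemma cell_eq_iff {n n' : G} (hn : n ∈ P.N) (hn' : n' ∈ P.N) :
    cell P n = cell P n' ↔ Eqv P n n' := ⟨eqv_of_cell_eq hn hn', cell_eq_of_eqv⟩

lemma eqv_of_mem_cells {g n n' : G} (hn : n ∈ P.N) (hn' : n' ∈ P.N) (h : g ∈ cell P n)
    (h' : g ∈ cell P n') : Eqv P n n' :=
  eqv_of_cell_eq hn hn' ((cell_eq_of_mem h).symm.trans (cell_eq_of_mem h'))

lemma not_eqv_S_mul {s n : G} (hs : s ∈ P.S) (hn : n ∈ P.N) : ¬ Eqv P (s * n) n := by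
  intro h
  apply not_mem_B hs
  have := eqv_mul_right (inv_mem hn) (mul_mem (P.subset hs) hn) hn h
  rw [mul_inv_cancel_right, mul_inv_cancel] at this
  simpa [Eqv] using this

/-- if the length does not go down, `s B n ⊆ B s n B`. -/
lemma mem_cell_of_len_le {s : G} (hs : s ∈ P.S) : ∀ {n : G}, n ∈ P.N → len P n ≤ len P (s * n) →
    ∀ b ∈ P.B, s * b * n ∈ cell P (s * n) := by
  suffices ∀ k, ∀ n, n ∈ P.N → len P n = k → len P n ≤ len P (s * n) →
      ∀ b ∈ P.B, s * b * n ∈ cell P (s * n) from fun {n} hn hle => this _ n hn rfl hle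
  intro k
  induction k using Nat.strong_induction_on with
  | _ k ih =>
    intro n hn hk hle b hb
    obtain ⟨l, hl, e⟩ := exists_reduced hn
    rcases List.eq_nil_or_concat' l with rfl | ⟨m, s', rfl⟩
    · have : n ∈ P.B := by simpa [Eqv] using e
      exact mem_cell.2 ⟨1, one_mem _, n⁻¹ * b * n, mul_mem (mul_mem (inv_mem this) hb) this, by group⟩
    have hs' : s' ∈ P.S := hl.1 s' (by simp)
    have hm : ∀ x ∈ m, x ∈ P.S := fun x hx => hl.1 x (by simp [hx])
    have hmN := prod_mem_N hm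
    have hsmN := mul_mem (P.subset hs) hmN
    have hlm : len P m.prod + 1 ≤ len P n := by
      have h1 := len_le hm (eqv_refl (P := P) m.prod)
      have h2 : len P n = m.length + 1 := by rw [← len_congr e, hl.2]; simp
      omega
    have e' : Eqv P (m.prod * s') n := by simpa using e
    have he : len P (s * n) ≤ len P (s * m.prod) + 1 := by
      have := len_mul_S_le hs' hsmN
      rwa [mul_assoc, len_congr (eqv_mul_left s e')] at this
    have h1 := ih _ (by omega) m.prod hmN rfl (by omega) b hb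
    rcases right_rule hs' hsmN h1 with h | h
    · have e'' : s * b * n = s * b * m.prod * s' * ((m.prod * s')⁻¹ * n) := by group
      have h := mul_mem_cell_right e' h
      rw [← e'', mul_assoc s m.prod s', cell_eq_of_eqv (eqv_mul_left s e')] at h
      exact h
    · have h := mul_mem_cell_right e' h
      have e'' : s * b * m.prod * s' * ((m.prod * s')⁻¹ * n) = s * b * n := by group
      rw [e''] at h
      rcases left_rule hs hn hb with h' | h'
      · exact h'
      · have := eqv_of_mem_cells hsmN hn h h'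
        have h3 : Eqv P m.prod (s * n) :=
          eqv_trans (eqv_symm (sq_mul_eqv hs hmN)) (eqv_mul_left s this)
        have := len_congr h3
        omega

/-- if the length does not go up, `s B n` meets `B n B`. -/
lemma exists_mem_cell_of_le_len {s n : G} (hs : s ∈ P.S) (hn : n ∈ P.N)
    (hle : len P (s * n) ≤ len P n) : ∃ b ∈ P.B, s * b * n ∈ cell P n := by
  have hsn := mul_mem (P.subset hs) hn
  obtain ⟨b, hb, hbs⟩ : ∃ b ∈ P.B, s * b * s ∈ cell P s := by
    by_contra hcon
    push Not at hcon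
    have hin : ∀ b ∈ P.B, s * b * s ∈ P.B := fun b hb => by
      rcases left_rule hs (P.subset hs) hb with h | h
      · rwa [cell_eq_B (P.sq_mem s hs)] at h
      · exact absurd h (hcon b hb)
    refine P.conj_ne s hs (Set.ext fun x => ⟨?_, fun hx => ?_⟩)
    · rintro ⟨b, hb, rfl⟩
      exact hin b hb
    · have h1 : (s * s)⁻¹ * x * (s * s)⁻¹ ∈ P.B :=
        mul_mem (mul_mem (inv_mem (P.sq_mem s hs)) hx) (inv_mem (P.sq_mem s hs))
      exact ⟨_, hin _ h1, by group⟩
  obtain ⟨c, hc, c', hc', e⟩ := mem_cell.1 hbs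
  have h2 : len P (s * n) ≤ len P (s * (s * n)) := by
    rw [len_congr (sq_mul_eqv hs hn)]
    exact hle
  have h3 := mem_cell_of_len_le hs hsn h2 c' hc'
  rw [cell_eq_of_eqv (sq_mul_eqv hs hn)] at h3
  refine ⟨b, hb, ?_⟩
  have h4 : s * b * s * (s * n) ∈ cell P n := by
    rw [e, show c * s * c' * (s * n) = c * (s * c' * (s * n)) by group]
    exact mul_mem_cell_left hc h3
  obtain ⟨t, ht, e2⟩ : ∃ t ∈ P.B, s * s * n = n * t := ⟨n⁻¹ * (s * s) * n,
    (conj_mem_T' hn (sq_mem_T hs)).1, by group⟩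
  have : s * b * n = s * b * s * (s * n) * t⁻¹ := by
    have : s * b * s * (s * n) * t⁻¹ = s * b * (s * s * n) * t⁻¹ := by group
    rw [this, e2]; group
  rw [this]
  exact mul_mem_cell_right (inv_mem ht) h4

lemma len_S_mul_ne {s n : G} (hs : s ∈ P.S) (hn : n ∈ P.N) : len P (s * n) ≠ len P n := by
  intro h
  obtain ⟨b, hb, hb'⟩ := exists_mem_cell_of_le_len hs hn h.le
  exact not_eqv_S_mul hs hn
    (eqv_of_mem_cells (mul_mem (P.subset hs) hn) hn (mem_cell_of_len_le hs hn h.ge b hb) hb')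

/-- the exchange condition -/
lemma exchange {s : G} (hs : s ∈ P.S) : ∀ {l : List G}, (∀ x ∈ l, x ∈ P.S) →
    len P (s * l.prod) ≤ len P l.prod →
    ∃ a x c, l = a ++ x :: c ∧ Eqv P (s * a.prod) (a.prod * x) := by
  intro l hl hle
  induction l using List.reverseRecOn with
  | nil =>
    exfalso
    have : len P (1 : G) = 0 := (len_eq_zero (one_mem _)).2 (one_mem _)
    have h2 : len P (s * 1) ≠ len P (1 : G) := len_S_mul_ne hs (one_mem _)
    simp only [List.prod_nil] at hle
    omega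
  | append_singleton m x ih =>
    have hm : ∀ y ∈ m, y ∈ P.S := fun y hy => hl y (by simp [hy])
    have hx : x ∈ P.S := hl x (by simp)
    have hmN := prod_mem_N hm
    by_cases h : len P (s * m.prod) ≤ len P m.prod
    · obtain ⟨a, y, c, rfl, e⟩ := ih hm h
      exact ⟨a, y, c ++ [x], by simp, e⟩
    · refine ⟨m, x, [], rfl, ?_⟩
      have hn : m.prod * x ∈ P.N := mul_mem hmN (P.subset hx)
      simp only [List.prod_append, List.prod_cons, List.prod_nil, mul_one] at hle
      obtain ⟨b, hb, hb'⟩ := exists_mem_cell_of_le_len hs hn hle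
      have h1 := mem_cell_of_len_le hs hmN (by omega) b hb
      rcases right_rule hx (mul_mem (P.subset hs) hmN) h1 with h2 | h2
      · exfalso
        rw [mul_assoc (s * b), mul_assoc s m.prod x] at h2
        exact not_eqv_S_mul hs hn (eqv_of_mem_cells (mul_mem (P.subset hs) hn) hn h2 hb')
      · rw [mul_assoc (s * b)] at h2
        exact eqv_of_mem_cells (mul_mem (P.subset hs) hmN) hn h2 hb'

/-- deletion: any word contains an equivalent reduced word. -/
lemma exists_reduced_sub : ∀ {l : List G}, (∀ x ∈ l, x ∈ P.S) →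
    ∃ l', Reduced P l' ∧ (∀ x ∈ l', x ∈ l) ∧ Eqv P l'.prod l.prod := by
  intro l hl
  induction l with
  | nil => exact ⟨[], ⟨by simp, (len_eq_zero (one_mem _)).2 (one_mem _)⟩, by simp, eqv_refl _⟩
  | cons s m ih =>
    have hs : s ∈ P.S := hl s (by simp)
    obtain ⟨l', hr, hsub, e⟩ := ih fun x hx => hl x (by simp [hx])
    have hlN := prod_mem_N hr.1
    by_cases h : len P (s * l'.prod) ≤ len P l'.prod
    · obtain ⟨a, x, c, rfl, e'⟩ := exchange hs hr.1 h
      have hac : ∀ y ∈ a ++ c, y ∈ P.S := fun y hy => hr.1 y (by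
        rcases List.mem_append.1 hy with h' | h' <;> simp [h'])
      have hxS : x ∈ P.S := hr.1 x (by simp)
      have ha : a.prod ∈ P.N := prod_mem_N fun y hy => hac y (by simp [hy])
      have hc : c.prod ∈ P.N := prod_mem_N fun y hy => hac y (by simp [hy])
      have key : Eqv P (a ++ c).prod (s * (a ++ x :: c).prod) := by
        simp only [List.prod_append, List.prod_cons]
        have h1 : Eqv P (a.prod * c.prod) (s * (s * (a.prod * c.prod))) :=
          eqv_symm (sq_mul_eqv hs (mul_mem ha hc))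
        refine eqv_trans h1 (eqv_mul_left s ?_)
        have := eqv_mul_right hc (mul_mem (P.subset hs) ha) (mul_mem ha (P.subset hxS)) e'
        simpa [mul_assoc] using this
      refine ⟨a ++ c, ⟨hac, ?_⟩, ?_, eqv_trans key (by simpa using eqv_mul_left s e)⟩
      · have h1 := len_le hac (eqv_refl (P := P) (a ++ c).prod)
        have h2 := len_le_S_mul hs hlN
        have h3 := hr.2
        rw [← len_congr key] at h2
        simp only [List.length_append, List.length_cons] at h1 h3 ⊢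
        omega
      · intro y hy
        exact List.mem_cons_of_mem _ (hsub y (by
          rcases List.mem_append.1 hy with h' | h' <;> simp [h']))
    · refine ⟨s :: l', ⟨?_, ?_⟩, ?_, by simpa using eqv_mul_left s e⟩
      · simpa [hs] using hr.1
      · have := len_S_mul_le hs hlN
        have := hr.2
        simp only [List.prod_cons, List.length_cons]
        omega
      · intro y hy
        rcases List.mem_cons.1 hy with rfl | hy
        · simp
        · exact List.mem_cons_of_mem _ (hsub y hy)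

lemma reduced_tail {s : G} {m : List G} (h : Reduced P (s :: m)) : Reduced P m := by
  have hm : ∀ x ∈ m, x ∈ P.S := fun x hx => h.1 x (by simp [hx])
  refine ⟨hm, ?_⟩
  have h1 := len_le hm (eqv_refl (P := P) m.prod)
  have h2 := len_S_mul_le (h.1 s (by simp)) (prod_mem_N hm)
  have h3 := h.2
  simp only [List.prod_cons, List.length_cons] at h3
  omega

/-- the letters of a reduced word of `n` lie in any subgroup containing `B` and `n B n⁻¹`. -/
lemma letters_mem {H : Subgroup G} (hBH : P.B ≤ H) : ∀ {l : List G}, Reduced P l → ∀ {n : G},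
    Eqv P l.prod n → (∀ b ∈ P.B, n * b * n⁻¹ ∈ H) → ∀ x ∈ l, x ∈ H := by
  intro l hr
  induction l with
  | nil => simp
  | cons s m ih =>
    intro n e hconj
    have hs : s ∈ P.S := hr.1 s (by simp)
    have hconj' : ∀ b ∈ P.B, (s * m.prod) * b * (s * m.prod)⁻¹ ∈ H := by
      intro b hb
      have ht : (s * m.prod)⁻¹ * n ∈ P.B := by simpa [Eqv, mul_assoc] using e
      have := hconj _ (mul_mem (mul_mem (inv_mem ht) hb) ht)
      convert this using 1
      group
    have hmt := reduced_tail hr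
    have hmN := prod_mem_N hmt.1
    have hnN := mul_mem (P.subset hs) hmN
    have hle : len P (s * (s * m.prod)) ≤ len P (s * m.prod) := by
      rw [len_congr (sq_mul_eqv hs hmN), hmt.2]
      have h2 := hr.2
      simp only [List.prod_cons, List.length_cons] at h2
      omega
    obtain ⟨b, hb, hb'⟩ := exists_mem_cell_of_le_len hs hnN hle
    obtain ⟨c, hc, c', hc', e1⟩ := mem_cell.1 hb'
    have hsH : s ∈ H := by
      have : s = c * ((s * m.prod) * c' * (s * m.prod)⁻¹) * b⁻¹ := by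
        calc s = s * b * (s * m.prod) * (s * m.prod)⁻¹ * b⁻¹ := by group
        _ = c * (s * m.prod) * c' * (s * m.prod)⁻¹ * b⁻¹ := by rw [e1]
        _ = _ := by group
      rw [this]
      exact mul_mem (mul_mem (hBH hc) (hconj' c' hc')) (inv_mem (hBH hb))
    intro x hx
    rcases List.mem_cons.1 hx with rfl | hx
    · exact hsH
    refine ih hmt (eqv_refl _) (fun d hd => ?_) x hx
    have := mul_mem (mul_mem (inv_mem hsH) (hconj' d hd)) hsH
    convert this using 1
    group

/-- an element of `N` lies in any subgroup `H` containing `B` and `n B n⁻¹`. -/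
lemma mem_of_conj_le {H : Subgroup G} (hBH : P.B ≤ H) {n : G} (hn : n ∈ P.N)
    (hconj : ∀ b ∈ P.B, n * b * n⁻¹ ∈ H) : n ∈ H := by
  obtain ⟨l, hr, e⟩ := exists_reduced hn
  have hl : l.prod ∈ H := list_prod_mem (letters_mem hBH hr e hconj)
  have : n = l.prod * (l.prod⁻¹ * n) := by group
  rw [this]
  exact mul_mem hl (hBH e)

lemma mem_J_of_mem_parabolic {J : Set G} (hJ : J ⊆ P.S) {s : G} (hs : s ∈ P.S)
    (h : s ∈ P.parabolic J) : s ∈ J := by
  obtain ⟨n, hn, hc⟩ := (mem_parabolic_iff hJ).1 h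
  have hnN : n ∈ P.N := (Subgroup.closure_le _).2 (hJ.trans P.subset) hn
  obtain ⟨l, hl, el⟩ := exists_word_of_mem_closure hJ hn
  obtain ⟨l', hr, hsub, e'⟩ := exists_reduced_sub fun x hx => hJ (hl x hx)
  have e : Eqv P s l'.prod :=
    eqv_trans (eqv_of_mem_cells (P.subset hs) hnN (self_mem_cell s) hc)
      (eqv_trans (eqv_symm el) (eqv_symm e'))
  have hlen : l'.length = 1 := by
    rw [← hr.2, ← len_congr e]
    have h1 : len P (s * 1) ≤ len P (1 : G) + 1 := len_S_mul_le hs (one_mem _)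
    have h0 : len P (1 : G) = 0 := (len_eq_zero (one_mem _)).2 (one_mem _)
    have h2 : len P s ≠ 0 := fun h => not_mem_B hs ((len_eq_zero (P.subset hs)).1 h)
    rw [mul_one] at h1
    omega
  obtain ⟨x, rfl⟩ := List.length_eq_one_iff.1 hlen
  have hxJ : x ∈ J := hl x (hsub x (by simp))
  rwa [P.inj s hs x (hJ hxJ) (by simpa [Eqv] using e)]

variable (P) in
/-- the distinguished generators lying in `M`. -/
def gens (M : Subgroup G) : Set G := {s | s ∈ P.S ∧ s ∈ M}

lemma eq_parabolic_of_le {M : Subgroup G} (hM : P.B ≤ M) : M = P.parabolic (gens P M) := by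
  refine le_antisymm (fun g hg => ?_) (sup_le hM ((Subgroup.closure_le _).2 fun s hs => hs.2))
  obtain ⟨n, hn, hc⟩ := bruhat (P := P) g
  obtain ⟨b, hb, b', hb', rfl⟩ := mem_cell.1 hc
  have hnM : n ∈ M := by
    have := mul_mem (mul_mem (inv_mem (hM hb)) hg) (inv_mem (hM hb'))
    simpa [mul_assoc] using this
  obtain ⟨l, hr, e⟩ := exists_reduced hn
  have hl := letters_mem hM hr e fun c hc => mul_mem (mul_mem hnM (hM hc)) (inv_mem hnM)
  have hB : P.B ≤ P.parabolic (gens P M) := le_sup_left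
  have hlp : l.prod ∈ P.parabolic (gens P M) := list_prod_mem fun x hx =>
    (le_sup_right : Subgroup.closure (gens P M) ≤ P.parabolic (gens P M))
      (Subgroup.subset_closure ⟨hr.1 x hx, hl x hx⟩)
  have : n = l.prod * (l.prod⁻¹ * n) := by group
  rw [this]
  exact mul_mem (mul_mem (hB hb) (mul_mem hlp (hB e))) (hB hb')

lemma parabolic_mono {J K : Set G} (h : J ⊆ K) : P.parabolic J ≤ P.parabolic K :=
  sup_le_sup_left (Subgroup.closure_mono h) _

lemma gens_parabolic {J : Set G} (hJ : J ⊆ P.S) : gens P (P.parabolic J) = J :=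
  Set.ext fun _ => ⟨fun h => mem_J_of_mem_parabolic hJ h.1 h.2,
    fun h => ⟨hJ h, (le_sup_right : Subgroup.closure J ≤ P.parabolic J) (Subgroup.subset_closure h)⟩⟩

lemma parabolic_inj {J K : Set G} (hJ : J ⊆ P.S) (hK : K ⊆ P.S)
    (h : P.parabolic J = P.parabolic K) : J = K := by
  rw [← gens_parabolic hJ, h, gens_parabolic hK]

/-- if `g` conjugates `B` into a subgroup containing `B` then `g` lies in it. -/
lemma mem_of_conj_B_le {H : Subgroup G} (hBH : P.B ≤ H) {g : G}
    (hconj : ∀ b ∈ P.B, g * b * g⁻¹ ∈ H) : g ∈ H := by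
  obtain ⟨n, hn, hcell⟩ := bruhat (P := P) g
  obtain ⟨c, hc, c', hc', rfl⟩ := mem_cell.1 hcell
  have hnH : n ∈ H := by
    refine mem_of_conj_le hBH hn fun b hb => ?_
    have := mul_mem (mul_mem (inv_mem (hBH hc))
      (hconj _ (mul_mem (mul_mem (inv_mem hc') hb) hc'))) (hBH hc)
    convert this using 1
    group
  exact mul_mem (mul_mem (hBH hc) hnH) (hBH hc')

end CfsgLib.Chev.BN
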