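/-
Consequences of the BN-pair: the longest element, the core of `B`, the Bruhat normal form.
-/
import Cfsg.Agent.Lib.Chev.BN
import Cfsg.Agent.Lib.Chev.BNBasic

set_option autoImplicit false

namespace CfsgLib.Chev

open Cfsg.Lie Matrix

variable {D : ChevalleyDatum} {A : Aux} {F : Type*} [Field F]

lemma simple_eq_sum (g : Good D A) {σ : ℕ → ℕ} (h : RootMap D A σ) {r : ℕ} (hr : r < D.nroots) :
    ∀ j < D.rank,
      A.a (σ r) j = ∑ k ∈ Finset.range D.rank, A.a r k * A.a (σ (D.simple k)) j := by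
  obtain ⟨_, M, hM⟩ := h
  intro j hj
  rw [hM r hr j hj]
  refine Finset.sum_congr rfl fun k hk => ?_
  have hk := Finset.mem_range.1 hk
  rw [hM _ (g.simple_lt k hk) j hj, Finset.sum_eq_single k]
  · rw [g.a_simple k hk k hk, if_pos rfl, one_mul]
  · intro l hl hlk
    rw [g.a_simple k hk l (Finset.mem_range.1 hl), if_neg hlk, zero_mul]
  · intro h; exact absurd (Finset.mem_range.2 hk) h

lemma isNeg_of_not_pos (g : Good D A) {r : ℕ} (hr : r < D.nroots) (h : ¬ D.IsPosRoot r) :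
    D.IsNegRoot r := by
  rcases g.pos_or_neg r hr with h' | h'
  · exact absurd ((g.pos_iff r hr).2 h') h
  · exact (g.negRoot_iff r hr).2 h'

lemma not_pos_of_isNeg (g : Good D A) {r : ℕ} (h : D.IsNegRoot r) : ¬ D.IsPosRoot r := by
  intro hp
  refine g.neg_ne r hp.1 (g.a_inj _ (g.neg_lt r hp.1) r hp.1 fun j _ => ?_)
  rw [g.a_neg r hp.1]
  linarith [(g.pos_iff r hp.1).1 hp j, (g.negRoot_iff r hp.1).1 h j]

lemma exists_simple_pos (g : Good D A) {σ : ℕ → ℕ} (h : RootMap D A σ) {r : ℕ}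
    (hr : D.IsPosRoot r) (hσ : D.IsPosRoot (σ r)) : ∃ i < D.rank, D.IsPosRoot (σ (D.simple i)) := by
  by_contra hcon
  push Not at hcon
  have hlt := hσ.1
  refine not_pos_of_isNeg g ((g.negRoot_iff _ hlt).2 fun j => ?_) hσ
  by_cases hj : j < D.rank
  · rw [simple_eq_sum g h hr.1 j hj]
    refine Finset.sum_nonpos fun k hk => ?_
    have hk := Finset.mem_range.1 hk
    have h1 := (g.pos_iff r hr.1).1 hr k
    have hl := h.1 _ (g.simple_lt k hk)
    have h2 := (g.negRoot_iff _ hl).1 (isNeg_of_not_pos g hl (hcon k hk)) j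
    exact mul_nonpos_of_nonneg_of_nonpos h1 h2
  · rw [g.a_zero _ hlt j (not_lt.1 hj)]

/-- the number of positive roots sent to positive roots -/
noncomputable def posToPos (D : ChevalleyDatum) (σ : ℕ → ℕ) : ℕ :=
  (D.posRoots.toFinset.filter fun r => D.IsPosRoot (σ r)).card

lemma posToPos_refl (g : Good D A) {σ : ℕ → ℕ} (h : RootMap D A σ) {i : ℕ} (hi : i < D.rank)
    (hp : D.IsPosRoot (σ (D.simple i))) : posToPos D (σ ∘ A.refl i) + 1 = posToPos D σ := by
  classical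
  unfold posToPos
  set P := D.posRoots.toFinset
  have hP : ∀ r, r ∈ P ↔ D.IsPosRoot r := fun r => by rw [List.mem_toFinset, posRoots_mem]
  have hsi := simple_pos g hi
  have e : (P.filter fun r => D.IsPosRoot ((σ ∘ A.refl i) r)) =
      ((P.filter fun r => D.IsPosRoot (σ r)).erase (D.simple i)).image (A.refl i) := by
    ext r
    simp only [Finset.mem_filter, hP, Finset.mem_image, Finset.mem_erase, Function.comp_apply]
    constructor
    · rintro ⟨hr, hσr⟩
      have hne : r ≠ D.simple i := by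
        rintro rfl
        rw [refl_simple g hi, h.map_neg g hsi.1] at hσr
        exact not_pos_neg g hp hσr
      obtain ⟨h1, h2⟩ := refl_pos g hi hr hne
      exact ⟨A.refl i r, ⟨h2, h1, hσr⟩, g.refl_refl i hi r hr.1⟩
    · rintro ⟨q, ⟨hne, hq, hσq⟩, rfl⟩
      exact ⟨(refl_pos g hi hq hne).1, by rw [g.refl_refl i hi q hq.1]; exact hσq⟩
  rw [e, Finset.card_image_of_injOn, Finset.card_erase_add_one]
  · rw [Finset.mem_filter, hP]; exact ⟨hsi, hp⟩
  · intro r hr s hs ers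
    simp only [Finset.coe_erase, Set.mem_diff, Finset.mem_coe, Finset.mem_filter, hP] at hr hs
    exact refl_inj g hi hr.1.1.1 hs.1.1.1 ers

/-- an element of `N` sending every positive root to a negative one -/
theorem exists_longest (g : Good D A) :
    ∃ n ∈ D.monomialSubgroup F, ∃ σ, Acts g n σ ∧ ∀ r, D.IsPosRoot r → D.IsNegRoot (σ r) := by
  classical
  suffices ∀ k, ∀ n ∈ D.monomialSubgroup F, ∀ σ, Acts g n σ → posToPos D σ = k →
      ∃ n ∈ D.monomialSubgroup F, ∃ σ, Acts g (F := F) n σ ∧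
        ∀ r, D.IsPosRoot r → D.IsNegRoot (σ r) from
    this _ 1 (one_mem _) id (by simpa using acts_tor (F := F) g 1) rfl
  intro k
  induction k using Nat.strong_induction_on with
  | _ k ih =>
    intro n hn σ hσ hk
    by_cases hex : ∃ r, D.IsPosRoot r ∧ D.IsPosRoot (σ r)
    · obtain ⟨r, hr, hσr⟩ := hex
      obtain ⟨i, hi, hp⟩ := exists_simple_pos g hσ.map hr hσr
      have := posToPos_refl g hσ.map hi hp
      exact ih _ (by omega) _ (mul_mem hn (nS_mem_monomial g hi)) _ (hσ.mul (acts_nS g hi)) rfl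
    · push Not at hex
      exact ⟨n, hn, σ, hσ, fun r hr => isNeg_of_not_pos g (hσ.map.1 r hr.1) (hex r hr)⟩

lemma xG_mem_negUnipotent (g : Good D A) {r : ℕ} (hr : D.IsNegRoot r) (t : F) :
    xG g r t ∈ D.negUnipotent F := by
  rw [negUnipotent_eq g]; exact Subgroup.subset_closure ⟨r, t, hr, rfl⟩

theorem longest_conj (g : Good D A) {n : GL D.Idx F} {σ : ℕ → ℕ} (hσ : Acts g n σ)
    (hw : ∀ r, D.IsPosRoot r → D.IsNegRoot (σ r)) :
    (D.posUnipotent F).map (MulAut.conj n).toMonoidHom = D.negUnipotent F := by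
  refine le_antisymm ?_ ?_
  · rw [posUnipotent_eq g, Subgroup.map_le_iff_le_comap]
    refine (Subgroup.closure_le _).2 ?_
    rintro y ⟨r, t, hr, rfl⟩
    obtain ⟨k, _, e⟩ := hσ.conj r hr.1
    simp only [SetLike.mem_coe, Subgroup.mem_comap, MulEquiv.coe_toMonoidHom, MulAut.conj_apply, e]
    exact xG_mem_negUnipotent g (hw r hr) _
  · rw [negUnipotent_eq g]
    refine (Subgroup.closure_le _).2 ?_
    rintro y ⟨r, t, hr, rfl⟩
    obtain ⟨q, hq, rfl⟩ := hσ.surj hr.1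
    have hqp : D.IsPosRoot q := by
      rcases pos_or_pos_neg g hq with h | h
      · exact h
      · have h2 := hw _ h
        rw [hσ.map.map_neg g hq] at h2
        rcases pos_or_pos_neg g (hσ.map.1 q hq) with h3 | h3
        · exact absurd h3 (not_pos_of_isNeg g hr)
        · exact absurd h3 (not_pos_of_isNeg g h2)
    obtain ⟨k, hk, e⟩ := hσ.conj q hq
    exact ⟨xG g q (k⁻¹ * t), xG_mem_posUnipotent g hqp _, by
      simp only [MulEquiv.coe_toMonoidHom, MulAut.conj_apply, e, mul_inv_cancel_left₀ hk]⟩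

lemma xG_eq_one (h : Std D A) {r : ℕ} (hr : r < D.nroots) {t : F} (e : xG h.good r t = 1) :
    t = 0 := by
  by_contra ht
  exact nS_mul_conj_ne.xG_ne_one h.good hr ht e

lemma diagonal_inf_root (h : Std D A) {r : ℕ} (hr : r < D.nroots) {t : F}
    (ht : xG h.good r t ∈ D.diagonalSubgroup F) : t = 0 := by
  refine xG_eq_one h hr ?_
  rcases pos_or_pos_neg h.good hr with hp | hn
  · refine Subgroup.mem_bot.1 ((posUnipotent_inf_diagonal h).le ?_)
    exact Subgroup.mem_inf.2 ⟨xG_mem_posUnipotent h.good hp t, ht⟩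
  · have hneg : D.IsNegRoot r := isNeg_of_not_pos h.good hr fun hp => not_pos_neg h.good hp hn
    refine Subgroup.mem_bot.1 ((borel_inf_negUnipotent h).le ?_)
    exact Subgroup.mem_inf.2 ⟨(le_sup_right : _ ≤ D.borelSubgroup F) ht,
      xG_mem_negUnipotent h.good hneg t⟩

theorem borel_core_trivial (h : Std D A) :
    ((D.borelSubgroup F).subgroupOf (D.group F)).normalCore = ⊥ := by
  rw [eq_bot_iff]
  intro y hy
  have g := h.good
  obtain ⟨n, hn, σ, hσ, hw⟩ := exists_longest (F := F) h.good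
  set K := ((D.borelSubgroup F).subgroupOf (D.group F)).normalCore
  have hH : ∀ z ∈ K, (z : GL D.Idx F) ∈ D.diagonalSubgroup F := by
    intro z hz
    rw [← borel_inf_negBorel h]
    refine Subgroup.mem_inf.2 ⟨Subgroup.mem_subgroupOf.1 (Subgroup.normalCore_le ((D.borelSubgroup F).subgroupOf (D.group F)) hz), ?_⟩
    set m : ↥(D.group F) := ⟨n, monomialSubgroup_le_group h.good hn⟩
    have hc : (m⁻¹ * z * m⁻¹⁻¹) ∈ K :=
      (inferInstance : K.Normal).conj_mem z hz m⁻¹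
    have hb := Subgroup.normalCore_le _ hc
    rw [Subgroup.mem_subgroupOf] at hb
    push_cast at hb
    rw [inv_inv] at hb
    obtain ⟨u, hu, c, e⟩ := (mem_borel_iff h.good).1 hb
    obtain ⟨d, hd⟩ := monomial_conj_tor h.good hn c
    have hz' : (z : GL D.Idx F) = (n * u * n⁻¹) * tor D A d := by
      rw [← hd, show (z : GL D.Idx F) = n * (n⁻¹ * z * n) * n⁻¹ by group]
      show n * ((m : GL D.Idx F)⁻¹ * z * m) * n⁻¹ = _
      rw [e]; group
    rw [hz']
    refine mul_mem ((le_sup_left : _ ≤ D.negUnipotent F ⊔ D.diagonalSubgroup F) ?_)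
      ((le_sup_right : _ ≤ D.negUnipotent F ⊔ D.diagonalSubgroup F)
        (by rw [diagonalSubgroup_eq h.good]; exact ⟨d, rfl⟩))
    rw [← longest_conj h.good hσ hw]
    exact ⟨u, hu, rfl⟩
  have hy' := hH y hy
  rw [diagonalSubgroup_eq h.good] at hy'
  obtain ⟨c, hc⟩ := hy'
  have hchi : ∀ r < D.nroots, chi D A c r = 1 := by
    intro r hr
    set x : ↥(D.group F) := ⟨xG h.good r 1, xG_mem_group h.good r 1⟩
    have hk : y * (x * y⁻¹ * x⁻¹) ∈ K :=
      mul_mem hy ((inferInstance : K.Normal).conj_mem _ (inv_mem hy) x)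
    have hh := hH _ hk
    push_cast at hh
    rw [← hc, show tor D A c * (xG h.good r 1 * (tor D A c)⁻¹ * (xG h.good r 1)⁻¹) =
      (tor D A c * xG h.good r 1 * (tor D A c)⁻¹) * (xG h.good r 1)⁻¹ by group,
      tor_conj_xG h.good c hr, xG_inv, xG_add] at hh
    have := diagonal_inf_root h hr hh
    exact Units.ext (by rw [Units.val_one]; linear_combination this)
  refine Subgroup.mem_bot.2 (Subtype.ext (Units.ext ?_))
  rw [← hc, tor_val, dia_congr (e := fun _ => (1 : F)) (fun s hs => by rw [hchi s hs, Units.val_one]),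
    dia_one]
  rfl

/-- the Bruhat decomposition -/
theorem bruhat (h : Std D A) {y : GL D.Idx F} (hy : y ∈ D.group F) :
    ∃ b ∈ D.borelSubgroup F, ∃ n ∈ D.monomialSubgroup F, ∃ b' ∈ D.borelSubgroup F,
      y = b * n * b' := by
  obtain ⟨n, hn, hc⟩ := BN.bruhat (P := bnPair h) (⟨y, hy⟩ : ↥(D.group F))
  obtain ⟨b, hb, b', hb', e⟩ := BN.mem_cell.1 hc
  exact ⟨b, hb, n, hn, b', hb', congrArg Subtype.val e⟩

/-- uniqueness of the cell -/
theorem bruhat_unique (h : Std D A) {b₁ b₂ n n' b₁' b₂' : GL D.Idx F}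
    (h1 : b₁ ∈ D.borelSubgroup F) (h2 : b₂ ∈ D.borelSubgroup F) (h1' : b₁' ∈ D.borelSubgroup F)
    (h2' : b₂' ∈ D.borelSubgroup F) (hn : n ∈ D.monomialSubgroup F)
    (hn' : n' ∈ D.monomialSubgroup F) (e : b₁ * n * b₂ = b₁' * n' * b₂') :
    n⁻¹ * n' ∈ D.diagonalSubgroup F := by
  rw [← borel_inf_monomial h]
  refine Subgroup.mem_inf.2 ⟨?_, mul_mem (inv_mem hn) hn'⟩
  have hG := borel_le_group (F := F) h.good
  set m : ↥(D.group F) := ⟨n, monomialSubgroup_le_group h.good hn⟩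
  set m' : ↥(D.group F) := ⟨n', monomialSubgroup_le_group h.good hn'⟩
  have := BN.eqv_of_mem_cells (P := bnPair h) (g := ⟨b₁, hG h1⟩ * m * ⟨b₂, hG h2⟩) (n := m)
    (n' := m') hn hn' (BN.mem_cell.2 ⟨_, h1, _, h2, rfl⟩)
    (BN.mem_cell.2 ⟨⟨b₁', hG h1'⟩, h1', ⟨b₂', hG h2'⟩, h2', Subtype.ext e⟩)
  exact this

/-- positive roots sent by `σ` to negative roots -/
def toNeg (D : ChevalleyDatum) (σ : ℕ → ℕ) (r : ℕ) : Prop := D.IsPosRoot r ∧ D.IsNegRoot (σ r)

lemma pos_split (h : Std D A) (σ : ℕ → ℕ) (hσ : ∀ r < D.nroots, σ r < D.nroots) :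
    ∀ {L : List ℕ}, UpList D L → ∀ {y : GL D.Idx F}, y ∈ UL F h.good L →
    ∃ a ∈ UP F h.good (fun r => D.IsPosRoot r ∧ D.IsPosRoot (σ r)),
      ∃ b ∈ UP F h.good (toNeg D σ), y = a * b
  | [], _, y, hy => ⟨1, one_mem _, 1, one_mem _, by
      rw [UL_nil, Subgroup.mem_bot] at hy; simp [hy]⟩
  | x :: L, hL, y, hy => by
    have g := h.good
    obtain ⟨T, rfl⟩ := exists_pw h hL hy
    have hx := hL.pos x List.mem_cons_self
    obtain ⟨a, ha, b, hb, e⟩ := pos_split h σ hσ hL.tail (pw_mem_UL (F := F) g L T)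
    have hy' : pw g (x :: L) T = xG g x (T x) * (a * b) := by
      rw [← e]; simp [pw]
    by_cases hpos : D.IsPosRoot (σ x)
    · exact ⟨_, mul_mem (xG_mem_UP g (P := fun r => D.IsPosRoot r ∧ D.IsPosRoot (σ r)) ⟨hx, hpos⟩ (T x)) ha,
        b, hb, by rw [hy']; group⟩
    · have hxn : toNeg D σ x := ⟨hx, isNeg_of_not_pos g (hσ x hx.1) hpos⟩
      have hv : xG g x (T x) * (pw g L T) * (xG g x (T x))⁻¹ ∈ UL F g L :=
        UL_conj h hL.tail hx _ (pw_mem_UL g L T)
      obtain ⟨a', ha', b', hb', e'⟩ := pos_split h σ hσ hL.tail hv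
      refine ⟨a', ha', b' * xG g x (T x), mul_mem hb' (xG_mem_UP g hxn _), ?_⟩
      rw [← mul_assoc, ← e', hy', ← e]; group

lemma conj_UP_le {g : Good D A} {n : GL D.Idx F} {σ : ℕ → ℕ} (hσ : Acts g n σ) {P : ℕ → Prop}
    (hP : ∀ r, P r → r < D.nroots) {K : Subgroup (GL D.Idx F)}
    (hK : ∀ r t, P r → xG g (σ r) t ∈ K) {y : GL D.Idx F} (hy : y ∈ UP F g P) :
    n * y * n⁻¹ ∈ K := by
  have : UP F g P ≤ K.comap (MulAut.conj n).toMonoidHom := UP_le fun r t hr => by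
    obtain ⟨k, _, e⟩ := hσ.conj r (hP r hr)
    simp only [Subgroup.mem_comap, MulEquiv.coe_toMonoidHom, MulAut.conj_apply, e]
    exact hK r _ hr
  exact this hy

lemma toNeg_iff (h : Std D A) {n : GL D.Idx F} {σ : ℕ → ℕ} (hσ : Acts h.good n σ) {r : ℕ}
    (hr : r < D.nroots) :
    (D.rootSubgroup F r).map (MulAut.conj n).toMonoidHom ≤ D.negUnipotent F ↔
      D.IsNegRoot (σ r) := by
  constructor
  · intro hle
    refine isNeg_of_not_pos h.good (hσ.map.1 r hr) fun hp => ?_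
    obtain ⟨k, hk, e⟩ := hσ.conj r hr
    have h1 := hle ⟨_, xG_mem_rootSubgroup h.good r 1, rfl⟩
    simp only [MulEquiv.coe_toMonoidHom, MulAut.conj_apply, e, mul_one] at h1
    have := Subgroup.mem_bot.1 ((borel_inf_negUnipotent h).le
      (Subgroup.mem_inf.2 ⟨xG_mem_borel h.good hp k, h1⟩))
    exact hk (xG_eq_one h (hσ.map.1 r hr) this)
  · intro hn
    rintro y ⟨z, hz, rfl⟩
    obtain ⟨t, rfl⟩ := (mem_rootSubgroup_iff h.good).1 hz
    obtain ⟨k, _, e⟩ := hσ.conj r hr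
    simp only [MulEquiv.coe_toMonoidHom, MulAut.conj_apply, e]
    exact xG_mem_negUnipotent h.good hn _

lemma UP_congr (g : Good D A) {P Q : ℕ → Prop} (e : ∀ r, P r ↔ Q r) : UP F g P = UP F g Q := by
  rw [show P = Q from funext fun r => propext (e r)]

lemma UP_toNeg_le (g : Good D A) (σ : ℕ → ℕ) : UP F g (toNeg D σ) ≤ D.posUnipotent F :=
  UP_le fun r t hr => xG_mem_posUnipotent g hr.1 t

theorem normal_form_exists (h : Std D A) {y : GL D.Idx F} (hy : y ∈ D.group F) :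
    ∃ b ∈ D.borelSubgroup F, ∃ n ∈ D.monomialSubgroup F, ∃ σ, Acts h.good n σ ∧
      ∃ u ∈ UP F h.good (toNeg D σ), y = b * n * u := by
  obtain ⟨b, hb, n, hn, b', hb', rfl⟩ := bruhat h hy
  obtain ⟨v, hv, c, rfl⟩ := (mem_borel_iff h.good).1 hb'
  obtain ⟨σ, hσ⟩ := exists_acts h.good hn
  have hv' := tor_conj_posUnipotent h.good c⁻¹ hv
  rw [← UL_posRoots h.good] at hv'
  obtain ⟨p, hp, u, hu, e⟩ := pos_split h σ hσ.map.1 upList_posRoots hv'
  obtain ⟨d, hd⟩ := monomial_conj_tor h.good hn c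
  have hp' : n * p * n⁻¹ ∈ D.borelSubgroup F :=
    conj_UP_le hσ (fun r hr => hr.1.1) (fun r t hr => xG_mem_borel h.good hr.2 t) hp
  refine ⟨b * tor D A d * (n * p * n⁻¹), mul_mem (mul_mem hb (tor_mem_borel h.good d)) hp', n, hn,
    σ, hσ, u, hu, ?_⟩
  rw [← hd, show b * (n * tor D A c * n⁻¹) * (n * p * n⁻¹) * n * u =
    b * n * tor D A c * (p * u) by group, ← e, map_inv]
  group

theorem normal_form_unique (h : Std D A) {b b' n u u' : GL D.Idx F} {σ : ℕ → ℕ}
    (hσ : Acts h.good n σ) (hb : b ∈ D.borelSubgroup F) (hb' : b' ∈ D.borelSubgroup F)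
    (hu : u ∈ UP F h.good (toNeg D σ)) (hu' : u' ∈ UP F h.good (toNeg D σ))
    (e : b * n * u = b' * n * u') : b = b' ∧ u = u' := by
  have h1 : n * (u' * u⁻¹) * n⁻¹ ∈ D.negUnipotent F :=
    conj_UP_le hσ (fun r hr => hr.1.1) (fun r t hr => xG_mem_negUnipotent h.good hr.2 t)
      (mul_mem hu' (inv_mem hu))
  have e2 : n * (u' * u⁻¹) * n⁻¹ = b'⁻¹ * b := by
    rw [show n * (u' * u⁻¹) * n⁻¹ = b'⁻¹ * (b' * n * u') * u⁻¹ * n⁻¹ by group, ← e]; group
  have h2 : n * (u' * u⁻¹) * n⁻¹ = 1 := Subgroup.mem_bot.1 ((borel_inf_negUnipotent h).le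
    (Subgroup.mem_inf.2 ⟨e2 ▸ mul_mem (inv_mem hb') hb, h1⟩))
  rw [e2, inv_mul_eq_one] at h2
  subst h2
  exact ⟨rfl, mul_left_cancel e⟩

end CfsgLib.Chev
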