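/-
Rank one and the simplicity criterion for (B,N)-pairs.
-/
import Cfsg.Agent.Lib.Chev.BNBasic

set_option autoImplicit false

namespace CfsgLib.Chev.BN

open Cfsg

variable {G : Type*} [Group G] {P : Cfsg.BNPair G}

/-- the parabolic subgroup of one generator is `B ∪ B s B`. -/
lemma parabolic_singleton {s : G} (hs : s ∈ P.S) :
    (P.parabolic {s} : Set G) = (P.B : Set G) ∪ cell P s := by
  have hsub : ({s} : Set G) ⊆ P.S := by simpa using hs
  ext g
  refine ⟨fun hg => ?_, ?_⟩
  · obtain ⟨n, hn, hc⟩ := (mem_parabolic_iff hsub).1 hg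
    obtain ⟨l, hl, e⟩ := exists_word_of_mem_closure hsub hn
    rw [← cell_eq_of_eqv e] at hc
    suffices H : ∀ l : List G, (∀ x ∈ l, x ∈ ({s} : Set G)) → Eqv P l.prod 1 ∨ Eqv P l.prod s by
      rcases H l hl with h | h
      · left
        rwa [cell_eq_of_eqv h, cell_eq_B (one_mem _)] at hc
      · right
        rwa [cell_eq_of_eqv h] at hc
    intro l hl
    induction l with
    | nil => exact Or.inl (eqv_refl 1)
    | cons x m ih =>
      have hx : x = s := hl x (by simp)
      subst hx
      rcases ih fun y hy => hl y (by simp [hy]) with h | h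
      · exact Or.inr (by simpa using eqv_mul_left x h)
      · refine Or.inl ?_
        simp only [List.prod_cons]
        refine eqv_trans (eqv_mul_left x h) (eqv_symm ?_)
        simpa [Eqv] using P.sq_mem x hs
  · rintro (hg | hg)
    · exact (le_sup_left : P.B ≤ P.parabolic {s}) hg
    · exact (mem_parabolic_iff hsub).2 ⟨s, Subgroup.subset_closure rfl, hg⟩

/-- generators inside and outside of the set of generators of a normal subgroup times `B` commute. -/
lemma commute_of_normal_parabolic {M : Subgroup G} [M.Normal] {J : Set G} (hJ : J ⊆ P.S)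
    (hM : P.B ⊔ M = P.parabolic J) {s s' : G} (hs : s ∈ J) (hs' : s' ∈ P.S) (hs'J : s' ∉ J) :
    s * s' * s⁻¹ * s'⁻¹ ∈ P.B := by
  have hsS := hJ hs
  have hB : P.B ≤ P.parabolic J := le_sup_left
  have hJP : Subgroup.closure J ≤ P.parabolic J := le_sup_right
  have hsM : s ∈ P.B ⊔ M := by rw [hM]; exact hJP (Subgroup.subset_closure hs)
  rw [← SetLike.mem_coe, Subgroup.mul_normal] at hsM
  obtain ⟨b, hb, m, hm, e⟩ := hsM
  have hm' : s' * m * s'⁻¹ ∈ P.parabolic J := by
    rw [← hM]; exact (le_sup_right : M ≤ P.B ⊔ M) (‹M.Normal›.conj_mem m hm s')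
  have hm'' : m = b⁻¹ * s := by rw [← e]; group
  rw [hm''] at hm'
  have hs'sN := mul_mem (P.subset hs') (P.subset hsS)
  have hne : ¬ Eqv P (s' * s) 1 := by
    intro h
    have h1 : Eqv P s s' := by
      have := eqv_mul_left s' h
      rw [mul_one] at this
      exact eqv_trans (eqv_symm (sq_mul_eqv hs' (P.subset hsS))) this
    exact hs'J (P.inj s hsS s' hs' h1 ▸ hs)
  have hle : len P s ≤ len P (s' * s) := by
    have h1 : len P (s * 1) ≤ len P (1 : G) + 1 := len_S_mul_le hsS (one_mem _)
    have h0 : len P (1 : G) = 0 := (len_eq_zero (one_mem _)).2 (one_mem _)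
    have h2 : len P (s' * s) ≠ 0 := fun h => hne (by
      have := (len_eq_zero hs'sN).1 h
      simpa [Eqv] using P.B.inv_mem this)
    rw [mul_one] at h1
    omega
  have h1 := mem_cell_of_len_le hs' (P.subset hsS) hle b⁻¹ (inv_mem hb)
  have h2 : s' * b⁻¹ * s * s' ∈ P.parabolic J := by
    have := mul_mem hm' (hB (P.sq_mem s' hs'))
    convert this using 1
    group
  rcases right_rule hs' hs'sN h1 with h | h
  swap
  · obtain ⟨c, hc, c', hc', ec⟩ := mem_cell.1 h
    have h3 : s' * s ∈ P.parabolic J := by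
      have := mul_mem (mul_mem (inv_mem (hB hc)) h2) (inv_mem (hB hc'))
      rw [ec] at this
      convert this using 1
      group
    have : s' ∈ P.parabolic J := by
      have := mul_mem h3 (inv_mem (hJP (Subgroup.subset_closure hs)))
      simpa using this
    exact absurd (mem_J_of_mem_parabolic hJ hs' this) hs'J
  obtain ⟨n, hn, hc⟩ := (mem_parabolic_iff hJ).1 h2
  have hnN : n ∈ P.N := (Subgroup.closure_le _).2 (hJ.trans P.subset) hn
  have hwN := mul_mem hs'sN (P.subset hs')
  have e1 : Eqv P (s' * s * s') n := eqv_of_mem_cells hwN hnN h hc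
  obtain ⟨l, hl, el⟩ := exists_word_of_mem_closure hJ hn
  obtain ⟨l', hr, hsub, el'⟩ := exists_reduced_sub fun x hx => hJ (hl x hx)
  have e2 : Eqv P l'.prod (s' * s * s') := eqv_trans el' (eqv_trans el (eqv_symm e1))
  have hl'J : ∀ x ∈ l', x ∈ J := fun x hx => hl x (hsub x hx)
  have hl'N := prod_mem_N hr.1
  have hup : ¬ len P (s' * l'.prod) ≤ len P l'.prod := by
    intro h
    obtain ⟨a, x, c, rfl, e'⟩ := exchange hs' hr.1 h
    have ha : a.prod ∈ P.parabolic J := list_prod_mem fun y hy =>
      hJP (Subgroup.subset_closure (hl'J y (by simp [hy])))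
    have hx : x ∈ P.parabolic J := hJP (Subgroup.subset_closure (hl'J x (by simp)))
    refine hs'J (mem_J_of_mem_parabolic hJ hs' ?_)
    have h1 := mul_mem (mul_mem (mul_mem ha hx) (inv_mem (hB e'))) (inv_mem ha)
    convert h1 using 1
    group
  have e3 : Eqv P (s' * l'.prod) (s * s') := by
    refine eqv_trans (eqv_mul_left s' e2) ?_
    rw [mul_assoc s' s s']
    exact sq_mul_eqv hs' (mul_mem (P.subset hsS) (P.subset hs'))
  have hlen : l'.length ≤ 1 := by
    have h1 : len P (s * s') ≤ 2 :=
      len_le (l := [s, s']) (by simp [hsS, hs']) (by simpa using eqv_refl (P := P) (s * s'))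
    have := hr.2
    rw [← len_congr e3] at h1
    omega
  match l', hlen with
  | [], _ =>
    exfalso
    apply not_mem_B hsS
    have h5 : Eqv P s' (s * s') := by simpa using e3
    have h6 := eqv_mul_right (inv_mem (P.subset hs')) (P.subset hs')
      (mul_mem (P.subset hsS) (P.subset hs')) h5
    simpa [Eqv] using h6
  | [t], _ =>
    have htJ : t ∈ J := hl'J t (by simp)
    have h5 : Eqv P (s' * t) (s * s') := by simpa using e3
    have hts : t = s := by
      have hsub' : ({s, s'} : Set G) ⊆ P.S :=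
        Set.insert_subset_iff.2 ⟨hsS, Set.singleton_subset_iff.2 hs'⟩
      have hcl : Subgroup.closure {s, s'} ≤ P.parabolic {s, s'} := le_sup_right
      have htP : t ∈ P.parabolic {s, s'} := by
        have hsP : s ∈ P.parabolic {s, s'} := hcl (Subgroup.subset_closure (by simp))
        have hs'P : s' ∈ P.parabolic {s, s'} := hcl (Subgroup.subset_closure (by simp))
        have := mul_mem (mul_mem (inv_mem hs'P) (mul_mem hsP hs'P))
          (inv_mem ((le_sup_left : P.B ≤ P.parabolic {s, s'}) h5))
        convert this using 1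
        group
      rcases mem_J_of_mem_parabolic hsub' (hJ htJ) htP with h | h
      · exact h
      · exact absurd (Set.mem_singleton_iff.1 h ▸ htJ) hs'J
    subst hts
    have hts'N := mul_mem (P.subset hs') (P.subset hsS)
    have hT : (s' * t)⁻¹ * (t * s') ∈ P.B ⊓ P.N :=
      ⟨h5, mul_mem (P.N.inv_mem hts'N) (mul_mem (P.subset hsS) (P.subset hs'))⟩
    have := (conj_mem_T hts'N hT).1
    have e4 : t * s' * t⁻¹ * s'⁻¹ = s' * t * ((s' * t)⁻¹ * (t * s')) * (s' * t)⁻¹ := by group
    rw [e4]
    exact this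

lemma simple_of_irreducible [Nontrivial G] (hirr : P.Irreducible) (hsolv : Group.IsSolvable P.B)
    (hperf : commutator G = ⊤) (hcore : P.B.normalCore = ⊥) : IsSimpleGroup G := by
  refine ⟨fun M hM => ?_⟩
  have hM' := hM
  by_cases hMB : M ≤ P.B
  · exact Or.inl (le_bot_iff.1 (hcore ▸ Subgroup.normal_le_normalCore.2 hMB))
  right
  have hB : P.B ≤ P.B ⊔ M := le_sup_left
  have hJ : gens P (P.B ⊔ M) ⊆ P.S := fun _ h => h.1
  have hM1 := eq_parabolic_of_le hB
  have hne : (gens P (P.B ⊔ M)).Nonempty := by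
    rw [Set.nonempty_iff_ne_empty]
    intro he
    rw [he] at hM1
    apply hMB
    have : P.parabolic ∅ = P.B := by simp [BNPair.parabolic]
    rw [this] at hM1
    exact le_trans le_sup_right hM1.le
  have hall : gens P (P.B ⊔ M) = P.S := by
    by_contra hne'
    have hdiff : (P.S \ gens P (P.B ⊔ M)).Nonempty :=
      Set.sdiff_nonempty.2 fun h => hne' (Set.Subset.antisymm hJ h)
    obtain ⟨s, hs, s', hs', hcomm⟩ := hirr _ hJ hne hdiff
    exact hcomm (commute_of_normal_parabolic hJ hM1 hs hs'.1 hs'.2)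
  rw [hall, parabolic_S] at hM1
  haveI := hM'
  haveI := hsolv
  let f : P.B →* G ⧸ M := (QuotientGroup.mk' M).comp P.B.subtype
  have hf : Function.Surjective f := by
    intro q
    obtain ⟨g, rfl⟩ := QuotientGroup.mk'_surjective M q
    have hg : g ∈ P.B ⊔ M := by rw [hM1]; trivial
    rw [← SetLike.mem_coe, Subgroup.mul_normal] at hg
    obtain ⟨b, hb, m, hm, e⟩ := hg
    refine ⟨⟨b, hb⟩, ?_⟩
    show QuotientGroup.mk' M b = QuotientGroup.mk' M g
    rw [← e]
    exact ((QuotientGroup.mk'_eq_mk' M).2 ⟨m, hm, rfl⟩)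
  haveI : Group.IsSolvable (G ⧸ M) := Group.isSolvable_of_surjective hf
  have htop : commutator (G ⧸ M) = ⊤ := by
    have := Subgroup.map_commutator (⊤ : Subgroup G) ⊤ (QuotientGroup.mk' M)
    rw [← MonoidHom.range_eq_map, MonoidHom.range_eq_top.2 (QuotientGroup.mk'_surjective M),
      ← commutator_def, ← commutator_def, hperf, ← MonoidHom.range_eq_map,
      MonoidHom.range_eq_top.2 (QuotientGroup.mk'_surjective M)] at this
    exact this.symm
  have hsub : Subsingleton (G ⧸ M) := by
    by_contra h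
    rw [not_subsingleton_iff_nontrivial] at h
    exact (Group.IsSolvable.commutator_lt_top_of_nontrivial (G ⧸ M)).ne htop
  exact QuotientGroup.subgroup_eq_top_of_subsingleton M hsub

end CfsgLib.Chev.BN
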