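/-
The seven tabulated types pass all checks.
-/
import Cfsg.Agent.Lib.Chev.Comm
import Cfsg.Agent.Lib.Chev.Data.CheckG2
import Cfsg.Agent.Lib.Chev.Data.CheckB2
import Cfsg.Agent.Lib.Chev.Data.CheckD4
import Cfsg.Agent.Lib.Chev.Data.CheckF4
import Cfsg.Agent.Lib.Chev.Data.CheckE6
import Cfsg.Agent.Lib.Chev.Data.CheckE7
import Cfsg.Agent.Lib.Chev.Data.CheckE8

set_option autoImplicit false

namespace CfsgLib.Chev

open Cfsg.Lie

theorem stdG2 : Std chevG2 auxG2 := ⟨good_of_allOK allOKG2, by decide +kernel, by decide +kernel⟩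
theorem stdB2 : Std chevB2 auxB2 := ⟨good_of_allOK allOKB2, by decide +kernel, by decide +kernel⟩
theorem stdD4 : Std chevD4 auxD4 := ⟨good_of_allOK allOKD4, by decide +kernel, by decide +kernel⟩
theorem stdF4 : Std chevF4 auxF4 := ⟨good_of_allOK allOKF4, by decide +kernel, by decide +kernel⟩
theorem stdE6 : Std chevE6 auxE6 := ⟨good_of_allOK allOKE6, by decide +kernel, by decide +kernel⟩
theorem stdE7 : Std chevE7 auxE7 := ⟨good_of_allOK allOKE7, by decide +kernel, by decide +kernel⟩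
theorem stdE8 : Std chevE8 auxE8 := ⟨good_of_allOK allOKE8, by decide +kernel, by decide +kernel⟩

theorem std_of_mem {D : ChevalleyDatum}
    (hD : D ∈ [chevG2, chevB2, chevD4, chevF4, chevE6, chevE7, chevE8]) : ∃ A, Std D A := by
  simp only [List.mem_cons, List.not_mem_nil, or_false] at hD
  rcases hD with rfl | rfl | rfl | rfl | rfl | rfl | rfl
  exacts [⟨_, stdG2⟩, ⟨_, stdB2⟩, ⟨_, stdD4⟩, ⟨_, stdF4⟩, ⟨_, stdE6⟩, ⟨_, stdE7⟩, ⟨_, stdE8⟩]

end CfsgLib.Chev
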