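/-
Perfectness and simplicity of the Chevalley groups.
-/
import Cfsg.Agent.Lib.Chev.BN2
import Cfsg.Agent.Lib.Chev.BNSimple
import Cfsg.Agent.Lib.Chev.Types

set_option autoImplicit false

namespace CfsgLib.Chev

open Cfsg.Lie Matrix
open scoped commutatorElement

variable {D : ChevalleyDatum} {A : Aux} {F : Type*} [Field F]

/-- a commutator relation with one term `x_p(± t u)` -/
noncomputable def unitTerm (A : Aux) (p r s : ℕ) : Bool :=
  decide (s ≠ r ∧ s ≠ A.neg r ∧ (A.terms r s = [(p, 1, 1, 1)] ∨ A.terms r s = [(p, -1, 1, 1)]))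

/-- a commutator relation with one term `x_p(± 2 t u)` -/
noncomputable def twoTerm (A : Aux) (p r s : ℕ) : Bool :=
  decide (s ≠ r ∧ s ≠ A.neg r ∧ (A.terms r s = [(p, 2, 1, 1)] ∨ A.terms r s = [(p, -2, 1, 1)]))

/-- every fundamental root is a unit commutator -/
noncomputable def perfA (D : ChevalleyDatum) (A : Aux) : Bool :=
  (List.range D.rank).all fun i => (List.range D.rank).any fun j =>
    decide (A.refl j (D.simple i) < D.nroots) && decide (A.neg (D.simple j) < D.nroots) &&
      unitTerm A (D.simple i) (A.refl j (D.simple i)) (A.neg (D.simple j))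

/-- every fundamental root is moved by a torus element, over a field with at least three elements -/
noncomputable def perfB (D : ChevalleyDatum) (A : Aux) : Bool :=
  (List.range D.rank).all fun i =>
    ((List.range D.rank).any fun j => decide (A.cart j (D.simple i) % 2 ≠ 0)) ||
      (List.range D.nroots).any fun r => (List.range D.nroots).any fun s =>
        twoTerm A (D.simple i) r s

/-- the fundamental roots reachable from the first one -/
noncomputable def reach (D : ChevalleyDatum) (A : Aux) : ℕ → List ℕ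
  | 0 => [0]
  | k + 1 => (List.range D.rank).filter fun i =>
      decide (i ∈ reach D A k) || (reach D A k).any fun m => decide (m < D.rank ∧ A.cart m (D.simple i) ≠ 0)

/-- the Dynkin diagram is connected -/
noncomputable def conn (D : ChevalleyDatum) (A : Aux) : Bool :=
  (List.range D.rank).all fun i => decide (i ∈ reach D A D.rank)

/-- the root elements of single-term commutators -/
lemma commutator_term (h : Std D A) {p r s : ℕ} (hr : r < D.nroots) (hs : s < D.nroots) {c : ℤ}
    (hsr : s ≠ r) (hsn : s ≠ A.neg r) (e : A.terms r s = [(p, c, 1, 1)]) (hc : (c : F) ≠ 0) (t : F) :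
    (⟨xG h.good p t, xG_mem_group h.good p t⟩ : ↥(D.group F)) ∈ commutator ↥(D.group F) := by
  set a : ↥(D.group F) := ⟨xG h.good r (-1 : F), xG_mem_group h.good _ _⟩
  set b : ↥(D.group F) := ⟨xG h.good s (t / c : F), xG_mem_group h.good _ _⟩
  have key : (⟨xG h.good p t, xG_mem_group h.good p t⟩ : ↥(D.group F)) =
      ⁅b⁻¹, a⁻¹⁆ := by
    apply Subtype.ext
    have h1 : xG h.good s (t / c : F) * xG h.good r (-1) =
        xG h.good r (-1) * xG h.good s (t / c : F) * xG h.good p t := by
      apply Units.ext
      simp only [Units.val_mul, xG_val]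
      rw [commF_all h hr hs hsr hsn (-1) (t / c : F), tword, e]
      simp [wordMat_cons, wordMat_nil, mul_div_cancel₀ _ hc]
    simp only [commutatorElement_def, inv_inv, Subgroup.coe_mul, Subgroup.coe_inv, a, b]
    rw [mul_assoc, h1]
    group
  rw [key, commutator_def]
  exact Subgroup.commutator_mem_commutator (Subgroup.mem_top _) (Subgroup.mem_top _)

lemma commutator_torus (g : Good D A) {r : ℕ} (hr : r < D.nroots) (c : Fin D.rank → Fˣ)
    (hc : (chi D A c r : F) ≠ 1) (t : F) :
    (⟨xG g r t, xG_mem_group g r t⟩ : ↥(D.group F)) ∈ commutator ↥(D.group F) := by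
  set k : F := (chi D A c r : F)
  have hk : k - 1 ≠ 0 := sub_ne_zero.2 hc
  have hT : tor D A c ∈ D.group F :=
    diagonalSubgroup_le_group g (by rw [diagonalSubgroup_eq g]; exact ⟨c, rfl⟩)
  have key : (⟨xG g r t, xG_mem_group g r t⟩ : ↥(D.group F)) =
      ⁅(⟨tor D A c, hT⟩ : ↥(D.group F)),
        (⟨xG g r (t / (k - 1)), xG_mem_group g r _⟩ : ↥(D.group F))⁆ := by
    apply Subtype.ext
    simp only [commutatorElement_def, Subgroup.coe_mul, Subgroup.coe_inv]
    rw [tor_conj_xG g c hr, xG_inv, xG_add]
    congr 1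
    field_simp
    ring
  rw [key, commutator_def]
  exact Subgroup.commutator_mem_commutator (Subgroup.mem_top _) (Subgroup.mem_top _)

lemma perfect_of_simple_roots (g : Good D A)
    (h : ∀ i < D.rank, ∀ t : F, (⟨xG g (D.simple i) t, xG_mem_group g _ t⟩ : ↥(D.group F)) ∈
      commutator ↥(D.group F)) : commutator ↥(D.group F) = ⊤ := by
  have all : ∀ r < D.nroots, ∀ t : F,
      (⟨xG g r t, xG_mem_group g r t⟩ : ↥(D.group F)) ∈ commutator ↥(D.group F) := by
    refine root_induction g (fun j hj _ => h j hj) ?_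
    intro i hi r hr ih t
    have hn := (inferInstance : (commutator ↥(D.group F)).Normal).conj_mem _
      (ih ((A.eta i r : F) * t)) ⟨nS F g i, nS_mem_group g i⟩
    convert hn using 1
    apply Subtype.ext
    push_cast
    rw [nS_conj_xG g hi hr, ← mul_assoc, eta_sq g hi hr, one_mul]
  have hle : D.group F ≤ (commutator ↥(D.group F)).map (D.group F).subtype := by
    conv_lhs => rw [group_eq g]
    refine (Subgroup.closure_le _).2 ?_
    rintro y ⟨r, t, hr, rfl⟩
    exact ⟨_, all r hr t, rfl⟩
  rw [eq_top_iff]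
  rintro ⟨y, hy⟩ -
  obtain ⟨z, hz, e⟩ := hle hy
  rwa [show (⟨y, hy⟩ : ↥(D.group F)) = z from Subtype.ext e.symm]

theorem perfect_of_perfA (h : Std D A) (hA : perfA D A = true) :
    commutator ↥(D.group F) = ⊤ := by
  refine perfect_of_simple_roots h.good fun i hi t => ?_
  simp only [perfA, List.all_eq_true, List.any_eq_true, List.mem_range, Bool.and_eq_true,
    decide_eq_true_eq, unitTerm] at hA
  obtain ⟨j, _, ⟨hr, hs⟩, hsr, hsn, e | e⟩ := hA i hi
  · exact commutator_term h hr hs hsr hsn e (by simp) t
  · exact commutator_term h hr hs hsr hsn e (by simp) t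

lemma exists_torus (g : Good D A) {i : ℕ} (hi : i < D.rank) {j : ℕ} (hj : j < D.rank) (a : Fˣ) :
    chi D A (Pi.mulSingle (⟨j, hj⟩ : Fin D.rank) a) (D.simple i) = a ^ A.cart j (D.simple i) := by
  rw [chi, Finset.prod_eq_single ⟨j, hj⟩]
  · simp
  · intro k _ hk; simp [hk]
  · simp

theorem perfect_of_perfB (h : Std D A) (hB : perfB D A = true) (hF : ∃ a : F, a ≠ 0 ∧ a ≠ 1) :
    commutator ↥(D.group F) = ⊤ := by
  obtain ⟨a, ha0, ha1⟩ := hF
  refine perfect_of_simple_roots h.good fun i hi t => ?_
  by_cases ha2 : a ^ 2 = 1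
  swap
  · refine commutator_torus h.good (h.good.simple_lt i hi) (Pi.mulSingle ⟨i, hi⟩ (Units.mk0 a ha0))
      ?_ t
    rw [exists_torus h.good hi hi, h.good.cart_simple i hi, Units.val_zpow_eq_zpow_val]
    simpa [zpow_two, sq] using ha2
  have hm : a = -1 := (mul_self_eq_one_iff.1 (by simpa [sq] using ha2)).resolve_left ha1
  simp only [perfB, List.all_eq_true, List.any_eq_true, List.mem_range, Bool.or_eq_true,
    decide_eq_true_eq, twoTerm] at hB
  rcases hB i hi with ⟨j, hj, hodd⟩ | ⟨r, hr, s, hs, hsr, hsn, he⟩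
  · refine commutator_torus h.good (h.good.simple_lt i hi) (Pi.mulSingle ⟨j, hj⟩ (Units.mk0 a ha0))
      ?_ t
    rw [exists_torus h.good hi hj, Units.val_zpow_eq_zpow_val, Units.val_mk0, hm,
      Odd.neg_one_zpow (Int.odd_iff.2 (by omega)), ← hm]
    exact ha1
  · have h2 : (2 : F) ≠ 0 := fun e2 => ha1 (by linear_combination hm + (-1 : F) * e2)
    rcases he with e | e
    · exact commutator_term h hr hs hsr hsn e (by simpa using h2) t
    · exact commutator_term h hr hs hsr hsn e (by simpa using h2) t

lemma not_commute_of_cart (h : Std D A) {i j : ℕ} (hi : i < D.rank) (hj : j < D.rank) (hij : i ≠ j)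
    (hc : A.cart j (D.simple i) ≠ 0) :
    nS F h.good i * nS F h.good j * (nS F h.good i)⁻¹ * (nS F h.good j)⁻¹ ∉ D.borelSubgroup F := by
  intro hmem
  have g := h.good
  have hN := nS_mem_monomial (F := F) h.good (i := i) hi
  have hN' := nS_mem_monomial (F := F) h.good (i := j) hj
  have hH : nS F h.good i * nS F h.good j * (nS F h.good i)⁻¹ * (nS F h.good j)⁻¹ ∈
      D.diagonalSubgroup F := by
    rw [← borel_inf_monomial h]
    exact Subgroup.mem_inf.2 ⟨hmem, mul_mem (mul_mem (mul_mem hN hN') (inv_mem hN)) (inv_mem hN')⟩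
  rw [diagonalSubgroup_eq h.good] at hH
  obtain ⟨c, hc'⟩ := hH
  have e : nS F g i * nS F g j = tor D A c * (nS F g j * nS F g i) := by rw [hc']; group
  have h1 := (acts_nS (F := F) g hi).mul (acts_nS g hj)
  rw [e] at h1
  have h2 := (acts_tor (F := F) g c).mul ((acts_nS g hj).mul (acts_nS g hi))
  have hu := h1.unique h2 (g.simple_lt i hi)
  simp only [Function.comp_apply, id] at hu
  rw [refl_simple g hi] at hu
  have h3 := congrArg (fun r => A.a r j) hu
  have hp := g.simple_lt i hi
  simp only [g.a_refl i hi _ (g.refl_lt j hj _ hp) j hj, g.a_refl j hj _ hp j hj,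
    g.a_refl j hj _ (g.neg_lt _ hp) j hj, g.a_neg _ hp, g.a_simple i hi j hj, if_neg (Ne.symm hij),
    if_true, g.cart_neg j hj _ hp] at h3
  omega

lemma irreducible_of_conn (h : Std D A) (hC : conn D A = true) :
    (bnPair (F := F) h).Irreducible := by
  intro J hJ hne hne'
  by_contra hcon
  push Not at hcon
  let s : ∀ i : ℕ, ↥(D.group F) := fun i => ⟨nS F h.good i, nS_mem_group h.good i⟩
  have hS : ∀ i < D.rank, s i ∈ (bnPair h).S := fun i hi => ⟨i, hi, rfl⟩
  have step : ∀ i < D.rank, ∀ m < D.rank, A.cart m (D.simple i) ≠ 0 → (s i ∈ J ↔ s m ∈ J) := by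
    intro i hi m hm hc
    rcases eq_or_ne i m with rfl | him
    · exact Iff.rfl
    have hno := not_commute_of_cart (F := F) h hi hm him hc
    constructor
    · intro h1
      by_contra h2
      have := hcon _ h1 _ ⟨hS m hm, h2⟩
      exact hno this
    · intro h1
      by_contra h2
      have := hcon _ h1 _ ⟨hS i hi, h2⟩
      have hinv := inv_mem (Subgroup.mem_subgroupOf.1 this)
      apply hno
      convert hinv using 1
      show _ = ((s m * s i * (s m)⁻¹ * (s i)⁻¹ : ↥(D.group F)) : GL D.Idx F)⁻¹
      push_cast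
      simp only [s]
      group
  have all : ∀ k, ∀ i ∈ reach D A k, i < D.rank → (s i ∈ J ↔ s 0 ∈ J) := by
    intro k
    induction k with
    | zero => intro i hi _; simp [reach] at hi; subst hi; rfl
    | succ k ih =>
      intro i hi hir
      simp only [reach, List.mem_filter, List.mem_range, Bool.or_eq_true, decide_eq_true_eq,
        List.any_eq_true] at hi
      rcases hi.2 with h1 | ⟨m, hm, hmr, hc⟩
      · exact ih i h1 hir
      · exact (step i hir m hmr hc).trans (ih m hm hmr)
  simp only [conn, List.all_eq_true, List.mem_range, decide_eq_true_eq] at hC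
  obtain ⟨a, ha⟩ := hne
  obtain ⟨b, hbS, hb⟩ := hne'
  obtain ⟨i, hi, ei⟩ := hJ ha
  obtain ⟨j, hj, ej⟩ := hbS
  obtain rfl : a = s i := Subtype.ext ei
  obtain rfl : b = s j := Subtype.ext ej
  exact hb ((all _ j (hC j hj) hj).2 ((all _ i (hC i hi) hi).1 ha))

theorem simple_group (h : Std D A) (hr : 0 < D.rank) (hC : conn D A = true)
    (hperf : commutator ↥(D.group F) = ⊤) :
    IsSimpleGroup ↥(D.group F) ∧ ¬ IsMulCommutative ↥(D.group F) := by
  have hne : (⟨xG h.good (D.simple 0) 1, xG_mem_group h.good _ _⟩ : ↥(D.group F)) ≠ 1 := fun e =>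
    one_ne_zero (xG_eq_one h (h.good.simple_lt 0 hr) (congrArg Subtype.val e))
  have : Nontrivial ↥(D.group F) := nontrivial_of_ne _ _ hne
  refine ⟨?_, fun hcomm => ?_⟩
  · refine BN.simple_of_irreducible (P := bnPair h) (irreducible_of_conn h hC) ?_ hperf
      (borel_core_trivial h)
    have := borel_solvable (F := F) h
    exact Group.isSolvable_of_isSolvable_injective (f := (Subgroup.subgroupOfEquivOfLe
      (borel_le_group (F := F) h.good)).toMonoidHom) (MulEquiv.injective _)
  · have hb : commutator ↥(D.group F) = ⊥ := by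
      rw [commutator_def, Subgroup.commutator_eq_bot_iff_le_centralizer]
      exact fun x _ y _ => IsMulCommutative.is_comm.comm y x
    rw [hb] at hperf
    exact bot_ne_top hperf

theorem perfA_D4 : perfA chevD4 auxD4 = true := by decide +kernel
theorem perfA_F4 : perfA chevF4 auxF4 = true := by decide +kernel
theorem perfA_E6 : perfA chevE6 auxE6 = true := by decide +kernel
theorem perfA_E7 : perfA chevE7 auxE7 = true := by decide +kernel
theorem perfA_E8 : perfA chevE8 auxE8 = true := by decide +kernel
theorem perfB_G2 : perfB chevG2 auxG2 = true := by decide +kernel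
theorem perfB_B2 : perfB chevB2 auxB2 = true := by decide +kernel
theorem conn_G2 : conn chevG2 auxG2 = true := by decide +kernel
theorem conn_B2 : conn chevB2 auxB2 = true := by decide +kernel
theorem conn_D4 : conn chevD4 auxD4 = true := by decide +kernel
theorem conn_F4 : conn chevF4 auxF4 = true := by decide +kernel
theorem conn_E6 : conn chevE6 auxE6 = true := by decide +kernel
theorem conn_E7 : conn chevE7 auxE7 = true := by decide +kernel
theorem conn_E8 : conn chevE8 auxE8 = true := by decide +kernel

end CfsgLib.Chev
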