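/-
Groups generated by involutions with the exchange property are Coxeter groups
(Matsumoto's argument).
-/
import Mathlib

set_option autoImplicit false

namespace CfsgLib.Chev.Cox

variable {W : Type*} [Group W] {ι : Type*} (f : ι → W)

/-- the alternating word `s t s …` of the given length -/
def altL (s t : ι) : ℕ → List ι
  | 0 => []
  | n + 1 => s :: altL t s n

@[simp] lemma altL_length : ∀ (n : ℕ) (s t : ι), (altL s t n).length = n
  | 0, _, _ => rfl
  | n + 1, s, t => by simp [altL, altL_length n t s]

lemma altL_dropLast : ∀ (n : ℕ) (s t : ι), (altL s t (n + 1)).dropLast = altL s t n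
  | 0, _, _ => rfl
  | n + 1, s, t => by
    rw [altL]
    show (s :: altL t s (n + 1)).dropLast = _
    rw [List.dropLast_cons_of_ne_nil (by simp [altL]), altL_dropLast n t s]
    rfl

lemma altL_prefix : ∀ {j n : ℕ} (s t : ι), j ≤ n → altL s t j <+: altL s t n
  | 0, _, _, _, _ => by simp [altL]
  | j + 1, 0, _, _, h => by omega
  | j + 1, n + 1, s, t, h => by
    simp only [altL, List.cons_prefix_cons, true_and]
    exact altL_prefix t s (by omega)

/-- the word of minimal length -/
def Reduced (l : List ι) : Prop :=
  ∀ l' : List ι, (l'.map f).prod = (l.map f).prod → l.length ≤ l'.length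

/-- the exchange condition -/
def Exchange : Prop :=
  ∀ (i : ι) (l : List ι), Reduced f l →
    (∃ l' : List ι, (l'.map f).prod = f i * (l.map f).prod ∧ l'.length ≤ l.length) →
    ∃ (a : List ι) (x : ι) (c : List ι), l = a ++ x :: c ∧
      f i * (l.map f).prod = ((a ++ c).map f).prod

variable {f}

lemma alt_prod_ratio (hinv : ∀ i, f i * f i = 1) : ∀ (n : ℕ) (s t : ι),
    ((altL s t n).map f).prod * ((altL t s n).map f).prod⁻¹ = (f s * f t) ^ n
  | 0, _, _ => by simp [altL]
  | n + 1, s, t => by
    have ht : (f t)⁻¹ = f t := inv_eq_of_mul_eq_one_right (hinv t)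
    simp only [altL, List.map_cons, List.prod_cons, mul_inv_rev, ht]
    rw [show f s * ((altL t s n).map f).prod * (((altL s t n).map f).prod⁻¹ * f t) =
      f s * (((altL t s n).map f).prod * ((altL s t n).map f).prod⁻¹) * f t by group,
      alt_prod_ratio hinv n t s]
    clear ht
    induction n with
    | zero => simp
    | succ n ih => rw [pow_succ' (f s * f t) (n + 1), ← ih, pow_succ']; simp only [mul_assoc]

section

variable {C : Type*} [Group C] {g : ι → C}

/-- words equal in `W`, reduced and different in `C` -/
def Bad (f : ι → W) (g : ι → C) (n : ℕ) (s t : ι) (u v : List ι) : Prop :=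
  s ≠ t ∧ u.length = n ∧ v.length = n ∧ u.head? = some s ∧ v.head? = some t ∧
    Reduced f u ∧ Reduced f v ∧ (u.map f).prod = (v.map f).prod ∧
      (u.map g).prod ≠ (v.map g).prod

lemma prefix_cons_dropLast {s t : ι} {v : List ι} {j : ℕ} (hp : altL t s j <+: v)
    (hj : j + 1 ≤ v.length) : altL s t (j + 1) <+: s :: v.dropLast := by
  simp only [altL, List.cons_prefix_cons, true_and]
  obtain ⟨r, rfl⟩ := hp
  simp only [List.length_append, altL_length] at hj
  rw [List.dropLast_append_of_ne_nil (by intro e; simp [e] at hj)]
  exact List.prefix_append _ _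

lemma bad_step (hinv : ∀ i, f i * f i = 1) (hex : Exchange f) {n : ℕ}
    (ih : ∀ m < n, ∀ u v : List ι, u.length = m → v.length = m → Reduced f u → Reduced f v →
      (u.map f).prod = (v.map f).prod → (u.map g).prod = (v.map g).prod)
    {s t : ι} {u v : List ι} (hb : Bad f g n s t u v) :
    Bad f g n t s v (s :: v.dropLast) := by
  obtain ⟨hst, hu, hv, hus, hvt, hru, hrv, hW, hC⟩ := hb
  obtain ⟨u', rfl⟩ : ∃ u', u = s :: u' := by
    cases u with
    | nil => simp at hus
    | cons a u' => simp at hus; exact ⟨u', by rw [hus]⟩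
  obtain ⟨a, x, c, hvac, he⟩ := hex s v hrv ⟨u', by
    rw [← hW, List.map_cons, List.prod_cons, ← mul_assoc, hinv, one_mul],
    by simp at hu; omega⟩
  have hlen : (s :: (a ++ c)).length = n := by
    rw [hvac] at hv; simp only [List.length_append, List.length_cons] at hv ⊢; omega
  have hW1 : ((s :: (a ++ c)).map f).prod = (v.map f).prod := by
    rw [List.map_cons, List.prod_cons, ← he, ← mul_assoc, hinv, one_mul]
  have hr1 : Reduced f (s :: (a ++ c)) := fun l hl => by
    rw [hlen, ← hv]; exact hrv l (hl.trans hW1)
  have tailRed : ∀ {p : ι} {q : List ι}, Reduced f (p :: q) → Reduced f q := by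
    intro p q h l hl
    have := h (p :: l) (by simp [hl])
    simpa using this
  have initRed : ∀ {p : ι} {q : List ι}, Reduced f (q ++ [p]) → Reduced f q := by
    intro p q h l hl
    have := h (l ++ [p]) (by simp [hl])
    simpa using this
  have hn : 0 < n := by simp at hu; omega
  have hC1 : ((s :: u').map g).prod = ((s :: (a ++ c)).map g).prod := by
    simp only [List.map_cons, List.prod_cons]
    rw [ih (n - 1) (by omega) u' (a ++ c) (by simp at hu; omega) (by simp at hlen; simp; omega)
      (tailRed hru) (tailRed hr1) (mul_left_cancel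
        (a := f s) (by simpa using hW.trans hW1.symm))]
  have hc : c = [] := by
    by_contra hne
    obtain ⟨c', p, rfl⟩ := List.eq_nil_or_concat' c |>.resolve_left hne
    apply hC
    rw [hC1, hvac]
    have e1 : s :: (a ++ (c' ++ [p])) = (s :: (a ++ c')) ++ [p] := by simp
    have e2 : a ++ x :: (c' ++ [p]) = (a ++ x :: c') ++ [p] := by simp
    rw [e1] at hr1 hW1 hlen ⊢
    rw [hvac, e2] at hrv hW1 hv
    rw [e2]
    rw [List.map_append, List.map_append (l₁ := a ++ x :: c'), List.prod_append, List.prod_append]
    congr 1
    refine ih (n - 1) (by omega) _ _ ?_ ?_ (initRed hr1) (initRed hrv) ?_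
    · simp only [List.length_append, List.length_cons, List.length_nil] at hlen ⊢; omega
    · simp only [List.length_append, List.length_cons, List.length_nil] at hv ⊢; omega
    · exact mul_right_cancel (b := f p) (by simpa [mul_assoc] using hW1)
  subst hc
  have hd : v.dropLast = a := by rw [hvac]; simp
  rw [hd]
  simp only [List.append_nil] at hlen hW1 hr1 hC1
  exact ⟨hst.symm, hv, hlen, hvt, by simp, hrv, hr1, hW1.symm, fun e => hC (hC1.trans e.symm)⟩

/-- Matsumoto's theorem -/
theorem matsumoto (hinv : ∀ i, f i * f i = 1) (hex : Exchange f)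
    (hrel : ∀ (s t : ι) (n : ℕ), (f s * f t) ^ n = 1 → (g s * g t) ^ n = 1)
    (hinvg : ∀ i, g i * g i = 1) :
    ∀ (n : ℕ) (u v : List ι), u.length = n → v.length = n → Reduced f u → Reduced f v →
      (u.map f).prod = (v.map f).prod → (u.map g).prod = (v.map g).prod := by
  intro n
  induction n using Nat.strong_induction_on with
  | _ n ih =>
    intro u v hu hv hru hrv hW
    by_contra hC
    cases u with
    | nil =>
      simp at hu; subst hu
      cases v with
      | nil => simp at hC
      | cons b v => simp at hv
    | cons s u' =>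
    cases v with
    | nil => simp at hu hv; omega
    | cons t v' =>
    by_cases hst : s = t
    · subst hst
      simp only [List.map_cons, List.prod_cons, mul_left_cancel_iff] at hW hC
      refine hC (ih u'.length (by simp at hu; omega) u' v' rfl (by simp at hu hv; omega) ?_ ?_ hW)
      · intro l hl; simpa using hru (s :: l) (by simp [hl])
      · intro l hl; simpa using hrv (s :: l) (by simp [hl])
    -- iterate the step until both words alternate
    have key : ∀ j, j ≤ n → ∃ a b p q, Bad f g n a b p q ∧ altL b a j <+: q := by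
      intro j
      induction j with
      | zero =>
        intro _
        exact ⟨s, t, _, _, ⟨hst, hu, hv, by simp, by simp, hru, hrv, hW, hC⟩, by simp [altL]⟩
      | succ j ihj =>
        intro hj
        obtain ⟨a, b, p, q, hb, hp⟩ := ihj (by omega)
        refine ⟨b, a, q, a :: q.dropLast, bad_step hinv hex ih hb, ?_⟩
        exact prefix_cons_dropLast hp (by rw [hb.2.2.1]; omega)
    obtain ⟨a, b, p, q, hb, hp⟩ := key n le_rfl
    have hq : q = altL b a n :=
      (hp.eq_of_length (by rw [altL_length, hb.2.2.1])).symm
    have h2 := bad_step hinv hex ih hb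
    subst hq
    have hn : ∃ k, n = k + 1 := ⟨n - 1, by simp at hu; omega⟩
    obtain ⟨k, rfl⟩ := hn
    rw [altL_dropLast, show a :: altL b a k = altL a b (k + 1) from rfl] at h2
    obtain ⟨-, -, -, -, -, -, -, hW2, hC2⟩ := h2
    apply hC2
    have h3 := alt_prod_ratio hinv (k + 1) b a
    rw [hW2, mul_inv_cancel] at h3
    have h4 := alt_prod_ratio hinvg (k + 1) b a
    rw [hrel b a (k + 1) h3.symm, mul_inv_eq_one] at h4
    exact h4

theorem exists_reduced_eq (hinv : ∀ i, f i * f i = 1) (hex : Exchange f)
    (hrel : ∀ (s t : ι) (n : ℕ), (f s * f t) ^ n = 1 → (g s * g t) ^ n = 1)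
    (hinvg : ∀ i, g i * g i = 1) : ∀ l : List ι,
    ∃ r, Reduced f r ∧ (r.map f).prod = (l.map f).prod ∧ (r.map g).prod = (l.map g).prod
  | [] => ⟨[], fun _ _ => Nat.zero_le _, rfl, rfl⟩
  | s :: l => by
    obtain ⟨r, hr, hW, hC⟩ := exists_reduced_eq hinv hex hrel hinvg l
    by_cases hs : Reduced f (s :: r)
    · exact ⟨s :: r, hs, by simp [hW], by simp [hC]⟩
    obtain ⟨l', hl', hlen⟩ : ∃ l' : List ι, (l'.map f).prod = ((s :: r).map f).prod ∧
        l'.length < (s :: r).length := by
      simpa [Reduced, not_le] using hs
    obtain ⟨a, x, c, hac, he⟩ := hex s r hr ⟨l', by simpa using hl', by simpa using Nat.lt_succ_iff.1 hlen⟩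
    have hrac : Reduced f (a ++ c) := by
      intro l2 hl2
      have := hr (s :: l2) (by rw [List.map_cons, List.prod_cons, hl2, ← he, ← mul_assoc, hinv, one_mul])
      rw [hac] at this
      simp only [List.length_append, List.length_cons] at this ⊢
      omega
    have hsac : Reduced f (s :: (a ++ c)) := by
      intro l2 hl2
      have := hr l2 (by rw [hl2, List.map_cons, List.prod_cons, ← he, ← mul_assoc, hinv, one_mul])
      rw [hac] at this
      simp only [List.length_append, List.length_cons] at this ⊢
      omega
    have hg := matsumoto hinv hex hrel hinvg r.length (s :: (a ++ c)) r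
      (by rw [hac]; simp only [List.length_append, List.length_cons]; omega) rfl hsac hr
      (by rw [List.map_cons, List.prod_cons, ← he, ← mul_assoc, hinv, one_mul])
    refine ⟨a ++ c, hrac, ?_, ?_⟩
    · rw [← he, List.map_cons, List.prod_cons, hW]
    · rw [List.map_cons, List.prod_cons, ← hC, ← hg, List.map_cons, List.prod_cons, ← mul_assoc,
        hinvg, one_mul]

end

/-- a group generated by involutions with exchange is a Coxeter group -/
theorem exists_coxeterSystem {f : ι → W} (M : CoxeterMatrix ι) (hinv : ∀ i, f i * f i = 1)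
    (hM : ∀ s t : ι, orderOf (f s * f t) = M s t)
    (hgen : ∀ w : W, ∃ l : List ι, (l.map f).prod = w) (hex : Exchange f) :
    ∃ cs : CoxeterSystem M W, ∀ i, cs.simple i = f i := by
  have hlift : M.IsLiftable f := fun s t => by rw [← hM]; exact pow_orderOf_eq_one _
  set cs0 := M.toCoxeterSystem
  set φ : M.Group →* W := cs0.lift ⟨f, hlift⟩
  have hφ : ∀ i, φ (cs0.simple i) = f i := fun i => cs0.lift_apply_simple hlift i
  have hφl : ∀ l : List ι, φ (l.map cs0.simple).prod = (l.map f).prod := fun l => by
    rw [map_list_prod, List.map_map]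
    exact congrArg List.prod (List.map_congr_left fun i _ => hφ i)
  have hrel : ∀ (s t : ι) (n : ℕ), (f s * f t) ^ n = 1 →
      (cs0.simple s * cs0.simple t) ^ n = 1 := by
    intro s t n h
    have := orderOf_dvd_of_pow_eq_one h
    rw [hM] at this
    obtain ⟨m, rfl⟩ := this
    rw [pow_mul, cs0.simple_mul_simple_pow, one_pow]
  have hinj : Function.Injective φ := by
    refine (injective_iff_map_eq_one φ).2 fun w hw => ?_
    obtain ⟨l, hl⟩ := cs0.wordProd_surjective w
    obtain ⟨r, hr, hW, hC⟩ := exists_reduced_eq (f := f) (g := cs0.simple) hinv hex hrel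
      cs0.simple_mul_simple_self l
    have : r = [] := by
      have := hr [] (by
        rw [hW, ← hφl l, show (l.map cs0.simple).prod = w from hl, hw]
        simp)
      simpa using this
    subst this
    rw [← hl]
    simpa [CoxeterSystem.wordProd] using hC.symm
  have hsurj : Function.Surjective φ := fun w => by
    obtain ⟨l, hl⟩ := hgen w
    exact ⟨_, (hφl l).trans hl⟩
  refine ⟨⟨(MulEquiv.ofBijective φ ⟨hinj, hsurj⟩).symm⟩, fun i => ?_⟩
  exact hφ i

/-- the Coxeter matrix of a family of distinct involutions -/
noncomputable def matrixOf (f : ι → W) (hinv : ∀ i, f i * f i = 1) (hinj : Function.Injective f) :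
    CoxeterMatrix ι where
  M s t := orderOf (f s * f t)
  isSymm := Matrix.IsSymm.ext fun s t => by
    rw [← orderOf_inv (f s * f t), mul_inv_rev, inv_eq_of_mul_eq_one_right (hinv s),
      inv_eq_of_mul_eq_one_right (hinv t)]
  diagonal s := by simp [hinv]
  off_diagonal s t hst e := by
    rw [orderOf_eq_one_iff, mul_eq_one_iff_eq_inv, inv_eq_of_mul_eq_one_right (hinv t)] at e
    exact hst (hinj e)

end CfsgLib.Chev.Cox
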