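/-
Coset representative tables for Weyl groups and their checks.
-/
import Cfsg.Agent.Lib.Chev.Fast

set_option autoImplicit false

namespace CfsgLib.Chev

open Cfsg.Lie

/-- a coset representative: its word, the parent, the transported coordinate functional on the
fundamental roots, the images of the fundamental roots, and the closure hints -/
structure Rep where
  word : List ℕ
  par : ℕ
  f : List ℤ
  img : List ℕ
  hint : List (Bool × ℕ)
deriving Inhabited

/-- the checks of the `k`-th level -/
noncomputable def checkLevel (D : ChevalleyDatum) (A : Aux) (k : ℕ) (L : List Rep) : Bool :=
  (match L with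
    | [] => false
    | e :: _ => decide (e.word = [] ∧
        e.f = (List.range D.rank).map (fun m => if m = k then (1 : ℤ) else 0) ∧
        e.img = (List.range D.rank).map D.simple)) &&
  L.all (fun e =>
    match e.word with
    | [] => decide (e.f = (List.range D.rank).map (fun m => if m = k then (1 : ℤ) else 0) ∧
        e.img = (List.range D.rank).map D.simple)
    | j :: t => decide (j ≤ k ∧ e.par < L.length ∧ (L.getD e.par default).word = t ∧
        0 < (L.getD e.par default).f.getD j 0 ∧
        e.f = (List.range D.rank).map (fun m => (L.getD e.par default).f.getD m 0 -
          A.cart j (D.simple m) * (L.getD e.par default).f.getD j 0) ∧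
        e.img = (L.getD e.par default).img.map (A.refl j))) &&
  decide ((L.map Rep.f).Nodup) &&
  L.all (fun e => (List.range (k + 1)).all fun j =>
    match e.hint.getD j (false, k) with
    | (true, y) => decide (y < L.length ∧ (L.getD y default).img = e.img.map (A.refl j))
    | (false, i) => decide (i < k) && (List.range D.rank).all fun m => (List.range D.rank).all fun c =>
        decide (A.a (A.refl j (e.img.getD m 0)) c =
          A.a (e.img.getD m 0) c - A.cart i (D.simple m) * A.a (e.img.getD i 0) c))

/-- the checks of all levels -/
noncomputable def checkWeyl (D : ChevalleyDatum) (A : Aux) (lv : List (List Rep)) : Bool :=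
  decide (lv.length = D.rank) &&
    (List.range D.rank).all fun k => checkLevel D A k (lv.getD k [])

end CfsgLib.Chev
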