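/-
The Weyl group as a group of root permutations: inversions, exchange, normal forms.
-/
import Cfsg.Agent.Lib.Chev.BN2
import Cfsg.Agent.Lib.Chev.Coxeter
import Cfsg.Agent.Lib.Chev.WeylDef

set_option autoImplicit false

namespace CfsgLib.Chev

open Cfsg.Lie Matrix

variable {D : ChevalleyDatum} {A : Aux}

/-- the root map of a word in the fundamental reflections -/
noncomputable def wf (A : Aux) : List ℕ → ℕ → ℕ
  | [] => id
  | i :: w => fun r => A.refl i (wf A w r)

lemma wf_append (u v : List ℕ) (r : ℕ) : wf A (u ++ v) r = wf A u (wf A v r) := by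
  induction u with
  | nil => rfl
  | cons i u ih => simp [wf, ih]

lemma wf_singleton (i r : ℕ) : wf A [i] r = A.refl i r := rfl

/-- a word in the indices of the fundamental roots -/
def Letters (D : ChevalleyDatum) (w : List ℕ) : Prop := ∀ j ∈ w, j < D.rank

lemma Letters.cons {i : ℕ} {w : List ℕ} (hi : i < D.rank) (h : Letters D w) : Letters D (i :: w) :=
  List.forall_mem_cons.2 ⟨hi, h⟩

lemma Letters.head {i : ℕ} {w : List ℕ} (h : Letters D (i :: w)) : i < D.rank :=
  (List.forall_mem_cons.1 h).1

lemma Letters.tail {i : ℕ} {w : List ℕ} (h : Letters D (i :: w)) : Letters D w :=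
  (List.forall_mem_cons.1 h).2

lemma Letters.reverse {w : List ℕ} (h : Letters D w) : Letters D w.reverse :=
  fun j hj => h j (List.mem_reverse.1 hj)

lemma Letters.append {u v : List ℕ} (h : Letters D u) (h' : Letters D v) : Letters D (u ++ v) :=
  List.forall_mem_append.2 ⟨h, h'⟩

lemma wf_lt (g : Good D A) : ∀ {w : List ℕ}, Letters D w → ∀ {r : ℕ}, r < D.nroots →
    wf A w r < D.nroots
  | [], _, _, hr => hr
  | i :: _, h, _, hr => g.refl_lt i h.head _ (wf_lt g h.tail hr)

lemma wf_rootMap (g : Good D A) : ∀ {w : List ℕ}, Letters D w → RootMap D A (wf A w)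
  | [], _ => rootMap_id
  | _ :: _, h => (rootMap_refl g h.head).comp (wf_rootMap g h.tail)

lemma wf_rev_left (g : Good D A) : ∀ {w : List ℕ}, Letters D w → ∀ {r : ℕ}, r < D.nroots →
    wf A w.reverse (wf A w r) = r
  | [], _, _, _ => rfl
  | i :: w, h, r, hr => by
    rw [List.reverse_cons, wf_append]
    show wf A w.reverse (A.refl i (A.refl i (wf A w r))) = r
    rw [g.refl_refl i h.head _ (wf_lt g h.tail hr), wf_rev_left g h.tail hr]

lemma wf_rev_right (g : Good D A) {w : List ℕ} (h : Letters D w) {r : ℕ} (hr : r < D.nroots) :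
    wf A w (wf A w.reverse r) = r := by
  simpa using wf_rev_left g h.reverse hr

/-- two root maps agree on all roots -/
def SameOn (D : ChevalleyDatum) (σ τ : ℕ → ℕ) : Prop := ∀ r < D.nroots, σ r = τ r

lemma sameOn_of_simple (g : Good D A) {σ τ : ℕ → ℕ} (hσ : RootMap D A σ) (hτ : RootMap D A τ)
    (h : ∀ m < D.rank, σ (D.simple m) = τ (D.simple m)) : SameOn D σ τ := by
  intro r hr
  refine g.a_inj _ (hσ.1 r hr) _ (hτ.1 r hr) fun j hj => ?_
  rw [simple_eq_sum g hσ hr j hj, simple_eq_sum g hτ hr j hj]
  exact Finset.sum_congr rfl fun k hk => by rw [h k (Finset.mem_range.1 hk)]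

lemma wf_rev_congr (g : Good D A) {w w' : List ℕ} (hw : Letters D w) (hw' : Letters D w')
    (h : SameOn D (wf A w) (wf A w')) : SameOn D (wf A w.reverse) (wf A w'.reverse) := by
  intro r hr
  have hs := wf_lt g hw'.reverse hr
  have h1 := h _ hs
  rw [wf_rev_right g hw' hr] at h1
  have h2 := congrArg (wf A w.reverse) h1
  rw [wf_rev_left g hw hs] at h2
  exact h2.symm

lemma pr_wf (g : Good D A) : ∀ {w : List ℕ}, Letters D w → ∀ {r s : ℕ}, r < D.nroots →
    s < D.nroots → pr D A (wf A w r) (wf A w s) = pr D A r s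
  | [], _, _, _, _, _ => rfl
  | i :: w, h, r, s, hr, hs => by
    show pr D A (A.refl i (wf A w r)) (A.refl i (wf A w s)) = _
    rw [← pr_wf g h.tail hr hs]
    have hr' := wf_lt g h.tail hr
    have hs' := wf_lt g h.tail hs
    exact pr_refl g h.head hr' hs'

/-- a root map carrying `p_x` to `p_i` conjugates the reflections -/
lemma refl_conj (g : Good D A) {a : List ℕ} (ha : Letters D a) {i x : ℕ} (hi : i < D.rank)
    (hx : x < D.rank) (he : wf A a (D.simple x) = D.simple i) {r : ℕ} (hr : r < D.nroots) :
    A.refl i (wf A a r) = wf A a (A.refl x r) := by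
  have hlt := wf_lt g ha hr
  have hsx := g.simple_lt x hx
  refine g.a_inj _ (g.refl_lt i hi _ hlt) _ (wf_lt g ha (g.refl_lt x hx r hr)) fun j hj => ?_
  have hlin := (wf_rootMap g ha).lin (i := 1) (k := -A.cart x r) hr hsx (g.refl_lt x hx r hr)
    (u := A.refl x r) (fun l hl => by
      rw [g.a_refl x hx r hr l hl, g.a_simple x hx l hl]
      by_cases e : l = x <;> simp [e] <;> ring) j hj
  have hc : A.cart x r = A.cart i (wf A a r) := by
    have := pr_wf g ha hsx hr
    rw [he, pr_simple g hi, pr_simple g hx] at this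
    exact this.symm
  rw [hlin, he, g.a_refl i hi _ hlt j hj, g.a_simple i hi j hj, hc]
  by_cases e : j = i <;> simp [e] <;> ring

/-- the deletion lemma -/
lemma exists_deletion (g : Good D A) : ∀ {w : List ℕ}, Letters D w → ∀ {r : ℕ}, D.IsPosRoot r →
    ¬ D.IsPosRoot (wf A w.reverse r) →
    ∃ a x c, w = a ++ x :: c ∧ wf A a (D.simple x) = r
  | [], _, r, hr, hn => absurd hr hn
  | y :: w, h, r, hr, hn => by
    by_cases e : r = D.simple y
    · exact ⟨[], y, w, rfl, e.symm⟩
    · obtain ⟨h1, _⟩ := refl_pos g h.head hr e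
      rw [List.reverse_cons, wf_append] at hn
      obtain ⟨a, x, c, e1, e2⟩ := exists_deletion g h.tail h1 hn
      refine ⟨y :: a, x, c, by rw [e1]; rfl, ?_⟩
      show A.refl y (wf A a (D.simple x)) = r
      rw [e2, g.refl_refl y h.head r hr.1]

/-- the number of inversions -/
noncomputable def nInv (D : ChevalleyDatum) (A : Aux) (w : List ℕ) : ℕ :=
  (D.posRoots.toFinset.filter fun r => ¬ D.IsPosRoot (wf A w r)).card

lemma nInv_congr {w w' : List ℕ} (h : SameOn D (wf A w) (wf A w')) : nInv D A w = nInv D A w' := by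
  unfold nInv
  congr 1
  refine Finset.filter_congr fun r hr => ?_
  rw [List.mem_toFinset, posRoots_mem] at hr
  rw [h r hr.1]

lemma nInv_nil : nInv D A [] = 0 := by
  rw [nInv, Finset.card_eq_zero, Finset.filter_eq_empty_iff]
  intro r hr
  rw [List.mem_toFinset, posRoots_mem] at hr
  simpa [wf] using hr

lemma nInv_cons_pos (g : Good D A) {w : List ℕ} (hw : Letters D w) {i : ℕ} (hi : i < D.rank)
    (hq : D.IsPosRoot (wf A w.reverse (D.simple i))) : nInv D A (i :: w) = nInv D A w + 1 := by
  classical
  set q := wf A w.reverse (D.simple i)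
  have hsi := g.simple_lt i hi
  have e : (D.posRoots.toFinset.filter fun r => ¬ D.IsPosRoot (wf A (i :: w) r)) =
      insert q (D.posRoots.toFinset.filter fun r => ¬ D.IsPosRoot (wf A w r)) := by
    ext r
    simp only [Finset.mem_filter, List.mem_toFinset, posRoots_mem, Finset.mem_insert]
    constructor
    · rintro ⟨hr, hn⟩
      by_cases hpos : D.IsPosRoot (wf A w r)
      · left
        have hs : wf A w r = D.simple i := by
          by_contra hne
          exact hn (refl_pos g hi hpos hne).1
        rw [← wf_rev_left g hw hr.1, hs]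
      · exact Or.inr ⟨hr, hpos⟩
    · rintro (rfl | ⟨hr, hn⟩)
      · refine ⟨hq, ?_⟩
        show ¬ D.IsPosRoot (A.refl i (wf A w q))
        rw [wf_rev_right g hw hsi, refl_simple g hi]
        exact not_pos_neg g (simple_pos g hi)
      · refine ⟨hr, fun hp => ?_⟩
        have hlt := wf_lt g hw hr.1
        change D.IsPosRoot (A.refl i (wf A w r)) at hp
        by_cases hs : A.refl i (wf A w r) = D.simple i
        · have h2 : wf A w r = A.neg (D.simple i) := by
            rw [← refl_simple g hi, ← hs, g.refl_refl i hi _ hlt]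
          have h3 : wf A w r = wf A w (A.neg q) := by
            rw [h2, (wf_rootMap g hw).map_neg g hq.1, wf_rev_right g hw hsi]
          have h4 := congrArg (wf A w.reverse) h3
          rw [wf_rev_left g hw hr.1, wf_rev_left g hw (g.neg_lt _ hq.1)] at h4
          exact not_pos_neg g hq (h4 ▸ hr)
        · have := (refl_pos g hi hp hs).1
          rw [g.refl_refl i hi _ hlt] at this
          exact hn this
  rw [nInv, e, Finset.card_insert_of_notMem, nInv]
  simp only [Finset.mem_filter, not_and, not_not]
  intro _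
  rw [wf_rev_right g hw hsi]
  exact simple_pos g hi

lemma nInv_cons_le (g : Good D A) {w : List ℕ} (hw : Letters D w) {i : ℕ} (hi : i < D.rank) :
    nInv D A (i :: w) ≤ nInv D A w + 1 := by
  by_cases hq : D.IsPosRoot (wf A w.reverse (D.simple i))
  · exact (nInv_cons_pos g hw hi hq).le
  · have h2 : D.IsPosRoot (wf A (i :: w).reverse (D.simple i)) := by
      rw [List.reverse_cons, wf_append, wf_singleton, refl_simple g hi,
        (wf_rootMap g hw.reverse).map_neg g (g.simple_lt i hi)]
      rcases pos_or_pos_neg g (wf_lt g hw.reverse (g.simple_lt i hi)) with h | h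
      · exact absurd h hq
      · exact h
    have h3 := nInv_cons_pos g (hw.cons hi) hi h2
    have h4 : nInv D A (i :: i :: w) = nInv D A w :=
      nInv_congr fun r hr => g.refl_refl i hi _ (wf_lt g hw hr)
    omega

lemma nInv_le_length (g : Good D A) : ∀ {w : List ℕ}, Letters D w → nInv D A w ≤ w.length
  | [], _ => by simp [nInv_nil]
  | i :: w, h => by
    have := nInv_cons_le g h.tail h.head
    have := nInv_le_length g h.tail
    simp only [List.length_cons]
    omega

/-- minimal length among the words with the same root map -/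
def RedWord (D : ChevalleyDatum) (A : Aux) (w : List ℕ) : Prop :=
  ∀ w' : List ℕ, Letters D w' → SameOn D (wf A w') (wf A w) → w.length ≤ w'.length

lemma deletion_eq (g : Good D A) {a c : List ℕ} {i x : ℕ} (ha : Letters D a) (hc : Letters D c)
    (hi : i < D.rank) (hx : x < D.rank) (he : wf A a (D.simple x) = D.simple i) :
    SameOn D (wf A (a ++ c)) (wf A (i :: (a ++ x :: c))) := by
  intro r hr
  show _ = A.refl i (wf A (a ++ x :: c) r)
  have h1 := wf_lt g hc hr
  rw [wf_append, wf_append]
  show _ = A.refl i (wf A a (A.refl x (wf A c r)))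
  rw [refl_conj g ha hi hx he (g.refl_lt x hx _ h1), g.refl_refl x hx _ h1]

lemma nInv_of_red (g : Good D A) : ∀ {w : List ℕ}, Letters D w → RedWord D A w →
    nInv D A w = w.length
  | [], _, _ => by simp [nInv_nil]
  | i :: w, h, hred => by
    have hw : RedWord D A w := fun w' h' e => by
      have := hred (i :: w') (h'.cons h.head) (fun r hr => congrArg (A.refl i) (e r hr))
      simpa using this
    have ih := nInv_of_red g h.tail hw
    by_cases hq : D.IsPosRoot (wf A w.reverse (D.simple i))
    · rw [nInv_cons_pos g h.tail h.head hq, ih, List.length_cons]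
    · exfalso
      obtain ⟨a, x, c, rfl, he⟩ := exists_deletion g h.tail (simple_pos g h.head) hq
      obtain ⟨ha, hxc⟩ := List.forall_mem_append.1 h.tail
      have hx := (List.forall_mem_cons.1 hxc).1
      have hc := (List.forall_mem_cons.1 hxc).2
      have := hred (a ++ c) (Letters.append ha hc) (deletion_eq g ha hc h.head hx he)
      simp only [List.length_cons, List.length_append] at this
      omega

section perm

variable (g : Good D A)

/-- the fundamental reflection as a permutation of the roots -/
noncomputable def sPerm (i : Fin D.rank) : Equiv.Perm (Fin D.nroots) where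
  toFun r := ⟨A.refl i r, g.refl_lt i i.isLt r r.isLt⟩
  invFun r := ⟨A.refl i r, g.refl_lt i i.isLt r r.isLt⟩
  left_inv r := Fin.ext (g.refl_refl i i.isLt r r.isLt)
  right_inv r := Fin.ext (g.refl_refl i i.isLt r r.isLt)

/-- the Weyl group -/
noncomputable def Weyl : Subgroup (Equiv.Perm (Fin D.nroots)) :=
  Subgroup.closure (Set.range (sPerm g))

/-- the generators of the Weyl group -/
noncomputable def wS (i : Fin D.rank) : Weyl g := ⟨sPerm g i, Subgroup.subset_closure ⟨i, rfl⟩⟩

lemma letters_map (l : List (Fin D.rank)) : Letters D (l.map Fin.val) := by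
  intro j hj
  obtain ⟨i, _, rfl⟩ := List.mem_map.1 hj
  exact i.isLt

lemma wS_prod_apply (l : List (Fin D.rank)) (r : Fin D.nroots) :
    (((l.map (wS g)).prod : Weyl g) : Equiv.Perm (Fin D.nroots)) r =
      ⟨wf A (l.map Fin.val) r, wf_lt g (letters_map l) r.isLt⟩ := by
  induction l with
  | nil => rfl
  | cons i l ih =>
    rw [List.map_cons, List.prod_cons, Subgroup.coe_mul, Equiv.Perm.mul_apply, ih]
    rfl

lemma wS_prod_eq {l l' : List (Fin D.rank)} :
    (l.map (wS g)).prod = (l'.map (wS g)).prod ↔
      SameOn D (wf A (l.map Fin.val)) (wf A (l'.map Fin.val)) := by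
  constructor
  · intro e r hr
    have := congrArg (fun w : Weyl g => (w : Equiv.Perm (Fin D.nroots)) ⟨r, hr⟩) e
    simp only [wS_prod_apply] at this
    exact congrArg Fin.val this
  · intro e
    refine Subtype.ext (Equiv.ext fun r => ?_)
    rw [wS_prod_apply, wS_prod_apply]
    exact Fin.ext (e r r.isLt)

lemma exists_fin_word {w : List ℕ} (h : Letters D w) :
    ∃ l : List (Fin D.rank), l.map Fin.val = w := by
  induction w with
  | nil => exact ⟨[], rfl⟩
  | cons i w ih =>
    obtain ⟨l, hl⟩ := ih h.tail
    exact ⟨⟨i, h.head⟩ :: l, by simp [hl]⟩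

lemma wS_inv (i : Fin D.rank) : wS g i * wS g i = 1 := by
  refine Subtype.ext (Equiv.ext fun r => ?_)
  exact Fin.ext (g.refl_refl i i.isLt r r.isLt)

lemma wS_gen (w : Weyl g) : ∃ l : List (Fin D.rank), (l.map (wS g)).prod = w := by
  obtain ⟨w, hw⟩ := w
  induction hw using Subgroup.closure_induction_left with
  | one => exact ⟨[], rfl⟩
  | mul_left a ha b hb ih =>
    obtain ⟨i, rfl⟩ := ha
    obtain ⟨l, hl⟩ := ih
    exact ⟨i :: l, by rw [List.map_cons, List.prod_cons, hl]; rfl⟩
  | inv_mul_cancel a ha b hb ih =>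
    obtain ⟨i, rfl⟩ := ha
    obtain ⟨l, hl⟩ := ih
    refine ⟨i :: l, ?_⟩
    rw [List.map_cons, List.prod_cons, hl]
    exact Subtype.ext rfl

theorem weyl_exchange : Cox.Exchange (wS g) := by
  rintro i l hl ⟨l', hl', hle⟩
  have hw := letters_map (D := D) l
  have hred : RedWord D A (l.map Fin.val) := by
    intro w' hw' e
    obtain ⟨m, rfl⟩ := exists_fin_word hw'
    simpa using hl m ((wS_prod_eq g).2 e)
  have hq : ¬ D.IsPosRoot (wf A (l.map Fin.val).reverse (D.simple i)) := by
    intro hq
    have h1 := nInv_cons_pos g hw i.isLt hq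
    rw [nInv_of_red g hw hred] at h1
    have e : SameOn D (wf A (l'.map Fin.val)) (wf A ((i :: l).map Fin.val)) :=
      (wS_prod_eq g).1 (by rw [hl', List.map_cons, List.prod_cons])
    have h2 := nInv_le_length g (letters_map (D := D) l')
    rw [nInv_congr e] at h2
    simp only [List.map_cons, List.length_map] at h1 h2
    omega
  obtain ⟨a, x, c, e, he⟩ := exists_deletion g hw (simple_pos g i.isLt) hq
  obtain ⟨a', rest, rfl, rfl, hrest⟩ := List.map_eq_append_iff.1 e
  cases rest with
  | nil => simp at hrest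
  | cons x' c' =>
    simp only [List.map_cons, List.cons.injEq] at hrest
    obtain ⟨rfl, rfl⟩ := hrest
    refine ⟨a', x', c', rfl, ?_⟩
    rw [← List.prod_cons, ← List.map_cons (f := wS g), wS_prod_eq g]
    simp only [List.map_cons, List.map_append]
    intro r hr
    exact (deletion_eq g (letters_map a') (letters_map c') i.isLt x'.isLt he r hr).symm

lemma wS_inj : Function.Injective (wS g) := by
  intro i j e
  have := congrArg (fun w : Weyl g => (w : Equiv.Perm (Fin D.nroots))
    ⟨D.simple i, g.simple_lt i i.isLt⟩) e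
  simp only [wS, sPerm, Equiv.coe_fn_mk, Fin.mk.injEq] at this
  rw [refl_simple g i.isLt] at this
  by_contra hne
  have h1 := congrArg (fun r => A.a r i) this
  simp only [g.a_refl j j.isLt _ (g.simple_lt i i.isLt) i i.isLt,
    g.a_neg _ (g.simple_lt i i.isLt), g.a_simple i i.isLt i i.isLt,
    if_neg (fun h : (i : ℕ) = j => hne (Fin.ext h)), sub_zero, if_true] at h1
  omega

/-- the inversion number of an element of the Weyl group -/
noncomputable def permInv (w : Equiv.Perm (Fin D.nroots)) : ℕ :=
  (Finset.univ.filter fun r : Fin D.nroots => D.IsPosRoot r ∧ ¬ D.IsPosRoot (w r)).card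

lemma permInv_prod (l : List (Fin D.rank)) :
    permInv ((l.map (wS g)).prod : Weyl g).1 = nInv D A (l.map Fin.val) := by
  unfold permInv nInv
  refine Finset.card_bij (fun r _ => r.val) ?_ (fun a _ b _ e => Fin.ext e) ?_
  · intro r hr
    simp only [Finset.mem_filter, Finset.mem_univ, true_and, wS_prod_apply] at hr
    simpa [posRoots_mem] using hr
  · intro r hr
    simp only [Finset.mem_filter, List.mem_toFinset, posRoots_mem] at hr
    refine ⟨⟨r, hr.1.1⟩, Finset.mem_filter.2 ⟨Finset.mem_univ _, hr.1, ?_⟩, rfl⟩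
    rw [wS_prod_apply]; exact hr.2

end perm

end CfsgLib.Chev
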