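/-
The monomial subgroup modulo the diagonal subgroup is the Weyl group.
-/
import Cfsg.Agent.Lib.Chev.Weyl
import Cfsg.Agent.Lib.Chev.BNBasic

set_option autoImplicit false

namespace CfsgLib.Chev

open Cfsg.Lie Matrix

variable {D : ChevalleyDatum} {A : Aux} {F : Type*} [Field F]

/-- a monomial element fixing every root is diagonal -/
lemma mem_diag_of_id (h : Std D A) {n : GL D.Idx F} (hn : n ∈ D.monomialSubgroup F) {σ : ℕ → ℕ}
    (hσ : Acts h.good n σ) (hid : ∀ r < D.nroots, σ r = r) : n ∈ D.diagonalSubgroup F := by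
  have hnG := monomialSubgroup_le_group h.good hn
  have hB : n ∈ D.borelSubgroup F := by
    have key : ∀ b ∈ D.borelSubgroup F, n * b * n⁻¹ ∈ D.borelSubgroup F := by
      intro b hb
      obtain ⟨u, hu, c, rfl⟩ := (mem_borel_iff h.good).1 hb
      obtain ⟨d, hd⟩ := monomial_conj_tor h.good hn c
      rw [show n * (u * tor D A c) * n⁻¹ = (n * u * n⁻¹) * (n * tor D A c * n⁻¹) by group, hd]
      refine mul_mem ?_ (tor_mem_borel h.good d)
      have hu' : u ∈ UP F h.good (fun r => D.IsPosRoot r) := by
        rw [posUnipotent_eq h.good] at hu; exact hu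
      exact conj_UP_le hσ (fun r hr => hr.1)
        (fun r t hr => by rw [hid r hr.1]; exact xG_mem_borel h.good hr t) hu'
    exact BN.mem_of_conj_B_le (P := bnPair h) (g := (⟨n, hnG⟩ : ↥(D.group F)))
      (H := (bnPair h).B) le_rfl (fun b hb => key b hb)
  rw [← borel_inf_monomial h]
  exact Subgroup.mem_inf.2 ⟨hB, hn⟩

variable (F) in
/-- the product of the fundamental monomial elements along a word -/
noncomputable def nW (g : Good D A) (w : List ℕ) : GL D.Idx F := (w.map (nS F g)).prod

lemma nW_mem (g : Good D A) {w : List ℕ} (hw : Letters D w) : nW F g w ∈ D.monomialSubgroup F :=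
  list_prod_mem fun y hy => by
    obtain ⟨i, hi, rfl⟩ := List.mem_map.1 hy
    exact nS_mem_monomial g (hw i hi)

lemma nW_acts (g : Good D A) : ∀ {w : List ℕ}, Letters D w → Acts g (nW F g w) (wf A w)
  | [], _ => by simpa [nW, wf] using acts_tor (F := F) g 1
  | i :: w, h => by
    have : nW F g (i :: w) = nS F g i * nW F g w := by simp [nW]
    rw [this]
    exact (acts_nS g h.head).mul (nW_acts g h.tail)

lemma monomial_exists_word (g : Good D A) {n : GL D.Idx F} (hn : n ∈ D.monomialSubgroup F) :
    ∃ w, Letters D w ∧ ∃ c, n = tor D A c * nW F g w := by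
  rw [monomialSubgroup_eq g, ← Subgroup.closure_eq (D.diagonalSubgroup F), ← Subgroup.closure_union] at hn
  induction hn using Subgroup.closure_induction_left with
  | one => exact ⟨[], by simp [Letters], 1, by simp [nW]⟩
  | mul_left a ha b _ ih =>
    obtain ⟨w, hw, c, rfl⟩ := ih
    rcases ha with ha | ⟨i, hi, rfl⟩
    · obtain ⟨e, rfl⟩ := (show a ∈ (tor D A).range by rw [← diagonalSubgroup_eq g]; exact ha)
      exact ⟨w, hw, e * c, by rw [map_mul, mul_assoc]⟩
    · obtain ⟨d, hd⟩ := monomial_conj_tor g (nS_mem_monomial (F := F) g hi) c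
      refine ⟨i :: w, hw.cons hi, d, ?_⟩
      simp only [nW, List.map_cons, List.prod_cons]
      rw [← hd]; group
  | inv_mul_cancel a ha b _ ih =>
    obtain ⟨w, hw, c, rfl⟩ := ih
    rcases ha with ha | ⟨i, hi, rfl⟩
    · obtain ⟨e, rfl⟩ := (show a ∈ (tor D A).range by rw [← diagonalSubgroup_eq g]; exact ha)
      exact ⟨w, hw, e⁻¹ * c, by rw [map_mul, map_inv, mul_assoc]⟩
    · obtain ⟨d, hd⟩ := monomial_conj_tor g (nS_mem_monomial (F := F) g hi) c
      obtain ⟨z, hz⟩ := nS_sq_mem (F := F) g hi
      refine ⟨i :: w, hw.cons hi, z⁻¹ * d, ?_⟩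
      simp only [nW, List.map_cons, List.prod_cons]
      rw [map_mul, map_inv, hz, ← hd]; group

/-- the root permutation of a monomial element -/
noncomputable def permOf (g : Good D A) (n : ↥(D.monomialSubgroup F)) :
    Equiv.Perm (Fin D.nroots) :=
  Equiv.ofBijective (fun r => ⟨(exists_acts g n.2).choose r,
    (exists_acts g n.2).choose_spec.map.1 r r.isLt⟩)
    (Finite.injective_iff_bijective.1 fun a b e => Fin.ext
      ((exists_acts g n.2).choose_spec.inj a.isLt b.isLt (congrArg Fin.val e)))

lemma permOf_apply (g : Good D A) {n : ↥(D.monomialSubgroup F)} {σ : ℕ → ℕ}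
    (hσ : Acts g (n : GL D.Idx F) σ) (r : Fin D.nroots) : (permOf g n r : ℕ) = σ r :=
  (exists_acts g n.2).choose_spec.unique hσ r.isLt

variable (F) in
/-- the action of the monomial subgroup on the roots -/
noncomputable def permHom (g : Good D A) : ↥(D.monomialSubgroup F) →* Equiv.Perm (Fin D.nroots) where
  toFun := permOf g
  map_one' := Equiv.ext fun r => Fin.ext (by
    rw [permOf_apply g (σ := id) (by simpa using acts_tor (F := F) g 1)]; rfl)
  map_mul' a b := Equiv.ext fun r => Fin.ext (by
    obtain ⟨σ, hσ⟩ := exists_acts g a.2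
    obtain ⟨τ, hτ⟩ := exists_acts g b.2
    rw [permOf_apply g (σ := σ ∘ τ) (hσ.mul hτ), Equiv.Perm.mul_apply, permOf_apply g hσ,
      permOf_apply g hτ]
    rfl)

lemma permHom_nW (g : Good D A) (l : List (Fin D.rank)) :
    permHom F g ⟨nW F g (l.map Fin.val), nW_mem g (letters_map l)⟩ =
      ((l.map (wS g)).prod : Weyl g).1 :=
  Equiv.ext fun r => Fin.ext (by
    show (permOf g _ r : ℕ) = _
    rw [permOf_apply g (nW_acts g (letters_map l)), wS_prod_apply])

variable (F) in
/-- the map from the monomial subgroup to the Weyl group -/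
noncomputable def weylHom (g : Good D A) : ↥(D.monomialSubgroup F) →* Weyl g :=
  (permHom F g).codRestrict (Weyl g) (fun n => by
    obtain ⟨w, hw, c, hn⟩ := monomial_exists_word g n.2
    obtain ⟨l, rfl⟩ := exists_fin_word hw
    have e : n = (⟨tor D A c, tor_mem_monomial g c⟩ : ↥(D.monomialSubgroup F)) *
        ⟨nW F g (l.map Fin.val), nW_mem g (letters_map l)⟩ := Subtype.ext hn
    rw [e, map_mul, permHom_nW, show permHom F g ⟨tor D A c, tor_mem_monomial g c⟩ = 1 from
      Equiv.ext fun r => Fin.ext (by
        show (permOf g _ r : ℕ) = _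
        rw [permOf_apply g (acts_tor g c)]; rfl), one_mul]
    exact SetLike.coe_mem _)

lemma weylHom_nS (g : Good D A) (i : Fin D.rank) :
    weylHom F g ⟨nS F g i, nS_mem_monomial g i.isLt⟩ = wS g i :=
  Subtype.ext (Equiv.ext fun r => Fin.ext (by
    show (permOf g _ r : ℕ) = _
    rw [permOf_apply g (acts_nS g i.isLt)]; rfl))

lemma weylHom_surjective (g : Good D A) : Function.Surjective (weylHom F g) := fun w => by
  obtain ⟨l, rfl⟩ := wS_gen g w
  exact ⟨⟨nW F g (l.map Fin.val), nW_mem g (letters_map l)⟩, Subtype.ext (permHom_nW g l)⟩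

lemma weylHom_ker (h : Std D A) : (weylHom F h.good).ker =
    (D.diagonalSubgroup F).subgroupOf (D.monomialSubgroup F) := by
  ext n
  rw [MonoidHom.mem_ker, Subgroup.mem_subgroupOf]
  constructor
  · intro e
    obtain ⟨σ, hσ⟩ := exists_acts h.good n.2
    refine mem_diag_of_id h n.2 hσ fun r hr => ?_
    rw [← permOf_apply h.good hσ ⟨r, hr⟩]
    have := congrArg (fun w : Weyl h.good => ((w : Equiv.Perm (Fin D.nroots)) ⟨r, hr⟩).val) e
    exact this
  · intro hn
    rw [diagonalSubgroup_eq h.good] at hn
    obtain ⟨c, hc⟩ := hn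
    refine Subtype.ext (Equiv.ext fun r => Fin.ext ?_)
    show (permOf h.good n r : ℕ) = _
    rw [permOf_apply h.good (σ := id) (hc ▸ acts_tor h.good c)]
    rfl

/-- the check of a Coxeter matrix -/
noncomputable def coxCheck (D : ChevalleyDatum) (A : Aux) (M : Fin D.rank → Fin D.rank → ℕ) : Bool :=
  (List.finRange D.rank).all fun i => (List.finRange D.rank).all fun j =>
    decide (0 < M i j) && (List.range (M i j + 1)).all fun k =>
      decide (0 < k → (((List.range D.rank).all fun m =>
        decide (wf A (List.replicate k [i.val, j.val]).flatten (D.simple m) = D.simple m)) =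
          decide (k = M i j)))

lemma wS_pair_pow (g : Good D A) (i j : Fin D.rank) (k : ℕ) :
    (wS g i * wS g j) ^ k = ((List.replicate k [i, j]).flatten.map (wS g)).prod := by
  induction k with
  | zero => rfl
  | succ k ih =>
    rw [pow_succ', ih, List.replicate_succ, List.flatten_cons, List.map_append, List.prod_append]
    simp

lemma orderOf_of_check (g : Good D A) {M : Fin D.rank → Fin D.rank → ℕ}
    (hc : coxCheck D A M = true) (i j : Fin D.rank) : orderOf (wS g i * wS g j) = M i j := by
  simp only [coxCheck, List.all_eq_true, List.mem_finRange, forall_const, Bool.and_eq_true,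
    decide_eq_true_eq, List.mem_range] at hc
  obtain ⟨hM, hk⟩ := hc i j
  have key : ∀ k : ℕ, (wS g i * wS g j) ^ k = 1 ↔ ∀ m < D.rank,
      wf A (List.replicate k [i.val, j.val]).flatten (D.simple m) = D.simple m := by
    intro k
    have hmap : (List.replicate k [i, j]).flatten.map Fin.val =
        (List.replicate k [i.val, j.val]).flatten := by simp [List.map_flatten]
    rw [wS_pair_pow, show (1 : Weyl g) = (([] : List (Fin D.rank)).map (wS g)).prod from rfl,
      wS_prod_eq, hmap]
    have hl : Letters D (List.replicate k [i.val, j.val]).flatten := hmap ▸ letters_map _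
    exact ⟨fun h m hm => h _ (g.simple_lt m hm),
      fun h => sameOn_of_simple g (wf_rootMap g hl) rootMap_id h⟩
  rw [orderOf_eq_iff hM]
  refine ⟨(key _).2 ?_, fun m hlt hpos hone => ?_⟩
  · have := hk (M i j) (by omega) hM
    simpa [List.all_eq_true] using this
  · have := hk m (by omega) hpos
    rw [decide_eq_false (show ¬ m = M i j by omega)] at this
    have h2 := (key m).1 hone
    simp only [List.all_eq_false, List.mem_range, decide_eq_true_eq] at this
    obtain ⟨x, hx, hne⟩ := this
    exact hne (h2 x hx)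

/-- the Weyl group is the Coxeter group of the checked matrix -/
theorem weyl_coxeter (g : Good D A) (M : CoxeterMatrix (Fin D.rank))
    (hc : coxCheck D A (fun i j => M i j) = true) :
    ∃ cs : CoxeterSystem M (Weyl g), ∀ i, cs.simple i = wS g i :=
  Cox.exists_coxeterSystem M (wS_inv g) (orderOf_of_check g hc) (wS_gen g) (weyl_exchange g)

/-- the monomial subgroup maps onto the Coxeter group with kernel the diagonal subgroup -/
theorem monomial_coxeter (h : Std D A) (M : CoxeterMatrix (Fin D.rank))
    (hc : coxCheck D A (fun i j => M i j) = true) :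
    ∃ φ : ↥(D.monomialSubgroup F) →* M.Group, Function.Surjective φ ∧
      φ.ker = (D.diagonalSubgroup F).subgroupOf (D.monomialSubgroup F) ∧
      ∀ (i : Fin D.rank) (y : ↥(D.monomialSubgroup F)),
        ((y : GL D.Idx F) : Matrix D.Idx D.Idx F) = D.nMat F (D.simple i) 1 → φ y = M.simple i := by
  obtain ⟨cs, hcs⟩ := weyl_coxeter h.good M hc
  refine ⟨cs.mulEquiv.toMonoidHom.comp (weylHom F h.good), ?_, ?_, ?_⟩
  · exact cs.mulEquiv.surjective.comp (weylHom_surjective h.good)
  · rw [MulEquiv.toMonoidHom_eq_coe, MonoidHom.ker_mulEquiv_comp]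
    exact weylHom_ker h
  · intro i y hy
    have e : y = ⟨nS F h.good i, nS_mem_monomial h.good i.isLt⟩ :=
      Subtype.ext (Units.ext (by rw [hy]; exact (nG_val h.good _ _).symm))
    rw [e, MonoidHom.comp_apply, weylHom_nS, ← hcs i]
    exact cs.mulEquiv.apply_symm_apply _

end CfsgLib.Chev
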