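/-
The order of the diagonal subgroup.
-/
import Cfsg.Agent.Lib.Chev.Group

set_option autoImplicit false

namespace CfsgLib.Chev

open Cfsg.Lie Matrix

variable {D : ChevalleyDatum} {A : Aux} {F : Type*} [Field F]

/-- the endomorphism of `(Fˣ)^l` given by an integer matrix -/
noncomputable def mHom (F : Type*) [Field F] {l : ℕ} (M : Matrix (Fin l) (Fin l) ℤ) :
    (Fin l → Fˣ) →* (Fin l → Fˣ) where
  toFun c := fun k => ∏ i, c i ^ M i k
  map_one' := by funext k; simp
  map_mul' a b := by funext k; simp [mul_zpow, Finset.prod_mul_distrib]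

lemma mHom_apply {l : ℕ} (M : Matrix (Fin l) (Fin l) ℤ) (c : Fin l → Fˣ) (k : Fin l) :
    mHom F M c k = ∏ i, c i ^ M i k := rfl

lemma zpow_sum_fin {G : Type*} [CommGroup G] {l : ℕ} (x : G) (f : Fin l → ℤ) :
    x ^ (∑ j, f j) = ∏ j, x ^ f j := by
  induction (Finset.univ : Finset (Fin l)) using Finset.induction_on with
  | empty => simp
  | insert a S ha ih => rw [Finset.sum_insert ha, Finset.prod_insert ha, _root_.zpow_add, ih]

lemma mHom_mul {l : ℕ} (M N : Matrix (Fin l) (Fin l) ℤ) (c : Fin l → Fˣ) :
    mHom F N (mHom F M c) = mHom F (M * N) c := by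
  funext k
  simp only [mHom_apply, Matrix.mul_apply, ← Finset.prod_zpow, ← _root_.zpow_mul, zpow_sum_fin]
  rw [Finset.prod_comm]

lemma mHom_one {l : ℕ} (c : Fin l → Fˣ) : mHom F (1 : Matrix (Fin l) (Fin l) ℤ) c = c := by
  funext k
  rw [mHom_apply, Finset.prod_eq_single k]
  · simp
  · intro i _ hik; simp [Matrix.one_apply_ne hik]
  · simp

/-- the Cartan matrix in terms of the tables -/
noncomputable def cartanM (D : ChevalleyDatum) (A : Aux) : Matrix (Fin D.rank) (Fin D.rank) ℤ :=
  fun i k => A.cart i.val (D.simple k.val)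

/-- the certificate of a Smith form -/
noncomputable def smithCheck (D : ChevalleyDatum) (A : Aux)
    (U Ui V Vi : Matrix (Fin D.rank) (Fin D.rank) ℤ) (d : Fin D.rank → ℕ) : Bool :=
  (List.finRange D.rank).all fun i => (List.finRange D.rank).all fun k =>
    decide ((U * cartanM D A * V) i k = if i = k then (d i : ℤ) else 0) &&
    decide ((U * Ui) i k = if i = k then 1 else 0) && decide ((V * Vi) i k = if i = k then 1 else 0)

lemma tor_eq_one_iff (g : Good D A) (c : Fin D.rank → Fˣ) :
    (tor D A c : GL D.Idx F) = 1 ↔ mHom F (cartanM D A) c = 1 := by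
  constructor
  · intro e
    funext k
    have := congrFun (congrFun (congrArg (fun z : GL D.Idx F => (z : Matrix D.Idx D.Idx F)) e) (Sum.inr ⟨_, g.simple_lt k k.isLt⟩))
      (Sum.inr ⟨_, g.simple_lt k k.isLt⟩)
    rw [tor_val, dia, Matrix.diagonal_apply_eq, Units.val_one, Matrix.one_apply_eq] at this
    exact Units.ext this
  · intro e
    apply Units.ext
    rw [tor_val, Units.val_one, ← dia_one]
    refine dia_congr fun s hs => ?_
    rw [chi_eq_wt g c hs, wt, Finset.prod_eq_one, Units.val_one]
    intro k hk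
    have := congrFun e ⟨k, Finset.mem_range.1 hk⟩
    rw [show chi D A c (D.simple k) = 1 from this, _root_.one_zpow]

theorem card_diagonal [Fintype F] (g : Good D A) {U Ui V Vi : Matrix (Fin D.rank) (Fin D.rank) ℤ}
    {d : Fin D.rank → ℕ} (hc : smithCheck D A U Ui V Vi d = true) :
    (∏ i, Nat.gcd (d i) (Fintype.card F - 1)) * Nat.card (D.diagonalSubgroup F) =
      (Fintype.card F - 1) ^ D.rank := by
  classical
  simp only [smithCheck, List.all_eq_true, List.mem_finRange, forall_const, Bool.and_eq_true,
    decide_eq_true_eq] at hc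
  have h1 := fun i k => (hc i k).1.1
  have h2 : U * Ui = 1 := Matrix.ext fun i k => by rw [(hc i k).1.2, Matrix.one_apply]
  have h3 : V * Vi = 1 := Matrix.ext fun i k => by rw [(hc i k).2, Matrix.one_apply]
  have h2' : Ui * U = 1 := mul_eq_one_comm.1 h2
  have hdiag : ∀ e : Fin D.rank → Fˣ, mHom F (U * cartanM D A * V) e = fun i => e i ^ d i := by
    intro e
    funext k
    rw [mHom_apply, Finset.prod_eq_single k]
    · rw [h1, if_pos rfl, zpow_natCast]
    · intro i _ hik; rw [h1, if_neg hik, zpow_zero]
    · simp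
  have hker : ∀ e : Fin D.rank → Fˣ,
      (tor D A (mHom F U e) : GL D.Idx F) = 1 ↔ ∀ i, e i ^ d i = 1 := by
    intro e
    rw [tor_eq_one_iff g]
    constructor
    · intro h i
      have := congrArg (mHom F V) h
      rw [mHom_mul, mHom_mul, ← mul_assoc, hdiag, map_one] at this
      exact congrFun this i
    · intro h
      have h' : mHom F (U * cartanM D A * V) e = 1 := by rw [hdiag]; exact funext h
      have := congrArg (mHom F Vi) h'
      rwa [mHom_mul, mul_assoc, h3, mul_one, map_one, ← mHom_mul] at this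
  have hcard : Nat.card ((tor D A : _ →* GL D.Idx F).ker) = ∏ i, Nat.gcd (d i) (Fintype.card F - 1) := by
    let e : (∀ i, (powMonoidHom (d i) : Fˣ →* Fˣ).ker) ≃ ((tor D A : _ →* GL D.Idx F).ker) :=
      { toFun := fun v => ⟨mHom F U fun i => (v i).1, MonoidHom.mem_ker.2 ((hker _).2 fun i => (v i).2)⟩
        invFun := fun c i => ⟨mHom F Ui c.1 i, by
          refine (hker (mHom F Ui c.1)).1 ?_ i
          rw [mHom_mul, h2', mHom_one]; exact c.2⟩
        left_inv := fun v => by
          funext i
          apply Subtype.ext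
          show mHom F Ui (mHom F U fun j => (v j).1) i = _
          rw [mHom_mul, h2, mHom_one]
        right_inv := fun c => by
          apply Subtype.ext
          show mHom F U (mHom F Ui c.1) = _
          rw [mHom_mul, h2', mHom_one] }
    rw [← Nat.card_congr e, Nat.card_pi]
    refine Finset.prod_congr rfl fun i _ => ?_
    rw [IsCyclic.card_powMonoidHom_ker, Nat.card_eq_fintype_card, Fintype.card_units, Nat.gcd_comm]
  rw [← hcard, diagonalSubgroup_eq g, ← Subgroup.index_ker, Subgroup.card_mul_index,
    Nat.card_pi, Finset.prod_const, Finset.card_univ, Fintype.card_fin, Nat.card_eq_fintype_card,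
    Fintype.card_units]

end CfsgLib.Chev
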