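/-
Normal forms in the Weyl group from the tables of coset representatives.
-/
import Cfsg.Agent.Lib.Chev.Weyl

set_option autoImplicit false

namespace CfsgLib.Chev

open Cfsg.Lie

variable {D : ChevalleyDatum} {A : Aux}

/-- the checked facts on a level -/
structure LevelOK (D : ChevalleyDatum) (A : Aux) (k : ℕ) (L : List Rep) : Prop where
  head : ∃ e ∈ L, e.word = []
  root : ∀ e ∈ L, e.word = [] →
    e.f = (List.range D.rank).map (fun m => if m = k then (1 : ℤ) else 0) ∧
      e.img = (List.range D.rank).map D.simple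
  step : ∀ e ∈ L, ∀ (j : ℕ) (t : List ℕ), e.word = j :: t → ∃ p ∈ L, p.word = t ∧ j ≤ k ∧
    0 < p.f.getD j 0 ∧
    e.f = (List.range D.rank).map
      (fun m => p.f.getD m 0 - A.cart j (D.simple m) * p.f.getD j 0) ∧
    e.img = p.img.map (A.refl j)
  nodup : (L.map Rep.f).Nodup
  close : ∀ e ∈ L, ∀ j ≤ k, (∃ p ∈ L, p.img = e.img.map (A.refl j)) ∨
    ∃ i < k, ∀ m < D.rank, ∀ c < D.rank, A.a (A.refl j (e.img.getD m 0)) c =
      A.a (e.img.getD m 0) c - A.cart i (D.simple m) * A.a (e.img.getD i 0) c

lemma levelOK_of_check {k : ℕ} {L : List Rep} (h : checkLevel D A k L = true) :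
    LevelOK D A k L := by
  simp only [checkLevel, Bool.and_eq_true, List.all_eq_true, decide_eq_true_eq] at h
  obtain ⟨⟨⟨h1, h2⟩, h3⟩, h4⟩ := h
  refine ⟨?_, ?_, ?_, h3, ?_⟩
  · cases L with
    | nil => simp at h1
    | cons e L =>
      simp only [decide_eq_true_eq] at h1
      exact ⟨e, List.mem_cons_self, h1.1⟩
  · intro e he hw
    have := h2 e he
    simp only [hw, decide_eq_true_eq] at this
    exact this
  · intro e he j t hw
    have := h2 e he
    simp only [hw, decide_eq_true_eq] at this
    obtain ⟨a, b, c, d, e1, e2⟩ := this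
    refine ⟨L.getD e.par default, ?_, c, a, d, e1, e2⟩
    rw [List.getD_eq_getElem _ _ b]
    exact List.getElem_mem b
  · intro e he j hj
    have := h4 e he j (List.mem_range.2 (by omega))
    split at this
    · rename_i y _
      simp only [decide_eq_true_eq] at this
      refine Or.inl ⟨L.getD y default, ?_, this.2⟩
      rw [List.getD_eq_getElem _ _ this.1]
      exact List.getElem_mem this.1
    · rename_i i _
      simp only [Bool.and_eq_true, List.all_eq_true, List.mem_range, decide_eq_true_eq] at this
      exact Or.inr ⟨i, this.1, this.2⟩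

variable {k : ℕ} {L : List Rep}

lemma LevelOK.word_lt (h : LevelOK D A k L) : ∀ {w : List ℕ}, ∀ e ∈ L, e.word = w → ∀ j ∈ w, j ≤ k
  | [], _, _, _, j, hj => absurd hj (List.not_mem_nil)
  | j :: t, e, he, hw, i, hi => by
    obtain ⟨p, hp, hpt, hjk, -⟩ := h.step e he j t hw
    rcases List.mem_cons.1 hi with rfl | hi
    · exact hjk
    · exact h.word_lt p hp hpt i hi

lemma LevelOK.letters (h : LevelOK D A k L) (hk : k < D.rank) {e : Rep} (he : e ∈ L) :
    Letters D e.word := fun j hj => by have := h.word_lt e he rfl j hj; omega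

lemma LevelOK.img_eq (h : LevelOK D A k L) : ∀ {w : List ℕ}, ∀ e ∈ L, e.word = w →
    e.img = (List.range D.rank).map fun m => wf A w (D.simple m)
  | [], e, he, hw => (h.root e he hw).2
  | j :: t, e, he, hw => by
    obtain ⟨p, hp, hpt, -, -, -, him⟩ := h.step e he j t hw
    rw [him, h.img_eq p hp hpt, List.map_map]
    rfl

lemma LevelOK.img_getD (h : LevelOK D A k L) {e : Rep} (he : e ∈ L) {m : ℕ} (hm : m < D.rank) :
    e.img.getD m 0 = wf A e.word (D.simple m) := by
  rw [h.img_eq e he rfl, getD_map_range _ _ hm]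

lemma LevelOK.f_len (h : LevelOK D A k L) {e : Rep} (he : e ∈ L) : e.f.length = D.rank := by
  cases hw : e.word with
  | nil => rw [(h.root e he hw).1]; simp
  | cons j t =>
    obtain ⟨p, -, -, -, -, hf, -⟩ := h.step e he j t hw
    rw [hf]; simp

lemma coord_inv (g : Good D A) : ∀ {u : List ℕ}, Letters D u → (∀ j ∈ u, j ≠ k) → k < D.rank →
    ∀ {r : ℕ}, r < D.nroots → A.a (wf A u r) k = A.a r k
  | [], _, _, _, _, _ => rfl
  | i :: u, h, hne, hk, r, hr => by
    show A.a (A.refl i (wf A u r)) k = _
    rw [g.a_refl i h.head _ (wf_lt g h.tail hr) k hk, if_neg (fun e => hne i List.mem_cons_self e.symm),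
      sub_zero, coord_inv g h.tail (fun j hj => hne j (List.mem_cons_of_mem _ hj)) hk hr]

/-- the transported coordinate functional -/
lemma LevelOK.f_eq (g : Good D A) (h : LevelOK D A k L) (hk : k < D.rank) :
    ∀ {w : List ℕ}, ∀ e ∈ L, e.word = w → ∀ {r : ℕ}, r < D.nroots →
    A.a (wf A w.reverse r) k = ∑ m ∈ Finset.range D.rank, A.a r m * e.f.getD m 0
  | [], e, he, hw, r, hr => by
    rw [(h.root e he hw).1, Finset.sum_eq_single k]
    · rw [getD_map_range _ _ hk]; simp [wf]
    · intro m hm hmk
      rw [getD_map_range _ _ (Finset.mem_range.1 hm)]; simp [hmk]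
    · intro hm; exact absurd (Finset.mem_range.2 hk) hm
  | j :: t, e, he, hw, r, hr => by
    obtain ⟨p, hp, hpt, hjk, -, hf, -⟩ := h.step e he j t hw
    have hj : j < D.rank := by omega
    have hlt := g.refl_lt j hj r hr
    rw [List.reverse_cons, wf_append, wf_singleton, h.f_eq g hk p hp hpt hlt, hf]
    have key : ∀ m ∈ Finset.range D.rank, A.a (A.refl j r) m * p.f.getD m 0 =
        A.a r m * p.f.getD m 0 - if m = j then A.cart j r * p.f.getD j 0 else 0 := by
      intro m hm
      rw [g.a_refl j hj r hr m (Finset.mem_range.1 hm), sub_mul]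
      by_cases e : m = j <;> simp [e]
    rw [Finset.sum_congr rfl key, Finset.sum_sub_distrib, Finset.sum_ite_eq',
      if_pos (Finset.mem_range.2 hj), cart_linear g hj hr, Finset.sum_mul, ← Finset.sum_sub_distrib]
    refine Finset.sum_congr rfl fun m hm => ?_
    rw [getD_map_range _ _ (Finset.mem_range.1 hm)]
    ring

/-- the normal forms of the elements of the `k`-th parabolic subgroup -/
def NF (lv : List (List Rep)) : ℕ → List (List ℕ)
  | 0 => [[]]
  | k + 1 => (lv.getD k []).flatMap fun e => (NF lv k).map fun u => e.word ++ u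

variable {lv : List (List Rep)}

lemma level_ok (hc : checkWeyl D A lv = true) {k : ℕ} (hk : k < D.rank) :
    LevelOK D A k (lv.getD k []) := by
  simp only [checkWeyl, Bool.and_eq_true, List.all_eq_true, List.mem_range] at hc
  exact levelOK_of_check (hc.2 k hk)

lemma NF_bound (hc : checkWeyl D A lv = true) : ∀ {k : ℕ}, k ≤ D.rank →
    ∀ w ∈ NF lv k, ∀ j ∈ w, j < k
  | 0, _, w, hw, j, hj => by simp [NF] at hw; subst hw; simp at hj
  | k + 1, hk, w, hw, j, hj => by
    simp only [NF, List.mem_flatMap, List.mem_map] at hw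
    obtain ⟨e, he, u, hu, rfl⟩ := hw
    rcases List.mem_append.1 hj with hj | hj
    · have := (level_ok hc (by omega)).word_lt e he rfl j hj
      omega
    · have := NF_bound hc (by omega) u hu j hj
      omega

lemma NF_letters (hc : checkWeyl D A lv = true) {k : ℕ} (hk : k ≤ D.rank) {w : List ℕ}
    (hw : w ∈ NF lv k) : Letters D w := fun j hj => by
  have := NF_bound hc hk w hw j hj; omega

lemma NF_closed (g : Good D A) (hc : checkWeyl D A lv = true) : ∀ {k : ℕ}, k ≤ D.rank →
    ∀ w ∈ NF lv k, ∀ j < k, ∃ w' ∈ NF lv k, SameOn D (wf A (j :: w)) (wf A w')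
  | 0, _, _, _, j, hj => absurd hj (by omega)
  | k + 1, hk, w, hw, j, hj => by
    simp only [NF, List.mem_flatMap, List.mem_map] at hw
    obtain ⟨e, he, u, hu, rfl⟩ := hw
    have hk' : k < D.rank := by omega
    have hL := level_ok hc hk'
    have hu' := NF_letters hc hk'.le hu
    have he' := hL.letters hk' he
    have hjr : j < D.rank := by omega
    rcases hL.close e he j (by omega) with ⟨p, hp, himg⟩ | ⟨i, hi, hi2⟩
    · refine ⟨p.word ++ u, ?_, fun r hr => ?_⟩
      · simp only [NF, List.mem_flatMap, List.mem_map]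
        exact ⟨p, hp, u, hu, rfl⟩
      · have hs : SameOn D (wf A (j :: e.word)) (wf A p.word) := by
          refine sameOn_of_simple g (wf_rootMap g (he'.cons hjr))
            (wf_rootMap g (hL.letters hk' hp)) fun m hm => ?_
          rw [← hL.img_getD hp hm, himg, hL.img_eq e he rfl, List.map_map, getD_map_range _ _ hm]
          rfl
        rw [← List.cons_append, wf_append, wf_append]
        exact hs _ (wf_lt g hu' hr)
    · obtain ⟨u', hu2, hsame⟩ := NF_closed g hc hk'.le u hu i hi
      refine ⟨e.word ++ u', ?_, fun r hr => ?_⟩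
      · simp only [NF, List.mem_flatMap, List.mem_map]
        exact ⟨e, he, u', hu2, rfl⟩
      · have hir : i < D.rank := by omega
        have hwi : Letters D (e.word ++ [i]) := he'.append (by simp [Letters, hir])
        have hs : SameOn D (wf A (j :: e.word)) (wf A (e.word ++ [i])) := by
          refine sameOn_of_simple g (wf_rootMap g (he'.cons hjr)) (wf_rootMap g hwi) fun m hm => ?_
          have hsm := g.simple_lt m hm
          rw [wf_append, wf_singleton]
          refine g.a_inj _ (wf_lt g (he'.cons hjr) hsm) _ (wf_lt g he' (g.refl_lt i hir _ hsm))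
            fun c hc => ?_
          show A.a (A.refl j (wf A e.word (D.simple m))) c = _
          have := hi2 m hm c hc
          rw [hL.img_getD he hm, hL.img_getD he hir] at this
          rw [this, (wf_rootMap g he').lin (i := 1) (k := -A.cart i (D.simple m)) hsm
            (g.simple_lt i hir) (g.refl_lt i hir _ hsm) (u := A.refl i (D.simple m)) (fun l hl => by
              rw [g.a_refl i hir _ hsm l hl, g.a_simple i hir l hl]
              by_cases e : l = i <;> simp [e] <;> ring) c hc]
          ring
        rw [← List.cons_append, wf_append, hs _ (wf_lt g hu' hr), wf_append, wf_singleton,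
          wf_append]
        exact congrArg (wf A e.word) (hsame r hr)

lemma NF_nil (g : Good D A) (hc : checkWeyl D A lv = true) : ∀ {k : ℕ}, k ≤ D.rank →
    [] ∈ NF lv k
  | 0, _ => List.mem_singleton_self _
  | k + 1, hk => by
    obtain ⟨e, he, hw⟩ := (level_ok hc (show k < D.rank by omega)).head
    simp only [NF, List.mem_flatMap, List.mem_map]
    exact ⟨e, he, [], NF_nil g hc (by omega), by simp [hw]⟩

/-- every word is equal to a normal form -/
theorem exists_NF (g : Good D A) (hc : checkWeyl D A lv = true) : ∀ {w : List ℕ}, Letters D w →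
    ∃ w' ∈ NF lv D.rank, SameOn D (wf A w) (wf A w')
  | [], _ => ⟨[], NF_nil g hc le_rfl, fun _ _ => rfl⟩
  | j :: w, h => by
    obtain ⟨w', hw', hs⟩ := exists_NF g hc h.tail
    obtain ⟨w'', hw'', hs'⟩ := NF_closed g hc le_rfl w' hw' j h.head
    exact ⟨w'', hw'', fun r hr => (congrArg (A.refl j) (hs r hr)).trans (hs' r hr)⟩

lemma NF_inj (g : Good D A) (hc : checkWeyl D A lv = true) : ∀ {k : ℕ}, k ≤ D.rank →
    ∀ w ∈ NF lv k, ∀ w' ∈ NF lv k, SameOn D (wf A w) (wf A w') → w = w'
  | 0, _, w, hw, w', hw', _ => by simp [NF] at hw hw'; rw [hw, hw']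
  | k + 1, hk, w, hw, w', hw', hs => by
    simp only [NF, List.mem_flatMap, List.mem_map] at hw hw'
    obtain ⟨e, he, u, hu, rfl⟩ := hw
    obtain ⟨e', he', u', hu', rfl⟩ := hw'
    have hk' : k < D.rank := by omega
    have hL := level_ok hc hk'
    have hlu := NF_letters hc hk'.le hu
    have hlu' := NF_letters hc hk'.le hu'
    have hle := hL.letters hk' he
    have hle' := hL.letters hk' he'
    have hneu : ∀ j ∈ u.reverse, j ≠ k := fun j hj => by
      have := NF_bound hc hk'.le u hu j (List.mem_reverse.1 hj); omega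
    have hneu' : ∀ j ∈ u'.reverse, j ≠ k := fun j hj => by
      have := NF_bound hc hk'.le u' hu' j (List.mem_reverse.1 hj); omega
    have hrev := wf_rev_congr g (hle.append hlu) (hle'.append hlu') hs
    have hf : e.f = e'.f := by
      refine List.ext_getElem (by rw [hL.f_len he, hL.f_len he']) fun m h1 h2 => ?_
      have hm : m < D.rank := hL.f_len he ▸ h1
      have hsm := g.simple_lt m hm
      have h3 := congrArg (fun r => A.a r k) (hrev _ hsm)
      simp only [List.reverse_append, wf_append] at h3
      rw [coord_inv g hlu.reverse hneu hk' (wf_lt g hle.reverse hsm),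
        coord_inv g hlu'.reverse hneu' hk' (wf_lt g hle'.reverse hsm),
        hL.f_eq g hk' e he rfl hsm, hL.f_eq g hk' e' he' rfl hsm, Finset.sum_eq_single m,
        Finset.sum_eq_single m] at h3
      · rw [g.a_simple m hm m hm, if_pos rfl, one_mul, one_mul] at h3
        simpa [List.getD_eq_getElem, h1, h2] using h3
      all_goals first
        | (intro l hl hlm; rw [g.a_simple m hm l (Finset.mem_range.1 hl), if_neg hlm, zero_mul])
        | (intro h; exact absurd (Finset.mem_range.2 hm) h)
    have hee : e = e' := List.inj_on_of_nodup_map hL.nodup he he' hf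
    subst hee
    have hsu : SameOn D (wf A u) (wf A u') := by
      intro r hr
      have h4 := hs r hr
      rw [wf_append, wf_append] at h4
      have h5 := congrArg (wf A e.word.reverse) h4
      rwa [wf_rev_left g hle (wf_lt g hlu hr), wf_rev_left g hle (wf_lt g hlu' hr)] at h5
    rw [NF_inj g hc hk'.le u hu u' hu' hsu]

lemma NF_nInv (g : Good D A) (hc : checkWeyl D A lv = true) : ∀ {k : ℕ}, k ≤ D.rank →
    ∀ w ∈ NF lv k, nInv D A w = w.length
  | 0, _, w, hw => by simp [NF] at hw; subst hw; simp [nInv_nil]
  | k + 1, hk, w, hw => by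
    simp only [NF, List.mem_flatMap, List.mem_map] at hw
    obtain ⟨e, he, u, hu, rfl⟩ := hw
    have hk' : k < D.rank := by omega
    have hL := level_ok hc hk'
    have hlu := NF_letters hc hk'.le hu
    have hneu : ∀ j ∈ u.reverse, j ≠ k := fun j hj => by
      have := NF_bound hc hk'.le u hu j (List.mem_reverse.1 hj); omega
    have key : ∀ t : List ℕ, (∃ p ∈ lv.getD k [], p.word = t) →
        nInv D A (t ++ u) = t.length + u.length := by
      intro t
      induction t with
      | nil => intro _; simpa using NF_nInv g hc hk'.le u hu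
      | cons j t ih =>
        rintro ⟨p, hp, hpw⟩
        obtain ⟨q, hq, hqw, hjk, hpos, -, -⟩ := hL.step p hp j t hpw
        have hj : j < D.rank := by omega
        have hlt : Letters D t := hqw ▸ hL.letters hk' hq
        have hsj := g.simple_lt j hj
        have h1 : D.IsPosRoot (wf A (t ++ u).reverse (D.simple j)) := by
          have h3 := wf_lt g (hlt.append hlu).reverse hsj
          rcases g.pos_or_neg _ h3 with h4 | h4
          · exact (g.pos_iff _ h3).2 h4
          · exfalso
            have h5 := h4 k
            rw [List.reverse_append, wf_append,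
              coord_inv g hlu.reverse hneu hk' (wf_lt g hlt.reverse hsj),
              hL.f_eq g hk' q hq hqw hsj, Finset.sum_eq_single j] at h5
            · rw [g.a_simple j hj j hj, if_pos rfl, one_mul] at h5; omega
            · intro l hl hlj
              rw [g.a_simple j hj l (Finset.mem_range.1 hl), if_neg hlj, zero_mul]
            · intro h; exact absurd (Finset.mem_range.2 hj) h
        rw [List.cons_append, nInv_cons_pos g (hlt.append hlu) hj h1, ih ⟨q, hq, hqw⟩,
          List.length_cons]
        omega
    rw [key e.word ⟨e, he, rfl⟩, List.length_append]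

lemma NF_nodup (g : Good D A) (hc : checkWeyl D A lv = true) : ∀ {k : ℕ}, k ≤ D.rank →
    (NF lv k).Nodup
  | 0, _ => List.nodup_singleton _
  | k + 1, hk => by
    have hk' : k < D.rank := by omega
    have hL := level_ok hc hk'
    simp only [NF]
    rw [List.nodup_flatMap]
    refine ⟨fun e _ => (NF_nodup g hc hk'.le).map fun a b h => List.append_cancel_left h, ?_⟩
    refine (List.pairwise_map.1 hL.nodup).imp_of_mem fun {e e'} he he' hne => ?_
    rintro x hx hx'
    obtain ⟨u, hu, rfl⟩ := List.mem_map.1 hx
    obtain ⟨u', hu', heq⟩ := List.mem_map.1 hx'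
    apply hne
    have hneu : ∀ (u : List ℕ), u ∈ NF lv k → ∀ j ∈ u.reverse, j ≠ k := fun u hu j hj => by
      have := NF_bound hc hk'.le u hu j (List.mem_reverse.1 hj); omega
    refine List.ext_getElem (by rw [hL.f_len he, hL.f_len he']) fun m h1 h2 => ?_
    have hm : m < D.rank := hL.f_len he ▸ h1
    have hsm := g.simple_lt m hm
    have hval : ∀ d ∈ lv.getD k [], ∀ v ∈ NF lv k,
        A.a (wf A (d.word ++ v).reverse (D.simple m)) k = d.f.getD m 0 := by
      intro d hd v hv
      rw [List.reverse_append, wf_append, coord_inv g (NF_letters hc hk'.le hv).reverse (hneu v hv) hk'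
        (wf_lt g (hL.letters hk' hd).reverse hsm), hL.f_eq g hk' d hd rfl hsm, Finset.sum_eq_single m]
      · rw [g.a_simple m hm m hm, if_pos rfl, one_mul]
      · intro l hl hlm
        rw [g.a_simple m hm l (Finset.mem_range.1 hl), if_neg hlm, zero_mul]
      · intro h; exact absurd (Finset.mem_range.2 hm) h
    have h3 := hval e he u hu
    rw [← heq, hval e' he' u' hu'] at h3
    simpa [List.getD_eq_getElem, h1, h2] using h3.symm

/-- the length generating function factors over the levels -/
lemma NF_sum (q : ℕ) : ∀ k : ℕ, ((NF lv k).map fun w => q ^ w.length).sum =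
    ((List.range k).map fun i => ((lv.getD i []).map fun e => q ^ e.word.length).sum).prod
  | 0 => by simp [NF]
  | k + 1 => by
    rw [List.range_succ, List.map_append, List.prod_append, List.map_singleton, List.prod_singleton,
      ← NF_sum q k, NF]
    induction lv.getD k [] with
    | nil => simp
    | cons e L ih =>
      rw [List.flatMap_cons, List.map_append, List.sum_append, ih, List.map_cons, List.sum_cons,
        mul_add]
      congr 1
      rw [List.map_map, ← List.sum_map_mul_right]
      refine congrArg List.sum (List.map_congr_left fun u _ => ?_)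
      simp [pow_add, mul_comm]

noncomputable instance (g : Good D A) : Fintype (Weyl g) := Fintype.ofFinite _

/-- the length generating function of the Weyl group -/
theorem weyl_sum (g : Good D A) (hc : checkWeyl D A lv = true) (q : ℕ) :
    ∑ w : Weyl g, q ^ permInv (D := D) w.1 =
      ((List.range D.rank).map fun i => ((lv.getD i []).map fun e => q ^ e.word.length).sum).prod := by
  classical
  rw [← NF_sum q D.rank, ← List.sum_toFinset _ (NF_nodup g hc le_rfl)]
  let φ : ∀ w ∈ (NF lv D.rank).toFinset, Weyl g := fun w hw =>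
    ((exists_fin_word (NF_letters hc le_rfl (List.mem_toFinset.1 hw))).choose.map (wS g)).prod
  have hφ : ∀ w hw, ∃ l : List (Fin D.rank), φ w hw = (l.map (wS g)).prod ∧ l.map Fin.val = w :=
    fun w hw => ⟨_, rfl, (exists_fin_word (NF_letters hc le_rfl (List.mem_toFinset.1 hw))).choose_spec⟩
  refine (Finset.sum_bij φ (fun _ _ => Finset.mem_univ _) ?_ ?_ ?_).symm
  · intro a ha b hb e
    obtain ⟨l, hl, rfl⟩ := hφ a ha
    obtain ⟨l', hl', rfl⟩ := hφ b hb
    rw [hl, hl'] at e
    exact NF_inj g hc le_rfl _ (List.mem_toFinset.1 ha) _ (List.mem_toFinset.1 hb)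
      ((wS_prod_eq g).1 e)
  · intro x _
    obtain ⟨l, rfl⟩ := wS_gen g x
    obtain ⟨w, hw, hs⟩ := exists_NF g hc (letters_map (D := D) l)
    refine ⟨w, List.mem_toFinset.2 hw, ?_⟩
    obtain ⟨l', hl', rfl⟩ := hφ w (List.mem_toFinset.2 hw)
    rw [hl', wS_prod_eq g]
    exact fun r hr => (hs r hr).symm
  · intro a ha
    obtain ⟨l, hl, rfl⟩ := hφ a ha
    rw [hl, permInv_prod, NF_nInv g hc le_rfl _ (List.mem_toFinset.1 ha)]

theorem weyl_card (g : Good D A) (hc : checkWeyl D A lv = true) :
    Nat.card (Weyl g) = ((List.range D.rank).map fun i => (lv.getD i []).length).prod := by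
  classical
  have := weyl_sum g hc 1
  simpa [Nat.card_eq_fintype_card] using this

end CfsgLib.Chev
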