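/-
The orders of the finite Chevalley groups.
-/
import Cfsg.Agent.Lib.Chev.WeylN
import Cfsg.Agent.Lib.Chev.WeylNF
import Cfsg.Agent.Lib.Chev.TorusCard

set_option autoImplicit false

namespace CfsgLib.Chev

open Cfsg.Lie Matrix

variable {D : ChevalleyDatum} {A : Aux} {F : Type*} [Field F]

lemma card_UP_ge [Fintype F] (h : Std D A) (P : ℕ → Prop) [DecidablePred P] :
    Fintype.card F ^ (D.posRoots.toFinset.filter P).card ≤ Nat.card (UP F h.good P) := by
  classical
  set S := D.posRoots.toFinset.filter P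
  have : Finite ↥(UP F h.good P) := Finite.of_injective (fun y => ((y : GL D.Idx F) : Matrix D.Idx D.Idx F))
    (fun a b e => Subtype.ext (Units.ext e))
  let e : (S → F) → UP F h.good P := fun T =>
    ⟨pw h.good D.posRoots (fun r => if hr : r ∈ S then T ⟨r, hr⟩ else 0), list_prod_mem fun y hy => by
      obtain ⟨r, -, rfl⟩ := List.mem_map.1 hy
      by_cases hr : r ∈ S
      · exact xG_mem_UP h.good (Finset.mem_filter.1 hr).2 _
      · simp only []; rw [dif_neg hr, xG_zero]; exact one_mem _⟩
  have he : Function.Injective e := by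
    intro T T' eq
    funext ⟨r, hr⟩
    have := pw_inj h upList_posRoots (congrArg Subtype.val eq) r
      (List.mem_toFinset.1 (Finset.mem_filter.1 hr).1)
    simpa [hr] using this
  have hle := Nat.card_le_card_of_injective e he
  rwa [Nat.card_fun, Nat.card_eq_fintype_card (α := F), Nat.card_eq_finsetCard] at hle

lemma finite_GL [Fintype F] : Finite (GL D.Idx F) :=
  Finite.of_injective (fun y => (y : Matrix D.Idx D.Idx F)) fun _ _ e => Units.ext e

lemma card_toNeg [Fintype F] (h : Std D A) {n : GL D.Idx F} {σ : ℕ → ℕ} (hσ : Acts h.good n σ) :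
    Nat.card (UP F h.good (toNeg D σ)) =
      Fintype.card F ^ (D.posRoots.toFinset.filter fun r => ¬ D.IsPosRoot (σ r)).card := by
  classical
  have : Finite (GL D.Idx F) := finite_GL
  set S1 := D.posRoots.toFinset.filter fun r => D.IsPosRoot (σ r)
  set S2 := D.posRoots.toFinset.filter fun r => ¬ D.IsPosRoot (σ r)
  set P : ℕ → Prop := fun r => D.IsPosRoot r ∧ D.IsPosRoot (σ r)
  have hU1 : UP F h.good P ≤ D.posUnipotent F :=
    UP_le fun r t hr => xG_mem_posUnipotent h.good hr.1 t
  have hU2 : UP F h.good (toNeg D σ) ≤ D.posUnipotent F := UP_toNeg_le h.good σ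
  let f : UP F h.good P × UP F h.good (toNeg D σ) → D.posUnipotent F := fun p =>
    ⟨p.1.1 * p.2.1, mul_mem (hU1 p.1.2) (hU2 p.2.2)⟩
  have hf : Function.Bijective f := by
    constructor
    · rintro ⟨⟨a, ha⟩, ⟨b, hb⟩⟩ ⟨⟨a', ha'⟩, ⟨b', hb'⟩⟩ e
      have e' : a * b = a' * b' := congrArg Subtype.val e
      have e1 : a'⁻¹ * a = b' * b⁻¹ := by
        rw [eq_mul_inv_iff_mul_eq, mul_assoc, e', inv_mul_cancel_left]
      have hB : n * (a'⁻¹ * a) * n⁻¹ ∈ D.borelSubgroup F :=
        conj_UP_le hσ (fun r hr => hr.1.1) (fun r t hr => xG_mem_borel h.good hr.2 t)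
          (mul_mem (inv_mem ha') ha)
      have hV : n * (a'⁻¹ * a) * n⁻¹ ∈ D.negUnipotent F := by
        rw [e1]
        exact conj_UP_le hσ (fun r hr => hr.1.1) (fun r t hr => xG_mem_negUnipotent h.good hr.2 t)
          (mul_mem hb' (inv_mem hb))
      have h1 := Subgroup.mem_bot.1 ((borel_inf_negUnipotent h).le (Subgroup.mem_inf.2 ⟨hB, hV⟩))
      rw [conj_eq_one_iff, inv_mul_eq_one] at h1
      subst h1
      obtain rfl := mul_left_cancel e'
      rfl
    · rintro ⟨y, hy⟩
      rw [← UL_posRoots h.good] at hy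
      obtain ⟨a, ha, b, hb, rfl⟩ := pos_split h σ hσ.map.1 upList_posRoots hy
      exact ⟨(⟨a, ha⟩, ⟨b, hb⟩), rfl⟩
  have hc := Nat.card_congr (Equiv.ofBijective f hf)
  rw [Nat.card_prod, card_posUnipotent h] at hc
  have l1 : Fintype.card F ^ S1.card ≤ Nat.card (UP F h.good P) := by
    refine le_trans (le_of_eq ?_) (card_UP_ge h P)
    congr 2
    exact Finset.filter_congr fun r hr => by
      rw [List.mem_toFinset, posRoots_mem] at hr
      exact (and_iff_right hr).symm
  have l2 : Fintype.card F ^ S2.card ≤ Nat.card (UP F h.good (toNeg D σ)) := by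
    refine le_trans (le_of_eq ?_) (card_UP_ge h (toNeg D σ))
    congr 2
    exact Finset.filter_congr fun r hr => by
      rw [List.mem_toFinset, posRoots_mem] at hr
      exact ⟨fun hn => ⟨hr, isNeg_of_not_pos h.good (hσ.map.1 r hr.1) hn⟩,
        fun hn => not_pos_of_isNeg h.good hn.2⟩
  have hsum : S1.card + S2.card = D.nroots / 2 := by
    rw [Finset.card_filter_add_card_filter_not, List.toFinset_card_of_nodup
      (show D.posRoots.Nodup from List.Nodup.filter _ List.nodup_range), length_posRoots h.good]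
  have hq : 0 < Fintype.card F := Fintype.card_pos
  rw [← hsum, pow_add] at hc
  refine le_antisymm ?_ l2
  refine Nat.le_of_mul_le_mul_left ?_ (pow_pos hq S1.card)
  rw [← hc]
  exact Nat.mul_le_mul_right _ l1

lemma permOf_nW (g : Good D A) (l : List (Fin D.rank)) {r : ℕ} (hr : r < D.nroots) :
    wf A (l.map Fin.val) r = ((((l.map (wS g)).prod : Weyl g).1 ⟨r, hr⟩ : Fin D.nroots) : ℕ) := by
  rw [wS_prod_apply]

/-- the Bruhat count -/
theorem card_group [Fintype F] (h : Std D A) :
    Nat.card (D.group F) =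
      Nat.card (D.borelSubgroup F) * ∑ w : Weyl h.good, Fintype.card F ^ permInv (D := D) w.1 := by
  classical
  have : Finite (GL D.Idx F) := finite_GL
  have g := h.good
  let word : Weyl h.good → List ℕ := fun w => ((wS_gen h.good w).choose).map Fin.val
  have hword : ∀ w, ((wS_gen h.good w).choose.map (wS h.good)).prod = w := fun w =>
    (wS_gen h.good w).choose_spec
  have hl : ∀ w, Letters D (word w) := fun w => letters_map _
  have hact : ∀ w, Acts h.good (nW F h.good (word w)) (wf A (word w)) := fun w => nW_acts h.good (hl w)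
  have hmem : ∀ w, nW F h.good (word w) ∈ D.monomialSubgroup F := fun w => nW_mem h.good (hl w)
  let f : ↥(D.borelSubgroup F) × (Σ w : Weyl h.good, ↥(UP F h.good (toNeg D (wf A (word w))))) →
      ↥(D.group F) := fun p => ⟨p.1.1 * nW F h.good (word p.2.1) * p.2.2.1,
    mul_mem (mul_mem (borel_le_group h.good p.1.2) (monomialSubgroup_le_group h.good (hmem _)))
      (borel_le_group h.good (pos_le_borel (UP_toNeg_le h.good _ p.2.2.2)))⟩
  have hW : ∀ w, weylHom F h.good ⟨_, hmem w⟩ = w := fun w => by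
    refine Eq.trans ?_ (hword w)
    exact Subtype.ext (permHom_nW h.good _)
  have hf : Function.Bijective f := by
    constructor
    · rintro ⟨⟨b, hb⟩, ⟨w, ⟨u, hu⟩⟩⟩ ⟨⟨b', hb'⟩, ⟨w', ⟨u', hu'⟩⟩⟩ e
      have e' : b * nW F h.good (word w) * u = b' * nW F h.good (word w') * u' :=
        congrArg Subtype.val e
      have hH := bruhat_unique h hb (pos_le_borel (UP_toNeg_le h.good _ hu)) hb'
        (pos_le_borel (UP_toNeg_le h.good _ hu')) (hmem w) (hmem w') e'
      have hww : w = w' := by
        have : (⟨_, hmem w⟩ : ↥(D.monomialSubgroup F))⁻¹ * ⟨_, hmem w'⟩ ∈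
            (weylHom F h.good).ker := by
          rw [weylHom_ker h, Subgroup.mem_subgroupOf]; exact hH
        rw [MonoidHom.mem_ker, map_mul, map_inv, inv_mul_eq_one, hW, hW] at this
        exact this
      subst hww
      obtain ⟨rfl, rfl⟩ := normal_form_unique h (hact w) hb hb' hu hu' e'
      rfl
    · rintro ⟨y, hy⟩
      obtain ⟨b, hb, n, hn, σ, hσ, u, hu, rfl⟩ := normal_form_exists h hy
      set w := weylHom F h.good ⟨n, hn⟩
      have hk : (⟨_, hmem w⟩ : ↥(D.monomialSubgroup F)) * (⟨n, hn⟩ : ↥(D.monomialSubgroup F))⁻¹ ∈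
          (weylHom F h.good).ker := by
        rw [MonoidHom.mem_ker, map_mul, map_inv, hW, mul_inv_cancel]
      rw [weylHom_ker h, Subgroup.mem_subgroupOf] at hk
      push_cast at hk
      have hbd : b * (nW F h.good (word w) * n⁻¹)⁻¹ ∈ D.borelSubgroup F :=
        mul_mem hb (inv_mem ((le_sup_right : _ ≤ D.borelSubgroup F) hk))
      obtain ⟨c, hc⟩ := (diagonal_mem_iff' h.good).1 hk
      have hacts : Acts h.good n (wf A (word w)) := by
        have e : n = tor D A c⁻¹ * nW F h.good (word w) := by rw [map_inv, hc]; group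
        rw [e]
        exact (acts_tor h.good c⁻¹).mul (hact w)
      have hu' : u ∈ UP F h.good (toNeg D (wf A (word w))) := by
        rwa [UP_congr h.good (P := toNeg D σ) (Q := toNeg D (wf A (word w)))
          (fun r => and_congr_right fun hr => by rw [hσ.unique hacts hr.1])] at hu
      refine ⟨(⟨_, hbd⟩, ⟨w, ⟨u, hu'⟩⟩), Subtype.ext ?_⟩
      show b * (nW F h.good (word w) * n⁻¹)⁻¹ * nW F h.good (word w) * u = b * n * u
      group
  rw [← Nat.card_congr (Equiv.ofBijective f hf), Nat.card_prod, Nat.card_sigma]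
  congr 1
  refine Finset.sum_congr rfl fun w _ => ?_
  rw [card_toNeg h (hact w)]
  congr 1
  conv_rhs => rw [← hword w, permInv_prod]
  rfl
where
  diagonal_mem_iff' (g : Good D A) {y : GL D.Idx F} :
      y ∈ D.diagonalSubgroup F ↔ ∃ c, tor D A c = y := by
    rw [diagonalSubgroup_eq g]; rfl

theorem card_borel [Fintype F] (h : Std D A) :
    Nat.card (D.borelSubgroup F) =
      Fintype.card F ^ (D.nroots / 2) * Nat.card (D.diagonalSubgroup F) := by
  rw [← card_posUnipotent h, ← Nat.card_prod]
  refine (Nat.card_congr (Equiv.ofBijective (fun p : ↥(D.posUnipotent F) × ↥(D.diagonalSubgroup F) =>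
    (⟨p.1.1 * p.2.1, mul_mem (pos_le_borel p.1.2) ((le_sup_right : _ ≤ D.borelSubgroup F) p.2.2)⟩ :
      ↥(D.borelSubgroup F))) ⟨?_, ?_⟩)).symm
  · rintro ⟨⟨u, hu⟩, ⟨a, ha⟩⟩ ⟨⟨u', hu'⟩, ⟨a', ha'⟩⟩ e
    have e' : u * a = u' * a' := congrArg Subtype.val e
    have e1 : u'⁻¹ * u = a' * a⁻¹ := by
      rw [eq_mul_inv_iff_mul_eq, mul_assoc, e', inv_mul_cancel_left]
    have := Subgroup.mem_bot.1 ((posUnipotent_inf_diagonal h).le
      (Subgroup.mem_inf.2 ⟨mul_mem (inv_mem hu') hu, e1 ▸ mul_mem ha' (inv_mem ha)⟩))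
    rw [inv_mul_eq_one] at this
    subst this
    obtain rfl := mul_left_cancel e'
    rfl
  · rintro ⟨y, hy⟩
    obtain ⟨u, hu, c, rfl⟩ := (mem_borel_iff h.good).1 hy
    exact ⟨(⟨u, hu⟩, ⟨_, by rw [diagonalSubgroup_eq h.good]; exact ⟨c, rfl⟩⟩), rfl⟩

/-- value of a polynomial given by its coefficient list -/
def pEval (q : ℕ) : List ℕ → ℕ
  | [] => 0
  | a :: p => a + q * pEval q p

/-- sum of coefficient lists -/
def pAdd : List ℕ → List ℕ → List ℕ
  | [], p => p
  | p, [] => p
  | a :: p, b :: r => (a + b) :: pAdd p r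

/-- product of coefficient lists -/
def pMul : List ℕ → List ℕ → List ℕ
  | [], _ => []
  | a :: p, r => pAdd (r.map (a * ·)) (0 :: pMul p r)

/-- monomial -/
def pMono (n : ℕ) : List ℕ := List.replicate n 0 ++ [1]

lemma pEval_add (q : ℕ) : ∀ p r : List ℕ, pEval q (pAdd p r) = pEval q p + pEval q r
  | [], p => by simp [pAdd, pEval]
  | a :: p, [] => by simp [pAdd, pEval]
  | a :: p, b :: r => by simp [pAdd, pEval, pEval_add q p r]; ring

lemma pEval_smul (q a : ℕ) : ∀ r : List ℕ, pEval q (r.map (a * ·)) = a * pEval q r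
  | [] => by simp [pEval]
  | b :: r => by simp [pEval, pEval_smul q a r]; ring

lemma pEval_mul (q : ℕ) : ∀ p r : List ℕ, pEval q (pMul p r) = pEval q p * pEval q r
  | [], r => by simp [pMul, pEval]
  | a :: p, r => by simp [pMul, pEval, pEval_add, pEval_smul, pEval_mul q p r]; ring

lemma pEval_mono (q : ℕ) : ∀ n, pEval q (pMono n) = q ^ n
  | 0 => by simp [pMono, pEval]
  | n + 1 => by
    have := pEval_mono q n
    simp only [pMono] at this ⊢
    simp [List.replicate_succ, pEval, this, pow_succ, mul_comm]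

lemma pEval_ones (q : ℕ) : ∀ d, pEval q (List.replicate d 1) = ∑ i ∈ Finset.range d, q ^ i
  | 0 => by simp [pEval]
  | d + 1 => by
    rw [List.replicate_succ, pEval, pEval_ones q d, Finset.sum_range_succ', Finset.mul_sum, add_comm]
    simp [pow_succ, mul_comm]

lemma pEval_prod (q : ℕ) : ∀ L : List (List ℕ),
    pEval q (L.foldr pMul [1]) = (L.map (pEval q)).prod
  | [] => by simp [pEval]
  | p :: L => by simp [pEval_mul, pEval_prod q L]

lemma pEval_counts (q : ℕ) : ∀ L : List ℕ,
    pEval q ((L.map pMono).foldr pAdd []) = (L.map (q ^ ·)).sum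
  | [] => by simp [pEval]
  | n :: L => by simp [pEval_add, pEval_mono, pEval_counts q L]

/-- the check of a Poincaré polynomial -/
def poinCheck (rank : ℕ) (lv : List (List Rep)) (deg : List ℕ) : Bool :=
  decide (deg.length = rank) &&
  decide (((List.range rank).map fun i =>
      (((lv.getD i []).map fun e => e.word.length).map pMono).foldr pAdd []).foldr pMul [1] =
    (deg.map fun d => List.replicate d 1).foldr pMul [1])

lemma geom_nat {q : ℕ} (hq : 1 ≤ q) (d : ℕ) :
    (∑ i ∈ Finset.range d, q ^ i) * (q - 1) = q ^ d - 1 := by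
  have h := geom_sum_mul_add (q - 1) d
  rw [Nat.sub_add_cancel hq] at h
  omega

lemma prod_map_pred_mul {q : ℕ} (hq : 1 ≤ q) : ∀ deg : List ℕ,
    (deg.map fun d => pEval q (List.replicate d 1)).prod * (q - 1) ^ deg.length =
      (deg.map fun d => q ^ d - 1).prod
  | [] => by simp
  | d :: deg => by
    rw [List.map_cons, List.prod_cons, List.map_cons, List.prod_cons, ← prod_map_pred_mul hq deg,
      ← geom_nat hq d, pEval_ones, List.length_cons, pow_succ]
    ring

/-- the order formula -/
theorem order_formula [Fintype F] (h : Std D A) {lv : List (List Rep)}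
    (hw : checkWeyl D A lv = true) {U Ui V Vi : Matrix (Fin D.rank) (Fin D.rank) ℤ}
    {d : Fin D.rank → ℕ} (hs : smithCheck D A U Ui V Vi d = true) {deg : List ℕ}
    (hp : poinCheck D.rank lv deg = true) {q : ℕ} (hq : Fintype.card F = q) :
    (∏ i, Nat.gcd (d i) (q - 1)) * Nat.card (D.group F) =
      q ^ (D.nroots / 2) * (deg.map fun d => q ^ d - 1).prod := by
  subst hq
  simp only [poinCheck, Bool.and_eq_true, decide_eq_true_eq] at hp
  set q := Fintype.card F
  have hpoly : ((List.range D.rank).map fun i => ((lv.getD i []).map fun e => q ^ e.word.length).sum).prod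
      = (deg.map fun d => pEval q (List.replicate d 1)).prod := by
    have h2 := congrArg (pEval q) hp.2
    rw [pEval_prod, pEval_prod, List.map_map, List.map_map] at h2
    refine Eq.trans (congrArg List.prod (List.map_congr_left fun i _ => ?_)) h2
    simp only [Function.comp_apply]
    rw [pEval_counts, List.map_map]
    rfl
  have hH := card_diagonal (F := F) h.good hs
  rw [card_group h, card_borel h, weyl_sum h.good hw, hpoly,
    ← prod_map_pred_mul (Fintype.card_pos (α := F)) deg, hp.1, ← hH]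
  ring

end CfsgLib.Chev
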