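/-
The Coxeter matrices and orders of the Weyl groups of the seven tabulated types.
-/
import Cfsg.Agent.Lib.Chev.WeylN
import Cfsg.Agent.Lib.Chev.WeylNF
import Cfsg.Agent.Lib.Chev.Types
import Cfsg.Agent.Lib.Chev.Data.WeylCheckG2
import Cfsg.Agent.Lib.Chev.Data.WeylCheckB2
import Cfsg.Agent.Lib.Chev.Data.WeylCheckD4
import Cfsg.Agent.Lib.Chev.Data.WeylCheckF4
import Cfsg.Agent.Lib.Chev.Data.WeylCheckE6
import Cfsg.Agent.Lib.Chev.Data.WeylCheckE7
import Cfsg.Agent.Lib.Chev.Data.WeylCheckE8

set_option autoImplicit false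
set_option maxRecDepth 100000

namespace CfsgLib.Chev

open Cfsg.Lie

variable {D : ChevalleyDatum} {A : Aux}

/-- the order of a Coxeter group from the tables -/
theorem coxeter_card (g : Good D A) {lv : List (List Rep)} (hw : checkWeyl D A lv = true)
    (M : CoxeterMatrix (Fin D.rank)) (hc : coxCheck D A (fun i j => M i j) = true) :
    Nat.card M.Group = ((List.range D.rank).map fun i => (lv.getD i []).length).prod := by
  obtain ⟨cs, -⟩ := weyl_coxeter g M hc
  rw [← weyl_card g hw]
  exact (Nat.card_congr cs.mulEquiv.toEquiv).symm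

theorem coxG2 : coxCheck chevG2 auxG2 (fun i j => CoxeterMatrix.G₂ i j) = true := by decide +kernel
theorem coxB2 : coxCheck chevB2 auxB2 (fun i j => CoxeterMatrix.B 2 i j) = true := by decide +kernel
theorem coxD4 : coxCheck chevD4 auxD4 (fun i j => coxeterD4 i j) = true := by decide +kernel
theorem coxF4 : coxCheck chevF4 auxF4 (fun i j => CoxeterMatrix.F₄ i j) = true := by decide +kernel
theorem coxE6 : coxCheck chevE6 auxE6 (fun i j => CoxeterMatrix.E₆ i j) = true := by decide +kernel
theorem coxE7 : coxCheck chevE7 auxE7 (fun i j => CoxeterMatrix.E₇ i j) = true := by decide +kernel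
theorem coxE8 : coxCheck chevE8 auxE8 (fun i j => CoxeterMatrix.E₈ i j) = true := by decide +kernel

end CfsgLib.Chev
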