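/-
Smith forms of the Cartan matrices and Poincaré polynomials of the seven types.
-/
import Cfsg.Agent.Lib.Chev.Orders
import Cfsg.Agent.Lib.Chev.WeylTypes

set_option autoImplicit false
set_option maxRecDepth 100000

namespace CfsgLib.Chev

open Cfsg.Lie

theorem smithG2 : smithCheck chevG2 auxG2 (!![0, -1; 1, 2] : Matrix (Fin 2) (Fin 2) ℤ) (!![2, 1; -1, 0] : Matrix (Fin 2) (Fin 2) ℤ) (!![1, 2; 0, 1] : Matrix (Fin 2) (Fin 2) ℤ) (!![1, -2; 0, 1] : Matrix (Fin 2) (Fin 2) ℤ)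
    ![1, 1] = true := by decide +kernel

theorem poinG2 : poinCheck 2 weylG2 [2, 6] = true := by decide +kernel

theorem smithB2 : smithCheck chevB2 auxB2 (!![0, -1; 1, 2] : Matrix (Fin 2) (Fin 2) ℤ) (!![2, 1; -1, 0] : Matrix (Fin 2) (Fin 2) ℤ) (!![1, 2; 0, 1] : Matrix (Fin 2) (Fin 2) ℤ) (!![1, -2; 0, 1] : Matrix (Fin 2) (Fin 2) ℤ)
    ![1, 2] = true := by decide +kernel

theorem poinB2 : poinCheck 2 weylB2 [2, 4] = true := by decide +kernel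

theorem smithD4 : smithCheck chevD4 auxD4 (!![-1, 0, 0, 0; -2, -1, 0, 0; -3, -2, -1, 0; 2, 2, 1, 1] : Matrix (Fin 4) (Fin 4) ℤ) (!![-1, 0, 0, 0; 2, -1, 0, 0; -1, 2, -1, 0; -1, 0, 1, 1] : Matrix (Fin 4) (Fin 4) ℤ) (!![0, 0, 0, 1; 1, 0, 0, 2; 0, 1, -1, 1; 0, 0, 1, 2] : Matrix (Fin 4) (Fin 4) ℤ) (!![-2, 1, 0, 0; -3, 0, 1, 1; -2, 0, 0, 1; 1, 0, 0, 0] : Matrix (Fin 4) (Fin 4) ℤ)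
    ![1, 1, 2, 2] = true := by decide +kernel

theorem poinD4 : poinCheck 4 weylD4 [2, 4, 4, 6] = true := by decide +kernel

theorem smithF4 : smithCheck chevF4 auxF4 (!![-1, 0, 0, 0; 1, 0, -1, 0; -2, -1, 0, 0; -2, -2, -2, -1] : Matrix (Fin 4) (Fin 4) ℤ) (!![-1, 0, 0, 0; 2, 0, -1, 0; -1, -1, 0, 0; 0, 2, 2, -1] : Matrix (Fin 4) (Fin 4) ℤ) (!![0, 0, 1, -2; 1, 0, 2, -4; 0, 0, 2, -3; 0, 1, 2, -2] : Matrix (Fin 4) (Fin 4) ℤ) (!![-2, 1, 0, 0; 2, 0, -2, 1; -3, 0, 2, 0; -2, 0, 1, 0] : Matrix (Fin 4) (Fin 4) ℤ)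
    ![1, 1, 1, 1] = true := by decide +kernel

theorem poinF4 : poinCheck 4 weylF4 [2, 6, 8, 12] = true := by decide +kernel

theorem smithE6 : smithCheck chevE6 auxE6 (!![-1, 0, 0, 0, 0, 0; 0, -1, 0, 0, 0, 0; 1, -2, 0, -1, 0, 0; 2, -3, 0, -2, -1, 0; -2, 1, -1, 0, 0, 0; -5, 0, -4, -3, -2, -1] : Matrix (Fin 6) (Fin 6) ℤ) (!![-1, 0, 0, 0, 0, 0; 0, -1, 0, 0, 0, 0; 2, -1, 0, 0, -1, 0; -1, 2, -1, 0, 0, 0; 0, -1, 2, -1, 0, 0; 0, 0, -1, 2, 4, -1] : Matrix (Fin 6) (Fin 6) ℤ) (!![0, 0, 0, 0, 1, -2; 0, 0, 0, 0, 2, -3; 1, 0, 0, 0, 2, -4; 0, 1, 0, 0, 4, -6; 0, 0, 1, 0, 4, -5; 0, 0, 0, 1, 4, -4] : Matrix (Fin 6) (Fin 6) ℤ) (!![-2, 0, 1, 0, 0, 0; 0, -2, 0, 1, 0, 0; 2, -3, 0, 0, 1, 0; 4, -4, 0, 0, 0, 1; -3, 2, 0, 0, 0, 0; -2, 1, 0, 0, 0, 0] : Matrix (Fin 6)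 (Fin 6) ℤ)
    ![1, 1, 1, 1, 1, 3] = true := by decide +kernel

theorem poinE6 : poinCheck 6 weylE6 [2, 5, 6, 8, 9, 12] = true := by decide +kernel

theorem smithE7 : smithCheck chevE7 auxE7 (!![-1, 0, 0, 0, 0, 0, 0; 0, -1, 0, 0, 0, 0, 0; 1, -2, 0, -1, 0, 0, 0; 2, -3, 0, -2, -1, 0, 0; 3, -4, 0, -3, -2, -1, 0; -2, 1, -1, 0, 0, 0, 0; -4, -1, -4, -4, -3, -2, -1] : Matrix (Fin 7) (Fin 7) ℤ) (!![-1, 0, 0, 0, 0, 0, 0; 0, -1, 0, 0, 0, 0, 0; 2, -1, 0, 0, 0, -1, 0; -1, 2, -1, 0, 0, 0, 0; 0, -1, 2, -1, 0, 0, 0; 0, 0, -1, 2, -1, 0, 0; 0, 0, 0, -1, 2, 4, -1] : Matrix (Fin 7) (Fin 7) ℤ) (!![0, 0, 0, 0, 0, 1, -2; 0, 0, 0, 0, 0, 2, -3; 1, 0, 0, 0, 0, 2, -4; 0, 1, 0, 0, 0, 4, -6; 0, 0, 1, 0, 0, 4, -5; 0, 0, 0, 1, 0, 4, -4; 0, 0, 0, 0, 1, 4, -3] : Matrix (Fin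 7) (Fin 7) ℤ) (!![-2, 0, 1, 0, 0, 0, 0; 0, -2, 0, 1, 0, 0, 0; 2, -3, 0, 0, 1, 0, 0; 4, -4, 0, 0, 0, 1, 0; 6, -5, 0, 0, 0, 0, 1; -3, 2, 0, 0, 0, 0, 0; -2, 1, 0, 0, 0, 0, 0] : Matrix (Fin 7) (Fin 7) ℤ)
    ![1, 1, 1, 1, 1, 1, 2] = true := by decide +kernel

theorem poinE7 : poinCheck 7 weylE7 [2, 6, 8, 10, 12, 14, 18] = true := by decide +kernel

theorem smithE8 : smithCheck chevE8 auxE8 (!![-1, 0, 0, 0, 0, 0, 0, 0; 0, -1, 0, 0, 0, 0, 0, 0; 1, -2, 0, -1, 0, 0, 0, 0; 2, -3, 0, -2, -1, 0, 0, 0; 3, -4, 0, -3, -2, -1, 0, 0; 4, -5, 0, -4, -3, -2, -1, 0; -2, 1, -1, 0, 0, 0, 0, 0; -3, -2, -4, -5, -4, -3, -2, -1] : Matrix (Fin 8) (Fin 8) ℤ) (!![-1, 0, 0, 0, 0, 0, 0, 0; 0, -1, 0, 0, 0, 0, 0, 0; 2, -1, 0, 0, 0, 0, -1, 0; -1, 2, -1, 0, 0, 0, 0, 0; 0, -1,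 2, -1, 0, 0, 0, 0; 0, 0, -1, 2, -1, 0, 0, 0; 0, 0, 0, -1, 2, -1, 0, 0; 0, 0, 0, 0, -1, 2, 4, -1] : Matrix (Fin 8) (Fin 8) ℤ) (!![0, 0, 0, 0, 0, 0, 1, -2; 0, 0, 0, 0, 0, 0, 2, -3; 1, 0, 0, 0, 0, 0, 2, -4; 0, 1, 0, 0, 0, 0, 4, -6; 0, 0, 1, 0, 0, 0, 4, -5; 0, 0, 0, 1, 0, 0, 4, -4; 0, 0, 0, 0, 1, 0, 4, -3; 0, 0, 0, 0, 0, 1, 4, -2] : Matrix (Fin 8) (Fin 8) ℤ) (!![-2, 0, 1, 0, 0, 0, 0, 0; 0, -2, 0, 1, 0, 0, 0, 0; 2, -3, 0, 0, 1, 0, 0, 0; 4, -4, 0, 0, 0, 1, 0, 0; 6, -5, 0, 0, 0, 0, 1, 0; 8, -6, 0, 0, 0, 0, 0, 1; -3, 2, 0, 0, 0, 0, 0, 0; -2, 1, 0, 0, 0, 0, 0, 0] : Matrix (Fin 8) (Fin 8) ℤ)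
    ![1, 1, 1, 1, 1, 1, 1, 1] = true := by decide +kernel

theorem poinE8 : poinCheck 8 weylE8 [2, 8, 12, 14, 18, 20, 24, 30] = true := by decide +kernel

end CfsgLib.Chev
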