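import Cfsg.Agent.Lib.Chev.Parabolic
import Cfsg.Agent.Lib.Chev.WeylN

/-!
Bruhat cells modulo standard parabolic subgroups: positive representatives.
-/

set_option autoImplicit false

namespace CfsgLib.Chev

open Cfsg.Lie

variable {D : ChevalleyDatum} {A : Aux} {F : Type*} [Field F]

/-- `n` sends the fundamental roots of `J` to positive roots -/
def PosAt (g : Good D A) (J : Finset ℕ) (n : GL D.Idx F) : Prop :=
  ∀ σ, Acts g n σ → ∀ j ∈ J, j < D.rank → D.IsPosRoot (σ (D.simple j))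

/-- the double coset of `n` -/
def InCell (D : ChevalleyDatum) (n y : GL D.Idx F) : Prop :=
  ∃ b ∈ D.borelSubgroup F, ∃ b' ∈ D.borelSubgroup F, y = b * n * b'

/-- the subgroup generated by the fundamental monomial elements of `J` -/
noncomputable def WJ (F : Type*) [Field F] (g : Good D A) (J : Finset ℕ) : Subgroup (GL D.Idx F) :=
  Subgroup.closure {y | ∃ j ∈ J, j < D.rank ∧ y = nS F g j}

theorem posAt_iff (g : Good D A) {J : Finset ℕ} {n : GL D.Idx F} {σ : ℕ → ℕ} (hσ : Acts g n σ) :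
    PosAt g J n ↔ ∀ j ∈ J, j < D.rank → D.IsPosRoot (σ (D.simple j)) :=
  ⟨fun h => h σ hσ, fun h τ hτ j hj hj' => by
    rw [← hσ.unique hτ (g.simple_lt j hj')]; exact h j hj hj'⟩

theorem acts_inv (g : Good D A) {n : GL D.Idx F} (hn : n ∈ D.monomialSubgroup F) {σ : ℕ → ℕ}
    (hσ : Acts g n σ) : ∃ τ, Acts g n⁻¹ τ ∧ ∀ r < D.nroots, τ (σ r) = r ∧ σ (τ r) = r := by
  obtain ⟨τ, hτ⟩ := exists_acts g (inv_mem hn)
  have h1 : Acts g (1 : GL D.Idx F) id := by simpa using acts_tor (F := F) g 1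
  refine ⟨τ, hτ, fun r hr => ⟨?_, ?_⟩⟩
  · have := hτ.mul hσ
    rw [inv_mul_cancel] at this
    exact this.unique h1 hr
  · have := hσ.mul hτ
    rw [mul_inv_cancel] at this
    exact this.unique h1 hr

theorem acts_diag (g : Good D A) {d : GL D.Idx F} (hd : d ∈ D.diagonalSubgroup F) :
    Acts g d id := by
  rw [diagonalSubgroup_eq g] at hd
  obtain ⟨c, rfl⟩ := hd
  exact acts_tor g c

theorem diag_le_monomial : D.diagonalSubgroup F ≤ D.monomialSubgroup F := le_sup_left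

theorem diag_of_same (h : Std D A) {n n' : GL D.Idx F} (hn : n ∈ D.monomialSubgroup F)
    (hn' : n' ∈ D.monomialSubgroup F) {σ σ' : ℕ → ℕ} (hσ : Acts h.good n σ)
    (hσ' : Acts h.good n' σ') (e : ∀ r < D.nroots, σ r = σ' r) :
    n⁻¹ * n' ∈ D.diagonalSubgroup F := by
  obtain ⟨τ, hτ, hτσ⟩ := acts_inv h.good hn hσ
  refine mem_diag_of_id h (mul_mem (inv_mem hn) hn') (hτ.mul hσ') fun r hr => ?_
  show τ (σ' r) = r
  rw [← e r hr]
  exact (hτσ r hr).1

theorem pos_of_simple_pos (g : Good D A) {σ : ℕ → ℕ} (h : RootMap D A σ)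
    (hs : ∀ i < D.rank, D.IsPosRoot (σ (D.simple i))) {r : ℕ} (hr : D.IsPosRoot r) :
    D.IsPosRoot (σ r) := by
  refine (g.pos_iff _ (h.1 r hr.1)).2 fun j => ?_
  by_cases hj : j < D.rank
  · rw [simple_eq_sum g h hr.1 j hj]
    refine Finset.sum_nonneg fun k hk => ?_
    have hk := Finset.mem_range.1 hk
    exact mul_nonneg ((g.pos_iff r hr.1).1 hr k) ((g.pos_iff _ (h.1 _ (g.simple_lt k hk))).1 (hs k hk) j)
  · rw [g.a_zero _ (h.1 r hr.1) j (not_lt.1 hj)]

/-- a monomial element sending every fundamental root to a positive root is diagonal -/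
theorem diag_of_pos (h : Std D A) {n : GL D.Idx F} (hn : n ∈ D.monomialSubgroup F) {σ : ℕ → ℕ}
    (hσ : Acts h.good n σ) (hs : ∀ i < D.rank, D.IsPosRoot (σ (D.simple i))) :
    n ∈ D.diagonalSubgroup F := by
  have hnG := monomialSubgroup_le_group h.good hn
  have hB : n ∈ D.borelSubgroup F := by
    have key : ∀ b ∈ D.borelSubgroup F, n * b * n⁻¹ ∈ D.borelSubgroup F := by
      intro b hb
      obtain ⟨u, hu, c, rfl⟩ := (mem_borel_iff h.good).1 hb
      obtain ⟨d, hd⟩ := monomial_conj_tor h.good hn c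
      rw [show n * (u * tor D A c) * n⁻¹ = (n * u * n⁻¹) * (n * tor D A c * n⁻¹) by group, hd]
      refine mul_mem ?_ (tor_mem_borel h.good d)
      have hu' : u ∈ UP F h.good (fun r => D.IsPosRoot r) := by
        rw [posUnipotent_eq h.good] at hu; exact hu
      exact conj_UP_le hσ (fun r hr => hr.1)
        (fun r t hr => xG_mem_borel h.good (pos_of_simple_pos h.good hσ.map hs hr) t) hu'
    exact BN.mem_of_conj_B_le (P := bnPair h) (g := (⟨n, hnG⟩ : ↥(D.group F)))
      (H := (bnPair h).B) le_rfl (fun b hb => key b hb)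
  rw [← borel_inf_monomial h]
  exact Subgroup.mem_inf.2 ⟨hB, hn⟩

theorem posAt_of_diag (g : Good D A) {J : Finset ℕ} {n n' : GL D.Idx F} (hn : n ∈ D.monomialSubgroup F)
    (hd : n⁻¹ * n' ∈ D.diagonalSubgroup F) (h : PosAt g J n) : PosAt g J n' := by
  obtain ⟨σ, hσ⟩ := exists_acts g hn
  have e : n' = n * (n⁻¹ * n') := by group
  have hσ' : Acts g n' (σ ∘ id) := e ▸ hσ.mul (acts_diag g hd)
  rw [posAt_iff g hσ']
  exact h σ hσ

theorem inCell_unique (h : Std D A) {n n' y : GL D.Idx F} (hn : n ∈ D.monomialSubgroup F)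
    (hn' : n' ∈ D.monomialSubgroup F) (e : InCell D n y) (e' : InCell D n' y) :
    n⁻¹ * n' ∈ D.diagonalSubgroup F := by
  obtain ⟨b, hb, c, hc, rfl⟩ := e
  obtain ⟨b', hb', c', hc', e⟩ := e'
  exact bruhat_unique h hb hc hb' hc' hn hn' e

theorem inCell_self (n : GL D.Idx F) : InCell D n n :=
  ⟨1, one_mem _, 1, one_mem _, by group⟩

theorem InCell.left {n y b : GL D.Idx F} (h : InCell D n y) (hb : b ∈ D.borelSubgroup F) :
    InCell D n (b * y) := by
  obtain ⟨b₁, h₁, b₂, h₂, rfl⟩ := h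
  exact ⟨b * b₁, mul_mem hb h₁, b₂, h₂, by group⟩

theorem InCell.right {n y b : GL D.Idx F} (h : InCell D n y) (hb : b ∈ D.borelSubgroup F) :
    InCell D n (y * b) := by
  obtain ⟨b₁, h₁, b₂, h₂, rfl⟩ := h
  exact ⟨b₁, h₁, b₂ * b, mul_mem h₂ hb, by group⟩

theorem InCell.congr (h : Std D A) {n n' y : GL D.Idx F} (e : InCell D n y)
    (hd : n⁻¹ * n' ∈ D.diagonalSubgroup F) : InCell D n' y := by
  obtain ⟨b, hb, c, hc, rfl⟩ := e
  refine ⟨b, hb, (n⁻¹ * n')⁻¹ * c, mul_mem (inv_mem ?_) hc, by group⟩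
  rw [← borel_inf_monomial h] at hd
  exact hd.1

theorem inCell_bn (h : Std D A) {i : ℕ} (hi : i < D.rank) {n y : GL D.Idx F}
    (hn : n ∈ D.monomialSubgroup F) (hy : InCell D n y) :
    InCell D (nS F h.good i * n) (nS F h.good i * y) ∨ InCell D n (nS F h.good i * y) := by
  obtain ⟨b, hb, c, hc, rfl⟩ := hy
  have e : nS F h.good i * (b * n * c) = nS F h.good i * b * n * c := by group
  rw [e]
  rcases bn_rule h hi hn hb with h' | h' <;>
    obtain ⟨x, hx, x', hx', e'⟩ := DoubleCoset.mem_doubleCoset.1 h'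
  · exact Or.inl (InCell.right (show InCell D _ _ from ⟨x, hx, x', hx', e'⟩) hc)
  · exact Or.inr (InCell.right (show InCell D _ _ from ⟨x, hx, x', hx', e'⟩) hc)

theorem inCell_bn_inv (h : Std D A) {i : ℕ} (hi : i < D.rank) {n y : GL D.Idx F}
    (hn : n ∈ D.monomialSubgroup F) (hy : InCell D n y) :
    InCell D (nS F h.good i * n) ((nS F h.good i)⁻¹ * y) ∨
      InCell D n ((nS F h.good i)⁻¹ * y) := by
  obtain ⟨z, hz⟩ := nS_sq_mem (F := F) h.good hi
  have e : (nS F h.good i)⁻¹ * y = (tor D A z)⁻¹ * (nS F h.good i * y) := by rw [hz]; group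
  rw [e]
  exact (inCell_bn h hi hn hy).imp (fun h' => h'.left (inv_mem (tor_mem_borel h.good z)))
    (fun h' => h'.left (inv_mem (tor_mem_borel h.good z)))

theorem nS_mem_WJ (g : Good D A) {J : Finset ℕ} {j : ℕ} (hj : j ∈ J) (hj' : j < D.rank) :
    nS F g j ∈ WJ F g J := Subgroup.subset_closure ⟨j, hj, hj', rfl⟩

theorem WJ_le_monomial (g : Good D A) (J : Finset ℕ) : WJ F g J ≤ D.monomialSubgroup F :=
  (Subgroup.closure_le _).2 fun y ⟨_, _, hj, e⟩ => e ▸ nS_mem_monomial g hj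

theorem WJ_le_parabolic (g : Good D A) (J : Finset ℕ) :
    WJ F g J ≤ D.parabolicSubgroup F (J : Set ℕ) := by
  rw [parabolic_eq g]
  refine le_trans (Subgroup.closure_mono ?_) le_sup_right
  rintro y ⟨j, hj, hj', e⟩
  exact ⟨j, hj, hj', e⟩

/-- elements of `W_J` fix the coordinates outside `J` -/
theorem WJ_acts (g : Good D A) {J : Finset ℕ} {w : GL D.Idx F} (hw : w ∈ WJ F g J) :
    ∃ σ, Acts g w σ ∧ ∀ r < D.nroots, ∀ i < D.rank, i ∉ J → A.a (σ r) i = A.a r i := by
  induction hw using Subgroup.closure_induction with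
  | mem y hy =>
    obtain ⟨j, hj, hj', rfl⟩ := hy
    refine ⟨A.refl j, acts_nS g hj', fun r hr i hi hiJ => ?_⟩
    rw [g.a_refl j hj' r hr i hi, if_neg (fun e : i = j => hiJ (e ▸ hj)), sub_zero]
  | one => exact ⟨id, by simpa using acts_tor (F := F) g 1, fun r _ i _ _ => rfl⟩
  | mul x y _ _ hx hy =>
    obtain ⟨σ, hσ, h1⟩ := hx
    obtain ⟨τ, hτ, h2⟩ := hy
    refine ⟨σ ∘ τ, hσ.mul hτ, fun r hr i hi hiJ => ?_⟩
    rw [Function.comp_apply, h1 _ (hτ.map.1 r hr) i hi hiJ, h2 r hr i hi hiJ]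
  | inv x hx' hx =>
    obtain ⟨σ, hσ, h1⟩ := hx
    obtain ⟨τ, hτ, h2⟩ := acts_inv g (WJ_le_monomial g J hx') hσ
    refine ⟨τ, hτ, fun r hr i hi hiJ => ?_⟩
    rw [← h1 _ (hτ.map.1 r hr) i hi hiJ, (h2 r hr).2]

theorem mem_parabolic_cell (h : Std D A) (J : Finset ℕ) {y : GL D.Idx F}
    (hy : y ∈ D.parabolicSubgroup F (J : Set ℕ)) : ∃ w ∈ WJ F h.good J, InCell D w y := by
  rw [parabolic_eq h.good, ← Subgroup.closure_eq (D.borelSubgroup F), ← Subgroup.closure_union] at hy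
  induction hy using Subgroup.closure_induction_left with
  | one => exact ⟨1, one_mem _, inCell_self 1⟩
  | mul_left x hx y _ ih =>
    obtain ⟨w, hw, hwy⟩ := ih
    rcases hx with hx | ⟨j, hj, hj', rfl⟩
    · exact ⟨w, hw, hwy.left hx⟩
    · rcases inCell_bn h hj' (WJ_le_monomial _ J hw) hwy with h' | h'
      · exact ⟨_, mul_mem (nS_mem_WJ h.good hj hj') hw, h'⟩
      · exact ⟨w, hw, h'⟩
  | inv_mul_cancel x hx y _ ih =>
    obtain ⟨w, hw, hwy⟩ := ih
    rcases hx with hx | ⟨j, hj, hj', rfl⟩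
    · exact ⟨w, hw, hwy.left (inv_mem hx)⟩
    · rcases inCell_bn_inv h hj' (WJ_le_monomial _ J hw) hwy with h' | h'
      · exact ⟨_, mul_mem (nS_mem_WJ h.good hj hj') hw, h'⟩
      · exact ⟨w, hw, h'⟩

theorem posAt_inJ (g : Good D A) {J : Finset ℕ} {n : GL D.Idx F} {σ : ℕ → ℕ} (hσ : Acts g n σ)
    (hp : PosAt g J n) {r : ℕ} (hr : D.IsPosRoot r)
    (hJ : ∀ i < D.rank, i ∉ J → A.a r i = 0) : D.IsPosRoot (σ r) := by
  have hlt := hσ.map.1 r hr.1
  refine (g.pos_iff _ hlt).2 fun j => ?_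
  by_cases hj : j < D.rank
  · rw [simple_eq_sum g hσ.map hr.1 j hj]
    refine Finset.sum_nonneg fun k hk => ?_
    have hk := Finset.mem_range.1 hk
    by_cases hkJ : k ∈ J
    · exact mul_nonneg ((g.pos_iff r hr.1).1 hr k)
        ((g.pos_iff _ (hσ.map.1 _ (g.simple_lt k hk))).1 (hp σ hσ k hkJ hk) j)
    · rw [hJ k hk hkJ, zero_mul]
  · rw [g.a_zero _ hlt j (not_lt.1 hj)]

/-- a positive element absorbs the Borel subgroup in front of `W_J` -/
theorem inCell_push (h : Std D A) {J : Finset ℕ} {n : GL D.Idx F} (hn : n ∈ D.monomialSubgroup F)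
    (hp : PosAt h.good J n) {w : GL D.Idx F} (hw : w ∈ WJ F h.good J) {b : GL D.Idx F}
    (hb : b ∈ D.borelSubgroup F) : InCell D (n * w) (n * b * w) := by
  have g := h.good
  have hwN := WJ_le_monomial h.good J hw
  obtain ⟨σ, hσ⟩ := exists_acts h.good hn
  obtain ⟨ω, hω, hωJ⟩ := WJ_acts h.good hw
  obtain ⟨τ, hτ, hτω⟩ := acts_inv h.good hwN hω
  obtain ⟨u, hu, c, rfl⟩ := (mem_borel_iff h.good).1 hb
  have hu' := inv_mem hu
  rw [← UL_posRoots h.good] at hu'
  obtain ⟨p, hp', q, hq, e⟩ := pos_split h τ hτ.map.1 upList_posRoots hu'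
  have hu2 : u = q⁻¹ * p⁻¹ := by rw [← _root_.mul_inv_rev, ← e, inv_inv]
  obtain ⟨d, hd⟩ := monomial_conj_tor h.good (inv_mem hwN) c
  rw [inv_inv] at hd
  have h1 : n * q⁻¹ * n⁻¹ ∈ D.borelSubgroup F := by
    refine conj_UP_le hσ (fun r hr => hr.1.1) (fun r t hr => xG_mem_borel h.good ?_ t) (inv_mem hq)
    refine posAt_inJ h.good hσ hp hr.1 fun i hi hiJ => le_antisymm ?_ ((g.pos_iff r hr.1.1).1 hr.1 i)
    have := (g.negRoot_iff _ hr.2.1).1 hr.2 i
    rwa [← hωJ _ hr.2.1 i hi hiJ, (hτω r hr.1.1).2] at this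
  have h2 : w⁻¹ * p⁻¹ * w ∈ D.borelSubgroup F := by
    have := conj_UP_le (P := fun r => D.IsPosRoot r ∧ D.IsPosRoot (τ r)) hτ (fun r hr => hr.1.1)
      (fun r t hr => xG_mem_borel h.good hr.2 t) (inv_mem hp')
    rwa [inv_inv] at this
  refine ⟨n * q⁻¹ * n⁻¹, h1, w⁻¹ * p⁻¹ * w * tor D A d, mul_mem h2 (tor_mem_borel h.good d), ?_⟩
  rw [← hd, hu2]
  group

/-- a positive element times `W_J` is positive only trivially -/
theorem posAt_min (h : Std D A) {J : Finset ℕ} {n : GL D.Idx F} (hn : n ∈ D.monomialSubgroup F)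
    (hp : PosAt h.good J n) {w : GL D.Idx F} (hw : w ∈ WJ F h.good J)
    (hp' : PosAt h.good J (n * w)) : w ∈ D.diagonalSubgroup F := by
  have g := h.good
  obtain ⟨σ, hσ⟩ := exists_acts h.good hn
  obtain ⟨ω, hω, hωJ⟩ := WJ_acts h.good hw
  refine diag_of_pos h (WJ_le_monomial _ J hw) hω fun i hi => ?_
  have hsi := g.simple_lt i hi
  have hlt := hω.map.1 _ hsi
  by_contra hneg
  by_cases hiJ : i ∈ J
  · have h1 := (hp' _ (hσ.mul hω)) i hiJ hi
    rw [Function.comp_apply] at h1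
    have h2 := (pos_or_pos_neg h.good hlt).resolve_left hneg
    have h3 := posAt_inJ h.good hσ hp h2 fun k hk hkJ => by
      rw [g.a_neg _ hlt, hωJ _ hsi k hk hkJ, g.a_simple i hi k hk,
        if_neg (fun e : k = i => hkJ (e ▸ hiJ)), neg_zero]
    rw [hσ.map.map_neg h.good hlt] at h3
    exact not_pos_neg h.good h1 h3
  · have h1 := (g.negRoot_iff _ hlt).1 (isNeg_of_not_pos h.good hlt hneg) i
    rw [hωJ _ hsi i hi hiJ, g.a_simple i hi i hi, if_pos rfl] at h1
    omega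

/-- a coset of the parabolic has at most one positive Borel coset -/
theorem parabolic_pos_unique (h : Std D A) {J : Finset ℕ} {n n' y p : GL D.Idx F}
    (hn : n ∈ D.monomialSubgroup F) (hn' : n' ∈ D.monomialSubgroup F) (hp : PosAt h.good J n)
    (hp' : PosAt h.good J n') (hy : InCell D n y) (hpJ : p ∈ D.parabolicSubgroup F (J : Set ℕ))
    (hy' : InCell D n' (y * p)) : p ∈ D.borelSubgroup F := by
  obtain ⟨w, hw, b, hb, b', hb', rfl⟩ := mem_parabolic_cell h J hpJ
  obtain ⟨c, hc, c', hc', rfl⟩ := hy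
  have hwN := WJ_le_monomial h.good J hw
  have key : InCell D (n * w) (c * n * c' * (b * w * b')) := by
    have := ((inCell_push h hn hp hw (mul_mem hc' hb)).left hc).right hb'
    rwa [show c * (n * (c' * b) * w) * b' = c * n * c' * (b * w * b') by group] at this
  have hd := inCell_unique h hn' (mul_mem hn hwN) hy' key
  have hwd := posAt_min h hn hp hw (posAt_of_diag h.good hn' hd hp')
  rw [← borel_inf_monomial h] at hwd
  exact mul_mem (mul_mem hb hwd.1) hb'

theorem posToPos_congr {σ τ : ℕ → ℕ} (e : ∀ r < D.nroots, σ r = τ r) :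
    posToPos D σ = posToPos D τ := by
  unfold posToPos
  congr 1
  refine Finset.filter_congr fun r hr => ?_
  rw [List.mem_toFinset, posRoots_mem] at hr
  rw [e r hr.1]

theorem posToPos_le (σ : ℕ → ℕ) : posToPos D σ ≤ D.posRoots.toFinset.card :=
  Finset.card_filter_le _ _

/-- every coset of a parabolic has a positive representative -/
theorem exists_posAt (h : Std D A) (J : Finset ℕ) {y : GL D.Idx F} (hy : y ∈ D.group F) :
    ∃ p ∈ D.parabolicSubgroup F (J : Set ℕ), ∃ n ∈ D.monomialSubgroup F,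
      InCell D n (y * p) ∧ PosAt h.good J n := by
  obtain ⟨b, hb, n₀, hn₀, b', hb', rfl⟩ := bruhat h hy
  obtain ⟨σ₀, hσ₀⟩ := exists_acts h.good hn₀
  suffices ∀ k, ∀ p ∈ D.parabolicSubgroup F (J : Set ℕ), ∀ n ∈ D.monomialSubgroup F, ∀ σ,
      Acts h.good n σ → InCell D n (b * n₀ * b' * p) →
      D.posRoots.toFinset.card - posToPos D σ = k →
      ∃ p ∈ D.parabolicSubgroup F (J : Set ℕ), ∃ n ∈ D.monomialSubgroup F,
        InCell D n (b * n₀ * b' * p) ∧ PosAt h.good J n from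
    this _ 1 (one_mem _) n₀ hn₀ σ₀ hσ₀ ⟨b, hb, b', hb', by rw [mul_one]⟩ rfl
  intro k
  induction k using Nat.strong_induction_on with
  | _ k ih =>
    intro p hp n hn σ hσ hc hk
    by_cases hpos : PosAt h.good J n
    · exact ⟨p, hp, n, hn, hc, hpos⟩
    rw [posAt_iff h.good hσ] at hpos
    push Not at hpos
    obtain ⟨j, hj, hj', hneg⟩ := hpos
    have g := h.good
    have hσ2 : Acts h.good (n * nS F h.good j) (σ ∘ A.refl j) := hσ.mul (acts_nS h.good hj')
    have hsj := g.simple_lt j hj'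
    have hp2 : D.IsPosRoot ((σ ∘ A.refl j) (D.simple j)) := by
      rw [Function.comp_apply, refl_simple h.good hj', hσ.map.map_neg h.good hsj]
      exact (pos_or_pos_neg h.good (hσ.map.1 _ hsj)).resolve_left hneg
    have e := posToPos_refl h.good hσ2.map hj' hp2
    rw [posToPos_congr (τ := σ) fun r hr => by
      simp [Function.comp, g.refl_refl j hj' r hr]] at e
    have hle := posToPos_le (D := D) (σ ∘ A.refl j)
    obtain ⟨c, hc1, c', hc2, e2⟩ := hc
    refine ih _ (by omega) (p * c'⁻¹ * nS F h.good j) ?_ _ (mul_mem hn (nS_mem_monomial h.good hj'))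
      _ hσ2 ⟨c, hc1, 1, one_mem _, ?_⟩ rfl
    · exact mul_mem (mul_mem hp (inv_mem (borel_le_parabolic _ hc2)))
        (nS_mem_parabolic h.good hj' hj)
    · rw [← mul_assoc, ← mul_assoc, e2]; group

/-- reflections and a root map exchanging two fundamental roots -/
theorem acts_refl_comm (g : Good D A) {n : GL D.Idx F} (hn : n ∈ D.monomialSubgroup F)
    {σ : ℕ → ℕ} (hσ : Acts g n σ) {i x : ℕ} (hi : i < D.rank) (hx : x < D.rank)
    (he : σ (D.simple x) = D.simple i) {r : ℕ} (hr : r < D.nroots) :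
    A.refl i (σ r) = σ (A.refl x r) := by
  obtain ⟨w, hw, c, rfl⟩ := monomial_exists_word g hn
  have hact : Acts g (tor D A c * nW F g w) (id ∘ wf A w) := (acts_tor g c).mul (nW_acts g hw)
  rw [hσ.unique hact hr, hσ.unique hact (g.refl_lt x hx r hr)]
  rw [hσ.unique hact (g.simple_lt x hx)] at he
  exact refl_conj g hw hi hx he hr

/-- positive on both sides -/
def BiPos (g : Good D A) (K J : Finset ℕ) (n : GL D.Idx F) : Prop :=
  PosAt g J n ∧ PosAt g K n⁻¹

theorem exists_biPos (h : Std D A) (K J : Finset ℕ) {y : GL D.Idx F} (hy : y ∈ D.group F) :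
    ∃ p ∈ D.parabolicSubgroup F (K : Set ℕ), ∃ q ∈ D.parabolicSubgroup F (J : Set ℕ),
      ∃ n ∈ D.monomialSubgroup F, InCell D n (p * y * q) ∧ BiPos h.good K J n := by
  classical
  obtain ⟨q, hq, n₀, hn₀, hc₀, hp₀⟩ := exists_posAt h J hy
  obtain ⟨σ₀, hσ₀⟩ := exists_acts h.good hn₀
  suffices ∀ k, ∀ p ∈ D.parabolicSubgroup F (K : Set ℕ), ∀ n ∈ D.monomialSubgroup F, ∀ σ,
      Acts h.good n σ → InCell D n (p * y * q) → PosAt h.good J n →
      D.posRoots.toFinset.card - posToPos D σ = k →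
      ∃ p ∈ D.parabolicSubgroup F (K : Set ℕ), ∃ q ∈ D.parabolicSubgroup F (J : Set ℕ),
        ∃ n ∈ D.monomialSubgroup F, InCell D n (p * y * q) ∧ BiPos h.good K J n from
    this _ 1 (one_mem _) n₀ hn₀ σ₀ hσ₀ (by rwa [one_mul]) hp₀ rfl
  intro k
  induction k using Nat.strong_induction_on with
  | _ k ih =>
    intro p hp n hn σ hσ hc hJ hk
    obtain ⟨τ, hτ, hτσ⟩ := acts_inv h.good hn hσ
    by_cases hpos : PosAt h.good K n⁻¹
    · exact ⟨p, hp, q, hq, n, hn, hc, hJ, hpos⟩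
    rw [posAt_iff h.good hτ] at hpos
    push Not at hpos
    obtain ⟨i, hi, hi', hneg⟩ := hpos
    have g := h.good
    have hsi := g.simple_lt i hi'
    have hσ2 : Acts h.good (nS F h.good i * n) (A.refl i ∘ σ) := (acts_nS h.good hi').mul hσ
    have hkeep : ∀ r, D.IsPosRoot r → D.IsPosRoot (σ r) → D.IsPosRoot (A.refl i (σ r)) := by
      intro r hr hσr
      refine (refl_pos h.good hi' hσr fun e => hneg ?_).1
      rw [← e, (hτσ r hr.1).1]
      exact hr
    have hgain : posToPos D σ < posToPos D (A.refl i ∘ σ) := by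
      refine Finset.card_lt_card ((Finset.ssubset_iff_of_subset ?_).2 ⟨A.neg (τ (D.simple i)), ?_, ?_⟩)
      · intro r hr
        rw [Finset.mem_filter, List.mem_toFinset, posRoots_mem] at hr ⊢
        exact ⟨hr.1, hkeep r hr.1 hr.2⟩
      · rw [Finset.mem_filter, List.mem_toFinset, posRoots_mem]
        refine ⟨(pos_or_pos_neg h.good (hτ.map.1 _ hsi)).resolve_left hneg, ?_⟩
        rw [Function.comp_apply, hσ.map.map_neg h.good (hτ.map.1 _ hsi), (hτσ _ hsi).2,
          g.refl_neg i hi' _ hsi, refl_simple h.good hi', g.neg_neg _ hsi]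
        exact simple_pos h.good hi'
      · rw [Finset.mem_filter, hσ.map.map_neg h.good (hτ.map.1 _ hsi), (hτσ _ hsi).2]
        exact fun h' => not_pos_neg h.good (simple_pos h.good hi') h'.2
    have hJ2 : PosAt h.good J (nS F h.good i * n) := by
      rw [posAt_iff h.good hσ2]
      exact fun j hj hj' => hkeep _ (simple_pos h.good hj') (hJ σ hσ j hj hj')
    have hle := posToPos_le (D := D) (A.refl i ∘ σ)
    obtain ⟨c, hc1, c', hc2, e2⟩ := hc
    refine ih _ (by omega) (nS F h.good i * c⁻¹ * p) ?_ _ (mul_mem (nS_mem_monomial h.good hi') hn)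
      _ hσ2 ⟨1, one_mem _, c', hc2, ?_⟩ hJ2 rfl
    · exact mul_mem (mul_mem (nS_mem_parabolic h.good hi' hi)
        (inv_mem (borel_le_parabolic _ hc1))) hp
    · rw [show nS F h.good i * c⁻¹ * p * y * q = nS F h.good i * c⁻¹ * (p * y * q) by group, e2]
      group

theorem WJ_factor (h : Std D A) {K J : Finset ℕ} {n : GL D.Idx F}
    (hn : n ∈ D.monomialSubgroup F) (hJ : PosAt h.good J n) {a : GL D.Idx F}
    (ha : a ∈ WJ F h.good K) :
    ∃ a' ∈ WJ F h.good K, ∃ c ∈ WJ F h.good J ⊔ D.diagonalSubgroup F,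
      a * n = a' * n * c ∧ PosAt h.good J (a' * n) := by
  have g := h.good
  have step : ∀ {i : ℕ}, i ∈ K → i < D.rank → ∀ {s : GL D.Idx F},
      (s = nS F h.good i ∨ s = (nS F h.good i)⁻¹) → ∀ {a' : GL D.Idx F}, a' ∈ WJ F h.good K →
      PosAt h.good J (a' * n) → ∃ a'' ∈ WJ F h.good K, ∃ c ∈ WJ F h.good J ⊔ D.diagonalSubgroup F,
        s * (a' * n) = a'' * n * c ∧ PosAt h.good J (a'' * n) := by
    intro i hi hi' s hs a' ha' hpos
    have hm := mul_mem (WJ_le_monomial h.good K ha') hn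
    obtain ⟨σ, hσ⟩ := exists_acts h.good hm
    have hsK : s ∈ WJ F h.good K := by
      rcases hs with rfl | rfl
      exacts [nS_mem_WJ h.good hi hi', inv_mem (nS_mem_WJ h.good hi hi')]
    obtain ⟨ρ, hρ, hρe⟩ : ∃ ρ, Acts h.good s ρ ∧ ∀ r < D.nroots, ρ r = A.refl i r := by
      rcases hs with rfl | rfl
      · exact ⟨_, acts_nS h.good hi', fun r _ => rfl⟩
      · obtain ⟨τ, hτ, he⟩ := acts_inv h.good (nS_mem_monomial h.good hi') (acts_nS (F := F) h.good hi')
        refine ⟨τ, hτ, fun r hr => ?_⟩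
        conv_lhs => rw [← g.refl_refl i hi' r hr]
        exact (he _ (g.refl_lt i hi' r hr)).1
    by_cases hp : PosAt h.good J (s * (a' * n))
    · exact ⟨s * a', mul_mem hsK ha', 1, one_mem _, by group, by rwa [mul_assoc]⟩
    rw [posAt_iff h.good (hρ.mul hσ)] at hp
    push Not at hp
    obtain ⟨j, hj, hj', hneg⟩ := hp
    have hσj := hpos σ hσ j hj hj'
    have he : σ (D.simple j) = D.simple i := by
      by_contra hne
      rw [Function.comp_apply, hρe _ hσj.1] at hneg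
      exact hneg (refl_pos h.good hi' hσj hne).1
    have hsame : ∀ r < D.nroots, (ρ ∘ σ) r = (σ ∘ A.refl j) r := fun r hr => by
      rw [Function.comp_apply, Function.comp_apply, hρe _ (hσ.map.1 r hr)]
      exact acts_refl_comm h.good hm hσ hi' hj' he hr
    have hd := diag_of_same h (mul_mem hm (nS_mem_monomial h.good hj'))
      (mul_mem (WJ_le_monomial h.good K hsK) hm) (hσ.mul (acts_nS h.good hj')) (hρ.mul hσ)
      (fun r hr => (hsame r hr).symm)
    refine ⟨a', ha', nS F h.good j * ((a' * n * nS F h.good j)⁻¹ * (s * (a' * n))),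
      mul_mem (Subgroup.mem_sup_left (nS_mem_WJ h.good hj hj')) (Subgroup.mem_sup_right hd),
      by group, hpos⟩
  induction ha using Subgroup.closure_induction_left with
  | one => exact ⟨1, one_mem _, 1, one_mem _, by group, by rwa [one_mul]⟩
  | mul_left x hx a _ ih =>
    obtain ⟨i, hi, hi', rfl⟩ := hx
    obtain ⟨a', ha', c, hc, e, hpos⟩ := ih
    obtain ⟨a'', ha'', c', hc', e', hpos'⟩ := step hi hi' (Or.inl rfl) ha' hpos
    exact ⟨a'', ha'', c' * c, mul_mem hc' hc, by rw [mul_assoc, e, ← mul_assoc, e']; group, hpos'⟩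
  | inv_mul_cancel x hx a _ ih =>
    obtain ⟨i, hi, hi', rfl⟩ := hx
    obtain ⟨a', ha', c, hc, e, hpos⟩ := ih
    obtain ⟨a'', ha'', c', hc', e', hpos'⟩ := step hi hi' (Or.inr rfl) ha' hpos
    exact ⟨a'', ha'', c' * c, mul_mem hc' hc, by rw [mul_assoc, e, ← mul_assoc, e']; group, hpos'⟩

theorem WJ_sup_diag (g : Good D A) {J : Finset ℕ} {c : GL D.Idx F}
    (hc : c ∈ WJ F g J ⊔ D.diagonalSubgroup F) : ∃ w ∈ WJ F g J, ∃ d ∈ D.diagonalSubgroup F, c = w * d := by
  have hn : WJ F g J ≤ Subgroup.normalizer (D.diagonalSubgroup F : Set (GL D.Idx F)) := by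
    intro w hw
    refine Subgroup.mem_normalizer_iff.2 fun z => ⟨fun hz => ?_, fun hz => ?_⟩
    · rw [diagonalSubgroup_eq g] at hz ⊢
      obtain ⟨c, rfl⟩ := hz
      obtain ⟨d, hd⟩ := monomial_conj_tor g (WJ_le_monomial g J hw) c
      exact ⟨d, hd.symm⟩
    · rw [diagonalSubgroup_eq g] at hz ⊢
      obtain ⟨c, hc⟩ := hz
      obtain ⟨d, hd⟩ := monomial_conj_tor g (inv_mem (WJ_le_monomial g J hw)) c
      refine ⟨d, ?_⟩
      rw [← hd, hc]; group
  have : c ∈ ((WJ F g J ⊔ D.diagonalSubgroup F : Subgroup (GL D.Idx F)) : Set (GL D.Idx F)) := hc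
  rw [Subgroup.coe_mul_of_left_le_normalizer_right _ _ hn] at this
  obtain ⟨w, hw, d, hd, rfl⟩ := this
  exact ⟨w, hw, d, hd, rfl⟩

/-- a double coset of two parabolics has one bi-positive representative -/
theorem biPos_unique (h : Std D A) {K J : Finset ℕ} {n n' p q : GL D.Idx F}
    (hn : n ∈ D.monomialSubgroup F) (hn' : n' ∈ D.monomialSubgroup F) (hb : BiPos h.good K J n)
    (hb' : BiPos h.good K J n') (hp : p ∈ D.parabolicSubgroup F (K : Set ℕ))
    (hq : q ∈ D.parabolicSubgroup F (J : Set ℕ)) (hc : InCell D n' (p * n * q)) :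
    n⁻¹ * n' ∈ D.diagonalSubgroup F := by
  have key : ∃ a ∈ WJ F h.good K, ∃ c ∈ WJ F h.good J, InCell D (a * n * c) (p * n * q) := by
    obtain ⟨c, hcJ, b, hb1, b', hb2, rfl⟩ := mem_parabolic_cell h J hq
    have h0 : InCell D (n * c) (n * (b * c * b')) := by
      have := (inCell_push h hn hb.1 hcJ hb1).right hb2
      rwa [show n * b * c * b' = n * (b * c * b') by group] at this
    rw [mul_assoc p]
    generalize n * (b * c * b') = z at h0 ⊢
    clear hc
    rw [parabolic_eq h.good, ← Subgroup.closure_eq (D.borelSubgroup F), ← Subgroup.closure_union] at hp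
    induction hp using Subgroup.closure_induction_left with
    | one => exact ⟨1, one_mem _, c, hcJ, by rwa [one_mul, one_mul]⟩
    | mul_left x hx y _ ih =>
      obtain ⟨a, ha, c', hc', e⟩ := ih
      rw [mul_assoc x]
      rcases hx with hx | ⟨i, hi, hi', rfl⟩
      · exact ⟨a, ha, c', hc', e.left hx⟩
      · rcases inCell_bn h hi' (mul_mem (mul_mem (WJ_le_monomial _ K ha) hn)
          (WJ_le_monomial _ J hc')) e with h' | h'
        · exact ⟨_, mul_mem (nS_mem_WJ h.good hi hi') ha, c', hc', by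
            simpa only [mul_assoc] using h'⟩
        · exact ⟨a, ha, c', hc', h'⟩
    | inv_mul_cancel x hx y _ ih =>
      obtain ⟨a, ha, c', hc', e⟩ := ih
      rw [mul_assoc x⁻¹]
      rcases hx with hx | ⟨i, hi, hi', rfl⟩
      · exact ⟨a, ha, c', hc', e.left (inv_mem hx)⟩
      · rcases inCell_bn_inv h hi' (mul_mem (mul_mem (WJ_le_monomial _ K ha) hn)
          (WJ_le_monomial _ J hc')) e with h' | h'
        · exact ⟨_, mul_mem (nS_mem_WJ h.good hi hi') ha, c', hc', by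
            simpa only [mul_assoc] using h'⟩
        · exact ⟨a, ha, c', hc', h'⟩
  obtain ⟨a, ha, c, hcJ, hcell⟩ := key
  have haN := WJ_le_monomial h.good K ha
  have hd := inCell_unique h (mul_mem (mul_mem haN hn) (WJ_le_monomial _ J hcJ)) hn' hcell hc
  obtain ⟨a', ha', c₁, hc₁, e, hpos⟩ := WJ_factor h hn hb.1 ha
  have ha'N := WJ_le_monomial h.good K ha'
  obtain ⟨w, hw, d, hdd, ew⟩ := WJ_sup_diag h.good
    (mul_mem (mul_mem hc₁ (Subgroup.mem_sup_left hcJ)) (Subgroup.mem_sup_right hd))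
  have en' : n' = a' * n * w * d := by
    rw [mul_assoc _ w, ← ew, e]
    group
  have hwN := WJ_le_monomial h.good J hw
  have h1 : PosAt h.good J (a' * n * w) := posAt_of_diag h.good hn' (by
    rw [en', show (a' * n * w * d)⁻¹ * (a' * n * w) = d⁻¹ by group]; exact inv_mem hdd) hb'.1
  have hwd := posAt_min h (mul_mem ha'N hn) hpos hw h1
  -- now the left side
  have hd2 : (a' * n)⁻¹ * n' ∈ D.diagonalSubgroup F := by
    rw [en', show (a' * n)⁻¹ * (a' * n * w * d) = w * d by group]; exact mul_mem hwd hdd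
  obtain ⟨z, hz, ez⟩ : ∃ z ∈ D.diagonalSubgroup F, n'⁻¹ = n⁻¹ * a'⁻¹ * z := by
    refine ⟨a' * n * n'⁻¹, ?_, by group⟩
    rw [diagonalSubgroup_eq h.good] at hd2 ⊢
    obtain ⟨t, ht⟩ := hd2
    obtain ⟨t', ht'⟩ := monomial_conj_tor h.good hn' t⁻¹
    refine ⟨t', ?_⟩
    rw [← ht', map_inv, ht]; group
  have h2 : PosAt h.good K (n⁻¹ * a'⁻¹) := posAt_of_diag h.good (inv_mem hn') (by
    rw [ez, show (n⁻¹ * a'⁻¹ * z)⁻¹ * (n⁻¹ * a'⁻¹) = z⁻¹ by group]; exact inv_mem hz) hb'.2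
  have had := inv_mem (posAt_min h (inv_mem hn) hb.2 (inv_mem ha') h2)
  rw [inv_inv] at had
  rw [show n⁻¹ * n' = (n⁻¹ * a' * n) * ((a' * n)⁻¹ * n') by group]
  refine mul_mem ?_ hd2
  rw [diagonalSubgroup_eq h.good] at had ⊢
  obtain ⟨t, rfl⟩ := had
  obtain ⟨t', ht'⟩ := monomial_conj_tor h.good (inv_mem hn) t
  rw [inv_inv] at ht'
  exact ⟨t', ht'.symm⟩

end CfsgLib.Chev
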