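import Cfsg.Agent.Lib.Chev.Parabolic
import Cfsg.Agent.Lib.Chev.ParaCells
import Cfsg.Agent.Lib.Chev.TorusCard

/-!
Intersections of `U` with its conjugates that are centralized by the conjugating element.
-/

set_option autoImplicit false

namespace CfsgLib.Chev

open Cfsg.Lie Matrix

variable {D : ChevalleyDatum} {A : Aux} {F : Type*} [Field F]

/-- conjugation by block triangular matrices keeps the steps -/
theorem tri_conj {w : D.Idx → ℤ} {b : ℤ} {hb : 0 ≤ b} {y z : GL D.Idx F} (hy : y ∈ utG w)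
    (hz : z ∈ triG w b hb) : y * z * y⁻¹ ∈ triG w b hb := by
  have key : ∀ M : GL D.Idx F, Tri w b (M : Matrix D.Idx D.Idx F) →
      Tri w b ((y * M * y⁻¹ : GL D.Idx F) : Matrix D.Idx D.Idx F) := by
    intro M hM u v huv
    have e : ((y * M * y⁻¹ : GL D.Idx F) : Matrix D.Idx D.Idx F) =
        1 + (y : Matrix D.Idx D.Idx F) * ((M : Matrix D.Idx D.Idx F) - 1) *
          ((y⁻¹ : GL D.Idx F) : Matrix D.Idx D.Idx F) := by
      rw [mul_sub, sub_mul, mul_one, ← Units.val_mul, ← Units.val_mul, ← Units.val_mul,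
        mul_inv_cancel, Units.val_one, add_sub_cancel]
    have h0 : ((y : Matrix D.Idx D.Idx F) * ((M : Matrix D.Idx D.Idx F) - 1) *
        ((y⁻¹ : GL D.Idx F) : Matrix D.Idx D.Idx F)) u v = 0 := by
      rw [Matrix.mul_apply]
      refine Finset.sum_eq_zero fun z' _ => ?_
      by_cases h1 : w z' < w v
      · rw [hy.2 z' v h1, mul_zero]
      · rw [Matrix.mul_apply, Finset.sum_eq_zero, zero_mul]
        intro z'' _
        by_cases h2 : w u < w z''
        · rw [hy.1 u z'' h2, zero_mul]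
        · rw [Matrix.sub_apply, hM z'' z' (by omega), Matrix.one_apply, sub_self, mul_zero]
    rw [e, Matrix.add_apply, h0, add_zero, Matrix.one_apply]
  refine ⟨key z hz.1, ?_⟩
  rw [show (y * z * y⁻¹)⁻¹ = y * z⁻¹ * y⁻¹ by group]
  exact key z⁻¹ hz.2

/-- commutators of triangular matrices move deeper -/
theorem tri_comm {w : D.Idx → ℤ} {b : ℤ} {hb : 0 ≤ b} {y z : GL D.Idx F} (hy : y ∈ triG w 0 le_rfl)
    (hz : z ∈ triG w b hb) {u v : D.Idx} (huv : w u ≤ w v + (b + 1)) :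
    ((y * z : GL D.Idx F) : Matrix D.Idx D.Idx F) u v =
      ((z * y : GL D.Idx F) : Matrix D.Idx D.Idx F) u v := by
  have hMN : ∀ {a c : ℤ} {ha : 0 ≤ a} {hc : 0 ≤ c} {M N : GL D.Idx F}, a + c = b → M ∈ triG w a ha →
      N ∈ triG w c hc →
      (((M : Matrix D.Idx D.Idx F) - 1) * ((N : Matrix D.Idx D.Idx F) - 1)) u v = 0 := by
    intro a c ha hc M N hac hM hN
    rw [Matrix.mul_apply]
    refine Finset.sum_eq_zero fun x _ => ?_
    by_cases h1 : w u ≤ w x + a
    · rw [Matrix.sub_apply, hM.1 u x h1, Matrix.one_apply, sub_self, zero_mul]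
    · rw [Matrix.sub_apply (N : Matrix D.Idx D.Idx F), hN.1 x v (by omega), Matrix.one_apply,
        sub_self, mul_zero]
  have h1 := hMN (zero_add b) hy hz
  have h2 := hMN (add_zero b) hz hy
  simp only [sub_mul, mul_sub, one_mul, mul_one, Matrix.sub_apply] at h1 h2
  simp only [Units.val_mul]
  linear_combination h1 - h2

/-- commutators of triangular matrices are one step deeper -/
theorem commutator_mem_triG {w : D.Idx → ℤ} {b : ℤ} {hb : 0 ≤ b} {y z : GL D.Idx F}
    (hy : y ∈ triG w 0 le_rfl) (hz : z ∈ triG w b hb) :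
    y * z * y⁻¹ * z⁻¹ ∈ triG w (b + 1) (by omega) := by
  have key : ∀ {y z : GL D.Idx F}, y ∈ triG w 0 le_rfl → z ∈ triG w 0 le_rfl →
      (∀ {u v}, w u ≤ w v + (b + 1) → ((y * z : GL D.Idx F) : Matrix D.Idx D.Idx F) u v =
        ((z * y : GL D.Idx F) : Matrix D.Idx D.Idx F) u v) →
      Tri w (b + 1) ((y * z * y⁻¹ * z⁻¹ : GL D.Idx F) : Matrix D.Idx D.Idx F) := by
    intro y z hy hz hcomm u v huv
    have e : ((y * z * y⁻¹ * z⁻¹ : GL D.Idx F) : Matrix D.Idx D.Idx F) =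
        1 + (((y * z : GL D.Idx F) : Matrix D.Idx D.Idx F) - ((z * y : GL D.Idx F) : Matrix D.Idx D.Idx F)) *
          ((y⁻¹ * z⁻¹ : GL D.Idx F) : Matrix D.Idx D.Idx F) := by
      rw [sub_mul, ← Units.val_mul, ← Units.val_mul,
        show z * y * (y⁻¹ * z⁻¹) = 1 by group, Units.val_one, add_sub_cancel]
      simp only [mul_assoc]
    rw [e, Matrix.add_apply, Matrix.mul_apply, Finset.sum_eq_zero, add_zero, Matrix.one_apply]
    intro x _
    have hyz := (mul_mem (inv_mem hy) (inv_mem hz) : y⁻¹ * z⁻¹ ∈ triG w 0 le_rfl)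
    by_cases h1 : w u ≤ w x + (b + 1)
    · rw [Matrix.sub_apply, hcomm h1, sub_self, zero_mul]
    · rw [hyz.1 x v (by omega), if_neg (fun e => by subst e; omega), mul_zero]
  have hz0 : z ∈ triG w 0 le_rfl :=
    ⟨fun u v huv => hz.1 u v (by omega), fun u v huv => hz.2 u v (by omega)⟩
  refine ⟨key hy hz0 (tri_comm hy hz), ?_⟩
  rw [show (y * z * y⁻¹ * z⁻¹)⁻¹ = z * y * z⁻¹ * y⁻¹ by group]
  exact key hz0 hy fun huv => (tri_comm hy hz huv).symm

theorem lev_coord {j : ℕ} (hj : j < D.rank) (r : ℕ) :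
    lev D A (fun k => if k = j then 1 else 0) r = A.a r j := by
  simp [lev, hj]

theorem xG_mem_utG_nonneg (g : Good D A) (c : ℕ → ℤ) {r : ℕ} (hr : r < D.nroots) (t : F)
    (h0 : 0 ≤ lev D A c r) : xG g r t ∈ utG (levW D A c) := by
  have key : ∀ t : F, ∀ u v, levW D A c u < levW D A c v → D.x F r t u v = 0 := by
    intro t u v huv
    rw [x_lev_entry g c hr t fun n _ => ?_, if_neg fun e => by subst e; omega]
    have h1 : (0 : ℤ) ≤ (n : ℤ) * lev D A c r := mul_nonneg (by positivity) h0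
    omega
  refine ⟨fun u v huv => ?_, fun u v huv => ?_⟩
  · rw [xG_val]; exact key t u v huv
  · rw [xG_inv, xG_val]; exact key (-t) u v huv

theorem xG_mem_triG_ge (g : Good D A) (c : ℕ → ℤ) {r : ℕ} (hr : r < D.nroots) (t : F) {b : ℤ}
    (hb : 0 ≤ b) (h0 : b < lev D A c r) : xG g r t ∈ triG (levW D A c) b hb := by
  have key : ∀ t : F, Tri (levW D A c) b (D.x F r t) := by
    intro t u v huv
    refine x_lev_entry g c hr t fun n hn => ?_
    have h1 : (1 : ℤ) ≤ n := by exact_mod_cast hn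
    have h2 : lev D A c r ≤ (n : ℤ) * lev D A c r := by nlinarith
    omega
  exact ⟨by rw [xG_val]; exact key t, by rw [xG_inv, xG_val]; exact key (-t)⟩

theorem lev_lt_of_mem_triG (g : Good D A) (c : ℕ → ℤ) {r : ℕ} (hr : r < D.nroots) {t : F}
    (ht : t ≠ 0) {b : ℤ} {hb : 0 ≤ b} (hm : xG g r t ∈ triG (levW D A c) b hb) :
    b < lev D A c r := by
  by_contra hle
  obtain ⟨i, hi⟩ := xG_inj_root.exists_coro_ne_zero (F := F) g hr
  have := hm.1 (Sum.inl i) (Sum.inr ⟨A.neg r, g.neg_lt r hr⟩)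
    (by simp [levW, lev_neg g c hr]; omega)
  rw [xG_val, x_entry g hr, if_neg (by simp)] at this
  exact mul_ne_zero ht hi this

theorem lev_nonneg {c : ℕ → ℤ} (g : Good D A) (hc : ∀ j, 0 ≤ c j) {r : ℕ} (hr : D.IsPosRoot r) :
    0 ≤ lev D A c r :=
  Finset.sum_nonneg fun j _ => mul_nonneg (hc j) ((g.pos_iff r hr.1).1 hr j)

theorem borel_le_utG_lev (g : Good D A) {c : ℕ → ℤ} (hc : ∀ j, 0 ≤ c j) :
    D.borelSubgroup F ≤ utG (levW D A c) := by
  intro y hy
  obtain ⟨u, hu, d, rfl⟩ := (mem_borel_iff g).1 hy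
  refine mul_mem ?_ (tor_mem_utG _ d)
  have h1 : D.posUnipotent F ≤ utG (levW D A c) := by
    rw [posUnipotent_eq g, Subgroup.closure_le]
    rintro z ⟨r, t, hr, rfl⟩
    exact xG_mem_utG_nonneg g c hr.1 t (lev_nonneg g hc hr)
  exact h1 hu

/-- conjugating a root element into another one by `B` keeps the root -/
theorem root_eq_of_borel_conj (g : Good D A) {b : GL D.Idx F} (hb : b ∈ D.borelSubgroup F)
    {r q : ℕ} (hr : D.IsPosRoot r) (hq : D.IsPosRoot q) {t t' : F} (ht : t ≠ 0)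
    (e : b * xG g r t * b⁻¹ = xG g q t') : q = r := by
  have ht' : t' ≠ 0 := by
    rintro rfl
    rw [xG_zero] at e
    have e' : xG g r t = 1 := by
      have := congrArg (fun z => b⁻¹ * z * b) e
      simpa [mul_assoc] using this
    exact g.neg_ne r hr.1 (xG_inj_root g hr.1 (g.neg_lt r hr.1) ht (u := 0)
      (by rw [e', xG_zero])).symm
  have key : ∀ {r q : ℕ} {b : GL D.Idx F}, b ∈ D.borelSubgroup F → D.IsPosRoot r → D.IsPosRoot q →
      ∀ {t t' : F}, t' ≠ 0 → b * xG g r t * b⁻¹ = xG g q t' → ∀ j < D.rank, A.a r j ≤ A.a q j := by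
    intro r q b hb hr hq t t' ht' e j hj
    rcases ((g.pos_iff r hr.1).1 hr j).lt_or_eq with hpos | h0
    swap
    · rw [← h0]; exact (g.pos_iff q hq.1).1 hq j
    set c : ℕ → ℤ := fun k => if k = j then 1 else 0
    have hc : ∀ k, 0 ≤ c k := fun k => by simp only [c]; split_ifs <;> omega
    have h1 : xG g r t ∈ triG (levW D A c) (A.a r j - 1) (by omega) :=
      xG_mem_triG_ge g c hr.1 t _ (by rw [lev_coord hj]; omega)
    have h2 := tri_conj (borel_le_utG_lev g hc hb) h1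
    rw [e] at h2
    have := lev_lt_of_mem_triG g c hq.1 ht' h2
    rw [lev_coord hj] at this
    omega
  refine g.a_inj q hq.1 r hr.1 fun j hj => le_antisymm ?_ (key hb hr hq ht' e j hj)
  refine key (t := t') (t' := t) (inv_mem hb) hq hr ht ?_ j hj
  rw [← e]; group

/-- the positive roots in the span of `J` -/
noncomputable def UJ (g : Good D A) (J : Set ℕ) : Subgroup (GL D.Idx F) :=
  UP F g (fun r => D.IsPosRoot r ∧ InJ D A J r)

theorem UJ_le (g : Good D A) (J : Set ℕ) : (UJ g J : Subgroup (GL D.Idx F)) ≤ D.posUnipotent F :=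
  UP_le fun _ t hr => xG_mem_posUnipotent g hr.1 t

theorem UJ_empty (g : Good D A) {J : Set ℕ} (hJ : ∀ j < D.rank, j ∉ J) :
    (UJ g J : Subgroup (GL D.Idx F)) = ⊥ := by
  rw [eq_bot_iff]
  refine UP_le fun r t ⟨hr, hi⟩ => ?_
  exfalso
  exact g.neg_ne r hr.1 (g.a_inj _ (g.neg_lt r hr.1) r hr.1 fun j hj => by
    rw [g.a_neg r hr.1, hi.2 j hj (hJ j hj), neg_zero])

theorem UJ_full (g : Good D A) {J : Set ℕ} (hJ : ∀ j < D.rank, j ∈ J) :
    (UJ g J : Subgroup (GL D.Idx F)) = D.posUnipotent F := by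
  refine le_antisymm (UJ_le g J) ?_
  rw [posUnipotent_eq g, Subgroup.closure_le]
  rintro z ⟨r, t, hr, rfl⟩
  exact xG_mem_UP g ⟨hr, hr.1, fun j hj hn => absurd (hJ j hj) hn⟩ t

/-- a root element in a `B`-conjugate of `U_J` lies in the span of `J` -/
theorem inJ_of_mem_conj (g : Good D A) {J : Set ℕ} {b : GL D.Idx F} (hb : b ∈ D.borelSubgroup F)
    {r : ℕ} (hr : D.IsPosRoot r) {t : F} (ht : t ≠ 0)
    (hm : b⁻¹ * xG g r t * b ∈ UJ g J) : InJ D A J r := by
  refine ⟨hr.1, fun j hj hJ => le_antisymm ?_ ((g.pos_iff r hr.1).1 hr j)⟩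
  by_contra hlt
  set c : ℕ → ℤ := fun k => if k = j then 1 else 0
  have hc : ∀ k, 0 ≤ c k := fun k => by simp only [c]; split_ifs <;> omega
  have h1 : xG g r t ∈ triG (levW D A c) 0 le_rfl :=
    xG_mem_triG_ge g c hr.1 t _ (by rw [lev_coord hj]; omega)
  have h2 := tri_conj (borel_le_utG_lev g hc (inv_mem hb)) h1
  rw [inv_inv] at h2
  have h3 : b⁻¹ * xG g r t * b ∈ utG (fun x => -levW D A c x) := by
    have h4 : (UJ g J : Subgroup (GL D.Idx F)) ≤ utG (fun x => -levW D A c x) :=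
      UP_le fun q s hq => xG_mem_utG_lev g c hq.1.1 s (by rw [lev_coord hj]; exact hq.2.2 j hj hJ)
    exact h4 hm
  have h5 := utG_inf_triG _ h3 (by simpa only [neg_neg] using h2)
  have h6 : xG g r t = 1 := by
    have := congrArg (fun z => b * z * b⁻¹) h5
    simpa [mul_assoc] using this
  exact g.neg_ne r hr.1 (xG_inj_root g hr.1 (g.neg_lt r hr.1) ht (u := 0)
    (by rw [h6, xG_zero])).symm

theorem inv_conj_pos (g : Good D A) {n : GL D.Idx F} {σ : ℕ → ℕ} (hσ : Acts g n⁻¹ σ) {r : ℕ}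
    (hr : D.IsPosRoot r) (t : F) : ∃ k, k ≠ 0 ∧ n⁻¹ * xG g r t * n = xG g (σ r) (k * t) := by
  obtain ⟨k, hk, e⟩ := hσ.conj r hr.1
  exact ⟨k, hk, by rw [← e t, inv_inv]⟩

/-- the intersection with a conjugate -/
theorem inter_conj (h : Std D A) {n : GL D.Idx F} {σ : ℕ → ℕ} (hσ : Acts h.good n⁻¹ σ)
    {y : GL D.Idx F} (hy : y ∈ D.posUnipotent F) (hy' : n⁻¹ * y * n ∈ D.posUnipotent F) :
    y ∈ UP F h.good (fun r => D.IsPosRoot r ∧ D.IsPosRoot (σ r)) := by
  have g := h.good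
  have hyL : ∃ a ∈ UP F g (fun r => D.IsPosRoot r ∧ D.IsPosRoot (σ r)),
      ∃ b ∈ UP F g (toNeg D σ), y = a * b := by
    exact pos_split h σ hσ.map.1 upList_posRoots (by rw [UL_posRoots g]; exact hy)
  obtain ⟨a, ha, b, hb, rfl⟩ := hyL
  suffices b = 1 by rw [this, mul_one]; exact ha
  have hbV : n⁻¹ * b * n ∈ D.negUnipotent F := by
    have := conj_UP_le hσ (fun r hr => hr.1.1)
      (fun r t hr => xG_mem_negUnipotent g hr.2 t) hb
    rwa [inv_inv] at this
  have haU : n⁻¹ * a * n ∈ D.posUnipotent F := by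
    have := conj_UP_le hσ (fun r hr => hr.1.1)
      (fun r t hr => xG_mem_posUnipotent g hr.2 t) ha
    rwa [inv_inv] at this
  have hbU : n⁻¹ * b * n ∈ D.posUnipotent F := by
    have := mul_mem (inv_mem haU) hy'
    simpa [mul_assoc] using this
  have h1 := Subgroup.mem_bot.1 ((borel_inf_negUnipotent h).le
    (Subgroup.mem_inf.2 ⟨(le_sup_left : D.posUnipotent F ≤ D.borelSubgroup F) hbU, hbV⟩))
  have := congrArg (fun z => n * z * n⁻¹) h1
  simpa [mul_assoc] using this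

/-- **the intersection of `U` with a conjugate by a centralizing element is a parabolic part** -/
theorem exists_UJ_of_inter (h : Std D A) {S : Subgroup (GL D.Idx F)} {y : GL D.Idx F}
    (hy : y ∈ D.group F) (hS : ∀ z, z ∈ S ↔ z ∈ D.posUnipotent F ∧ y⁻¹ * z * y ∈ D.posUnipotent F)
    (hc : ∀ z ∈ S, y * z = z * y) :
    ∃ b ∈ D.borelSubgroup F, ∃ J : Set ℕ, ∀ z, z ∈ S ↔ b⁻¹ * z * b ∈ UJ h.good J := by
  have g := h.good
  have hBU : ∀ b ∈ D.borelSubgroup F, ∀ z, z ∈ D.posUnipotent F →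
      b * z * b⁻¹ ∈ D.posUnipotent F := by
    intro b hb z hz
    obtain ⟨u, hu, c, rfl⟩ := (mem_borel_iff g).1 hb
    have := mul_mem (mul_mem hu (tor_conj_posUnipotent g c hz)) (inv_mem hu)
    simpa [mul_assoc] using this
  obtain ⟨b, hb, n, hn, b', hb', rfl⟩ := bruhat h hy
  obtain ⟨σ, hσ⟩ := exists_acts g (inv_mem hn)
  -- conjugated by `b`, the intersection is that of a monomial element
  have hS' : ∀ z, b * z * b⁻¹ ∈ S ↔ z ∈ D.posUnipotent F ∧ n⁻¹ * z * n ∈ D.posUnipotent F := by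
    intro z
    rw [hS]
    refine and_congr ⟨fun h1 => ?_, hBU b hb z⟩ ⟨fun h1 => ?_, fun h1 => ?_⟩
    · have := hBU _ (inv_mem hb) _ h1
      simpa [mul_assoc] using this
    · have := hBU _ hb' _ h1
      simpa [mul_assoc] using this
    · have := hBU _ (inv_mem hb') _ h1
      simpa [mul_assoc] using this
  have hfix : ∀ r, D.IsPosRoot r → D.IsPosRoot (σ r) → σ r = r := by
    intro r hr hσr
    obtain ⟨k, hk, e⟩ := inv_conj_pos g hσ hr (1 : F)
    have hz : b * xG g r 1 * b⁻¹ ∈ S := (hS' _).2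
      ⟨xG_mem_posUnipotent g hr 1, e ▸ xG_mem_posUnipotent g hσr _⟩
    refine root_eq_of_borel_conj g (mul_mem hb' hb) hr hσr one_ne_zero (t' := k * 1) ?_
    rw [← e]
    have h1 := congrArg (fun w => n⁻¹ * b⁻¹ * w * b) (hc _ hz)
    have h2 : b' * (b * xG g r 1 * b⁻¹) * b = n⁻¹ * (xG g r 1 * n) * (b' * b) := by
      simpa [mul_assoc] using h1
    rw [show b' * b * xG g r 1 * (b' * b)⁻¹ = b' * (b * xG g r 1 * b⁻¹) * b * (b' * b)⁻¹ by group, h2]
    group
  refine ⟨b, hb, {j | σ (D.simple j) = D.simple j}, fun z => ?_⟩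
  set J : Set ℕ := {j | σ (D.simple j) = D.simple j}
  have hkey : ∀ r, (D.IsPosRoot r ∧ D.IsPosRoot (σ r)) ↔ (D.IsPosRoot r ∧ InJ D A J r) := by
    intro r
    refine and_congr_right fun hr => ⟨fun hσr => ⟨hr.1, fun j hj hJ => ?_⟩, fun hi => ?_⟩
    · have h1 := simple_eq_sum g hσ.map hr.1 j hj
      rw [hfix r hr hσr] at h1
      refine le_antisymm (h1 ▸ Finset.sum_nonpos fun k hk => ?_) ((g.pos_iff r hr.1).1 hr j)
      have hk := Finset.mem_range.1 hk
      refine mul_nonpos_of_nonneg_of_nonpos ((g.pos_iff r hr.1).1 hr k) ?_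
      have hsk := g.simple_lt k hk
      by_cases hkJ : k ∈ J
      · rw [show σ (D.simple k) = D.simple k from hkJ, g.a_simple k hk j hj,
          if_neg fun e => hJ (by subst e; exact hkJ)]
      · have hl := hσ.map.1 _ hsk
        exact (g.negRoot_iff _ hl).1 (isNeg_of_not_pos g hl fun hp =>
          hkJ (hfix _ (simple_pos g hk) hp)) j
    · have : σ r = r := g.a_inj _ (hσ.map.1 r hr.1) r hr.1 fun j hj => by
        rw [simple_eq_sum g hσ.map hr.1 j hj, Finset.sum_eq_single j]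
        · by_cases hjJ : j ∈ J
          · rw [show σ (D.simple j) = D.simple j from hjJ, g.a_simple j hj j hj, if_pos rfl, mul_one]
          · rw [hi.2 j hj hjJ, zero_mul]
        · intro k hk hkj
          by_cases hkJ : k ∈ J
          · rw [show σ (D.simple k) = D.simple k from hkJ,
              g.a_simple k (Finset.mem_range.1 hk) j hj, if_neg (Ne.symm hkj), mul_zero]
          · rw [hi.2 k (Finset.mem_range.1 hk) hkJ, zero_mul]
        · intro hh; exact absurd (Finset.mem_range.2 hj) hh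
      rwa [this]
  have hmem := hS' (b⁻¹ * z * b)
  rw [show b * (b⁻¹ * z * b) * b⁻¹ = z by group] at hmem
  rw [hmem, UJ, ← UP_congr g hkey]
  refine ⟨fun ⟨h1, h2⟩ => inter_conj h hσ h1 h2, fun h1 => ⟨?_, ?_⟩⟩
  · have h0 : UP F g (fun r => D.IsPosRoot r ∧ D.IsPosRoot (σ r)) ≤ D.posUnipotent F :=
      UP_le fun r t hr => xG_mem_posUnipotent g hr.1 t
    exact h0 h1
  · have := conj_UP_le hσ (fun r hr => hr.1.1)
      (fun r t hr => xG_mem_posUnipotent g hr.2 t) h1
    rwa [inv_inv] at this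

/-- full support -/
def Full (D : ChevalleyDatum) (A : Aux) (r : ℕ) : Prop := ∀ j < D.rank, 0 < A.a r j

/-- positive roots without full support can be raised -/
noncomputable def fullCheck (D : ChevalleyDatum) (A : Aux) : Bool :=
  (List.range D.nroots).all fun r =>
    ((List.range D.rank).any fun j => decide (A.a r j < 0)) ||
    ((List.range D.rank).all fun j => decide (0 < A.a r j)) ||
    (List.range D.rank).any fun i => decide (A.cart i r < 0)

/-- every positive root is carried to one of full support -/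
theorem exists_full (g : Good D A) (hf : fullCheck D A = true) {r : ℕ} (hr : D.IsPosRoot r) :
    ∃ n ∈ D.monomialSubgroup F, ∃ σ, Acts g n σ ∧ D.IsPosRoot (σ r) ∧ Full D A (σ r) := by
  classical
  set S := (Finset.range D.nroots).filter fun s =>
    ∃ n ∈ D.monomialSubgroup F, ∃ σ, Acts g (F := F) n σ ∧ σ r = s
  have hne : S.Nonempty := ⟨r, Finset.mem_filter.2 ⟨Finset.mem_range.2 hr.1, 1, one_mem _, id,
    by simpa using acts_tor (F := F) g 1, rfl⟩⟩
  have hrS : r ∈ S := Finset.mem_filter.2 ⟨Finset.mem_range.2 hr.1, 1, one_mem _, id,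
    by simpa using acts_tor (F := F) g 1, rfl⟩
  obtain ⟨s, hs, hmax⟩ := Finset.exists_max_image S (htR D A) hne
  obtain ⟨hs', n, hn, σ, hσ, rfl⟩ := Finset.mem_filter.1 hs
  have hlt := Finset.mem_range.1 hs'
  have hpos : D.IsPosRoot (σ r) := by
    by_contra hnp
    have hneg := (g.negRoot_iff _ hlt).1 (isNeg_of_not_pos g hlt hnp)
    have h1 : htR D A r ≤ htR D A (σ r) := hmax r hrS
    have h2 : htR D A (σ r) ≤ 0 := Finset.sum_nonpos fun j _ => hneg j
    have h3 : 0 < htR D A r := by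
      refine lt_of_le_of_ne (Finset.sum_nonneg fun j _ => (g.pos_iff r hr.1).1 hr j) fun e => ?_
      refine g.neg_ne r hr.1 (g.a_inj _ (g.neg_lt r hr.1) r hr.1 fun j hj => ?_)
      rw [g.a_neg r hr.1, (Finset.sum_eq_zero_iff_of_nonneg
        fun j _ => (g.pos_iff r hr.1).1 hr j).1 e.symm j (Finset.mem_range.2 hj), neg_zero]
    omega
  refine ⟨n, hn, σ, hσ, hpos, ?_⟩
  simp only [fullCheck, List.all_eq_true, List.any_eq_true, List.mem_range, Bool.or_eq_true,
    decide_eq_true_eq] at hf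
  rcases hf (σ r) hlt with (⟨j, hj, h1⟩ | h1) | ⟨i, hi, h1⟩
  · exact absurd ((g.pos_iff _ hlt).1 hpos j) (not_le.2 h1)
  · exact h1
  · exfalso
    have h2 : A.refl i (σ r) ∈ S := Finset.mem_filter.2 ⟨Finset.mem_range.2 (g.refl_lt i hi _ hlt),
      nS F g i * n, mul_mem (nS_mem_monomial g hi) hn, A.refl i ∘ σ, (acts_nS g hi).mul hσ, rfl⟩
    have h3 := hmax _ h2
    have h4 : htR D A (A.refl i (σ r)) = htR D A (σ r) - A.cart i (σ r) := by
      simp only [htR]
      rw [Finset.sum_congr rfl fun j hj => g.a_refl i hi _ hlt j (Finset.mem_range.1 hj),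
        Finset.sum_sub_distrib, Finset.sum_ite_eq', if_pos (Finset.mem_range.2 hi)]
    omega

/-- `U_J` is moved into `U` with a root of full support -/
theorem exists_full_move (g : Good D A) (hf : fullCheck D A = true) {J : Set ℕ} {j : ℕ}
    (hj : j < D.rank) (hjJ : j ∈ J) :
    ∃ n ∈ D.monomialSubgroup F, (∀ z ∈ UJ g J, n * z * n⁻¹ ∈ D.posUnipotent F) ∧
      ∃ h : ℕ, D.IsPosRoot h ∧ Full D A h ∧ ∃ t : F, t ≠ 0 ∧ n⁻¹ * xG g h t * n ∈ UJ g J := by
  classical
  let cnt : (ℕ → ℕ) → ℕ := fun τ => ((Finset.range D.nroots).filter fun r =>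
    D.IsPosRoot r ∧ InJ D A J r ∧ ¬ D.IsPosRoot (τ r)).card
  let P : ℕ → Prop := fun m => ∃ n ∈ D.monomialSubgroup F, ∃ τ, Acts g (F := F) n τ ∧
    (∃ r, InJ D A J r ∧ D.IsPosRoot (τ r) ∧ Full D A (τ r)) ∧ cnt τ = m
  have hsJ : InJ D A J (D.simple j) := ⟨g.simple_lt j hj, fun l hl hlJ => by
    rw [g.a_simple j hj l hl, if_neg fun e => hlJ (by subst e; exact hjJ)]⟩
  obtain ⟨n₀, hn₀, σ₀, hσ₀, h1, h2⟩ := exists_full (F := F) g hf (simple_pos g hj)
  have hP : ∃ m, P m := ⟨_, n₀, hn₀, σ₀, hσ₀, ⟨_, hsJ, h1, h2⟩, rfl⟩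
  obtain ⟨n, hn, τ, hτ, ⟨r, hrJ, hpos, hfull⟩, hm⟩ := Nat.find_spec hP
  have hall : ∀ k < D.rank, k ∈ J → D.IsPosRoot (τ (D.simple k)) := by
    intro k hk hkJ
    by_contra hneg
    have hsk := simple_pos g hk
    have hrefl : ∀ s, InJ D A J s → InJ D A J (A.refl k s) := fun s hs =>
      ⟨g.refl_lt k hk s hs.1, fun l hl hlJ => by
        rw [g.a_refl k hk s hs.1 l hl, hs.2 l hl hlJ, if_neg fun e => hlJ (by subst e; exact hkJ),
          sub_zero]⟩
    have hskJ : InJ D A J (D.simple k) := ⟨hsk.1, fun l hl hlJ => by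
      rw [g.a_simple k hk l hl, if_neg fun e => hlJ (by subst e; exact hkJ)]⟩
    refine Nat.find_min hP (m := cnt (τ ∘ A.refl k)) ?_ ⟨n * nS F g k, mul_mem hn (nS_mem_monomial g hk),
      τ ∘ A.refl k, hτ.mul (acts_nS g hk), ⟨A.refl k r, hrefl r hrJ, ?_, ?_⟩, rfl⟩
    · rw [← hm]
      simp only [cnt]
      set S₀ := (Finset.range D.nroots).filter fun r =>
        D.IsPosRoot r ∧ InJ D A J r ∧ ¬ D.IsPosRoot (τ r) with hS₀
      have hmemS : D.simple k ∈ S₀ :=
        Finset.mem_filter.2 ⟨Finset.mem_range.2 hsk.1, hsk, hskJ, hneg⟩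
      refine lt_of_le_of_lt ?_ (Finset.card_erase_lt_of_mem hmemS)
      refine Finset.card_le_card_of_injOn (A.refl k) ?_ ?_
      · intro s hs
        simp only [Finset.coe_filter, Finset.mem_range, Set.mem_setOf_eq, Function.comp_apply] at hs
        obtain ⟨hslt, hsp, hsJ', hsn⟩ := hs
        have hne : s ≠ D.simple k := by
          rintro rfl
          rw [refl_simple g hk, hτ.map.map_neg g hsk.1] at hsn
          have hl := hτ.map.1 _ hsk.1
          refine hsn ((g.pos_iff _ (g.neg_lt _ hl)).2 fun l => ?_)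
          rw [g.a_neg _ hl]
          linarith [(g.negRoot_iff _ hl).1 (isNeg_of_not_pos g hl hneg) l]
        obtain ⟨h3, h4⟩ := refl_pos g hk hsp hne
        exact Finset.mem_coe.2 (Finset.mem_erase.2 ⟨h4, Finset.mem_filter.2
          ⟨Finset.mem_range.2 h3.1, h3, hrefl s hsJ', hsn⟩⟩)
      · intro s hs s' hs' e
        simp only [Finset.coe_filter, Finset.mem_range, Set.mem_setOf_eq] at hs hs'
        exact refl_inj g hk hs.1 hs'.1 e
    · rwa [Function.comp_apply, g.refl_refl k hk r hrJ.1]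
    · rwa [Function.comp_apply, g.refl_refl k hk r hrJ.1]
  have hposJ : ∀ s, D.IsPosRoot s → InJ D A J s → D.IsPosRoot (τ s) := by
    intro s hs hsJ'
    refine (g.pos_iff _ (hτ.map.1 s hs.1)).2 fun l => ?_
    by_cases hl : l < D.rank
    · rw [simple_eq_sum g hτ.map hs.1 l hl]
      refine Finset.sum_nonneg fun k hk => ?_
      have hk := Finset.mem_range.1 hk
      by_cases hkJ : k ∈ J
      · have hp := hall k hk hkJ
        exact mul_nonneg ((g.pos_iff s hs.1).1 hs k) ((g.pos_iff _ hp.1).1 hp l)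
      · rw [hsJ'.2 k hk hkJ, zero_mul]
    · rw [g.a_zero _ (hτ.map.1 s hs.1) l (not_lt.1 hl)]
  refine ⟨n, hn, fun z hz => conj_UP_le hτ (fun s hs => hs.1.1)
    (fun s t hs => xG_mem_posUnipotent g (hposJ s hs.1 hs.2) t) hz, τ r, hpos, hfull, ?_⟩
  have hrpos : D.IsPosRoot r := by
    by_contra hnp
    have hneg := (g.negRoot_iff r hrJ.1).1 (isNeg_of_not_pos g hrJ.1 hnp)
    have hr' : D.IsPosRoot (A.neg r) := (g.pos_iff _ (g.neg_lt r hrJ.1)).2 fun l => by
      rw [g.a_neg r hrJ.1]; linarith [hneg l]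
    have h3 := hposJ _ hr' ⟨g.neg_lt r hrJ.1, fun l hl hlJ => by
      rw [g.a_neg r hrJ.1, hrJ.2 l hl hlJ, neg_zero]⟩
    rw [hτ.map.map_neg g hrJ.1] at h3
    have h4 := (g.pos_iff _ h3.1).1 h3 j
    rw [g.a_neg _ hpos.1] at h4
    linarith [hfull j hj]
  obtain ⟨k, hk, e⟩ := hτ.conj r hrJ.1
  refine ⟨k, hk, ?_⟩
  rw [← mul_one k, ← e 1, show n⁻¹ * (n * xG g r 1 * n⁻¹) * n = xG g r 1 by group]
  exact xG_mem_UP g ⟨hrpos, hrJ⟩ 1

end CfsgLib.Chev
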