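/-
Real gradings of the adjoint module: the subgroups of `U` cut out by a real linear form on the roots.
-/
import Cfsg.Agent.Lib.Chev.DefectRoots
import Mathlib

set_option autoImplicit false

namespace CfsgLib.Chev.Grade

open Cfsg.Lie Matrix

variable {D : ChevalleyDatum} {A : Aux} {F : Type*} [Field F]

variable (D A) in
/-- the value of a real linear form at a root -/
noncomputable def evR (r : ℕ) (y : Fin D.rank → ℝ) : ℝ := ∑ j : Fin D.rank, (A.a r j : ℝ) * y j

variable (D A) in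
/-- the weight of a coordinate for a real linear form -/
noncomputable def wR (y : Fin D.rank → ℝ) : D.Idx → ℝ
  | Sum.inl _ => 0
  | Sum.inr s => evR D A s.val y

variable (A) in
/-- the matrix raises the weight by at least `δ` -/
def Lo (y : Fin D.rank → ℝ) (δ : ℝ) (M : Matrix D.Idx D.Idx F) : Prop :=
  ∀ u v, M u v ≠ 0 → wR D A y v + δ ≤ wR D A y u

variable (A) in
/-- unipotent of level one for `y` -/
def T1 (y : Fin D.rank → ℝ) (z : GL D.Idx F) : Prop := Lo A y 1 ((z : Matrix D.Idx D.Idx F) - 1)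

theorem evR_simple (g : Good D A) {i : ℕ} (hi : i < D.rank) (y : Fin D.rank → ℝ) :
    evR D A (D.simple i) y = y ⟨i, hi⟩ := by
  rw [evR, Finset.sum_eq_single ⟨i, hi⟩]
  · simp [g.a_simple i hi i hi]
  · intro j _ hj
    rw [g.a_simple i hi j.val j.isLt, if_neg fun e : j.val = i => hj (Fin.ext e)]
    simp
  · simp

theorem evR_neg (g : Good D A) {r : ℕ} (hr : r < D.nroots) (y : Fin D.rank → ℝ) :
    evR D A (A.neg r) y = - evR D A r y := by
  simp [evR, g.a_neg r hr, ← Finset.sum_neg_distrib]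

theorem evR_nonneg (g : Good D A) {y : Fin D.rank → ℝ} (hy : ∀ j, 0 ≤ y j) {r : ℕ}
    (hr : D.IsPosRoot r) : 0 ≤ evR D A r y :=
  Finset.sum_nonneg fun j _ => mul_nonneg (by exact_mod_cast (g.pos_iff r hr.1).1 hr j) (hy j)

theorem evR_nonpos (g : Good D A) {y : Fin D.rank → ℝ} (hy : ∀ j, 0 ≤ y j) {r : ℕ}
    (hr : r < D.nroots) (hn : ¬ D.IsPosRoot r) : evR D A r y ≤ 0 := by
  refine Finset.sum_nonpos fun j _ => mul_nonpos_of_nonpos_of_nonneg ?_ (hy j)
  exact_mod_cast (g.negRoot_iff r hr).1 (isNeg_of_not_pos g hr hn) j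

theorem levW_coord (g : Good D A) (y : Fin D.rank → ℝ) (u : D.Idx) :
    wR D A y u = ∑ j : Fin D.rank, (levW D A (fun k => if k = j.val then 1 else 0) u : ℝ) * y j := by
  rcases u with i | s
  · simp [wR, levW]
  · simp only [wR, levW, evR]
    exact Finset.sum_congr rfl fun j _ => by rw [lev_coord j.isLt]

/-- an entry of a root element moves the weight by a positive multiple of the root -/
theorem x_entry_step (g : Good D A) {r : ℕ} (hr : r < D.nroots) (t : F) {u v : D.Idx}
    (hne : D.x F r t u v ≠ (1 : Matrix D.Idx D.Idx F) u v) :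
    ∃ n : ℕ, 1 ≤ n ∧ ∀ y, wR D A y u = wR D A y v + n * evR D A r y := by
  have h' := congrFun (x_mulVec (F := F) g hr t (idx D v)) u
  rw [mulVec_ev] at h'
  by_contra hcon
  refine hne (h'.trans ?_)
  rw [Pi.add_apply, tval_apply, List.sum_eq_zero, add_zero]
  · by_cases e : u = v
    · subst e; simp [ev]
    · have e2 : idx D u ≠ idx D v := fun e' => e (idx_inj e')
      simp [ev, e, e2]
  · intro w hw
    obtain ⟨q, hq, rfl⟩ := List.mem_map.1 hw
    rw [if_neg]
    intro e
    refine hcon ⟨q.2.2, (col_lev g (fun _ => 0) hr hq).2, fun y => ?_⟩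
    rw [levW_coord g, levW_coord g, evR, Finset.mul_sum, ← Finset.sum_add_distrib]
    refine Finset.sum_congr rfl fun j _ => ?_
    obtain ⟨h1, -⟩ := col_lev g (fun k => if k = j.val then 1 else 0) hr hq
    rw [← e, levN_idx, levN_idx, lev_coord j.isLt] at h1
    rw [h1]; push_cast; ring

theorem lo_mul {y : Fin D.rank → ℝ} {δ ε : ℝ} {M N : Matrix D.Idx D.Idx F} (hM : Lo A y δ M)
    (hN : Lo A y ε N) : Lo A y (δ + ε) (M * N) := by
  intro u v h
  rw [Matrix.mul_apply] at h
  obtain ⟨k, -, hk⟩ := Finset.exists_ne_zero_of_sum_ne_zero h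
  have h1 := hM u k (left_ne_zero_of_mul hk)
  have h2 := hN k v (right_ne_zero_of_mul hk)
  linarith

theorem lo_one (y : Fin D.rank → ℝ) : Lo A y 0 (1 : Matrix D.Idx D.Idx F) := by
  intro u v h
  by_cases e : u = v
  · subst e; simp
  · exact absurd (Matrix.one_apply_ne e) h

theorem T1_one (y : Fin D.rank → ℝ) : T1 A y (1 : GL D.Idx F) := by
  intro u v h
  simp at h

theorem T1_mul {y : Fin D.rank → ℝ} {z w : GL D.Idx F} (hz : T1 A y z) (hw : T1 A y w) :
    T1 A y (z * w) := by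
  intro u v h
  have e : ((z * w : GL D.Idx F) : Matrix D.Idx D.Idx F) - 1 =
      ((z : Matrix D.Idx D.Idx F) - 1) + ((w : Matrix D.Idx D.Idx F) - 1) +
        ((z : Matrix D.Idx D.Idx F) - 1) * ((w : Matrix D.Idx D.Idx F) - 1) := by
    rw [Units.val_mul]; noncomm_ring
  rw [e, Matrix.add_apply, Matrix.add_apply] at h
  by_cases h1 : ((z : Matrix D.Idx D.Idx F) - 1) u v ≠ 0
  · exact hz u v h1
  by_cases h2 : ((w : Matrix D.Idx D.Idx F) - 1) u v ≠ 0
  · exact hw u v h2
  rw [not_not.1 h1, not_not.1 h2, zero_add, zero_add] at h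
  have := lo_mul hz hw u v h
  linarith

theorem xG_T1 (g : Good D A) {y : Fin D.rank → ℝ} {r : ℕ} (hr : r < D.nroots) (t : F)
    (h : 1 ≤ evR D A r y) : T1 A y (xG g r t) := by
  intro u v hne
  rw [Matrix.sub_apply, xG_val, sub_ne_zero] at hne
  obtain ⟨n, hn, e⟩ := x_entry_step g hr t hne
  have h1 : (1 : ℝ) ≤ n := by exact_mod_cast hn
  have h2 : (1 : ℝ) ≤ n * evR D A r y := one_le_mul_of_one_le_of_one_le h1 h
  rw [e y]; linarith

theorem T1_of_mem_UP (g : Good D A) {y : Fin D.rank → ℝ} {P : ℕ → Prop}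
    (hP : ∀ r, P r → r < D.nroots ∧ 1 ≤ evR D A r y) {z : GL D.Idx F} (hz : z ∈ UP F g P) :
    T1 A y z := by
  induction hz using Subgroup.closure_induction_left with
  | one => exact T1_one y
  | mul_left a ha b _ ih =>
    obtain ⟨r, t, hr, rfl⟩ := ha
    exact T1_mul (xG_T1 g (hP r hr).1 t (hP r hr).2) ih
  | inv_mul_cancel a ha b _ ih =>
    obtain ⟨r, t, hr, rfl⟩ := ha
    rw [xG_inv]
    exact T1_mul (xG_T1 g (hP r hr).1 (-t) (hP r hr).2) ih

theorem borel_lo (g : Good D A) {y : Fin D.rank → ℝ} (hy : ∀ j, 0 ≤ y j) {b : GL D.Idx F}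
    (hb : b ∈ D.borelSubgroup F) : Lo A y 0 (b : Matrix D.Idx D.Idx F) := by
  obtain ⟨u, hu, c, rfl⟩ := (mem_borel_iff g).1 hb
  have hx : ∀ r, D.IsPosRoot r → ∀ t : F, Lo A y 0 (xG g r t : Matrix D.Idx D.Idx F) := by
    intro r hr t i k hne
    by_cases e : i = k
    · subst e; simp
    rw [xG_val] at hne
    obtain ⟨n, -, he⟩ := x_entry_step g hr.1 t (u := i) (v := k) (by rwa [Matrix.one_apply_ne e])
    have : (0 : ℝ) ≤ n * evR D A r y := mul_nonneg (Nat.cast_nonneg n) (evR_nonneg g hy hr)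
    rw [he y]; linarith
  have hU : Lo A y 0 (u : Matrix D.Idx D.Idx F) := by
    rw [posUnipotent_eq g] at hu
    clear hb
    induction hu using Subgroup.closure_induction_left with
    | one => simpa using lo_one y
    | mul_left a ha b _ ih =>
      obtain ⟨r, t, hr, rfl⟩ := ha
      simpa using lo_mul (hx r hr t) ih
    | inv_mul_cancel a ha b _ ih =>
      obtain ⟨r, t, hr, rfl⟩ := ha
      rw [xG_inv]
      simpa using lo_mul (hx r hr (-t)) ih
  have hT : Lo A y 0 ((tor D A c : GL D.Idx F) : Matrix D.Idx D.Idx F) := by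
    intro i k hne
    by_cases e : i = k
    · subst e; simp
    · exact absurd (by rw [tor_val, dia, Matrix.diagonal_apply_ne _ e]) hne
  simpa using lo_mul hU hT

/-- `B` keeps the level for a dominant form -/
theorem T1_conj (g : Good D A) {y : Fin D.rank → ℝ} (hy : ∀ j, 0 ≤ y j) {b z : GL D.Idx F}
    (hb : b ∈ D.borelSubgroup F) (hz : T1 A y z) : T1 A y (b * z * b⁻¹) := by
  have e : ((b * z * b⁻¹ : GL D.Idx F) : Matrix D.Idx D.Idx F) - 1 =
      (b : Matrix D.Idx D.Idx F) * ((z : Matrix D.Idx D.Idx F) - 1) *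
        ((b⁻¹ : GL D.Idx F) : Matrix D.Idx D.Idx F) := by
    rw [mul_sub, sub_mul, mul_one, ← Units.val_mul, ← Units.val_mul, ← Units.val_mul,
      mul_inv_cancel, Units.val_one]
  intro u v h
  rw [e] at h
  have := lo_mul (lo_mul (borel_lo g hy hb) hz) (borel_lo g hy (inv_mem hb)) u v h
  linarith

theorem conj_posUnipotent (g : Good D A) {b z : GL D.Idx F} (hb : b ∈ D.borelSubgroup F)
    (hz : z ∈ D.posUnipotent F) : b * z * b⁻¹ ∈ D.posUnipotent F := by
  obtain ⟨u, hu, c, rfl⟩ := (mem_borel_iff g).1 hb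
  have := mul_mem (mul_mem hu (tor_conj_posUnipotent g c hz)) (inv_mem hu)
  simpa [mul_assoc] using this

/-- the subgroup of `U` of level one for two forms is generated by root elements -/
theorem mem_UP_of_T1_UL (h : Std D A) (x y : Fin D.rank → ℝ) : ∀ {L : List ℕ}, UpList D L →
    ∀ {z : GL D.Idx F}, z ∈ UL F h.good L → T1 A x z → T1 A y z →
      z ∈ UP F h.good (fun r => D.IsPosRoot r ∧ 1 ≤ evR D A r x ∧ 1 ≤ evR D A r y)
  | [], _, z, hz, _, _ => by
    rw [UL_nil, Subgroup.mem_bot] at hz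
    rw [hz]; exact one_mem _
  | a :: L, hL, z, hz, hzx, hzy => by
    have g := h.good
    obtain ⟨T, rfl⟩ := exists_pw h hL hz
    have ha := hL.pos a List.mem_cons_self
    have hpw : pw g (a :: L) T = xG g a (T a) * pw g L T := by simp [pw]
    have hrest := pw_mem_UL (F := F) g L T
    by_cases ht : T a = 0
    · rw [hpw, ht, xG_zero, one_mul] at hzx hzy ⊢
      exact mem_UP_of_T1_UL h x y hL.tail hrest hzx hzy
    obtain ⟨i, hi⟩ := xG_inj_root.exists_coro_ne_zero (F := F) g ha.1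
    have hca : 0 < code D A a := (pos_iff_code h ha.1).1 ha
    have htri := (UL_le_triG h hca.le (fun r hr => (hL.tail.pos r hr).1) (fun r hr =>
      code_mono h ((List.pairwise_cons.1 hL.sorted).1 r hr) (hL.tail.pos r hr).1) hrest).1
    set ng : D.Idx := Sum.inr ⟨A.neg a, g.neg_lt a ha.1⟩
    have hwn : wgt D A ng = - code D A a := by simp [ng, wgt, code_neg g ha.1]
    have hentry : ((pw g (a :: L) T : GL D.Idx F) : Matrix D.Idx D.Idx F) (Sum.inl i) ng =
        T a * (A.coro a i : F) := by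
      rw [hpw, Units.val_mul, Matrix.mul_apply, Finset.sum_eq_single ng]
      · rw [htri ng ng (by omega), if_pos rfl, mul_one, xG_val, x_entry g ha.1]
      · intro k _ hk
        by_cases hw : 1 * wgt D A k ≤ 1 * wgt D A ng + code D A a
        · rw [htri k ng hw, if_neg hk, mul_zero]
        · have h0 := (xG_mem_triG g ha.1 (T a) (Or.inl rfl) le_rfl (by rw [one_mul]; exact hca)).1
            (Sum.inl i) k (by dsimp only; rw [show wgt D A (Sum.inl i) = 0 from rfl]; omega)
          rw [h0, if_neg (fun e => ?_), zero_mul]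
          subst e
          rw [show wgt D A (Sum.inl i) = 0 from rfl] at hw
          omega
      · simp
    have hlev : ∀ w, T1 A w (pw g (a :: L) T) → 1 ≤ evR D A a w := by
      intro w hw
      have := hw (Sum.inl i) ng (by
        rw [Matrix.sub_apply, hentry, Matrix.one_apply_ne (by simp [ng]), sub_zero]
        exact mul_ne_zero ht hi)
      simp only [ng, wR, evR_neg g ha.1] at this
      linarith
    have hax := hlev x hzx
    have hay := hlev y hzy
    have hinv : xG g a (-(T a)) * pw g (a :: L) T = pw g L T := by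
      rw [hpw, ← mul_assoc, xG_add, neg_add_cancel, xG_zero, one_mul]
    have hmem := mem_UP_of_T1_UL h x y hL.tail hrest
      (hinv ▸ T1_mul (xG_T1 g ha.1 _ hax) hzx) (hinv ▸ T1_mul (xG_T1 g ha.1 _ hay) hzy)
    rw [hpw]
    exact mul_mem (xG_mem_UP g (P := fun r => D.IsPosRoot r ∧ 1 ≤ evR D A r x ∧ 1 ≤ evR D A r y)
      ⟨ha, hax, hay⟩ _) hmem

theorem mem_UP_of_T1 (h : Std D A) {x y : Fin D.rank → ℝ} {z : GL D.Idx F}
    (hz : z ∈ D.posUnipotent F) (hzx : T1 A x z) (hzy : T1 A y z) :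
    z ∈ UP F h.good (fun r => D.IsPosRoot r ∧ 1 ≤ evR D A r x ∧ 1 ≤ evR D A r y) :=
  mem_UP_of_T1_UL h x y upList_posRoots (by rwa [UL_posRoots h.good]) hzx hzy

/-- transport of a form by a root map -/
noncomputable def pull (A : Aux) (σ : ℕ → ℕ) (y : Fin D.rank → ℝ) : Fin D.rank → ℝ :=
  fun j => evR D A (σ (D.simple j)) y

theorem evR_pull (g : Good D A) {σ : ℕ → ℕ} (hσ : RootMap D A σ) {r : ℕ} (hr : r < D.nroots)
    (y : Fin D.rank → ℝ) : evR D A r (pull A σ y) = evR D A (σ r) y := by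
  simp only [evR, pull, Finset.mul_sum]
  rw [Finset.sum_comm]
  refine Finset.sum_congr rfl fun l _ => ?_
  rw [simple_eq_sum g hσ hr l l.isLt, Finset.sum_range (fun k => A.a r k * A.a (σ (D.simple k)) l),
    Int.cast_sum, Finset.sum_mul]
  exact Finset.sum_congr rfl fun j _ => by push_cast; ring

variable (D A) in
/-- the invariant square of a form -/
noncomputable def qR (y : Fin D.rank → ℝ) : ℝ := ∑ r ∈ Finset.range D.nroots, evR D A r y ^ 2

theorem qR_pull {g : Good D A} {n : GL D.Idx F} {σ : ℕ → ℕ} (hσ : Acts g n σ)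
    (y : Fin D.rank → ℝ) : qR D A (pull A σ y) = qR D A y := by
  unfold qR
  refine Finset.sum_nbij σ (fun r hr => Finset.mem_range.2 (hσ.map.1 r (Finset.mem_range.1 hr)))
    (fun r hr s hs e => hσ.inj (Finset.mem_range.1 hr) (Finset.mem_range.1 hs) e)
    (fun s hs => ?_) (fun r hr => by rw [evR_pull g hσ.map (Finset.mem_range.1 hr)])
  obtain ⟨r, hr, e⟩ := hσ.surj (Finset.mem_range.1 hs)
  exact ⟨r, Finset.mem_range.2 hr, e⟩

end CfsgLib.Chev.Grade
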