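/-
Certified word identities in Weyl groups, carried to Coxeter groups: generation by the Coxeter
element and reflections, and the centre.
-/
import Cfsg.Agent.Lib.Chev.WeylTypes

set_option autoImplicit false
set_option maxRecDepth 100000

namespace CfsgLib.Chev

open Cfsg.Lie

variable {D : ChevalleyDatum} {A : Aux}

/-- the letters of a word that are indices of fundamental roots -/
def toFinWord (n : ℕ) (w : List ℕ) : List (Fin n) :=
  w.filterMap fun i => if h : i < n then some ⟨i, h⟩ else none

lemma toFinWord_val : ∀ {n : ℕ} {w : List ℕ}, (∀ j ∈ w, j < n) → (toFinWord n w).map Fin.val = w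
  | _, [], _ => rfl
  | n, i :: w, h => by
    have hi := (List.forall_mem_cons.1 h).1
    have := toFinWord_val (List.forall_mem_cons.1 h).2
    simp only [toFinWord] at this ⊢
    simp [hi, this]

/-- the element of the Weyl group of a word -/
noncomputable def wW (g : Good D A) (w : List ℕ) : Weyl g :=
  ((toFinWord D.rank w).map (wS g)).prod

lemma wW_append (g : Good D A) (u v : List ℕ) : wW g (u ++ v) = wW g u * wW g v := by
  simp [wW, toFinWord]

lemma wW_single (g : Good D A) (i : Fin D.rank) : wW g [i.val] = wS g i := by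
  simp [wW, toFinWord]

lemma wW_nil (g : Good D A) : wW g [] = 1 := rfl

lemma wW_apply (g : Good D A) {w : List ℕ} (h : Letters D w) (r : Fin D.nroots) :
    ((wW g w : Equiv.Perm (Fin D.nroots)) r).val = wf A w r := by
  rw [wW, wS_prod_apply]
  simp only [toFinWord_val h]

lemma exists_word (g : Good D A) (z : Weyl g) : ∃ w, Letters D w ∧ z = wW g w := by
  obtain ⟨l, rfl⟩ := wS_gen g z
  refine ⟨l.map Fin.val, letters_map l, ?_⟩
  rw [wW]
  congr 1
  induction l with
  | nil => rfl
  | cons i l ih =>
    simp only [toFinWord, List.map_cons] at ih ⊢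
    simp [← ih]

/-- two words give the same element when they agree on the fundamental roots -/
noncomputable def sameW (D : ChevalleyDatum) (A : Aux) (u v : List ℕ) : Bool :=
  u.all (fun i => decide (i < D.rank)) && v.all (fun i => decide (i < D.rank)) &&
    (List.range D.rank).all fun m => decide (wf A u (D.simple m) = wf A v (D.simple m))

lemma sameW_intro {u v : List ℕ} (hu : Letters D u) (hv : Letters D v)
    (h : ∀ m < D.rank, wf A u (D.simple m) = wf A v (D.simple m)) : sameW D A u v = true := by
  simp only [sameW, Bool.and_eq_true, List.all_eq_true, decide_eq_true_eq, List.mem_range]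
  exact ⟨⟨hu, hv⟩, h⟩

lemma wW_eq_of_sameW (g : Good D A) {u v : List ℕ} (h : sameW D A u v = true) :
    wW g u = wW g v := by
  simp only [sameW, Bool.and_eq_true, List.all_eq_true, decide_eq_true_eq, List.mem_range] at h
  obtain ⟨⟨hu, hv⟩, hm⟩ := h
  refine (wS_prod_eq g).2 ?_
  rw [toFinWord_val hu, toFinWord_val hv]
  exact sameOn_of_simple g (wf_rootMap g hu) (wf_rootMap g hv) hm

/-- the word of the Coxeter element -/
def coxWord (D : ChevalleyDatum) : List ℕ := List.range D.rank

lemma wW_coxWord (g : Good D A) :
    wW g (coxWord D) = ((List.finRange D.rank).map (wS g)).prod := by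
  rw [wW, coxWord]
  congr 2
  apply List.map_injective_iff.2 Fin.val_injective
  rw [toFinWord_val fun j hj => List.mem_range.1 hj]
  exact List.map_coe_finRange_eq_range.symm

/-- the Weyl group as the Coxeter group -/
theorem exists_weylIso (g : Good D A) (M : CoxeterMatrix (Fin D.rank))
    (hM : coxCheck D A (fun i j => M i j) = true) :
    ∃ φ : Weyl g ≃* M.Group, ∀ i, φ (wS g i) = M.simple i := by
  obtain ⟨cs, hcs⟩ := weyl_coxeter g M hM
  exact ⟨cs.mulEquiv, fun i => by rw [← hcs i]; exact cs.mulEquiv.apply_symm_apply _⟩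

lemma map_coxWord (g : Good D A) {M : CoxeterMatrix (Fin D.rank)} (φ : Weyl g ≃* M.Group)
    (hφ : ∀ i, φ (wS g i) = M.simple i) :
    φ (wW g (coxWord D)) = ((List.finRange D.rank).map M.simple).prod := by
  rw [wW_coxWord, map_list_prod, List.map_map]
  exact congrArg List.prod (List.map_congr_left fun i _ => hφ i)

section generation

/-- the steps of a certificate: each new word is the product of two earlier ones -/
noncomputable def stepsOK (D : ChevalleyDatum) (A : Aux) :
    List (List ℕ) → List (List ℕ × ℕ × ℕ) → Bool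
  | E, [] => (List.range D.rank).all fun i => decide ([i] ∈ E)
  | E, (w, i, j) :: s =>
    decide (i < E.length) && decide (j < E.length) && sameW D A w (E.getD i [] ++ E.getD j []) &&
      stepsOK D A (E ++ [w]) s

lemma stepsOK_spec (g : Good D A) (H : Subgroup (Weyl g)) :
    ∀ (s : List (List ℕ × ℕ × ℕ)) (E : List (List ℕ)), (∀ w ∈ E, wW g w ∈ H) →
      stepsOK D A E s = true → ∀ i : Fin D.rank, wS g i ∈ H
  | [], E, hE, h, i => by
    simp only [stepsOK, List.all_eq_true, List.mem_range, decide_eq_true_eq] at h
    rw [← wW_single]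
    exact hE _ (h i i.isLt)
  | (w, a, b) :: s, E, hE, h, i => by
    simp only [stepsOK, Bool.and_eq_true, decide_eq_true_eq] at h
    obtain ⟨⟨⟨ha, hb⟩, hw⟩, hs⟩ := h
    refine stepsOK_spec g H s _ (fun v hv => ?_) hs i
    rcases List.mem_append.1 hv with hv | hv
    · exact hE v hv
    · rw [List.mem_singleton.1 hv, wW_eq_of_sameW g hw, wW_append]
      rw [List.getD_eq_getElem _ _ ha, List.getD_eq_getElem _ _ hb]
      exact mul_mem (hE _ (List.getElem_mem ha)) (hE _ (List.getElem_mem hb))

/-- a word `u [i] u⁻¹` -/
def isConjWord (w : List ℕ) : Bool :=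
  decide (w.length % 2 = 1 ∧ w.reverse = w)

lemma wW_reverse (g : Good D A) : ∀ {w : List ℕ}, Letters D w → wW g w.reverse = (wW g w)⁻¹
  | [], _ => by simp [wW_nil]
  | i :: w, h => by
    have e : wW g [i] = wS g ⟨i, h.head⟩ := wW_single g ⟨i, h.head⟩
    rw [List.reverse_cons, wW_append, wW_reverse g h.tail, show i :: w = [i] ++ w from rfl,
      wW_append, mul_inv_rev, e, inv_eq_of_mul_eq_one_right (wS_inv g _)]

/-- the check of a generation certificate -/
noncomputable def genCheck (D : ChevalleyDatum) (A : Aux) (T : List (List ℕ)) (k : ℕ)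
    (s : List (List ℕ × ℕ × ℕ)) : Bool :=
  decide (T.length = k) &&
  T.all (fun w => isConjWord w && w.all fun i => decide (i < D.rank)) &&
  (List.range k).all (fun a => (List.range k).all fun b =>
    decide (a = b) || !sameW D A (T.getD a []) (T.getD b [])) &&
  stepsOK D A ([coxWord D, (coxWord D).reverse] ++ T) s

lemma exists_conj_of_isConjWord (g : Good D A) {w : List ℕ} (hw : Letters D w)
    (h : isConjWord w = true) : ∃ (x : Weyl g) (i : Fin D.rank), wW g w = x * wS g i * x⁻¹ := by
  obtain ⟨hodd, hrev⟩ := of_decide_eq_true h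
  obtain ⟨m, hm⟩ : ∃ m, w.length = 2 * m + 1 := ⟨w.length / 2, by omega⟩
  have hlt : m < w.length := by omega
  have hd : w.drop (m + 1) = (w.take m).reverse := by
    rw [List.reverse_take, hrev]
    congr 1
    omega
  have hl : Letters D (w.take m) := fun j hj => hw j (List.mem_of_mem_take hj)
  refine ⟨wW g (w.take m), ⟨w[m], hw _ (List.getElem_mem hlt)⟩, ?_⟩
  calc wW g w = wW g (w.take m ++ ([w[m]] ++ w.drop (m + 1))) := by
        rw [List.singleton_append, ← List.drop_eq_getElem_cons hlt, List.take_append_drop]
    _ = _ := by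
        rw [wW_append, wW_append, hd, wW_reverse g hl, mul_assoc]
        exact congrArg (fun y => _ * (y * _)) (wW_single g ⟨w[m], hw _ (List.getElem_mem hlt)⟩)

lemma sameW_of_eq (g : Good D A) {u v : List ℕ} (hu : Letters D u) (hv : Letters D v)
    (h : wW g u = wW g v) : sameW D A u v = true := by
  simp only [sameW, Bool.and_eq_true, List.all_eq_true, decide_eq_true_eq, List.mem_range]
  refine ⟨⟨hu, hv⟩, fun m hm => ?_⟩
  rw [← wW_apply g hu ⟨_, g.simple_lt m hm⟩, ← wW_apply g hv ⟨_, g.simple_lt m hm⟩, h]

/-- generation of a Coxeter group by its Coxeter element and reflections -/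
theorem coxeter_generated (g : Good D A) (M : CoxeterMatrix (Fin D.rank))
    (hM : coxCheck D A (fun i j => M i j) = true) {T : List (List ℕ)} {k : ℕ}
    {s : List (List ℕ × ℕ × ℕ)} (h : genCheck D A T k s = true) :
    ∃ S : Finset M.Group, S.card = k ∧
      (∀ t ∈ S, ∃ (x : M.Group) (i : Fin D.rank), t = x * M.simple i * x⁻¹) ∧
      Subgroup.closure (({((List.finRange D.rank).map M.simple).prod} : Set M.Group) ∪ ↑S) = ⊤ := by
  classical
  obtain ⟨φ, hφ⟩ := exists_weylIso g M hM
  simp only [genCheck, Bool.and_eq_true, decide_eq_true_eq, List.all_eq_true, List.mem_range,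
    Bool.or_eq_true, Bool.not_eq_true'] at h
  obtain ⟨⟨⟨hlen, hT⟩, hne⟩, hs⟩ := h
  have hnd : (T.map fun w => φ (wW g w)).Nodup := by
    refine (List.nodup_iff_injective_get).2 fun a b e => Fin.ext ?_
    have ha : a.val < T.length := by simpa using a.isLt
    have hb : b.val < T.length := by simpa using b.isLt
    simp only [List.get_eq_getElem, List.getElem_map, φ.injective.eq_iff] at e
    rcases hne a (hlen ▸ ha) b (hlen ▸ hb) with e' | e'
    · exact e'
    · have he := sameW_of_eq g (fun j hj => (hT _ (List.getElem_mem ha)).2 j hj)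
        (fun j hj => (hT _ (List.getElem_mem hb)).2 j hj) e
      rw [List.getD_eq_getElem _ _ ha, List.getD_eq_getElem _ _ hb, he] at e'
      cases e'
  refine ⟨(T.map fun w => φ (wW g w)).toFinset, ?_, ?_, ?_⟩
  · rw [List.toFinset_card_of_nodup hnd, List.length_map, hlen]
  · intro t ht
    obtain ⟨w, hw, rfl⟩ := List.mem_map.1 (List.mem_toFinset.1 ht)
    obtain ⟨x, i, e⟩ := exists_conj_of_isConjWord g (hT w hw).2 (hT w hw).1
    exact ⟨φ x, i, by rw [e, map_mul, map_mul, map_inv, hφ]⟩
  · set K := Subgroup.closure (({((List.finRange D.rank).map M.simple).prod} : Set M.Group) ∪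
      ↑(T.map fun w => φ (wW g w)).toFinset) with hK
    have hE : ∀ w ∈ [coxWord D, (coxWord D).reverse] ++ T,
        wW g w ∈ K.comap φ.toMonoidHom := by
      intro w hw
      simp only [Subgroup.mem_comap, MulEquiv.coe_toMonoidHom]
      have hc : φ (wW g (coxWord D)) ∈ K := by
        rw [map_coxWord g φ hφ]
        exact Subgroup.subset_closure (Or.inl rfl)
      simp only [List.cons_append, List.nil_append, List.mem_cons] at hw
      rcases hw with rfl | rfl | hw
      · exact hc
      · rw [wW_reverse g (w := coxWord D) fun j hj => List.mem_range.1 hj, map_inv]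
        exact inv_mem hc
      · exact Subgroup.subset_closure (Or.inr (Finset.mem_coe.2 (List.mem_toFinset.2
          (List.mem_map_of_mem hw))))
    have key := stepsOK_spec g _ s _ hE hs
    refine eq_top_iff.2 fun y _ => ?_
    obtain ⟨z, rfl⟩ := φ.surjective y
    obtain ⟨l, rfl⟩ := wS_gen g z
    exact list_prod_mem (S := K.comap φ.toMonoidHom) fun a ha => by
      obtain ⟨i, _, rfl⟩ := List.mem_map.1 ha
      exact key i

end generation

section centre

/-- the roots fixed up to sign by one fundamental reflection only, and a walk on the diagram -/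
noncomputable def centreCheck (D : ChevalleyDatum) (A : Aux) (walk : List ℕ) : Bool :=
  (List.range D.rank).all (fun i => (List.range D.nroots).all fun r =>
    decide (A.refl i r = A.neg r → r = D.simple i ∨ r = A.neg (D.simple i))) &&
  (List.range D.rank).all (fun i => decide (i ∈ walk)) &&
  walk.all (fun i => decide (i < D.rank)) &&
  (walk.zip walk.tail).all fun p => decide (A.cart p.1 (D.simple p.2) ≠ 0)

lemma edge_walk {P : ℕ → Prop} : ∀ (l : List ℕ), (∀ p ∈ l.zip l.tail, P p.1 ↔ P p.2) →
    ∀ a ∈ l, ∀ b ∈ l, (P a ↔ P b) := by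
  intro l
  induction l with
  | nil => simp
  | cons x t ih =>
    intro h
    cases t with
    | nil => simp
    | cons y t' =>
      have hxy : P x ↔ P y := h (x, y) (by simp)
      have ih' := ih fun p hp => h p (by simp only [List.tail_cons] at hp ⊢; simp [hp])
      have hy : ∀ a ∈ x :: y :: t', (P a ↔ P y) := fun a ha => by
        rcases List.mem_cons.1 ha with rfl | ha
        · exact hxy
        · exact ih' a ha y (by simp)
      exact fun a ha b hb => (hy a ha).trans (hy b hb).symm

/-- a central element is the identity or minus the identity -/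
lemma center_cases (g : Good D A) {walk : List ℕ} (h : centreCheck D A walk = true)
    {w : List ℕ} (hw : Letters D w) (hz : ∀ x : Weyl g, x * wW g w = wW g w * x) :
    (∀ m < D.rank, wf A w (D.simple m) = D.simple m) ∨
      (∀ m < D.rank, wf A w (D.simple m) = A.neg (D.simple m)) := by
  simp only [centreCheck, Bool.and_eq_true, List.all_eq_true, List.mem_range,
    decide_eq_true_eq] at h
  obtain ⟨⟨⟨hfix, hmem⟩, hlt⟩, hedge⟩ := h
  have hor : ∀ i < D.rank, wf A w (D.simple i) = D.simple i ∨
      wf A w (D.simple i) = A.neg (D.simple i) := by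
    intro i hi
    have hsi := g.simple_lt i hi
    refine hfix i hi _ (wf_lt g hw hsi) ?_
    have e := congrArg
      (fun x : Weyl g => ((x : Equiv.Perm (Fin D.nroots)) ⟨D.simple i, hsi⟩).val)
      (hz (wW g [i]))
    simp only [← wW_append] at e
    have hsing : Letters D [i] := by simp [Letters, hi]
    rw [wW_apply g (hsing.append hw), wW_apply g (hw.append hsing), wf_append, wf_append,
      wf_singleton, wf_singleton, refl_simple g hi, (wf_rootMap g hw).map_neg g hsi] at e
    exact e
  have hP : ∀ p ∈ walk.zip walk.tail, (wf A w (D.simple p.1) = D.simple p.1 ↔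
      wf A w (D.simple p.2) = D.simple p.2) := by
    rintro ⟨i, j⟩ hp
    have hi := hlt i (List.of_mem_zip hp).1
    have hj := hlt j (List.mem_of_mem_tail (List.of_mem_zip hp).2)
    have hne : A.cart i (D.simple j) ≠ 0 := hedge _ hp
    show wf A w (D.simple i) = D.simple i ↔ wf A w (D.simple j) = D.simple j
    have hpr := pr_wf g hw (g.simple_lt i hi) (g.simple_lt j hj)
    rw [pr_simple g hi] at hpr
    have hni := g.simple_lt i hi
    rcases hor i hi with ei | ei <;> rcases hor j hj with ej | ej
    · simp [ei, ej]
    · rw [ei, ej, pr_simple g hi, g.cart_neg i hi _ (g.simple_lt j hj)] at hpr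
      exact absurd (by omega) hne
    · rw [ei, ej, pr, ← pr_simple g hi, pr,
        Finset.sum_congr rfl fun k _ => by rw [g.coro_neg _ hni k, neg_mul],
        Finset.sum_neg_distrib] at hpr
      rw [← pr_simple g hi, pr] at hne
      exact absurd (by omega) hne
    · simp [ei, ej, g.neg_ne _ hni, g.neg_ne _ (g.simple_lt j hj)]
  by_cases hall : ∀ m < D.rank, wf A w (D.simple m) = D.simple m
  · exact Or.inl hall
  · refine Or.inr fun m hm => (hor m hm).resolve_left fun e => hall fun k hk => ?_
    exact ((edge_walk (P := fun i => wf A w (D.simple i) = D.simple i) walk hP) m (hmem m hm)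
      k (hmem k hk)).1 e

/-- the check that a power of the Coxeter element is minus the identity -/
noncomputable def negCheck (D : ChevalleyDatum) (A : Aux) (k : ℕ) : Bool :=
  let u := (List.replicate k (coxWord D)).flatten
  decide (0 < D.rank) &&
  (List.range D.rank).all (fun m => decide (wf A u (D.simple m) = A.neg (D.simple m))) &&
  sameW D A (u ++ u) [] && (List.range D.rank).all fun i => sameW D A (u ++ [i]) (i :: u)

lemma wW_replicate (g : Good D A) (u : List ℕ) :
    ∀ k, wW g (List.replicate k u).flatten = wW g u ^ k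
  | 0 => by simp [wW_nil]
  | k + 1 => by
    rw [List.replicate_succ, List.flatten_cons, wW_append, wW_replicate g u k, pow_succ']

lemma center_card_map {G H : Type*} [Group G] [Group H] (φ : G ≃* H) :
    Subgroup.center H = (Subgroup.center G).map φ.toMonoidHom := by
  ext y
  simp only [Subgroup.mem_map, Subgroup.mem_center_iff, MulEquiv.coe_toMonoidHom]
  constructor
  · intro h
    refine ⟨φ.symm y, fun x => φ.injective ?_, φ.apply_symm_apply y⟩
    rw [map_mul, map_mul, φ.apply_symm_apply, h]
  · rintro ⟨x, hx, rfl⟩ z
    obtain ⟨z, rfl⟩ := φ.surjective z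
    rw [← map_mul, ← map_mul, hx]

/-- the centre is generated by a power of the Coxeter element acting as minus one -/
theorem coxeter_center_two (g : Good D A) (M : CoxeterMatrix (Fin D.rank))
    (hM : coxCheck D A (fun i j => M i j) = true) {walk : List ℕ}
    (hw : centreCheck D A walk = true) {k : ℕ} (hk : negCheck D A k = true) :
    Nat.card (Subgroup.center M.Group) = 2 ∧
      Subgroup.center M.Group ≤ Subgroup.zpowers ((List.finRange D.rank).map M.simple).prod := by
  obtain ⟨φ, hφ⟩ := exists_weylIso g M hM
  simp only [negCheck, Bool.and_eq_true, decide_eq_true_eq, List.all_eq_true, List.mem_range] at hk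
  obtain ⟨⟨⟨hrank, hneg⟩, hinv⟩, hcomm⟩ := hk
  set u := (List.replicate k (coxWord D)).flatten with hu
  have hlu : Letters D u := fun j hj => by
    obtain ⟨l, hl, hjl⟩ := List.mem_flatten.1 hj
    rw [List.eq_of_mem_replicate hl] at hjl
    exact List.mem_range.1 hjl
  set e := wW g u with he
  have hne : e ≠ 1 := by
    intro h1
    have := congrArg
      (fun x : Weyl g => ((x : Equiv.Perm (Fin D.nroots)) ⟨_, g.simple_lt 0 hrank⟩).val) h1
    simp only [he, wW_apply g hlu, hneg 0 hrank] at this
    exact g.neg_ne _ (g.simple_lt 0 hrank) this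
  have hee : e * e = 1 := by
    rw [← wW_append, wW_eq_of_sameW g hinv, wW_nil]
  have hec : e ∈ Subgroup.center (Weyl g) := by
    rw [Subgroup.mem_center_iff]
    intro x
    obtain ⟨l, rfl⟩ := wS_gen g x
    induction l with
    | nil => simp
    | cons i l ih =>
      have hi : wS g i * e = e * wS g i := by
        rw [← wW_single g i, ← wW_append, ← wW_append, wW_eq_of_sameW g (hcomm i i.isLt)]
        rfl
      simp only [List.map_cons, List.prod_cons]
      rw [mul_assoc, ih, ← mul_assoc, hi, mul_assoc]
  have hall : ∀ z ∈ Subgroup.center (Weyl g), z = 1 ∨ z = e := by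
    intro z hz
    obtain ⟨w, hlw, rfl⟩ := exists_word g z
    rcases center_cases g hw hlw (Subgroup.mem_center_iff.1 hz) with h | h
    · exact Or.inl ((wW_eq_of_sameW g (sameW_intro (v := []) hlw (by simp [Letters]) h)).trans
        (wW_nil g))
    · exact Or.inr (wW_eq_of_sameW g
        (sameW_intro hlw hlu fun m hm => (h m hm).trans (hneg m hm).symm))
  have hz : Subgroup.center (Weyl g) = Subgroup.zpowers e := by
    refine le_antisymm (fun z hz => ?_) (Subgroup.zpowers_le.2 hec)
    rcases hall z hz with rfl | rfl
    exacts [one_mem _, Subgroup.mem_zpowers e]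
  refine ⟨?_, ?_⟩
  · rw [center_card_map φ, Subgroup.card_map_of_injective φ.injective, hz, Nat.card_zpowers]
    exact orderOf_eq_prime (by rw [sq, hee]) hne
  · rw [center_card_map φ, hz, MonoidHom.map_zpowers, Subgroup.zpowers_le, ← map_coxWord g φ hφ,
      MulEquiv.coe_toMonoidHom, he, hu, wW_replicate, map_pow]
    exact Subgroup.pow_mem _ (Subgroup.mem_zpowers _) k

/-- the check that a word sends every positive root to a negative one, but is not minus one -/
noncomputable def longCheck (D : ChevalleyDatum) (A : Aux) (w₀ : List ℕ) : Bool :=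
  w₀.all (fun i => decide (i < D.rank)) &&
  D.posRoots.all (fun r => !decide (D.IsPosRoot (wf A w₀ r))) &&
  (List.range D.rank).any fun m => decide (wf A w₀.reverse (D.simple m) ≠ A.neg (D.simple m))

lemma eq_one_of_pos (g : Good D A) {w : List ℕ} (hw : Letters D w)
    (h : ∀ r, D.IsPosRoot r → D.IsPosRoot (wf A w r)) {r : ℕ} (hr : r < D.nroots) :
    wf A w r = r := by
  classical
  have hex : ∃ n, ∃ v, Letters D v ∧ SameOn D (wf A v) (wf A w) ∧ v.length = n :=
    ⟨_, w, hw, fun _ _ => rfl, rfl⟩
  obtain ⟨v, hv, hvw, hlen⟩ := Nat.find_spec hex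
  have hred : RedWord D A v := fun v' hv' e => by
    rw [hlen]
    exact Nat.find_min' hex ⟨v', hv', fun s hs => (e s hs).trans (hvw s hs), rfl⟩
  have h0 : nInv D A w = 0 := by
    rw [nInv, Finset.card_eq_zero, Finset.filter_eq_empty_iff]
    intro s hs
    rw [List.mem_toFinset, posRoots_mem] at hs
    simpa using h s hs
  rw [← nInv_congr hvw, nInv_of_red g hv hred] at h0
  rw [← hvw r hr, List.length_eq_zero_iff.1 h0]
  rfl

/-- the centre is trivial -/
theorem coxeter_center_one (g : Good D A) (M : CoxeterMatrix (Fin D.rank))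
    (hM : coxCheck D A (fun i j => M i j) = true) {walk : List ℕ}
    (hw : centreCheck D A walk = true) {w₀ : List ℕ} (hk : longCheck D A w₀ = true) :
    Nat.card (Subgroup.center M.Group) = 1 ∧
      Subgroup.center M.Group ≤ Subgroup.zpowers ((List.finRange D.rank).map M.simple).prod := by
  obtain ⟨φ, -⟩ := exists_weylIso g M hM
  simp only [longCheck, Bool.and_eq_true, List.all_eq_true, List.any_eq_true, decide_eq_true_eq,
    List.mem_range, Bool.not_eq_true', decide_eq_false_iff_not] at hk
  obtain ⟨⟨hl₀, hpos⟩, m, hm, hne⟩ := hk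
  have hz : Subgroup.center (Weyl g) = ⊥ := by
    refine (Subgroup.eq_bot_iff_forall _).2 fun z hz => ?_
    obtain ⟨w, hlw, rfl⟩ := exists_word g z
    rcases center_cases g hw hlw (Subgroup.mem_center_iff.1 hz) with h | h
    · exact (wW_eq_of_sameW g (sameW_intro (v := []) hlw (by simp [Letters]) h)).trans (wW_nil g)
    · exfalso
      have hall : ∀ r < D.nroots, wf A w r = A.neg r := fun r hr => by
        refine g.a_inj _ (wf_lt g hlw hr) _ (g.neg_lt r hr) fun j hj => ?_
        rw [simple_eq_sum g (wf_rootMap g hlw) hr j hj, g.a_neg r hr]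
        calc ∑ k ∈ Finset.range D.rank, A.a r k * A.a (wf A w (D.simple k)) j
            = ∑ k ∈ Finset.range D.rank, -(if j = k then A.a r k else 0) :=
              Finset.sum_congr rfl fun k hk => by
                have hk := Finset.mem_range.1 hk
                rw [h k hk, g.a_neg _ (g.simple_lt k hk), g.a_simple k hk j hj]
                by_cases e : j = k <;> simp [e]
          _ = _ := by simp [Finset.sum_ite_eq, hj]
      have hid : ∀ r, r < D.nroots → wf A (w ++ w₀) r = r := by
        refine fun r hr => eq_one_of_pos g (hlw.append hl₀) (fun s hs => ?_) hr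
        rw [wf_append, hall _ (wf_lt g hl₀ hs.1)]
        exact (pos_or_pos_neg g (wf_lt g hl₀ hs.1)).resolve_left
          (hpos s (posRoots_mem.2 hs))
      have hsm := g.simple_lt m hm
      have h2 := hid _ (wf_lt g (Letters.reverse hl₀) hsm)
      rw [wf_append, wf_rev_right g hl₀ hsm, h m hm] at h2
      exact hne h2.symm
  refine ⟨?_, ?_⟩
  · rw [center_card_map φ, Subgroup.card_map_of_injective φ.injective, hz, Subgroup.card_bot]
  · rw [center_card_map φ, hz, Subgroup.map_bot]
    exact bot_le

end centre

end CfsgLib.Chev
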