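import Cfsg.Agent.Lib.Chev.ParaCells
import Cfsg.Agent.Lib.Chev.Orders
import Cfsg.Agent.Lib.Chev.CoxWeyl
import Cfsg.Agent.Lib.Chars.DefectZero
import Cfsg.Agent.Lib.Chars.PermChar
import Cfsg.Prelude.Def_ParabolicCharacters

/-!
The Steinberg character of a Chevalley group: restriction to the Borel subgroup, irreducibility,
vanishing at `p`-singular elements.
-/

set_option autoImplicit false

namespace CfsgLib.Chev

open Cfsg Cfsg.Lie CfsgLib.Chars

variable {D : ChevalleyDatum} {A : Aux} {F : Type*} [Field F]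

theorem alt_powerset (N S : Finset ℕ) (hS : S ⊆ N) :
    ∑ J ∈ N.powerset, (if J ⊆ S then (-1 : ℂ) ^ J.card else 0) = if S = ∅ then 1 else 0 := by
  classical
  rw [← Finset.sum_filter, show N.powerset.filter (· ⊆ S) = S.powerset by
    ext J; simp only [Finset.mem_filter, Finset.mem_powerset]
    exact ⟨fun h => h.2, fun h => ⟨h.trans hS, h⟩⟩]
  have := congrArg (fun z : ℤ => (z : ℂ)) (Finset.sum_powerset_neg_one_pow_card (x := S))
  split <;> simp_all

section cells

/-- the Borel subgroup inside the group -/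
abbrev BI (D : ChevalleyDatum) (F : Type*) [Field F] : Subgroup ↥(D.group F) :=
  (D.borelSubgroup F).subgroupOf (D.group F)

/-- the diagonal subgroup inside the group -/
abbrev HI (D : ChevalleyDatum) (F : Type*) [Field F] : Subgroup ↥(D.group F) :=
  (D.diagonalSubgroup F).subgroupOf (D.group F)

theorem mem_BI {x : ↥(D.group F)} : x ∈ BI D F ↔ (x : GL D.Idx F) ∈ D.borelSubgroup F := Iff.rfl

theorem mem_parabolicIn {J : Finset ℕ} {x : ↥(D.group F)} :
    x ∈ D.parabolicIn F J ↔ (x : GL D.Idx F) ∈ D.parabolicSubgroup F (J : Set ℕ) := Iff.rfl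

theorem BI_le_parabolicIn (J : Finset ℕ) : BI D F ≤ D.parabolicIn F J := fun _ hx =>
  borel_le_parabolic _ hx

/-- the cosets of `B` with a representative positive on `J` -/
def PosC (g : Good D A) (J : Finset ℕ) (x : ↥(D.group F) ⧸ BI D F) : Prop :=
  ∃ y : ↥(D.group F), (y : ↥(D.group F) ⧸ BI D F) = x ∧
    ∃ n ∈ D.monomialSubgroup F, InCell D n (y : GL D.Idx F) ∧ PosAt g J n

theorem coset_rep {y y' : ↥(D.group F)}
    (e : (y : ↥(D.group F) ⧸ BI D F) = y') {n : GL D.Idx F} (hc : InCell D n (y : GL D.Idx F)) :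
    InCell D n (y' : GL D.Idx F) := by
  have hb : ((y⁻¹ * y' : ↥(D.group F)) : GL D.Idx F) ∈ D.borelSubgroup F :=
    mem_BI.1 (QuotientGroup.eq.1 e)
  have := hc.right hb
  rwa [show (y : GL D.Idx F) * ((y⁻¹ * y' : ↥(D.group F)) : GL D.Idx F) = y' by
    push_cast; group] at this

theorem posC_iff (h : Std D A) {J : Finset ℕ} {y : ↥(D.group F)} {n : GL D.Idx F}
    (hn : n ∈ D.monomialSubgroup F) (hc : InCell D n (y : GL D.Idx F)) :
    PosC h.good J (y : ↥(D.group F) ⧸ BI D F) ↔ PosAt h.good J n := by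
  refine ⟨fun ⟨y', e, n', hn', hc', hp⟩ => ?_, fun hp => ⟨y, rfl, n, hn, hc, hp⟩⟩
  exact posAt_of_diag h.good hn' (inCell_unique h hn' hn (coset_rep e hc') hc) hp

/-- the fixed cosets of a parabolic are the fixed positive cosets of the Borel subgroup -/
theorem card_fixed_parabolic' (h : Std D A) (J : Finset ℕ) {b : ↥(D.group F)} (hb : b ∈ BI D F)
    (S : ↥(D.group F) ⧸ D.parabolicIn F J → Prop) :
    Nat.card {z : ↥(D.group F) ⧸ D.parabolicIn F J // b • z = z ∧ S z} =
      Nat.card {x : ↥(D.group F) ⧸ BI D F //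
        b • x = x ∧ PosC h.good J x ∧ S (Subgroup.quotientMapOfLE (BI_le_parabolicIn J) x)} := by
  symm
  let π : ↥(D.group F) ⧸ BI D F → ↥(D.group F) ⧸ D.parabolicIn F J :=
    Subgroup.quotientMapOfLE (BI_le_parabolicIn J)
  have hπ : ∀ y : ↥(D.group F), π y = y := fun y => rfl
  refine Nat.card_congr (Equiv.ofBijective (fun x => ⟨π x.1, ?_⟩) ⟨?_, ?_⟩)
  · obtain ⟨x, hx, -, hS⟩ := x
    obtain ⟨y, rfl⟩ := QuotientGroup.mk_surjective x
    refine ⟨?_, hS⟩
    rw [hπ, MulAction.Quotient.smul_mk, smul_eq_mul]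
    rw [MulAction.Quotient.smul_mk, smul_eq_mul] at hx
    have h2 := congrArg π hx
    rwa [hπ, hπ] at h2
  · rintro ⟨x, hx, ⟨y, rfl, n, hn, hc, hp⟩, hS⟩ ⟨x', hx', ⟨y', rfl, n', hn', hc', hp'⟩, hS'⟩ e
    have hmem : ((y⁻¹ * y' : ↥(D.group F)) : GL D.Idx F) ∈ D.parabolicSubgroup F (J : Set ℕ) :=
      mem_parabolicIn.1 (QuotientGroup.eq.1 (congrArg Subtype.val e))
    refine Subtype.ext (QuotientGroup.eq.2 (mem_BI.2 ?_))
    exact parabolic_pos_unique h hn hn' hp hp' hc hmem
      (by rw [Subgroup.coe_mul, Subgroup.coe_inv, mul_inv_cancel_left]; exact hc')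
  · rintro ⟨z, hz, hS⟩
    obtain ⟨y, rfl⟩ := QuotientGroup.mk_surjective z
    obtain ⟨p, hp, n, hn, hc, hpos⟩ := exists_posAt h J y.2
    have hpG : p ∈ D.group F := by
      refine (?_ : D.parabolicSubgroup F (J : Set ℕ) ≤ D.group F) hp
      rw [parabolic_eq h.good]
      refine sup_le (borel_le_group h.good) ((Subgroup.closure_le _).2 ?_)
      rintro _ ⟨j, -, hj, rfl⟩
      exact nS_mem_group h.good j
    set p' : ↥(D.group F) := ⟨p, hpG⟩
    have hy : ((y * p' : ↥(D.group F)) : ↥(D.group F) ⧸ D.parabolicIn F J) = y := by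
      rw [QuotientGroup.eq, show (y * p')⁻¹ * y = p'⁻¹ by group]
      exact inv_mem hp
    refine ⟨⟨((y * p' : ↥(D.group F)) : ↥(D.group F) ⧸ BI D F), ?_, ⟨y * p', rfl, n, hn, hc, hpos⟩,
      ?_⟩, Subtype.ext ((hπ _).trans hy)⟩
    case refine_2 => show S (π _); rw [(hπ _).trans hy]; exact hS
    have hfix : ((b * (y * p') : ↥(D.group F)) : ↥(D.group F) ⧸ D.parabolicIn F J) =
        ((y * p' : ↥(D.group F)) : ↥(D.group F) ⧸ D.parabolicIn F J) := by
      rw [hy]
      calc ((b * (y * p') : ↥(D.group F)) : ↥(D.group F) ⧸ D.parabolicIn F J)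
          = b • ((y * p' : ↥(D.group F)) : ↥(D.group F) ⧸ D.parabolicIn F J) := rfl
        _ = _ := by rw [hy]; exact hz
    refine (QuotientGroup.eq.2 ?_ : ((b * (y * p') : ↥(D.group F)) : ↥(D.group F) ⧸ BI D F) = _)
    have hmem := mem_parabolicIn.1 (QuotientGroup.eq.1 hfix)
    refine mem_BI.2 (parabolic_pos_unique h hn hn hpos hpos ((hc.left hb : InCell D n _)) hmem ?_)
    show InCell D n (((b : GL D.Idx F) * ((y : GL D.Idx F) * p)) *
      (((b : GL D.Idx F) * ((y : GL D.Idx F) * p))⁻¹ * ((y : GL D.Idx F) * p)))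
    rw [mul_inv_cancel_left]
    exact hc

theorem card_fixed_parabolic (h : Std D A) (J : Finset ℕ) {b : ↥(D.group F)} (hb : b ∈ BI D F) :
    Nat.card (MulAction.fixedBy (↥(D.group F) ⧸ D.parabolicIn F J) b) =
      Nat.card {x : ↥(D.group F) ⧸ BI D F // b • x = x ∧ PosC h.good J x} := by
  have := card_fixed_parabolic' h J hb fun _ => True
  simp only [and_true] at this
  exact this

theorem longest_inf (h : Std D A) {n : GL D.Idx F} (hn : n ∈ D.monomialSubgroup F) {σ : ℕ → ℕ}
    (hσ : Acts h.good n σ) (hw : ∀ r, D.IsPosRoot r → D.IsNegRoot (σ r)) {b : GL D.Idx F}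
    (hb : b ∈ D.borelSubgroup F) (hc : n⁻¹ * b * n ∈ D.borelSubgroup F) :
    b ∈ D.diagonalSubgroup F := by
  rw [← borel_inf_negBorel h]
  refine Subgroup.mem_inf.2 ⟨hb, ?_⟩
  obtain ⟨u, hu, c, e⟩ := (mem_borel_iff h.good).1 hc
  obtain ⟨d, hd⟩ := monomial_conj_tor h.good hn c
  rw [show b = n * u * n⁻¹ * (n * tor D A c * n⁻¹) by
    rw [show b = n * (n⁻¹ * b * n) * n⁻¹ by group, e]; group, hd]
  refine mul_mem (Subgroup.mem_sup_left ?_) (Subgroup.mem_sup_right ?_)
  · rw [← longest_conj h.good hσ hw]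
    exact ⟨u, hu, rfl⟩
  · rw [diagonalSubgroup_eq h.good]; exact ⟨d, rfl⟩

theorem longest_unique (h : Std D A) {n₀ n : GL D.Idx F} (hn₀ : n₀ ∈ D.monomialSubgroup F)
    (hn : n ∈ D.monomialSubgroup F) {σ₀ σ : ℕ → ℕ} (hσ₀ : Acts h.good n₀ σ₀)
    (hw : ∀ r, D.IsPosRoot r → D.IsNegRoot (σ₀ r)) (hσ : Acts h.good n σ)
    (hneg : ∀ i < D.rank, ¬ D.IsPosRoot (σ (D.simple i))) : n₀⁻¹ * n ∈ D.diagonalSubgroup F := by
  have g := h.good
  obtain ⟨τ, hτ, hτσ⟩ := acts_inv h.good hn₀ hσ₀
  refine diag_of_pos h (mul_mem (inv_mem hn₀) hn) (hτ.mul hσ) fun i hi => ?_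
  have hlt := hσ.map.1 _ (g.simple_lt i hi)
  by_contra hcon
  have hlt' := hτ.map.1 _ hlt
  have hp := (pos_or_pos_neg h.good hlt').resolve_left hcon
  have h1 := hw _ hp
  rw [hσ₀.map.map_neg h.good hlt', (hτσ _ hlt).2] at h1
  exact not_pos_of_isNeg h.good h1 ((pos_or_pos_neg h.good hlt).resolve_left (hneg i hi))

set_option maxHeartbeats 800000 in
open Classical in
/-- the Steinberg character on the Borel subgroup -/
theorem steinberg_on_borel [Fintype F] (h : Std D A) (b : BI D F) :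
    D.steinbergCharacter F (b : ↥(D.group F)) = fixedPointCharacter ((HI D F).subgroupOf (BI D F)) b := by
  haveI : Finite (GL D.Idx F) := finite_GL
  haveI : Fintype (↥(D.group F) ⧸ BI D F) := Fintype.ofFinite _
  obtain ⟨n₀, hn₀, σ₀, hσ₀, hw⟩ := exists_longest (F := F) h.good
  let asc : ↥(D.group F) ⧸ BI D F → Finset ℕ := fun x =>
    (Finset.range D.rank).filter fun i => PosC h.good {i} x
  have hasc : ∀ x J, J ∈ (Finset.range D.rank).powerset → (PosC h.good J x ↔ J ⊆ asc x) := by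
    intro x J hJ
    obtain ⟨y, rfl⟩ := QuotientGroup.mk_surjective x
    obtain ⟨c, hc, n, hn, c', hc', e⟩ := bruhat h y.2
    have hcell : InCell D n (y : GL D.Idx F) := ⟨c, hc, c', hc', e⟩
    rw [posC_iff h hn hcell]
    simp only [Finset.subset_iff, asc, Finset.mem_filter, posC_iff h hn hcell, PosAt,
      Finset.mem_singleton, forall_eq]
    exact ⟨fun hp j hj => ⟨Finset.mem_powerset.1 hJ hj, fun σ hσ hj' => hp σ hσ j hj hj'⟩,
      fun hp σ hσ j hj hj' => (hp hj).2 σ hσ hj'⟩
  have step1 : D.steinbergCharacter F (b : ↥(D.group F)) =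
      (Nat.card {x : ↥(D.group F) ⧸ BI D F // (b : ↥(D.group F)) • x = x ∧ asc x = ∅} : ℂ) := by
    have hcount : ∀ P : ↥(D.group F) ⧸ BI D F → Prop,
        (Nat.card {x // P x} : ℂ) = ∑ x, if P x then (1 : ℂ) else 0 := fun P => by
      rw [Nat.card_eq_fintype_card, Fintype.card_subtype, Finset.sum_boole]
    rw [hcount]
    simp only [ChevalleyDatum.steinbergCharacter, fixedPointCharacter,
      card_fixed_parabolic h _ b.2, hcount, Finset.mul_sum]
    rw [Finset.sum_comm]
    refine Finset.sum_congr rfl fun x _ => ?_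
    by_cases hx : (b : ↥(D.group F)) • x = x
    · simp only [hx, true_and]
      refine Eq.trans (Finset.sum_congr rfl fun J hJ => ?_)
        ((alt_powerset (Finset.range D.rank) (asc x) (Finset.filter_subset _ _)).trans ?_)
      · simp [hasc x J hJ]
      · congr
    · simp [hx]
  rw [step1, fixedPointCharacter]
  congr 1
  symm
  set N₀ : ↥(D.group F) := ⟨n₀, monomialSubgroup_le_group h.good hn₀⟩
  have hN : ∀ t : ↥(D.group F), t ∈ HI D F → ((t * N₀ : ↥(D.group F)) : ↥(D.group F) ⧸ BI D F) = N₀ := by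
    intro t ht
    rw [QuotientGroup.eq, Subgroup.mem_subgroupOf]
    push_cast
    have ht' : ((t : GL D.Idx F))⁻¹ ∈ D.diagonalSubgroup F := inv_mem ht
    rw [diagonalSubgroup_eq h.good] at ht'
    obtain ⟨c, hc⟩ := ht'
    obtain ⟨d, hd⟩ := monomial_conj_tor h.good (inv_mem hn₀) c
    rw [inv_inv] at hd
    rw [_root_.mul_inv_rev, ← hc]
    show n₀⁻¹ * tor D A c * n₀ ∈ _
    rw [hd]
    exact tor_mem_borel h.good d
  let β : BI D F ⧸ (HI D F).subgroupOf (BI D F) → ↥(D.group F) ⧸ BI D F :=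
    Quotient.lift (fun z : BI D F => (((z : ↥(D.group F)) * N₀ : ↥(D.group F)) : ↥(D.group F) ⧸ BI D F))
      (fun z z' e => by
        have e' : (z⁻¹ * z' : BI D F) ∈ (HI D F).subgroupOf (BI D F) := QuotientGroup.leftRel_apply.1 e
        have := congrArg (((z : ↥(D.group F))) • ·) (hN _ e')
        refine this.symm.trans ?_
        show ((_ : ↥(D.group F)) : ↥(D.group F) ⧸ BI D F) = _
        congr 1
        simp only [smul_eq_mul, Subgroup.coe_subtype]
        push_cast
        group)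
  have hβ : ∀ z : BI D F, β z = (((z : ↥(D.group F)) * N₀ : ↥(D.group F)) : ↥(D.group F) ⧸ BI D F) :=
    fun z => rfl
  have hinj : Function.Injective β := by
    intro u u'
    obtain ⟨z, rfl⟩ := QuotientGroup.mk_surjective u
    obtain ⟨z', rfl⟩ := QuotientGroup.mk_surjective u'
    intro e
    rw [hβ, hβ, QuotientGroup.eq, Subgroup.mem_subgroupOf] at e
    rw [QuotientGroup.eq, Subgroup.mem_subgroupOf, Subgroup.mem_subgroupOf]
    push_cast at e ⊢
    refine longest_inf h hn₀ hσ₀ hw (mul_mem (inv_mem z.2) z'.2) ?_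
    convert e using 1
    simp only [N₀]
    group
  have hascN : ∀ z : BI D F, asc (β z) = ∅ := fun z => by
    refine Finset.filter_eq_empty_iff.2 fun i hi hp => ?_
    have hcell : InCell D n₀ (((z : ↥(D.group F)) * N₀ : ↥(D.group F)) : GL D.Idx F) :=
      ⟨_, z.2, 1, one_mem _, by simp [N₀]⟩
    rw [hβ, posC_iff h hn₀ hcell, posAt_iff h.good hσ₀] at hp
    exact not_pos_of_isNeg h.good (hw _ (simple_pos h.good (Finset.mem_range.1 hi)))
      (hp i (Finset.mem_singleton_self i) (Finset.mem_range.1 hi))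
  refine Nat.card_congr (Equiv.ofBijective (fun u => ⟨β u.1, ?_, ?_⟩) ⟨?_, ?_⟩)
  · obtain ⟨u, hu⟩ := u
    obtain ⟨z, rfl⟩ := QuotientGroup.mk_surjective u
    have : β ((b * z : BI D F) : BI D F ⧸ (HI D F).subgroupOf (BI D F)) = β z :=
      congrArg β hu
    rw [hβ, hβ] at this
    rw [hβ]
    refine Eq.trans ?_ this
    show ((_ : ↥(D.group F)) : ↥(D.group F) ⧸ BI D F) = _
    congr 1
    push_cast
    rw [smul_eq_mul, mul_assoc]
  · obtain ⟨z, hz⟩ := QuotientGroup.mk_surjective u.1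
    rw [← hz]; exact hascN z
  · exact fun u u' e => Subtype.ext (hinj (congrArg Subtype.val e))
  · rintro ⟨x, hx, hasc0⟩
    obtain ⟨y, rfl⟩ := QuotientGroup.mk_surjective x
    obtain ⟨c, hc, n, hn, c', hc', e⟩ := bruhat h y.2
    obtain ⟨σ, hσ⟩ := exists_acts h.good hn
    have hcell : InCell D n (y : GL D.Idx F) := ⟨c, hc, c', hc', e⟩
    have hneg : ∀ i < D.rank, ¬ D.IsPosRoot (σ (D.simple i)) := fun i hi hp => by
      refine Finset.filter_eq_empty_iff.1 hasc0 (Finset.mem_range.2 hi) ?_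
      rw [posC_iff h hn hcell, posAt_iff h.good hσ]
      intro j hj _
      rw [Finset.mem_singleton.1 hj]
      exact hp
    obtain ⟨c₁, hc₁, c₂, hc₂, e₁⟩ :=
      hcell.congr h (n' := n₀) (by
        have := inv_mem (longest_unique h hn₀ hn hσ₀ hw hσ hneg)
        simpa using this)
    set C : BI D F := ⟨⟨c₁, borel_le_group h.good hc₁⟩, hc₁⟩
    have hy : β (C : BI D F ⧸ (HI D F).subgroupOf (BI D F)) = y := by
      rw [hβ, QuotientGroup.eq, Subgroup.mem_subgroupOf]
      push_cast
      rw [e₁, show (c₁ * n₀)⁻¹ * (c₁ * n₀ * c₂) = c₂ by group]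
      exact hc₂
    refine ⟨⟨(C : BI D F ⧸ (HI D F).subgroupOf (BI D F)), hinj ?_⟩, Subtype.ext hy⟩
    rw [hy]
    refine Eq.trans ?_ hx
    rw [← hy, hβ]
    show ((_ : ↥(D.group F)) : ↥(D.group F) ⧸ BI D F) = _
    congr 1
    show (((b * C : BI D F) : ↥(D.group F)) * N₀) = (b : ↥(D.group F)) * ((C : ↥(D.group F)) * N₀)
    rw [Subgroup.coe_mul, mul_assoc]

theorem card_borel_mod_diag [Fintype F] (h : Std D A) :
    Nat.card (BI D F ⧸ (HI D F).subgroupOf (BI D F)) = Fintype.card F ^ (D.nroots / 2) := by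
  haveI : Finite (GL D.Idx F) := finite_GL
  have hH : D.diagonalSubgroup F ≤ D.borelSubgroup F := le_sup_right
  have h1 : Nat.card ↥((HI D F).subgroupOf (BI D F)) = Nat.card (D.diagonalSubgroup F) :=
    (Nat.card_congr (Subgroup.subgroupOfEquivOfLe (show HI D F ≤ BI D F from fun x hx => hH hx)).toEquiv).trans
      (Nat.card_congr (Subgroup.subgroupOfEquivOfLe (hH.trans (borel_le_group h.good))).toEquiv)
  have h2 : Nat.card (BI D F) = Nat.card (D.borelSubgroup F) :=
    Nat.card_congr (Subgroup.subgroupOfEquivOfLe (borel_le_group h.good)).toEquiv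
  have h3 := Subgroup.card_eq_card_quotient_mul_card_subgroup ((HI D F).subgroupOf (BI D F))
  rw [h1, h2, card_borel h] at h3
  exact (Nat.eq_of_mul_eq_mul_right Nat.card_pos h3).symm

/-- the degree -/
theorem steinberg_one [Fintype F] (h : Std D A) :
    D.steinbergCharacter F 1 = (Fintype.card F : ℂ) ^ (D.nroots / 2) := by
  have := steinberg_on_borel h (1 : BI D F)
  rw [Subgroup.coe_one] at this
  rw [this, fixedPointCharacter, MulAction.fixedBy_one_eq_univ, Nat.card_congr (Equiv.Set.univ _),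
    card_borel_mod_diag h]
  push_cast
  rfl

end cells

section irreducible

variable [Fintype F]

theorem isClassFunction_fixed {G : Type*} [Group G] [Finite G] (H : Subgroup G) :
    IsClassFunction G (fixedPointCharacter H) :=
  haveI := Fintype.ofFinite G
  isClassFunction_of_isCharacter (isCharacter_fixedBy (X := G ⧸ H))

theorem isGeneralized_steinberg [Fintype ↥(D.group F)] :
    IsGeneralizedCharacter ↥(D.group F) (D.steinbergCharacter F) := by
  classical
  let f : Finset ℕ → ↥(D.group F) → ℂ := fun J => fixedPointCharacter (D.parabolicIn F J)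
  have hf : ∀ J, IsCharacter ↥(D.group F) (f J) := fun J => isCharacter_fixedBy
  refine ⟨∑ J ∈ (Finset.range D.rank).powerset.filter (fun J => Even J.card), f J,
    ∑ J ∈ (Finset.range D.rank).powerset.filter (fun J => ¬ Even J.card), f J,
    isCharacter_sum _ fun J _ => hf J, isCharacter_sum _ fun J _ => hf J, ?_⟩
  funext g
  simp only [ChevalleyDatum.steinbergCharacter, Pi.sub_apply, Finset.sum_apply]
  rw [← Finset.sum_filter_add_sum_filter_not _ (fun J : Finset ℕ => Even J.card), sub_eq_add_neg,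
    ← Finset.sum_neg_distrib]
  refine congrArg₂ (· + ·) (Finset.sum_congr rfl fun J hJ => ?_) (Finset.sum_congr rfl fun J hJ => ?_)
  · simp [(Finset.mem_filter.1 hJ).2.neg_one_pow, f]
  · simp [(Nat.not_even_iff_odd.1 (Finset.mem_filter.1 hJ).2).neg_one_pow, f]

open Classical in
/-- orbits of one parabolic on the cosets of another -/
theorem card_orbits_eq (h : Std D A) (K J : Finset ℕ) [Fintype (Fin D.nroots → Fin D.nroots)] :
    Nat.card (MulAction.orbitRel.Quotient (D.parabolicIn F K) (↥(D.group F) ⧸ D.parabolicIn F J)) =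
      Nat.card {f : Fin D.nroots → Fin D.nroots //
        ∃ n ∈ D.monomialSubgroup F, ∃ σ, Acts (F := F) h.good n σ ∧ (∀ r, (f r).val = σ r) ∧
          BiPos h.good K J n} := by
  let mk : ↥(D.group F) → MulAction.orbitRel.Quotient (D.parabolicIn F K)
      (↥(D.group F) ⧸ D.parabolicIn F J) := fun y => Quotient.mk'' (y : ↥(D.group F) ⧸ D.parabolicIn F J)
  have hrel : ∀ y y', mk y = mk y' ↔ ∃ p ∈ D.parabolicIn F K, ∃ q ∈ D.parabolicIn F J,
      y = p * y' * q := by
    intro y y'
    rw [Quotient.eq'', MulAction.orbitRel_apply, MulAction.mem_orbit_iff]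
    constructor
    · rintro ⟨⟨p, hp⟩, e⟩
      have e' : (p * y')⁻¹ * y ∈ D.parabolicIn F J := QuotientGroup.eq.1 e
      exact ⟨p, hp, _, e', by group⟩
    · rintro ⟨p, hp, q, hq, rfl⟩
      refine ⟨⟨p, hp⟩, QuotientGroup.eq.2 ?_⟩
      show (p * y')⁻¹ * (p * y' * q) ∈ _
      rw [show (p * y')⁻¹ * (p * y' * q) = q by group]; exact hq
  symm
  refine Nat.card_congr (Equiv.ofBijective (fun f => mk ⟨f.2.choose,
    monomialSubgroup_le_group h.good f.2.choose_spec.1⟩) ⟨?_, ?_⟩)
  · intro f f' e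
    obtain ⟨hn, σ, hσ, hf, hb⟩ := f.2.choose_spec
    obtain ⟨hn', σ', hσ', hf', hb'⟩ := f'.2.choose_spec
    obtain ⟨p, hp, q, hq, e⟩ := (hrel _ _).1 e.symm
    have e' := congrArg Subtype.val e
    push_cast at e'
    have hd := biPos_unique h hn hn' hb hb' (mem_parabolicIn.1 hp) (mem_parabolicIn.1 hq)
      ⟨1, one_mem _, 1, one_mem _, by rw [← e']; group⟩
    refine Subtype.ext (funext fun r => Fin.ext ?_)
    rw [hf, hf']
    have := hσ.mul (acts_diag h.good hd)
    rw [mul_inv_cancel_left] at this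
    exact this.unique hσ' r.isLt
  · intro u
    obtain ⟨z, rfl⟩ := Quotient.mk''_surjective u
    obtain ⟨y, rfl⟩ := QuotientGroup.mk_surjective z
    obtain ⟨p, hp, q, hq, n, hn, hc, hb⟩ := exists_biPos h K J y.2
    obtain ⟨σ, hσ⟩ := exists_acts h.good hn
    let f : Fin D.nroots → Fin D.nroots := fun r => ⟨σ r, hσ.map.1 r r.isLt⟩
    have hf : ∃ n ∈ D.monomialSubgroup F, ∃ σ, Acts (F := F) h.good n σ ∧ (∀ r, (f r).val = σ r) ∧
        BiPos h.good K J n := ⟨n, hn, σ, hσ, fun _ => rfl, hb⟩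
    refine ⟨⟨f, hf⟩, ?_⟩
    obtain ⟨hm, σ', hσ', hf', -⟩ := hf.choose_spec
    have hd := diag_of_same h hm hn hσ' hσ fun r hr => (hf' ⟨r, hr⟩).symm
    obtain ⟨c, hc1, c', hc2, e⟩ := hc.congr h (n' := hf.choose) (by simpa using inv_mem hd)
    have hPG : ∀ {L : Finset ℕ} {x : GL D.Idx F}, x ∈ D.parabolicSubgroup F (L : Set ℕ) →
        x ∈ D.group F := by
      intro L x hx
      refine (?_ : D.parabolicSubgroup F (L : Set ℕ) ≤ D.group F) hx
      rw [parabolic_eq h.good]
      refine sup_le (borel_le_group h.good) ((Subgroup.closure_le _).2 ?_)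
      rintro _ ⟨j, -, hj, rfl⟩
      exact nS_mem_group h.good j
    show mk _ = mk y
    refine (hrel _ _).2 ⟨⟨c⁻¹ * p, mul_mem (inv_mem (borel_le_group h.good hc1)) (hPG hp)⟩,
      mul_mem (inv_mem (borel_le_parabolic _ hc1)) hp,
      ⟨q * c'⁻¹, mul_mem (hPG hq) (inv_mem (borel_le_group h.good hc2))⟩,
      mul_mem hq (inv_mem (borel_le_parabolic _ hc2)), Subtype.ext ?_⟩
    push_cast
    rw [show c⁻¹ * p * (y : GL D.Idx F) * (q * c'⁻¹) = c⁻¹ * (p * y * q) * c'⁻¹ by group, e]
    group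

open Classical in
theorem inner_self_steinberg (h : Std D A) [Fintype ↥(D.group F)] :
    classInner (D.steinbergCharacter F) (D.steinbergCharacter F) = 1 := by
  set N := (Finset.range D.rank).powerset with hN
  set χ := D.steinbergCharacter F with hχdef
  have hχ : χ = ∑ J ∈ N, (-1 : ℂ) ^ J.card • fixedPointCharacter (D.parabolicIn F J) := by
    funext g
    simp [hχdef, ChevalleyDatum.steinbergCharacter, Finset.sum_apply, hN]
  have hclass : IsClassFunction ↥(D.group F) χ := by
    rw [hχ]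
    exact isClassFunction_sum _ fun J _ => isClassFunction_smul _ (isClassFunction_fixed _)
  obtain ⟨n₀, hn₀, σ₀, hσ₀, hw⟩ := exists_longest (F := F) h.good
  let Ω : Finset ℕ → Finset ℕ → (Fin D.nroots → Fin D.nroots) → Prop := fun K J f =>
    ∃ n ∈ D.monomialSubgroup F, ∃ σ, Acts (F := F) h.good n σ ∧ (∀ r, (f r).val = σ r) ∧
      BiPos h.good K J n
  have hK : ∀ K ∈ N, classInner χ (fixedPointCharacter (D.parabolicIn F K)) =
      if K = ∅ then 1 else 0 := by
    intro K hKN
    have hind : fixedPointCharacter (D.parabolicIn F K) =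
        indFun (D.parabolicIn F K) (fun _ => (1 : ℂ)) := by
      have hst : MulAction.stabilizer ↥(D.group F)
          ((1 : ↥(D.group F)) : ↥(D.group F) ⧸ D.parabolicIn F K) = D.parabolicIn F K := by
        ext x
        rw [MulAction.mem_stabilizer_iff, MulAction.Quotient.smul_mk, QuotientGroup.eq, smul_eq_mul,
          mul_one, mul_one, inv_mem_iff]
      conv_rhs => rw [← hst]
      rw [indFun_stabilizer_one]
      rfl
    rw [hind, inner_indFun_right _ _ hclass, hχ]
    rw [show (fun p : D.parabolicIn F K =>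
        (∑ J ∈ N, (-1 : ℂ) ^ J.card • fixedPointCharacter (D.parabolicIn F J)) p) =
      ∑ J ∈ N, (-1 : ℂ) ^ J.card • (fun p : D.parabolicIn F K =>
        (Nat.card (MulAction.fixedBy (↥(D.group F) ⧸ D.parabolicIn F J) p) : ℂ)) by
      funext p; simp [fixedPointCharacter, Finset.sum_apply]; rfl]
    rw [inner_sum_left]
    simp only [Chars.inner_smul_left, inner_fixedBy_one, card_orbits_eq h K]
    rw [show (∑ J ∈ N, (-1 : ℂ) ^ J.card * (Nat.card {f // Ω K J f} : ℂ)) =
      ∑ J ∈ N, ∑ f, if Ω K J f then (-1 : ℂ) ^ J.card else 0 from Finset.sum_congr rfl fun J _ => by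
        rw [Nat.card_eq_fintype_card, Fintype.card_subtype, ← Finset.sum_filter, Finset.sum_const,
          nsmul_eq_mul, mul_comm], Finset.sum_comm]
    have hval : ∀ f, (∑ J ∈ N, if Ω K J f then (-1 : ℂ) ^ J.card else 0) =
        if Ω K ∅ f ∧ (∀ r : Fin D.nroots, D.IsPosRoot r → D.IsNegRoot (f r).val) then 1 else 0 := by
      intro f
      by_cases hΩ : Ω K ∅ f
      · obtain ⟨n, hn, σ, hσ, hf, hb⟩ := hΩ
        set S := (Finset.range D.rank).filter fun i => D.IsPosRoot (σ (D.simple i)) with hS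
        have heq : ∀ J ∈ N, (Ω K J f ↔ J ⊆ S) := by
          intro J hJ
          rw [hN, Finset.mem_powerset] at hJ
          constructor
          · rintro ⟨n', hn', σ', hσ', hf', hb'⟩ j hj
            refine Finset.mem_filter.2 ⟨hJ hj, ?_⟩
            have hj' := Finset.mem_range.1 (hJ hj)
            have := hb'.1 σ' hσ' j hj hj'
            rwa [← hf' ⟨_, h.good.simple_lt j hj'⟩, hf] at this
          · refine fun hsub => ⟨n, hn, σ, hσ, hf, (posAt_iff h.good hσ).2 fun j hj _ => ?_, hb.2⟩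
            exact (Finset.mem_filter.1 (hsub hj)).2
        rw [Finset.sum_congr rfl fun J hJ => by rw [if_congr (heq J hJ) rfl rfl],
          alt_powerset _ S (Finset.filter_subset _ _)]
        refine if_congr ?_ rfl rfl
        constructor
        · intro hempty
          refine ⟨⟨n, hn, σ, hσ, hf, hb⟩, fun r hr => ?_⟩
          rw [hf]
          refine isNeg_of_not_pos h.good (hσ.map.1 r r.isLt) fun hp => ?_
          obtain ⟨i, hi, hpi⟩ := exists_simple_pos h.good hσ.map hr hp
          exact Finset.filter_eq_empty_iff.1 hempty (Finset.mem_range.2 hi) hpi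
        · rintro ⟨-, hall⟩
          refine Finset.filter_eq_empty_iff.2 fun i hi => not_pos_of_isNeg h.good ?_
          have := hall ⟨_, h.good.simple_lt i (Finset.mem_range.1 hi)⟩
            (simple_pos h.good (Finset.mem_range.1 hi))
          rwa [hf] at this
      · rw [if_neg (fun h' => hΩ h'.1)]
        refine Finset.sum_eq_zero fun J _ => if_neg fun ⟨n, hn, σ, hσ, hf, hb⟩ => hΩ ?_
        exact ⟨n, hn, σ, hσ, hf, fun _ _ j hj => absurd hj (Finset.notMem_empty j), hb.2⟩
    simp only [hval]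
    obtain ⟨τ, hτ, hτσ⟩ := acts_inv h.good hn₀ hσ₀
    by_cases hK0 : K = ∅
    · rw [if_pos hK0]
      subst hK0
      rw [Finset.sum_eq_single (fun r : Fin D.nroots => (⟨σ₀ r, hσ₀.map.1 r r.isLt⟩ : Fin D.nroots))]
      · exact if_pos ⟨⟨n₀, hn₀, σ₀, hσ₀, fun _ => rfl,
          fun _ _ j hj => absurd hj (Finset.notMem_empty j),
          fun _ _ j hj => absurd hj (Finset.notMem_empty j)⟩, fun r hr => hw r hr⟩
      · intro f _ hne
        refine if_neg fun ⟨⟨n, hn, σ, hσ, hf, _⟩, hall⟩ => hne ?_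
        have hd := longest_unique h hn₀ hn hσ₀ hw hσ fun i hi => not_pos_of_isNeg h.good (by
          have := hall ⟨_, h.good.simple_lt i hi⟩ (simple_pos h.good hi)
          rwa [hf] at this)
        have := hσ₀.mul (acts_diag h.good hd)
        rw [mul_inv_cancel_left] at this
        funext r
        refine Fin.ext ?_
        rw [hf]
        exact (this.unique hσ r.isLt).symm
      · exact fun h' => absurd (Finset.mem_univ _) h'
    · rw [if_neg hK0]
      refine Finset.sum_eq_zero fun f _ => if_neg ?_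
      rintro ⟨⟨n, hn, σ, hσ, hf, hb⟩, hall⟩
      obtain ⟨k, hk⟩ := Finset.nonempty_iff_ne_empty.2 hK0
      have hk' : k < D.rank := Finset.mem_range.1 (Finset.mem_powerset.1 (hN ▸ hKN) hk)
      obtain ⟨τ', hτ', hτσ'⟩ := acts_inv h.good hn hσ
      have hp := hb.2 τ' hτ' k hk hk'
      have hlt := hτ'.map.1 _ (h.good.simple_lt k hk')
      have := hall ⟨_, hlt⟩ hp
      rw [hf, (hτσ' _ (h.good.simple_lt k hk')).2] at this
      exact not_pos_of_isNeg h.good this (simple_pos h.good hk')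
  conv_lhs => arg 2; rw [hχ]
  rw [inner_sum_right, Finset.sum_eq_single_of_mem ∅ (Finset.empty_mem_powerset _)
    (fun K hKN hne => by rw [Chars.inner_smul_right, hK K hKN, if_neg hne, mul_zero]),
    Chars.inner_smul_right, hK ∅ (Finset.empty_mem_powerset _), if_pos rfl]
  simp

theorem isIrr_steinberg (h : Std D A) :
    IsIrrCharacter ↥(D.group F) (D.steinbergCharacter F) := by
  haveI : Finite (GL D.Idx F) := finite_GL
  haveI := Fintype.ofFinite ↥(D.group F)
  refine irr_of_norm_one isGeneralized_steinberg (inner_self_steinberg h) ?_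
  rw [steinberg_one h, ← Nat.cast_pow, Complex.natCast_re]
  exact Nat.cast_nonneg _

/-- the order is `q^N` times a number prime to `p` -/
theorem card_group_eq (h : Std D A) {p : ℕ} [Fact p.Prime] [CharP F p] :
    ∃ m, ¬ p ∣ m ∧ Nat.card (D.group F) = Fintype.card F ^ (D.nroots / 2) * m := by
  haveI : Finite (GL D.Idx F) := finite_GL
  have hp := (Fact.out : p.Prime)
  obtain ⟨k, -, hq⟩ := FiniteField.card F p
  have hqk : p ∣ Fintype.card F := hq ▸ dvd_pow_self p k.pos.ne'
  refine ⟨Nat.card (D.diagonalSubgroup F) *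
    ∑ w : Weyl h.good, Fintype.card F ^ permInv (D := D) w.1, ?_, by
      rw [card_group h, card_borel h, mul_assoc]⟩
  intro hdvd
  rcases hp.dvd_mul.1 hdvd with h' | h'
  · have h1 : Nat.card (D.diagonalSubgroup F) ∣ Nat.card (Fin D.rank → Fˣ) := by
      rw [diagonalSubgroup_eq h.good]
      exact Subgroup.card_range_dvd _
    have h2 := h'.trans h1
    rw [Nat.card_fun, Nat.card_units, Nat.card_eq_fintype_card (α := F)] at h2
    have h3 := hp.dvd_of_dvd_pow h2
    have := Fintype.one_lt_card (α := F)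
    have := Nat.dvd_sub hqk h3
    rw [Nat.sub_sub_self (by omega)] at this
    exact hp.one_lt.ne' (Nat.dvd_one.1 this)
  · classical
    rw [← Finset.add_sum_erase _ _ (Finset.mem_univ (1 : Weyl h.good))] at h'
    have h1 : permInv (D := D) ((1 : Weyl h.good) : Equiv.Perm (Fin D.nroots)) = 0 := by
      simp [permInv]
    rw [h1, pow_zero] at h'
    have h2 : p ∣ ∑ w ∈ Finset.univ.erase (1 : Weyl h.good), Fintype.card F ^ permInv (D := D) w.1 := by
      refine Finset.dvd_sum fun w hw => dvd_trans hqk (dvd_pow_self _ fun h0 => ?_)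
      refine (Finset.mem_erase.1 hw).1 ?_
      obtain ⟨v, hv, rfl⟩ := exists_word h.good w
      refine Subtype.ext (Equiv.ext fun r => Fin.ext ?_)
      rw [wW_apply h.good hv]
      refine eq_one_of_pos h.good hv (fun s hs => ?_) r.isLt
      by_contra hcon
      have := Finset.card_eq_zero.1 h0
      rw [Finset.filter_eq_empty_iff] at this
      refine this (x := ⟨s, hs.1⟩) (Finset.mem_univ _) ⟨hs, ?_⟩
      rwa [wW_apply h.good hv]
    exact hp.one_lt.ne' (Nat.dvd_one.1 ((Nat.dvd_add_left h2).1 h'))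

theorem steinberg_vanishes (h : Std D A) {p : ℕ} [Fact p.Prime] [CharP F p] {g : ↥(D.group F)}
    (hg : p ∣ orderOf g) : D.steinbergCharacter F g = 0 := by
  haveI : Finite (GL D.Idx F) := finite_GL
  haveI := Fintype.ofFinite ↥(D.group F)
  obtain ⟨k, -, hq⟩ := FiniteField.card F p
  obtain ⟨m, hm, hcard⟩ := card_group_eq (F := F) h (p := p)
  rw [hq, ← pow_mul] at hcard
  refine eq_zero_of_dvd_orderOf (isIrr_steinberg h) (n := k * (D.nroots / 2)) Fact.out
    (d := p ^ (k * (D.nroots / 2))) ?_ ?_ dvd_rfl hg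
  · rw [steinberg_one h, hq]
    push_cast
    rw [← pow_mul]
  · rw [hcard, pow_succ]
    exact fun hd => hm (Nat.dvd_of_mul_dvd_mul_left (pow_pos (Nat.Prime.pos Fact.out) _) hd)

end irreducible

end CfsgLib.Chev
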