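import Cfsg.Agent.Lib.Chev.DefectRoots
import Cfsg.Agent.Lib.Chev.Weights.DefectZero
import Cfsg.Agent.Lib.Blocks.Green
import Cfsg.Agent.Lib.Blocks.FullDefect

/-!
In the defining characteristic a Chevalley group has two blocks: the Steinberg character and the rest.
-/

set_option autoImplicit false

namespace CfsgLib.Chev

open Cfsg Cfsg.Lie Matrix CfsgLib.Blocks CfsgLib.BlockOrth

variable {D : ChevalleyDatum} {A : Aux} {F : Type*} [Field F] [Fintype F]

/-- an element centralizing `U` of order prime to the characteristic is trivial -/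
theorem eq_one_of_centralizes (h : Std D A) {p : ℕ} [Fact p.Prime] [CharP F p] {y : GL D.Idx F}
    (hy : y ∈ D.group F) (hreg : ¬ p ∣ orderOf y)
    (hc : ∀ z ∈ D.posUnipotent F, y * z = z * y) : y = 1 := by
  have g := h.good
  obtain ⟨b, hb, n, hn, b', hb', rfl⟩ := bruhat h hy
  have hBU : ∀ b ∈ D.borelSubgroup F, ∀ z, z ∈ D.posUnipotent F →
      b * z * b⁻¹ ∈ D.posUnipotent F := by
    intro b hb z hz
    obtain ⟨u, hu, c, rfl⟩ := (mem_borel_iff g).1 hb
    have := mul_mem (mul_mem hu (tor_conj_posUnipotent g c hz)) (inv_mem hu)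
    simpa [mul_assoc] using this
  obtain ⟨σ, hσ⟩ := exists_acts g hn
  have hnd : n ∈ D.diagonalSubgroup F := by
    refine diag_of_pos h hn hσ fun i hi => ?_
    obtain ⟨k, hk, e⟩ := hσ.conj _ (g.simple_lt i hi)
    by_contra hnp
    have hlt := hσ.map.1 _ (g.simple_lt i hi)
    have hx : xG g (σ (D.simple i)) (k * 1) ∈ D.posUnipotent F := by
      rw [← e 1]
      have h0 := xG_mem_posUnipotent (F := F) g (simple_pos g hi) 1
      have h1 := hBU _ (inv_mem hb') _ h0
      rw [inv_inv] at h1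
      have h2 := hc _ h1
      have h3 : b * (n * xG g (D.simple i) 1 * n⁻¹) * b⁻¹ = b'⁻¹ * xG g (D.simple i) 1 * b' := by
        have := congrArg (fun w => w * (b * n * b')⁻¹) h2
        simpa [mul_assoc] using this
      have h4 := hBU _ (inv_mem hb) _ (h3 ▸ h1)
      simpa [mul_assoc] using h4
    have h5 := Subgroup.mem_bot.1 ((borel_inf_negUnipotent h).le (Subgroup.mem_inf.2
      ⟨(le_sup_left : D.posUnipotent F ≤ D.borelSubgroup F) hx,
        xG_mem_negUnipotent g (isNeg_of_not_pos g hlt hnp) _⟩))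
    exact mul_ne_zero hk one_ne_zero (xG_eq_one h hlt h5)
  have hB : b * n * b' ∈ D.borelSubgroup F :=
    mul_mem (mul_mem hb ((le_sup_right : _ ≤ D.borelSubgroup F) hnd)) hb'
  obtain ⟨u, hu, c, e⟩ := (mem_borel_iff g).1 hB
  rw [e] at hc hreg ⊢
  have htri : D.posUnipotent F ≤ triG (levW D A fun _ => 1) 0 le_rfl := by
    rw [posUnipotent_eq g, Subgroup.closure_le]
    rintro z ⟨r, t, hr, rfl⟩
    refine xG_mem_triG_ge g _ hr.1 t _ ?_
    simp only [lev, one_mul]
    refine lt_of_le_of_ne (Finset.sum_nonneg fun j _ => (g.pos_iff r hr.1).1 hr j) fun e => ?_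
    refine g.neg_ne r hr.1 (g.a_inj _ (g.neg_lt r hr.1) r hr.1 fun j hj => ?_)
    rw [g.a_neg r hr.1, (Finset.sum_eq_zero_iff_of_nonneg
      fun j _ => (g.pos_iff r hr.1).1 hr j).1 e.symm j (Finset.mem_range.2 hj), neg_zero]
  have hchi : ∀ i, i < D.rank → (chi D A c (D.simple i) : F) = 1 := by
    intro i hi
    have hp := simple_pos g hi
    have hlev : lev D A (fun _ => 1) (D.simple i) = 1 := by
      simp only [lev, one_mul]
      rw [Finset.sum_congr rfl fun j hj => g.a_simple i hi j (Finset.mem_range.1 hj)]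
      simp [hi]
    set a : F := (chi D A c (D.simple i) : F)
    have h1 : u * xG g (D.simple i) (a * 1) = xG g (D.simple i) 1 * u := by
      have h2 := congrArg (fun w => w * (tor D A c)⁻¹) (hc _ (xG_mem_posUnipotent g hp 1))
      rw [← tor_conj_xG g c hp.1]
      simpa [mul_assoc] using h2
    have hu' := htri hu
    have hQ := htri (xG_mem_posUnipotent (F := F) g hp 1)
    have h3 : xG g (D.simple i) (a * 1 - 1) ∈ triG (levW D A fun _ => 1) (0 + 1) (by omega) := by
      have h4 := commutator_mem_triG (inv_mem hu') hQ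
      rwa [inv_inv, show u⁻¹ * xG g (D.simple i) 1 * u = xG g (D.simple i) (a * 1) by
        rw [mul_assoc, ← h1, inv_mul_cancel_left], xG_inv, xG_add, ← sub_eq_add_neg] at h4
    by_contra hne
    have := lev_lt_of_mem_triG g _ hp.1 (sub_ne_zero.2 (by rwa [mul_one])) h3
    omega
  have hc1 : (tor D A c : GL D.Idx F) = 1 := (tor_eq_one_iff g c).2 (funext fun k => Units.ext (hchi k k.isLt))
  rw [hc1, mul_one] at hreg ⊢
  by_contra hne
  obtain ⟨n', -, hq⟩ := FiniteField.card F p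
  have hU : IsPGroup p (D.posUnipotent F) := IsPGroup.of_card (n := n' * (D.nroots / 2))
    (by rw [card_posUnipotent h, hq, ← pow_mul])
  obtain ⟨j, hj⟩ := IsPGroup.iff_orderOf.1 hU ⟨u, hu⟩
  rw [Subgroup.orderOf_mk] at hj
  refine hne (orderOf_eq_one_iff.1 ?_)
  rcases Nat.eq_zero_or_pos j with rfl | hjp
  · rw [hj, pow_zero]
  · exact absurd (hj ▸ dvd_pow_self p hjp.ne') hreg

theorem mem_conj_iff {G : Type*} [Group G] {H : Subgroup G} {x z : G} :
    z ∈ H.map (MulAut.conj x).toMonoidHom ↔ x⁻¹ * z * x ∈ H := by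
  constructor
  · rintro ⟨w, hw, rfl⟩
    simpa [mul_assoc] using hw
  · exact fun hw => ⟨_, hw, by simp [mul_assoc]⟩

/-- **defect groups are trivial or Sylow** -/
theorem defectGroup_bot_or_sylow (h : Std D A) (hf : fullCheck D A = true) {p : ℕ} [Fact p.Prime]
    [CharP F p] [Fintype ↥(D.group F)] {M : Ideal AlgInt} [M.IsPrime] (hpM : (p : AlgInt) ∈ M)
    (P : Sylow p ↥(D.group F))
    (hP : (P : Subgroup ↥(D.group F)) = (D.posUnipotent F).subgroupOf (D.group F))
    {B : Set (IrrCharacter ↥(D.group F))} (hB : IsPBlock M B) {Q : Subgroup ↥(D.group F)}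
    (hQ : IsDefectGroup p M B Q) :
    Q = ⊥ ∨ IsDefectGroup p M B (P : Subgroup ↥(D.group F)) := by
  haveI : Finite (GL D.Idx F) := finite_GL
  have g := h.good
  -- a defect group inside `U` is conjugate to the unipotent group of some `J`
  have step : ∀ Q : Subgroup ↥(D.group F), IsDefectGroup p M B Q → Q ≤ P →
      ∃ b ∈ D.borelSubgroup F, ∃ J : Set ℕ,
        ∀ z : ↥(D.group F), z ∈ Q ↔ b⁻¹ * (z : GL D.Idx F) * b ∈ UJ g J := by
    intro Q hQ hle
    obtain ⟨x, -, ⟨S, hS⟩, hx⟩ := green_sylow_intersection hpM hB hQ P hle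
    have hmem : ∀ z : ↥(D.group F), z ∈ Q ↔ (z : GL D.Idx F) ∈ D.posUnipotent F ∧
        (x : GL D.Idx F)⁻¹ * z * x ∈ D.posUnipotent F := by
      intro z
      conv_lhs => rw [← hx]
      rw [Subgroup.mem_inf, mem_conj_iff, hP, Subgroup.mem_subgroupOf, Subgroup.mem_subgroupOf]
      push_cast
      exact Iff.rfl
    obtain ⟨b, hb, J, hJ⟩ := exists_UJ_of_inter h (S := Q.map (D.group F).subtype) (y := (x : GL D.Idx F))
      x.2 (fun z => ⟨fun ⟨w, hw, e⟩ => e ▸ (hmem w).1 hw, fun hz => by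
        have hzG : z ∈ D.group F := posUnipotent_le_group g hz.1
        exact ⟨⟨z, hzG⟩, (hmem ⟨z, hzG⟩).2 hz, rfl⟩⟩)
      (fun z ⟨w, hw, e⟩ => by
        subst e
        rw [← hS] at hw
        obtain ⟨s, -, rfl⟩ := hw
        have := Subgroup.mem_centralizer_singleton_iff.1 s.2
        exact congrArg Subtype.val this.symm)
    exact ⟨b, hb, J, fun z => ⟨fun hz => (hJ _).1 ⟨z, hz, rfl⟩, fun hz => by
      obtain ⟨w, hw, e⟩ := (hJ _).2 hz
      exact (Subtype.ext e : w = z) ▸ hw⟩⟩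
  -- a full `J` means a Sylow group
  have hfull : ∀ (Q : Subgroup ↥(D.group F)) (b : GL D.Idx F), b ∈ D.borelSubgroup F → ∀ J : Set ℕ,
      (∀ j < D.rank, j ∈ J) → (∀ z : ↥(D.group F), z ∈ Q ↔ b⁻¹ * (z : GL D.Idx F) * b ∈ UJ g J) →
      Q = P := by
    intro Q b hb J hJ hiff
    ext z
    rw [hiff, UJ_full g hJ, hP, Subgroup.mem_subgroupOf]
    obtain ⟨u, hu, c, rfl⟩ := (mem_borel_iff g).1 hb
    constructor
    · intro hz
      have := mul_mem (mul_mem hu (tor_conj_posUnipotent g c hz)) (inv_mem hu)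
      simpa [mul_assoc] using this
    · intro hz
      have := tor_conj_posUnipotent g c⁻¹ (mul_mem (mul_mem (inv_mem hu) hz) hu)
      simpa [mul_assoc] using this
  obtain ⟨S, hS⟩ := (IsDefectGroup.isPGroup hQ).exists_le_sylow
  obtain ⟨x, hSP⟩ := MulAction.exists_smul_eq ↥(D.group F) S P
  have hx : Q.map (MulAut.conj x).toMonoidHom ≤ P := by
    rw [← hSP, Sylow.coe_subgroup_smul]
    exact Subgroup.map_mono hS
  set Q₁ := Q.map (MulAut.conj x).toMonoidHom
  have hQ₁ : IsDefectGroup p M B Q₁ := IsDefectGroup.map_conj hQ x hB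
  obtain ⟨b, hb, J, hJ⟩ := step Q₁ hQ₁ hx
  by_cases hne : ∃ j < D.rank, j ∈ J
  swap
  · left
    have h0 : Q₁ = ⊥ := (Subgroup.eq_bot_iff_forall _).2 fun z hz => by
      have h1 := (hJ z).1 hz
      rw [UJ_empty g (fun j hj hjJ => hne ⟨j, hj, hjJ⟩), Subgroup.mem_bot] at h1
      have h2 := congrArg (fun w => b * w * b⁻¹) h1
      exact Subtype.ext (by simpa [mul_assoc] using h2)
    exact (Subgroup.map_eq_bot_iff_of_injective _ (MulAut.conj x).injective).1 h0
  right
  obtain ⟨j, hj, hjJ⟩ := hne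
  obtain ⟨n, hn, hU, r, hr, hrfull, t, ht, hrJ⟩ := exists_full_move (F := F) g hf hj hjJ
  set y : ↥(D.group F) := ⟨n * b⁻¹,
    mul_mem (monomialSubgroup_le_group g hn) (inv_mem (borel_le_group g hb))⟩
  set Q₂ := Q₁.map (MulAut.conj y).toMonoidHom
  have hQ₂ : IsDefectGroup p M B Q₂ := IsDefectGroup.map_conj hQ₁ y hB
  have hQ₂U : Q₂ ≤ P := by
    rintro _ ⟨z, hz, rfl⟩
    rw [hP, Subgroup.mem_subgroupOf]
    have := hU _ ((hJ z).1 hz)
    simpa [y, mul_assoc] using this
  obtain ⟨b', hb', K, hK⟩ := step Q₂ hQ₂ hQ₂U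
  have hxr : (⟨xG g r t, xG_mem_group g r t⟩ : ↥(D.group F)) ∈ Q₂ := by
    refine mem_conj_iff.2 ((hJ _).2 ?_)
    simpa [y, mul_assoc] using hrJ
  have hx' : b'⁻¹ * xG g r t * b' ∈ UJ g K :=
    (hK (⟨xG g r t, xG_mem_group g r t⟩ : ↥(D.group F))).1 hxr
  have hrK : InJ D A K r := inJ_of_mem_conj (J := K) g hb' hr ht hx'
  have hKfull : ∀ k < D.rank, k ∈ K := fun k hk => by
    by_contra hkK
    exact (hrfull k hk).ne' (hrK.2 k hk hkK)
  exact Eq.mp (congrArg (IsDefectGroup p M B) (hfull Q₂ b' hb' K hKfull hK)) hQ₂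

/-- **two blocks** -/
theorem card_blocks (h : Std D A) (hf : fullCheck D A = true) (hrank : 0 < D.rank) (p : ℕ)
    [Fact p.Prime] [CharP F p] (M : Ideal AlgInt) (hM : IsPModular p M) :
    Nat.card {B : Set (IrrCharacter ↥(D.group F)) // IsPBlock M B} = 2 := by
  classical
  haveI : Finite (GL D.Idx F) := finite_GL
  haveI := Fintype.ofFinite ↥(D.group F)
  haveI := Blocks.isPrime_of_isPModular hM
  have hpM := hM.2.2
  have g := h.good
  have hp : p.Prime := Fact.out
  obtain ⟨n, -, hq⟩ := FiniteField.card F p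
  obtain ⟨m, hm, hcard⟩ := card_group_eq (F := F) h (p := p)
  set U : Subgroup ↥(D.group F) := (D.posUnipotent F).subgroupOf (D.group F)
  have hUcard : Nat.card U = Fintype.card F ^ (D.nroots / 2) := by
    rw [Nat.card_congr (Subgroup.subgroupOfEquivOfLe (posUnipotent_le_group g)).toEquiv,
      card_posUnipotent h]
  have hUp : IsPGroup p U := IsPGroup.of_card (n := n * (D.nroots / 2)) (by rw [hUcard, hq, ← pow_mul])
  have hidx : ¬ p ∣ U.index := by
    have h1 := U.card_mul_index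
    rw [hUcard, hcard] at h1
    rwa [Nat.eq_of_mul_eq_mul_left (pow_pos Fintype.card_pos _) h1]
  set P : Sylow p ↥(D.group F) := hUp.toSylow hidx
  have hPU : (P : Subgroup ↥(D.group F)) = U := rfl
  have hUne : U ≠ ⊥ := by
    intro e
    have hs := simple_pos g hrank
    have h1 : (⟨xG g (D.simple 0) 1, xG_mem_group g _ _⟩ : ↥(D.group F)) ∈ U :=
      xG_mem_posUnipotent g hs 1
    rw [e, Subgroup.mem_bot] at h1
    exact one_ne_zero (xG_eq_one h hs.1 (congrArg Subtype.val h1))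
  -- the Steinberg block
  have hSirr := isIrr_steinberg (F := F) h
  set χS : IrrCharacter ↥(D.group F) := ⟨_, hSirr⟩
  have hSdeg : degVal p χS = (Nat.card ↥(D.group F)).factorization p := by
    have h1 : charDegree (χS : ↥(D.group F) → ℂ) = p ^ (n * (D.nroots / 2)) := by
      refine Nat.cast_injective (R := ℂ) ?_
      rw [← irr_apply_one]
      show D.steinbergCharacter F 1 = _
      rw [steinberg_one h, hq]
      push_cast
      rw [← pow_mul]
    rw [degVal, h1, hcard, hq, ← pow_mul, Nat.factorization_mul (pow_pos hp.pos _).ne'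
      (fun e : m = 0 => hm (by rw [e]; exact dvd_zero p)), Finsupp.add_apply,
      Nat.factorization_eq_zero_of_not_dvd hm, add_zero]
  have hBS : IsPBlock M (blockOf M (χS : ↥(D.group F) → ℂ)) := isPBlock_blockOf χS
  have hdefS : IsDefectGroup p M (blockOf M (χS : ↥(D.group F) → ℂ)) ⊥ :=
    (Blocks.relative_defect_zero hpM IsPGroup.of_bot bot_le χS (by rw [hSdeg, Subgroup.index_bot])).1
  have hbot : ∀ B, IsPBlock M B → IsDefectGroup p M B (⊥ : Subgroup ↥(D.group F)) →
      B = blockOf M (χS : ↥(D.group F) → ℂ) := by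
    intro B hB hD
    obtain ⟨χ, hχB, hχ⟩ := exists_degVal_eq_blockMin (p := p) (IsPBlock.nonempty hB)
    have h1 := card_defectGroup hpM hB hD
    rw [Subgroup.card_bot] at h1
    have h2 : blockDefect p B = 0 :=
      ((Nat.pow_eq_one.1 h1.symm).resolve_left hp.one_lt.ne')
    have h3 := blockMin_add_blockDefect (p := p) (IsPBlock.nonempty hB)
    have h4 : χ = χS := Weights.eq_of_defect_zero h p χ χS
      ((hp.pow_dvd_iff_le_factorization (irr_charDegree_ne_zero χ)).2 (by
        show _ ≤ degVal p χ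
        omega))
      ((hp.pow_dvd_iff_le_factorization (irr_charDegree_ne_zero χS)).2 (le_of_eq hSdeg.symm))
    rw [IsPBlock.eq_blockOf hB hχB, h4]
  -- the blocks of full defect
  have hone : Nat.card {B : Set (IrrCharacter ↥(D.group F)) //
      IsPBlock M B ∧ IsDefectGroup p M B (P : Subgroup ↥(D.group F))} = 1 := by
    rw [card_blocks_sylow_defect hpM P, Nat.card_eq_one_iff_unique]
    have key : ∀ C : {C : ConjClasses (Subgroup.normalizer ((P : Subgroup ↥(D.group F)) : Set ↥(D.group F))) //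
        ∀ x : Subgroup.normalizer ((P : Subgroup ↥(D.group F)) : Set ↥(D.group F)), ConjClasses.mk x = C →
          ¬ p ∣ orderOf x ∧ (x : ↥(D.group F)) ∈ Subgroup.centralizer ((P : Subgroup ↥(D.group F)) : Set ↥(D.group F))},
        C.1 = ConjClasses.mk 1 := by
      rintro ⟨C, hC⟩
      obtain ⟨x, rfl⟩ := ConjClasses.exists_rep C
      obtain ⟨h1, h2⟩ := hC x rfl
      have h3 : ((x : ↥(D.group F)) : GL D.Idx F) = 1 :=
        eq_one_of_centralizes h (p := p) (x : ↥(D.group F)).2 (by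
          rwa [Subgroup.orderOf_coe, Subgroup.orderOf_coe]) fun z hz => by
          have := Subgroup.mem_centralizer_iff.1 h2 ⟨z, posUnipotent_le_group g hz⟩ hz
          exact congrArg Subtype.val this.symm
      exact congrArg ConjClasses.mk (Subtype.ext (Subtype.ext h3))
    refine ⟨⟨fun C C' => Subtype.ext ((key C).trans (key C').symm)⟩, ⟨⟨ConjClasses.mk 1, fun x hx => ?_⟩⟩⟩
    rw [ConjClasses.mk_eq_mk_iff_isConj, isConj_one_left] at hx
    subst hx
    simp [hp.one_lt.ne', one_mem]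
  obtain ⟨⟨hsub⟩, ⟨⟨B₀, hB₀, hB₀d⟩⟩⟩ := Nat.card_eq_one_iff_unique.1 hone
  have hne : B₀ ≠ blockOf M (χS : ↥(D.group F) → ℂ) := by
    rintro rfl
    obtain ⟨x, hx⟩ := IsDefectGroup.exists_conj_eq hpM hBS hdefS hB₀d
    rw [Subgroup.map_bot] at hx
    exact hUne (hPU.symm.trans hx.symm)
  rw [Nat.card_eq_two_iff]
  refine ⟨⟨B₀, hB₀⟩, ⟨_, hBS⟩, fun e => hne (congrArg Subtype.val e), ?_⟩
  refine Set.eq_univ_of_forall fun ⟨B, hB⟩ => ?_
  obtain ⟨Q, hQ⟩ := exists_isDefectGroup (p := p) hB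
  rcases defectGroup_bot_or_sylow h hf hpM P hPU hB hQ with rfl | hQP
  · exact Or.inr (Subtype.ext (hbot B hB hQ))
  · have e := hsub ⟨B, hB, hQP⟩ ⟨B₀, hB₀, hB₀d⟩
    exact Or.inl (Subtype.ext (Subtype.mk.inj e))

end CfsgLib.Chev
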