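/-
The Borel–Tits theorem for the Chevalley groups, through the optimal grading of a unipotent subgroup.
-/
import Cfsg.Agent.Lib.Chev.BorelTitsGrade
import Cfsg.Agent.Lib.Chev.WeylN
import Cfsg.Agent.Lib.Chev.TwoBlocks

set_option autoImplicit false

namespace CfsgLib.Chev.Grade

open Cfsg.Lie Matrix

variable {D : ChevalleyDatum} {A : Aux} {F : Type*} [Field F]

/-- composing with a reflection lowers the number of bad positive roots -/
theorem card_refl_lt (g : Good D A) {i : ℕ} (hi : i < D.rank) {σ : ℕ → ℕ} (Q : ℕ → Prop) [DecidablePred Q]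
    (h1 : Q (σ (D.simple i))) (h2 : ¬ Q (σ (A.neg (D.simple i)))) :
    ((Finset.range D.nroots).filter fun r => D.IsPosRoot r ∧ Q (σ (A.refl i r))).card <
      ((Finset.range D.nroots).filter fun r => D.IsPosRoot r ∧ Q (σ r)).card := by
  have hsi := simple_pos g hi
  set S₀ := (Finset.range D.nroots).filter fun r => D.IsPosRoot r ∧ Q (σ r)
  have hmem : D.simple i ∈ S₀ := Finset.mem_filter.2 ⟨Finset.mem_range.2 hsi.1, hsi, h1⟩
  refine lt_of_le_of_lt ?_ (Finset.card_erase_lt_of_mem hmem)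
  refine Finset.card_le_card_of_injOn (A.refl i) ?_ ?_
  · intro s hs
    obtain ⟨-, hsp, hsQ⟩ := Finset.mem_filter.1 (Finset.mem_coe.1 hs)
    have hne : s ≠ D.simple i := by
      rintro rfl
      rw [refl_simple g hi] at hsQ
      exact h2 hsQ
    obtain ⟨h3, h4⟩ := refl_pos g hi hsp hne
    exact Finset.mem_coe.2 (Finset.mem_erase.2 ⟨h4, Finset.mem_filter.2
      ⟨Finset.mem_range.2 h3.1, h3, hsQ⟩⟩)
  · intro s hs s' hs' e
    have a := Finset.mem_range.1 (Finset.mem_filter.1 (Finset.mem_coe.1 hs)).1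
    have b := Finset.mem_range.1 (Finset.mem_filter.1 (Finset.mem_coe.1 hs')).1
    rw [← g.refl_refl i hi s a, e, g.refl_refl i hi s' b]

/-- every form is conjugate to a dominant one -/
theorem exists_dom (g : Good D A) (m : Fin D.rank → ℝ) :
    ∃ n ∈ D.monomialSubgroup F, ∃ σ, Acts g (F := F) n σ ∧
      ∀ i < D.rank, 0 ≤ evR D A (σ (D.simple i)) m := by
  classical
  let P : ℕ → Prop := fun c => ∃ n ∈ D.monomialSubgroup F, ∃ σ, Acts g (F := F) n σ ∧
    ((Finset.range D.nroots).filter fun r => D.IsPosRoot r ∧ evR D A (σ r) m < 0).card = c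
  have hP : ∃ c, P c := ⟨_, 1, one_mem _, id, by simpa using acts_tor (F := F) g 1, rfl⟩
  obtain ⟨n, hn, σ, hσ, hc⟩ := Nat.find_spec hP
  refine ⟨n, hn, σ, hσ, fun i hi => ?_⟩
  by_contra hlt
  have hlt := not_le.1 hlt
  refine Nat.find_min hP ?_ ⟨n * nS F g i, mul_mem hn (nS_mem_monomial g hi), σ ∘ A.refl i,
    hσ.mul (acts_nS g hi), rfl⟩
  rw [← hc]
  refine card_refl_lt g hi (fun r => evR D A r m < 0) hlt ?_
  rw [hσ.map.map_neg g (simple_pos g hi).1, evR_neg g (hσ.map.1 _ (simple_pos g hi).1)]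
  linarith

/-- a monomial element fixing a dominant form lies in its parabolic subgroup -/
theorem mem_parabolic_of_fix (h : Std D A) {J : Set ℕ} {x : Fin D.rank → ℝ} (hx : ∀ j, 0 ≤ x j)
    (hJ : ∀ (i : ℕ) (hi : i < D.rank), x ⟨i, hi⟩ = 0 → i ∈ J) {n : GL D.Idx F} {τ : ℕ → ℕ}
    (hn : n ∈ D.monomialSubgroup F) (hτ : Acts h.good n⁻¹ τ)
    (hfix : ∀ r < D.nroots, evR D A r x = evR D A (τ r) x) :
    n ∈ D.parabolicSubgroup F J := by
  have g := h.good
  generalize hc : ((Finset.range D.nroots).filter fun r =>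
    D.IsPosRoot r ∧ ¬ D.IsPosRoot (τ r)).card = c
  induction c using Nat.strong_induction_on generalizing n τ with
  | _ c ih =>
    by_cases hall : ∀ r, D.IsPosRoot r → D.IsPosRoot (τ r)
    · have hnG := monomialSubgroup_le_group g (inv_mem hn)
      have key : ∀ b ∈ D.borelSubgroup F, n⁻¹ * b * (n⁻¹)⁻¹ ∈ D.borelSubgroup F := by
        intro b hb
        obtain ⟨u, hu, c, rfl⟩ := (mem_borel_iff g).1 hb
        obtain ⟨d, hd⟩ := monomial_conj_tor g (inv_mem hn) c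
        rw [show n⁻¹ * (u * tor D A c) * (n⁻¹)⁻¹ =
          (n⁻¹ * u * (n⁻¹)⁻¹) * (n⁻¹ * tor D A c * (n⁻¹)⁻¹) by group, hd]
        refine mul_mem ?_ (tor_mem_borel g d)
        have hu' : u ∈ UP F g (fun r => D.IsPosRoot r) := by
          rw [posUnipotent_eq g] at hu; exact hu
        exact conj_UP_le hτ (fun r hr => hr.1)
          (fun r t hr => xG_mem_borel g (hall r hr) t) hu'
      have hB : n⁻¹ ∈ D.borelSubgroup F :=
        BN.mem_of_conj_B_le (P := bnPair h) (g := (⟨n⁻¹, hnG⟩ : ↥(D.group F)))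
          (H := (bnPair h).B) le_rfl (fun b hb => key b hb)
      exact borel_le_parabolic J (by simpa using inv_mem hB)
    obtain ⟨i, hi, hneg⟩ : ∃ i < D.rank, ¬ D.IsPosRoot (τ (D.simple i)) := by
      by_contra hcon
      push Not at hcon
      refine hall fun r hr => (g.pos_iff _ (hτ.map.1 r hr.1)).2 fun l => ?_
      by_cases hl : l < D.rank
      · rw [simple_eq_sum g hτ.map hr.1 l hl]
        refine Finset.sum_nonneg fun k hk => ?_
        have hp := hcon k (Finset.mem_range.1 hk)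
        exact mul_nonneg ((g.pos_iff r hr.1).1 hr k) ((g.pos_iff _ hp.1).1 hp l)
      · rw [g.a_zero _ (hτ.map.1 r hr.1) l (not_lt.1 hl)]
    have hsi := simple_pos g hi
    have hx0 : x ⟨i, hi⟩ = 0 := by
      refine le_antisymm ?_ (hx _)
      rw [← evR_simple g hi x, hfix _ hsi.1]
      exact evR_nonpos g hx (hτ.map.1 _ hsi.1) hneg
    have hiJ := hJ i hi hx0
    have hacts : Acts g ((nS F g i)⁻¹ * n)⁻¹ (τ ∘ A.refl i) := by
      rw [_root_.mul_inv_rev, inv_inv]; exact hτ.mul (acts_nS g hi)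
    have hfix' : ∀ r < D.nroots, evR D A r x = evR D A ((τ ∘ A.refl i) r) x := by
      intro r hr
      rw [Function.comp_apply, ← hfix _ (g.refl_lt i hi r hr)]
      refine Finset.sum_congr rfl fun j _ => ?_
      rw [g.a_refl i hi r hr j.val j.isLt]
      by_cases hji : j.val = i
      · rw [show j = ⟨i, hi⟩ from Fin.ext hji, hx0]; simp
      · simp [hji]
    have hlt := card_refl_lt g hi (σ := τ) (fun r => ¬ D.IsPosRoot r) hneg (by
      rw [hτ.map.map_neg g hsi.1, not_not]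
      rcases pos_or_pos_neg g (hτ.map.1 _ hsi.1) with hp | hp
      · exact absurd hp hneg
      · exact hp)
    have := ih ((Finset.range D.nroots).filter fun r =>
      D.IsPosRoot r ∧ ¬ D.IsPosRoot ((τ ∘ A.refl i) r)).card (by rw [← hc]; exact hlt) (mul_mem (inv_mem (nS_mem_monomial g hi)) hn) hacts hfix' rfl
    have h2 := mul_mem (nS_mem_parabolic g hi hiJ) this
    rwa [mul_inv_cancel_left] at h2

variable (A) in
/-- the conjugate by `g` of `P₀` lies in the level one part of `U` for the dominant form `x` -/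
def Cand (P₀ : Subgroup (GL D.Idx F)) (g : GL D.Idx F) (x : Fin D.rank → ℝ) : Prop :=
  (∀ j, 0 ≤ x j) ∧ ∀ z ∈ P₀, g⁻¹ * z * g ∈ D.posUnipotent F ∧ T1 A x (g⁻¹ * z * g)

theorem isClosed_cand (P₀ : Subgroup (GL D.Idx F)) (g : GL D.Idx F) :
    IsClosed {x | Cand A P₀ g x} := by
  have hc : ∀ u, Continuous fun y : Fin D.rank → ℝ => wR D A y u := by
    intro u
    rcases u with i | s
    · simp only [wR]; exact continuous_const
    · simp only [wR, evR]; fun_prop
  have h1 : {x | Cand A P₀ g x} = (⋂ j : Fin D.rank, {x | 0 ≤ x j}) ∩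
      ⋂ (z : GL D.Idx F) (_ : z ∈ P₀), ({_x : Fin D.rank → ℝ | g⁻¹ * z * g ∈ D.posUnipotent F} ∩
        ⋂ (u : D.Idx) (v : D.Idx)
          (_ : (((g⁻¹ * z * g : GL D.Idx F) : Matrix D.Idx D.Idx F) - 1) u v ≠ 0),
          {x | wR D A x v + 1 ≤ wR D A x u}) := by
    ext x
    simp only [Cand, T1, Lo, Set.mem_setOf_eq, Set.mem_inter_iff, Set.mem_iInter]
  rw [h1]
  refine (isClosed_iInter fun j => isClosed_le continuous_const (continuous_apply j)).inter
    (isClosed_iInter fun z => isClosed_iInter fun _ => IsClosed.inter isClosed_const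
      (isClosed_iInter fun u => isClosed_iInter fun v => isClosed_iInter fun _ =>
        isClosed_le ((hc v).add continuous_const) (hc u)))

/-- optimal forms at two places differ by the parabolic subgroup -/
theorem mem_parabolic_of_cand (h : Std D A) {P₀ : Subgroup (GL D.Idx F)} {J : Set ℕ}
    {x : Fin D.rank → ℝ} (hJ : ∀ (i : ℕ) (hi : i < D.rank), x ⟨i, hi⟩ = 0 → i ∈ J)
    (hmin : ∀ g ∈ D.group F, ∀ x', Cand A P₀ g x' → qR D A x ≤ qR D A x')
    {g₁ g₂ : GL D.Idx F} (hg₁ : g₁ ∈ D.group F) (hg₂ : g₂ ∈ D.group F) (h₁ : Cand A P₀ g₁ x)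
    (h₂ : Cand A P₀ g₂ x) : g₁⁻¹ * g₂ ∈ D.parabolicSubgroup F J := by
  have g := h.good
  obtain ⟨b, hb, n, hn, b', hb', e⟩ := bruhat h (mul_mem (inv_mem hg₁) hg₂)
  obtain ⟨σ, hσ⟩ := exists_acts g hn
  obtain ⟨τ, hτ⟩ := exists_acts g (inv_mem hn)
  have hid : Acts g (1 : GL D.Idx F) id := by simpa using acts_tor (F := F) g 1
  have hτσ : ∀ r < D.nroots, τ (σ r) = r := fun r hr => by
    have := hτ.mul hσ
    rw [inv_mul_cancel] at this
    exact this.unique hid hr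
  set y := pull A τ x with hy
  have hg2e : g₂ = g₁ * b * n * b' := by
    have := congrArg (g₁ * ·) e
    simpa [mul_assoc] using this
  have hmem : ∀ z ∈ P₀, b⁻¹ * (g₁⁻¹ * z * g₁) * b ∈
      UP F g (fun r => D.IsPosRoot r ∧ 1 ≤ evR D A r x ∧ 1 ≤ evR D A r y) := by
    intro z hz
    set w := b⁻¹ * (g₁⁻¹ * z * g₁) * b with hw
    obtain ⟨hzU, hzT⟩ := h₁.2 z hz
    obtain ⟨hzU', hzT'⟩ := h₂.2 z hz
    have hwU : w ∈ D.posUnipotent F := by
      have := conj_posUnipotent g (inv_mem hb) hzU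
      rwa [inv_inv] at this
    have hwT : T1 A x w := by
      have := T1_conj g h₁.1 (inv_mem hb) hzT
      rwa [inv_inv] at this
    set w' := b' * (g₂⁻¹ * z * g₂) * b'⁻¹ with hw'
    have hw'U : w' ∈ D.posUnipotent F := conj_posUnipotent g hb' hzU'
    have hw'T : T1 A x w' := T1_conj g h₁.1 hb' hzT'
    have hww : w = n * w' * n⁻¹ := by
      rw [hw, hw', hg2e]; group
    have h3 : w ∈ UP F g (fun r => r < D.nroots ∧ 1 ≤ evR D A r y) := by
      rw [hww]
      refine conj_UP_le hσ (fun r hr => hr.1.1) (fun r t hr => ?_) (mem_UP_of_T1 h hw'U hw'T hw'T)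
      refine xG_mem_UP g (P := fun r => r < D.nroots ∧ 1 ≤ evR D A r y)
        ⟨hσ.map.1 r hr.1.1, ?_⟩ t
      rw [hy, evR_pull g hτ.map (hσ.map.1 r hr.1.1), hτσ r hr.1.1]
      exact hr.2.1
    exact mem_UP_of_T1 h hwU hwT (T1_of_mem_UP g (fun r hr => hr) h3)
  set m : Fin D.rank → ℝ := fun j => (x j + y j) / 2 with hm
  have hev : ∀ r, evR D A r m = (evR D A r x + evR D A r y) / 2 := fun r => by
    simp only [evR, hm, ← Finset.sum_add_distrib, Finset.sum_div]
    exact Finset.sum_congr rfl fun j _ => by ring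
  obtain ⟨n₂, hn₂, σ₂, hσ₂, hdom⟩ := exists_dom (F := F) g m
  obtain ⟨τ₂, hτ₂⟩ := exists_acts g (inv_mem hn₂)
  have hστ₂ : ∀ r < D.nroots, σ₂ (τ₂ r) = r := fun r hr => by
    have := hσ₂.mul hτ₂
    rw [mul_inv_cancel] at this
    exact this.unique hid hr
  set x' := pull A σ₂ m with hx'
  have hx'0 : ∀ j, 0 ≤ x' j := fun j => hdom j j.isLt
  have hcand : Cand A P₀ (g₁ * b * n₂) x' := by
    refine ⟨hx'0, fun z hz => ?_⟩
    have h4 : n₂⁻¹ * (b⁻¹ * (g₁⁻¹ * z * g₁) * b) * (n₂⁻¹)⁻¹ ∈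
        UP F g (fun r => D.IsPosRoot r ∧ 1 ≤ evR D A r x') := by
      refine conj_UP_le hτ₂ (fun r hr => hr.1.1) (fun r t hr => ?_) (hmem z hz)
      have hlt := hτ₂.map.1 r hr.1.1
      have h5 : 1 ≤ evR D A (τ₂ r) x' := by
        rw [hx', evR_pull g hσ₂.map hlt, hστ₂ r hr.1.1, hev]
        linarith [hr.2.1, hr.2.2]
      refine xG_mem_UP g (P := fun r => D.IsPosRoot r ∧ 1 ≤ evR D A r x') ⟨?_, h5⟩ t
      by_contra hneg
      linarith [evR_nonpos g hx'0 hlt hneg]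
    rw [show (g₁ * b * n₂)⁻¹ * z * (g₁ * b * n₂) =
      n₂⁻¹ * (b⁻¹ * (g₁⁻¹ * z * g₁) * b) * (n₂⁻¹)⁻¹ by group]
    exact ⟨UP_le (fun r t hr => xG_mem_posUnipotent g hr.1 t) h4,
      T1_of_mem_UP g (fun r hr => ⟨hr.1.1, hr.2⟩) h4⟩
  have hle := hmin _ (mul_mem (mul_mem hg₁ (borel_le_group g hb))
    (monomialSubgroup_le_group g hn₂)) _ hcand
  rw [hx', qR_pull hσ₂] at hle
  have hqy : qR D A y = qR D A x := qR_pull hτ x
  have hsum : qR D A m = (qR D A x + qR D A y) / 2 -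
      ∑ r ∈ Finset.range D.nroots, ((evR D A r x - evR D A r y) / 2) ^ 2 := by
    simp only [qR, hev, ← Finset.sum_add_distrib, Finset.sum_div, ← Finset.sum_sub_distrib]
    exact Finset.sum_congr rfl fun r _ => by ring
  have h0 : ∀ r ∈ Finset.range D.nroots, ((evR D A r x - evR D A r y) / 2) ^ 2 = 0 := by
    refine (Finset.sum_eq_zero_iff_of_nonneg fun r _ => sq_nonneg _).1
      (le_antisymm ?_ (Finset.sum_nonneg fun r _ => sq_nonneg _))
    linarith
  have hfix : ∀ r < D.nroots, evR D A r x = evR D A (τ r) x := by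
    intro r hr
    have := pow_eq_zero_iff (two_ne_zero) |>.1 (h0 r (Finset.mem_range.2 hr))
    rw [hy, evR_pull g hτ.map hr] at this
    linarith
  rw [e]
  exact mul_mem (mul_mem (borel_le_parabolic J hb)
    (mem_parabolic_of_fix h h₁.1 hJ hn hτ hfix)) (borel_le_parabolic J hb')

/-- a `p`-subgroup is conjugate into `U` -/
theorem exists_conj_posUnipotent [Fintype F] {p : ℕ} [Fact p.Prime] [CharP F p] (h : Std D A)
    (P₀ : Subgroup (GL D.Idx F)) (hle : P₀ ≤ D.group F) (hp : IsPGroup p P₀) :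
    ∃ g ∈ D.group F, ∀ z ∈ P₀, g⁻¹ * z * g ∈ D.posUnipotent F := by
  classical
  haveI : Finite (GL D.Idx F) := finite_GL
  have g := h.good
  obtain ⟨n, -, hq⟩ := FiniteField.card F p
  obtain ⟨m, hm, hcard⟩ := card_group_eq (F := F) h (p := p)
  set U : Subgroup ↥(D.group F) := (D.posUnipotent F).subgroupOf (D.group F)
  have hUcard : Nat.card U = Fintype.card F ^ (D.nroots / 2) := by
    rw [Nat.card_congr (Subgroup.subgroupOfEquivOfLe (posUnipotent_le_group g)).toEquiv,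
      card_posUnipotent h]
  have hUp : IsPGroup p U := IsPGroup.of_card (n := n * (D.nroots / 2)) (by rw [hUcard, hq, ← pow_mul])
  have hidx : ¬ p ∣ U.index := by
    have h1 := U.card_mul_index
    rw [hUcard, hcard] at h1
    rwa [Nat.eq_of_mul_eq_mul_left (pow_pos Fintype.card_pos _) h1]
  set P : Sylow p ↥(D.group F) := hUp.toSylow hidx
  obtain ⟨S, hS⟩ := (hp.of_equiv (Subgroup.subgroupOfEquivOfLe hle).symm).exists_le_sylow
  obtain ⟨x, hSP⟩ := MulAction.exists_smul_eq ↥(D.group F) S P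
  refine ⟨(x : GL D.Idx F)⁻¹, inv_mem x.2, fun z hz => ?_⟩
  have h1 : x * ⟨z, hle hz⟩ * x⁻¹ ∈ (x • S : Sylow p ↥(D.group F)) := by
    rw [Sylow.smul_def]
    exact ⟨⟨z, hle hz⟩, hS (show (⟨z, hle hz⟩ : ↥(D.group F)) ∈ P₀.subgroupOf (D.group F) from hz),
      rfl⟩
  rw [hSP] at h1
  rw [inv_inv]
  exact h1

/-- **the Borel–Tits theorem** -/
theorem borel_tits [Fintype F] {p : ℕ} [Fact p.Prime] [CharP F p] (h : Para D A)
    (P₀ : Subgroup (GL D.Idx F)) (hle : P₀ ≤ D.group F) (hp : IsPGroup p P₀) (hne : P₀ ≠ ⊥) :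
    ∃ g ∈ D.group F, ∃ J : Set ℕ, (∃ i, i < D.rank ∧ i ∉ J) ∧
      Subgroup.normalizer (P₀ : Set (GL D.Idx F)) ⊓ D.group F ≤
        (D.parabolicSubgroup F J).map (MulAut.conj g).toMonoidHom ∧
      P₀ ≤ (D.unipotentRadical F J).map (MulAut.conj g).toMonoidHom := by
  classical
  haveI : Finite (GL D.Idx F) := finite_GL
  have g := h.std.good
  obtain ⟨g₀, hg₀, h₀⟩ := exists_conj_posUnipotent (p := p) h.std P₀ hle hp
  set x₀ : Fin D.rank → ℝ := fun _ => 1
  have hpos1 : ∀ r, D.IsPosRoot r → 1 ≤ evR D A r x₀ := by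
    intro r hr
    have h1 := (g.pos_iff r hr.1).1 hr
    obtain ⟨j, hj⟩ : ∃ j : Fin D.rank, A.a r j ≠ 0 := by
      by_contra hcon
      push Not at hcon
      refine g.neg_ne r hr.1 (g.a_inj _ (g.neg_lt r hr.1) r hr.1 fun j hj => ?_)
      rw [g.a_neg r hr.1, hcon ⟨j, hj⟩, neg_zero]
    have h2 : (1 : ℝ) ≤ A.a r j := by
      have := h1 j.val
      exact_mod_cast (show (1 : ℤ) ≤ A.a r j.val by omega)
    simp only [evR, x₀, mul_one]
    exact h2.trans (Finset.single_le_sum (f := fun j : Fin D.rank => (A.a r j : ℝ))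
      (fun k _ => by exact_mod_cast h1 k.val) (Finset.mem_univ j))
  have hc₀ : Cand A P₀ g₀ x₀ := by
    refine ⟨fun _ => zero_le_one, fun z hz => ⟨h₀ z hz, ?_⟩⟩
    refine T1_of_mem_UP g (P := fun r => D.IsPosRoot r) (fun r hr => ⟨hr.1, hpos1 r hr⟩) ?_
    have := h₀ z hz
    rw [posUnipotent_eq g] at this
    exact this
  set Λ : Set (Fin D.rank → ℝ) := ⋃ k : ↥(D.group F), {x | Cand A P₀ (k : GL D.Idx F) x}
  have hΛ : IsClosed Λ := isClosed_iUnion_of_finite fun k => isClosed_cand P₀ _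
  have hq : Continuous (qR D A) := by unfold qR evR; fun_prop
  have hqx : ∀ (x : Fin D.rank → ℝ) (j : Fin D.rank), x j ^ 2 ≤ qR D A x := fun x j => by
    have hs := simple_pos g j.isLt
    have := Finset.single_le_sum (f := fun r => evR D A r x ^ 2) (fun r _ => sq_nonneg _)
      (Finset.mem_range.2 hs.1)
    rwa [evR_simple g j.isLt] at this
  set K := Λ ∩ {x | qR D A x ≤ qR D A x₀}
  have hKc : IsCompact K := by
    refine Metric.isCompact_of_isClosed_isBounded (hΛ.inter (isClosed_le hq continuous_const)) ?_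
    refine (Metric.isBounded_closedBall (x := (0 : Fin D.rank → ℝ))
      (r := Real.sqrt (qR D A x₀))).subset fun x hx => ?_
    rw [mem_closedBall_zero_iff, pi_norm_le_iff_of_nonneg (Real.sqrt_nonneg _)]
    intro j
    rw [Real.norm_eq_abs]
    exact Real.abs_le_sqrt ((hqx x j).trans hx.2)
  have hx₀K : x₀ ∈ K := ⟨Set.mem_iUnion.2 ⟨⟨g₀, hg₀⟩, hc₀⟩, le_refl (qR D A x₀)⟩
  obtain ⟨x, hxK, hmin'⟩ := hKc.exists_isMinOn ⟨x₀, hx₀K⟩ hq.continuousOn
  have hmin : ∀ k ∈ D.group F, ∀ x', Cand A P₀ k x' → qR D A x ≤ qR D A x' := by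
    intro k hk x' hx'
    by_cases hle' : qR D A x' ≤ qR D A x₀
    · exact hmin' ⟨Set.mem_iUnion.2 ⟨⟨k, hk⟩, hx'⟩, hle'⟩
    · exact hxK.2.trans (not_le.1 hle').le
  obtain ⟨⟨g₁, hg₁⟩, hc⟩ := Set.mem_iUnion.1 hxK.1
  have hc : Cand A P₀ g₁ x := hc
  set J : Set ℕ := {i | ∃ hi : i < D.rank, x ⟨i, hi⟩ = 0}
  have hUP : ∀ z ∈ P₀, g₁⁻¹ * z * g₁ ∈
      UP F g (fun r => D.IsPosRoot r ∧ 1 ≤ evR D A r x ∧ 1 ≤ evR D A r x) :=
    fun z hz => mem_UP_of_T1 h.std (hc.2 z hz).1 (hc.2 z hz).2 (hc.2 z hz).2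
  refine ⟨g₁, hg₁, J, ?_, ?_, ?_⟩
  · by_contra hall
    push Not at hall
    refine hne ((Subgroup.eq_bot_iff_forall _).2 fun z hz => ?_)
    have h1 : UP F g (fun r => D.IsPosRoot r ∧ 1 ≤ evR D A r x ∧ 1 ≤ evR D A r x) ≤ ⊥ := by
      refine UP_le fun r t hr => ?_
      have h0 : evR D A r x = 0 := Finset.sum_eq_zero fun j _ => by
        obtain ⟨hj, e⟩ := hall j.val j.isLt
        rw [show x j = 0 from e, mul_zero]
      linarith [hr.2.1]
    have h2 := congrArg (fun w => g₁ * w * g₁⁻¹) (Subgroup.mem_bot.1 (h1 (hUP z hz)))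
    simpa [mul_assoc] using h2
  · rintro k ⟨hkN, hkG⟩
    have hck : Cand A P₀ (k * g₁) x := by
      refine ⟨hc.1, fun z hz => ?_⟩
      have hz' : k⁻¹ * z * k ∈ P₀ := by
        have := Subgroup.mem_normalizer_iff''.1 hkN z
        exact this.1 hz
      rw [show (k * g₁)⁻¹ * z * (k * g₁) = g₁⁻¹ * (k⁻¹ * z * k) * g₁ by group]
      exact hc.2 _ hz'
    refine ⟨g₁⁻¹ * (k * g₁), mem_parabolic_of_cand (J := J) h.std (fun i hi e => ⟨hi, e⟩) hmin hg₁
      (mul_mem hkG hg₁) hc hck, ?_⟩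
    simp only [MulEquiv.coe_toMonoidHom, MulAut.conj_apply]
    group
  · intro z hz
    refine ⟨g₁⁻¹ * z * g₁, ?_, ?_⟩
    · rw [SetLike.mem_coe, radical_eq h]
      refine UP_le (fun r t hr => xG_mem_UP g ⟨hr.1, ?_⟩ t) (hUP z hz)
      by_contra hcon
      push Not at hcon
      have h0 : evR D A r x ≤ 0 := by
        refine Finset.sum_nonpos fun j _ => ?_
        by_cases hjJ : j.val ∈ J
        · obtain ⟨hj, e⟩ := hjJ
          rw [show x j = 0 from e, mul_zero]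
        · have h1 : A.a r j.val ≤ 0 := hcon j.val j.isLt hjJ
          exact mul_nonpos_of_nonpos_of_nonneg (by exact_mod_cast h1) (hc.1 j)
      linarith [hr.2.1]
    · simp only [MulEquiv.coe_toMonoidHom, MulAut.conj_apply]
      group

end CfsgLib.Chev.Grade
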