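/-
Gradings of the adjoint module by linear functions of the root coordinates.
-/
import Cfsg.Agent.Lib.Chev.BN

set_option autoImplicit false

namespace CfsgLib.Chev

open Cfsg.Lie Matrix

variable {D : ChevalleyDatum} {A : Aux} {F : Type*} [Field F]

variable (D A) in
/-- a linear function of the root coordinates -/
noncomputable def lev (c : ℕ → ℤ) (r : ℕ) : ℤ := ∑ j ∈ Finset.range D.rank, c j * A.a r j

lemma lev_lin (c : ℕ → ℤ) {r s u : ℕ} (i k : ℤ)
    (ha : ∀ j < D.rank, A.a u j = i * A.a r j + k * A.a s j) :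
    lev D A c u = i * lev D A c r + k * lev D A c s := by
  simp only [lev, Finset.mul_sum, ← Finset.sum_add_distrib]
  refine Finset.sum_congr rfl fun j hj => ?_
  rw [ha j (Finset.mem_range.1 hj)]
  ring

lemma lev_neg (g : Good D A) (c : ℕ → ℤ) {r : ℕ} (hr : r < D.nroots) :
    lev D A c (A.neg r) = - lev D A c r := by
  rw [lev_lin (D := D) (A := A) c (r := r) (s := r) (u := A.neg r) (-1) 0
    (fun j _ => by rw [g.a_neg r hr j]; ring)]
  ring

variable (D A) in
/-- the weight of a coordinate -/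
noncomputable def levW (c : ℕ → ℤ) : D.Idx → ℤ
  | Sum.inl _ => 0
  | Sum.inr s => lev D A c s.val

variable (D A) in
/-- the weight of a numbered coordinate -/
noncomputable def levN (c : ℕ → ℤ) (k : ℕ) : ℤ := if k < D.rank then 0 else lev D A c (k - D.rank)

lemma levN_idx (c : ℕ → ℤ) (x : D.Idx) : levN D A c (idx D x) = levW D A c x := by
  rcases x with i | s
  · simp [levN, idx, levW, i.isLt]
  · simp [levN, idx, levW]

lemma col_lev (g : Good D A) (c : ℕ → ℤ) {r k : ℕ} (hr : r < D.nroots) {q : ℕ × ℤ × ℕ}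
    (hq : q ∈ A.col D.rank D.nroots r k) :
    levN D A c q.1 = levN D A c k + (q.2.2 : ℤ) * lev D A c r ∧ 1 ≤ q.2.2 := by
  rcases lt_or_ge k D.rank with hk | hk
  · rw [col_h hk, List.mem_singleton] at hq
    subst hq
    simp [levN, hk]
  obtain ⟨s, rfl⟩ : ∃ s, k = D.rank + s := ⟨k - D.rank, by omega⟩
  by_cases hs : s < D.nroots
  swap
  · simp [Aux.col, hs, show ¬ D.rank + s < D.rank by omega] at hq
  rcases eq_or_ne s r with rfl | h3
  · simp [col_self hs] at hq
  rcases eq_or_ne s (A.neg r) with rfl | h4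
  · rw [col_neg hs h3] at hq
    simp only [List.mem_append, List.mem_map, List.mem_range, List.mem_singleton] at hq
    rcases hq with ⟨j, hj, rfl⟩ | rfl
    · simp [levN, hj, lev_neg g c hr]
    · simp [levN, lev_neg g c hr]; ring
  · rw [col_chain hs h3 h4] at hq
    obtain ⟨p, hp, rfl⟩ := List.mem_map.1 hq
    have hm := g.chain_mem r hr s hs p.2 p.1.1 p.1.2 (List.mem_zipIdx_iff_getElem?.1 hp)
    refine ⟨?_, by simp⟩
    simp only [levN, show ¬ D.rank + p.1.1 < D.rank by omega, show ¬ D.rank + s < D.rank by omega,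
      if_false, Nat.add_sub_cancel_left]
    rw [lev_lin (D := D) (A := A) c (r := r) (s := s) (u := p.1.1) ((p.2 : ℤ) + 1) 1
      (fun j hj => by rw [hm.2.2.2 j hj]; ring)]
    push_cast
    ring

lemma x_lev_entry (g : Good D A) (c : ℕ → ℤ) {r : ℕ} (hr : r < D.nroots) (t : F) {x y : D.Idx}
    (h : ∀ n : ℕ, 1 ≤ n → levW D A c x ≠ levW D A c y + n * lev D A c r) :
    D.x F r t x y = if x = y then 1 else 0 := by
  have h' := congrFun (x_mulVec (F := F) g hr t (idx D y)) x
  rw [mulVec_ev] at h'
  refine h'.trans ?_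
  rw [Pi.add_apply, tval_apply, List.sum_eq_zero, add_zero]
  · by_cases e : x = y
    · subst e; simp [ev]
    · have e2 : idx D x ≠ idx D y := fun e' => e (idx_inj e')
      simp [ev, e, e2]
  · intro v hv
    obtain ⟨q, hq, rfl⟩ := List.mem_map.1 hv
    rw [if_neg]
    intro e
    obtain ⟨h1, h2⟩ := col_lev g c hr hq
    rw [← e, levN_idx, levN_idx] at h1
    exact h _ h2 h1

/-- root elements of level zero are block triangular -/
lemma xG_mem_utG_lev (g : Good D A) (c : ℕ → ℤ) {r : ℕ} (hr : r < D.nroots) (t : F)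
    (h0 : lev D A c r = 0) : xG g r t ∈ utG (fun x => -levW D A c x) := by
  refine ⟨fun u v huv => ?_, fun u v huv => ?_⟩ <;> dsimp only at huv
  · rw [xG_val, x_lev_entry g c hr t fun n _ => by rw [h0]; omega, if_neg fun e => by subst e; omega]
  · rw [xG_inv, xG_val, x_lev_entry g c hr (-t) fun n _ => by rw [h0]; omega,
      if_neg fun e => by subst e; omega]

/-- root elements of positive level are unitriangular -/
lemma xG_mem_triG_lev (g : Good D A) (c : ℕ → ℤ) {r : ℕ} (hr : r < D.nroots) (t : F)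
    (h0 : 0 < lev D A c r) : xG g r t ∈ triG (fun x => - -levW D A c x) 0 le_rfl := by
  have key : ∀ t : F, Tri (fun x => - -levW D A c x) 0 (D.x F r t) := by
    intro t x y hxy
    refine x_lev_entry g c hr t fun n hn => ?_
    have h1 : (0 : ℤ) < (n : ℤ) * lev D A c r := mul_pos (by exact_mod_cast hn) h0
    simp only [neg_neg] at hxy
    omega
  exact ⟨by rw [xG_val]; exact key t, by rw [xG_inv, xG_val]; exact key (-t)⟩

end CfsgLib.Chev
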