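/-
Parabolic subgroups, their unipotent radicals and Levi subgroups.
-/
import Cfsg.Agent.Lib.Chev.Deg
import Cfsg.Agent.Lib.Chev.BN2
import Cfsg.Agent.Lib.Chev.Types

set_option autoImplicit false

namespace CfsgLib.Chev

open Cfsg.Lie Matrix

variable {D : ChevalleyDatum} {A : Aux} {F : Type*} [Field F]

/-- coroots and roots have the same support -/
noncomputable def suppCheck (D : ChevalleyDatum) (A : Aux) : Bool :=
  (List.range D.nroots).all fun r => (List.range D.rank).all fun j =>
    decide (A.coro r j = 0 ↔ A.a r j = 0)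

/-- positive roots descend by fundamental reflections in their support -/
noncomputable def descCheck (D : ChevalleyDatum) (A : Aux) : Bool :=
  (List.range D.nroots).all fun r =>
    ((List.range D.rank).any fun i => decide (D.simple i = r)) ||
    ((List.range D.rank).any fun j => decide (A.a r j < 0)) ||
    (List.range D.rank).any fun i => decide (0 < A.a r i ∧ 0 < A.cart i r)

/-- the checks used for parabolic subgroups -/
structure Para (D : ChevalleyDatum) (A : Aux) : Prop where
  std : Std D A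
  supp : suppCheck D A = true
  desc : descCheck D A = true

theorem para_of_mem {D : ChevalleyDatum}
    (hD : D ∈ [chevG2, chevB2, chevD4, chevF4, chevE6, chevE7, chevE8]) : ∃ A, Para D A := by
  simp only [List.mem_cons, List.not_mem_nil, or_false] at hD
  rcases hD with rfl | rfl | rfl | rfl | rfl | rfl | rfl
  exacts [⟨_, stdG2, by decide +kernel, by decide +kernel⟩,
    ⟨_, stdB2, by decide +kernel, by decide +kernel⟩,
    ⟨_, stdD4, by decide +kernel, by decide +kernel⟩,
    ⟨_, stdF4, by decide +kernel, by decide +kernel⟩,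
    ⟨_, stdE6, by decide +kernel, by decide +kernel⟩,
    ⟨_, stdE7, by decide +kernel, by decide +kernel⟩,
    ⟨_, stdE8, by decide +kernel, by decide +kernel⟩]

/-- the coordinates outside `J` vanish -/
def InJ (D : ChevalleyDatum) (A : Aux) (J : Set ℕ) (r : ℕ) : Prop :=
  r < D.nroots ∧ ∀ j < D.rank, j ∉ J → A.a r j = 0

lemma inRootSub_iff (h : Para D A) {J : Set ℕ} {r : ℕ} : D.InRootSub J r ↔ InJ D A J r := by
  have hs := h.supp
  simp only [suppCheck, List.all_eq_true, List.mem_range, decide_eq_true_eq] at hs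
  refine and_congr_right fun hr => forall₂_congr fun j hj => imp_congr_right fun _ => ?_
  rw [h.std.good.coro_eq r hr j]
  exact hs r hr j hj

/-- positive roots outside the root subsystem of `J` -/
def OutJ (D : ChevalleyDatum) (A : Aux) (J : Set ℕ) (r : ℕ) : Prop :=
  D.IsPosRoot r ∧ ∃ j < D.rank, j ∉ J ∧ 0 < A.a r j

lemma outJ_iff (h : Para D A) {J : Set ℕ} {r : ℕ} :
    OutJ D A J r ↔ D.IsPosRoot r ∧ ¬ D.InRootSub J r := by
  rw [inRootSub_iff h]
  refine and_congr_right fun hr => ?_
  constructor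
  · rintro ⟨j, hj, hJ, hpos⟩ ⟨_, h0⟩
    have := h0 j hj hJ
    omega
  · intro hn
    by_contra hcon
    refine hn ⟨hr.1, fun j hj hJ => le_antisymm ?_ ((h.std.good.pos_iff r hr.1).1 hr j)⟩
    by_contra hlt
    exact hcon ⟨j, hj, hJ, by omega⟩

lemma radical_eq (h : Para D A) (J : Set ℕ) :
    D.unipotentRadical F J = UP F h.std.good (OutJ D A J) := by
  refine congrArg Subgroup.closure (Set.ext fun y => ?_)
  constructor
  · rintro ⟨r, t, h1, h2, e⟩
    exact ⟨r, t, (outJ_iff h).2 ⟨h1, h2⟩, (eq_xG_iff h.std.good).1 e⟩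
  · rintro ⟨r, t, h1, e⟩
    exact ⟨r, t, ((outJ_iff h).1 h1).1, ((outJ_iff h).1 h1).2, (eq_xG_iff h.std.good).2 e⟩

lemma levi_eq (h : Para D A) (J : Set ℕ) :
    D.leviSubgroup F J = D.diagonalSubgroup F ⊔ UP F h.std.good (InJ D A J) := by
  refine congrArg (D.diagonalSubgroup F ⊔ ·) (congrArg Subgroup.closure (Set.ext fun y => ?_))
  constructor
  · rintro ⟨r, t, h1, e⟩
    exact ⟨r, t, (inRootSub_iff h).1 h1, (eq_xG_iff h.std.good).1 e⟩
  · rintro ⟨r, t, h1, e⟩
    exact ⟨r, t, (inRootSub_iff h).2 h1, (eq_xG_iff h.std.good).2 e⟩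

lemma parabolic_eq (g : Good D A) (J : Set ℕ) :
    D.parabolicSubgroup F J = D.borelSubgroup F ⊔
      Subgroup.closure {y | ∃ j ∈ J, j < D.rank ∧ y = nS F g j} := by
  refine congrArg (D.borelSubgroup F ⊔ ·) (congrArg Subgroup.closure (Set.ext fun y => ?_))
  refine exists_congr fun j => and_congr_right fun _ => and_congr_right fun _ => ?_
  rw [Units.ext_iff, nS, nG_val]

lemma borel_le_parabolic (J : Set ℕ) : D.borelSubgroup F ≤ D.parabolicSubgroup F J := le_sup_left

lemma nS_mem_parabolic (g : Good D A) {J : Set ℕ} {j : ℕ} (hj : j < D.rank) (hJ : j ∈ J) :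
    nS F g j ∈ D.parabolicSubgroup F J := by
  rw [parabolic_eq g]
  exact (le_sup_right : _ ≤ D.borelSubgroup F ⊔ _) (Subgroup.subset_closure ⟨j, hJ, hj, rfl⟩)

lemma diagonal_le_borel : D.diagonalSubgroup F ≤ D.borelSubgroup F := le_sup_right

/-- the height of a root -/
noncomputable def htR (D : ChevalleyDatum) (A : Aux) (r : ℕ) : ℤ := ∑ j ∈ Finset.range D.rank, A.a r j

lemma inJ_mem_parabolic (h : Para D A) {J : Set ℕ} : ∀ {r : ℕ}, InJ D A J r → ∀ t : F,
    xG h.std.good r t ∈ D.parabolicSubgroup F J := by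
  have g := h.std.good
  have hd := h.desc
  simp only [descCheck, List.all_eq_true, List.any_eq_true, List.mem_range, Bool.or_eq_true,
    decide_eq_true_eq] at hd
  -- positive roots, by induction on the height
  have key : ∀ n : ℕ, ∀ r, InJ D A J r → D.IsPosRoot r → (htR D A r).toNat = n → ∀ t : F,
      xG g (A.neg r) t ∈ D.parabolicSubgroup F J := by
    intro n
    induction n using Nat.strong_induction_on with
    | _ n ih =>
      intro r hr hpos hn t
      rcases hd r hr.1 with (⟨i, hi, rfl⟩ | ⟨j, hj, hneg⟩) | ⟨i, hi, hai, hci⟩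
      · have hiJ : i ∈ J := by
          by_contra hcon
          have := hr.2 i hi hcon
          rw [g.a_simple i hi i hi, if_pos rfl] at this
          omega
        have hn' := nS_mem_parabolic (F := F) g hi hiJ
        have := mul_mem (mul_mem hn' (borel_le_parabolic J
          (xG_mem_borel g (simple_pos g hi) ((A.eta i (D.simple i) : F) * t)))) (inv_mem hn')
        rwa [nS_conj_xG g hi hr.1, ← mul_assoc, eta_sq g hi hr.1, one_mul, refl_simple g hi] at this
      · exact absurd ((g.pos_iff r hr.1).1 hpos j) (by omega)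
      · have hiJ : i ∈ J := by
          by_contra hcon
          have := hr.2 i hi hcon
          omega
        by_cases hs : r = D.simple i
        · subst hs
          have hn' := nS_mem_parabolic (F := F) g hi hiJ
          have := mul_mem (mul_mem hn' (borel_le_parabolic J
            (xG_mem_borel g (simple_pos g hi) ((A.eta i (D.simple i) : F) * t)))) (inv_mem hn')
          rwa [nS_conj_xG g hi hr.1, ← mul_assoc, eta_sq g hi hr.1, one_mul, refl_simple g hi] at this
        have hlt := g.refl_lt i hi r hr.1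
        have hpos' := (refl_pos g hi hpos hs).1
        have hin : InJ D A J (A.refl i r) := ⟨hlt, fun j hj hjJ => by
          rw [g.a_refl i hi r hr.1 j hj, if_neg (fun e : j = i => hjJ (e ▸ hiJ)), sub_zero, hr.2 j hj hjJ]⟩
        have hht : htR D A (A.refl i r) = htR D A r - A.cart i r := by
          unfold htR
          rw [Finset.sum_congr rfl (fun j hj => g.a_refl i hi r hr.1 j (Finset.mem_range.1 hj)),
            Finset.sum_sub_distrib, Finset.sum_ite_eq', if_pos (Finset.mem_range.2 hi)]
        have hnn : 0 ≤ htR D A (A.refl i r) :=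
          Finset.sum_nonneg fun j _ => (g.pos_iff _ hlt).1 hpos' j
        have hlt' : (htR D A (A.refl i r)).toNat < n := by omega
        have hn' := nS_mem_parabolic (F := F) g hi hiJ
        have := mul_mem (mul_mem hn' (ih _ hlt' _ hin hpos' rfl
          ((A.eta i (A.neg (A.refl i r)) : F) * t))) (inv_mem hn')
        rwa [nS_conj_xG g hi (g.neg_lt _ hlt), ← mul_assoc, eta_sq g hi (g.neg_lt _ hlt), one_mul,
          g.refl_neg i hi _ hlt, g.refl_refl i hi r hr.1] at this
  intro r hr t
  rcases pos_or_pos_neg g hr.1 with hp | hn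
  · exact borel_le_parabolic J (xG_mem_borel g hp t)
  · have hin : InJ D A J (A.neg r) := ⟨g.neg_lt r hr.1, fun j hj hJ => by
      rw [g.a_neg r hr.1, hr.2 j hj hJ, neg_zero]⟩
    have := key _ _ hin hn rfl t
    rwa [g.neg_neg r hr.1] at this

lemma nS_mem_levi (h : Para D A) {J : Set ℕ} {j : ℕ} (hj : j < D.rank) (hJ : j ∈ J) :
    nS F h.std.good j ∈ UP F h.std.good (InJ D A J) := by
  have g := h.std.good
  have hs : InJ D A J (D.simple j) := ⟨g.simple_lt j hj, fun k hk hkJ => by
    rw [g.a_simple j hj k hk, if_neg (fun e : k = j => hkJ (e ▸ hJ))]⟩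
  have hn : InJ D A J (D.neg (D.simple j)) := by
    rw [g.neg_eq _ hs.1]
    exact ⟨g.neg_lt _ hs.1, fun k hk hkJ => by rw [g.a_neg _ hs.1, hs.2 k hk hkJ, neg_zero]⟩
  exact mul_mem (mul_mem (xG_mem_UP g hs _) (xG_mem_UP g hn _)) (xG_mem_UP g hs _)

/-- the generation of the parabolic subgroup by root subgroups -/
theorem parabolic_gen (h : Para D A) (J : Set ℕ) :
    D.parabolicSubgroup F J =
      D.diagonalSubgroup F ⊔ UP F h.std.good (fun r => D.IsPosRoot r ∨ InJ D A J r) := by
  have g := h.std.good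
  refine le_antisymm ?_ (sup_le (le_trans diagonal_le_borel (borel_le_parabolic J))
    (UP_le fun r t hr => ?_))
  · rw [parabolic_eq g]
    refine sup_le (sup_le ?_ le_sup_left) ((Subgroup.closure_le _).2 ?_)
    · rw [posUnipotent_eq g]
      refine le_trans ?_ le_sup_right
      refine (Subgroup.closure_le _).2 ?_
      rintro y ⟨r, t, hr, rfl⟩
      exact xG_mem_UP g (Or.inl hr) t
    · rintro y ⟨j, hJ, hj, rfl⟩
      refine (le_sup_right : _ ≤ D.diagonalSubgroup F ⊔ UP F g (fun r => D.IsPosRoot r ∨ InJ D A J r)) ?_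
      exact (UP_le (P := InJ D A J) fun r t hr => xG_mem_UP g (Or.inr hr) t) (nS_mem_levi h hj hJ)
  · rcases hr with hr | hr
    · exact borel_le_parabolic J (xG_mem_borel g hr t)
    · exact inJ_mem_parabolic h hr t

lemma parabolic_le_normalizer (h : Para D A) (J : Set ℕ) :
    D.parabolicSubgroup F J ≤
      Subgroup.normalizer (UP F h.std.good (OutJ D A J) : Set (GL D.Idx F)) := by
  have g := h.std.good
  rw [parabolic_eq g]
  refine sup_le (sup_le ?_ ?_) ((Subgroup.closure_le _).2 ?_)
  · refine mem_normalizer_UP fun y hy r t hr => ?_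
    suffices hgen : ∀ s u, D.IsPosRoot s → ∀ z ∈ UP F g (OutJ D A J),
        xG g s u * z * (xG g s u)⁻¹ ∈ UP F g (OutJ D A J) by
      rw [posUnipotent_eq g] at hy
      revert r t
      induction hy using Subgroup.closure_induction_left with
      | one => intro r t hr; simpa using xG_mem_UP g hr t
      | mul_left a ha b _ ih =>
        intro r t hr
        obtain ⟨s, u, hs, rfl⟩ := ha
        rw [show xG g s u * b * xG g r t * (xG g s u * b)⁻¹ =
          xG g s u * (b * xG g r t * b⁻¹) * (xG g s u)⁻¹ by group]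
        exact hgen s u hs _ (ih r t hr)
      | inv_mul_cancel a ha b _ ih =>
        intro r t hr
        obtain ⟨s, u, hs, rfl⟩ := ha
        rw [xG_inv, show xG g s (-u) * b * xG g r t * (xG g s (-u) * b)⁻¹ =
          xG g s (-u) * (b * xG g r t * b⁻¹) * (xG g s (-u))⁻¹ by group]
        exact hgen s (-u) hs _ (ih r t hr)
    intro s u hs z hz
    induction hz using Subgroup.closure_induction with
    | one => simp [one_mem]
    | mul a b _ _ ha hb =>
      rw [show xG g s u * (a * b) * (xG g s u)⁻¹ = (xG g s u * a * (xG g s u)⁻¹) *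
        (xG g s u * b * (xG g s u)⁻¹) by group]
      exact mul_mem ha hb
    | inv a _ ha =>
      rw [show xG g s u * a⁻¹ * (xG g s u)⁻¹ = (xG g s u * a * (xG g s u)⁻¹)⁻¹ by group]
      exact inv_mem ha
    | mem a ha =>
      obtain ⟨r, t, hr, rfl⟩ := ha
      by_cases hsr : r = s
      · subst hsr
        rw [xG_inv, xG_add, xG_add]
        exact xG_mem_UP g hr _
      refine conj_xG_mem h.std hs.1 hr.1.1 hsr
        (fun e => not_pos_neg g hs (e ▸ hr.1)) hr (fun w hw i k hi hk e => ?_) u t
      obtain ⟨j, hj, hjJ, hjp⟩ := hr.2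
      have h1 := (g.pos_iff s hs.1).1 hs
      have h2 := (g.pos_iff r hr.1.1).1 hr.1
      have hjw : 0 < A.a w j := by
        rw [e j hj]
        have : (1 : ℤ) ≤ (k : ℤ) := by exact_mod_cast hk
        nlinarith [mul_nonneg (Int.natCast_nonneg i) (h1 j)]
      refine ⟨(g.pos_iff w hw).2 ?_, j, hj, hjJ, hjw⟩
      rcases g.pos_or_neg w hw with h3 | h3
      · exact h3
      · exact absurd (h3 j) (by omega)
  · rw [diagonalSubgroup_eq g]
    refine mem_normalizer_UP fun y hy r t hr => ?_
    obtain ⟨c, rfl⟩ := hy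
    rw [tor_conj_xG g c hr.1.1]
    exact xG_mem_UP g hr _
  · rintro y ⟨i, hiJ, hi, rfl⟩
    have key : ∀ r, OutJ D A J r → OutJ D A J (A.refl i r) := by
      rintro r ⟨hr, j, hj, hjJ, hjp⟩
      have hne : r ≠ D.simple i := fun e => by
        rw [e, g.a_simple i hi j hj, if_neg (fun e => hjJ (by rw [e]; exact hiJ))] at hjp
        omega
      refine ⟨(refl_pos g hi hr hne).1, j, hj, hjJ, ?_⟩
      rw [g.a_refl i hi r hr.1 j hj, if_neg (fun e => hjJ (by rw [e]; exact hiJ)), sub_zero]
      exact hjp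
    intro z
    constructor
    · intro hz
      exact conj_UP_le (acts_nS g hi) (fun r hr => hr.1.1)
        (fun r t hr => xG_mem_UP g (key r hr) t) hz
    · intro hz
      obtain ⟨e, he⟩ := nS_sq_mem (F := F) g hi
      have hact : Acts g (nS F g i)⁻¹ (A.refl i) := by
        have h2 : (nS F g i)⁻¹ = tor D A e⁻¹ * nS F g i := by rw [map_inv, he]; group
        rw [h2]; exact (acts_tor g e⁻¹).mul (acts_nS g hi)
      have := conj_UP_le hact (fun r hr => hr.1.1) (fun r t hr => xG_mem_UP g (key r hr) t) hz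
      simpa [mul_assoc] using this

open Classical in
/-- the grading attached to `J` -/
noncomputable def jc (J : Set ℕ) (j : ℕ) : ℤ := if j ∈ J then 0 else 1

lemma lev_inJ {J : Set ℕ} {r : ℕ} (hr : InJ D A J r) : lev D A (jc J) r = 0 := by
  refine Finset.sum_eq_zero fun j hj => ?_
  by_cases h : j ∈ J
  · simp [jc, h]
  · rw [hr.2 j (Finset.mem_range.1 hj) h, mul_zero]

lemma lev_outJ (g : Good D A) {J : Set ℕ} {r : ℕ} (hr : OutJ D A J r) :
    0 < lev D A (jc J) r := by
  obtain ⟨hp, j, hj, hjJ, hjp⟩ := hr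
  have hnn := (g.pos_iff r hp.1).1 hp
  refine Finset.sum_pos' (fun k _ => ?_) ⟨j, Finset.mem_range.2 hj, by simp [jc, hjJ, hjp]⟩
  by_cases h : k ∈ J <;> simp [jc, h, hnn k]

theorem radical_inf_levi (h : Para D A) (J : Set ℕ) :
    D.unipotentRadical F J ⊓ D.leviSubgroup F J = ⊥ := by
  have g := h.std.good
  rw [radical_eq h, levi_eq h, eq_bot_iff]
  rintro y ⟨hu, hl⟩
  refine Subgroup.mem_bot.2 (utG_inf_triG (fun x => -levW D A (jc J) x) ?_ ?_)
  · have : D.diagonalSubgroup F ⊔ UP F g (InJ D A J) ≤ utG (fun x => -levW D A (jc J) x) := by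
      refine sup_le ?_ (UP_le fun r t hr => xG_mem_utG_lev g _ hr.1 t (lev_inJ hr))
      rw [diagonalSubgroup_eq g]
      rintro z ⟨c, rfl⟩
      exact tor_mem_utG _ c
    exact this hl
  · have : UP F g (OutJ D A J) ≤ triG (fun x => - -levW D A (jc J) x) 0 le_rfl :=
      UP_le fun r t hr => xG_mem_triG_lev g _ hr.1.1 t (lev_outJ g hr)
    exact this hu

theorem radical_sup_levi (h : Para D A) (J : Set ℕ) :
    D.unipotentRadical F J ⊔ D.leviSubgroup F J = D.parabolicSubgroup F J := by
  have g := h.std.good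
  rw [radical_eq h, levi_eq h, parabolic_gen h]
  refine le_antisymm (sup_le (UP_le fun r t hr => ?_) (sup_le le_sup_left (UP_le fun r t hr => ?_)))
    (sup_le (le_trans le_sup_left le_sup_right) (UP_le fun r t hr => ?_))
  · exact (le_sup_right : _ ≤ D.diagonalSubgroup F ⊔ UP F g fun r => D.IsPosRoot r ∨ InJ D A J r)
      (xG_mem_UP g (Or.inl hr.1) t)
  · exact (le_sup_right : _ ≤ D.diagonalSubgroup F ⊔ UP F g fun r => D.IsPosRoot r ∨ InJ D A J r)
      (xG_mem_UP g (Or.inr hr) t)
  · by_cases hin : InJ D A J r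
    · exact (le_sup_right : _ ≤ UP F g (OutJ D A J) ⊔ (D.diagonalSubgroup F ⊔ UP F g (InJ D A J)))
        ((le_sup_right : _ ≤ D.diagonalSubgroup F ⊔ UP F g (InJ D A J)) (xG_mem_UP g hin t))
    · have hp : D.IsPosRoot r := hr.resolve_right hin
      exact (le_sup_left : _ ≤ UP F g (OutJ D A J) ⊔ (D.diagonalSubgroup F ⊔ UP F g (InJ D A J)))
        (xG_mem_UP g ((outJ_iff h).2 ⟨hp, fun hc => hin ((inRootSub_iff h).1 hc)⟩) t)

theorem normalizer_radical (h : Para D A) (J : Set ℕ) :
    Subgroup.normalizer (D.unipotentRadical F J : Set (GL D.Idx F)) ⊓ D.group F =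
      D.parabolicSubgroup F J := by
  have g := h.std.good
  rw [radical_eq h]
  have hle : D.parabolicSubgroup F J ≤ D.group F := by
    rw [parabolic_eq g]
    refine sup_le (borel_le_group g) ((Subgroup.closure_le _).2 ?_)
    rintro y ⟨j, _, _, rfl⟩
    exact nS_mem_group g j
  refine le_antisymm ?_ (le_inf (parabolic_le_normalizer h J) hle)
  rintro y ⟨hy, hyG⟩
  set M := (Subgroup.normalizer (UP F g (OutJ D A J) : Set (GL D.Idx F))).subgroupOf (D.group F)
  have hB : (bnPair (F := F) h.std).B ≤ M := fun z hz =>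
    parabolic_le_normalizer h J (borel_le_parabolic J hz)
  have hyM : (⟨y, hyG⟩ : ↥(D.group F)) ∈ M := hy
  rw [BN.eq_parabolic_of_le (P := bnPair h.std) hB] at hyM
  have hmap : ((bnPair (F := F) h.std).parabolic (BN.gens (bnPair h.std) M)).map
      (D.group F).subtype ≤ D.parabolicSubgroup F J := by
    rw [Cfsg.BNPair.parabolic, Subgroup.map_sup]
    refine sup_le ?_ ?_
    · rintro z ⟨w, hw, rfl⟩
      exact borel_le_parabolic J hw
    · rw [MonoidHom.map_closure, Subgroup.closure_le]
      rintro z ⟨w, ⟨⟨i, hi, e⟩, hwM⟩, rfl⟩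
      show (w : GL D.Idx F) ∈ D.parabolicSubgroup F J
      rw [e]
      refine nS_mem_parabolic g hi ?_
      by_contra hiJ
      rw [Subgroup.mem_subgroupOf, e] at hwM
      have hout : OutJ D A J (D.simple i) := ⟨simple_pos g hi, i, hi, hiJ, by
        rw [g.a_simple i hi i hi, if_pos rfl]; omega⟩
      have h1 := (hwM (xG g (D.simple i) 1)).1 (xG_mem_UP g hout 1)
      rw [nS_conj_xG g hi hout.1.1, refl_simple g hi, mul_one] at h1
      have h2 : xG g (A.neg (D.simple i)) (A.eta i (D.simple i) : F) ∈ D.borelSubgroup F :=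
        pos_le_borel ((UP_le fun r t hr => xG_mem_posUnipotent g hr.1 t) h1)
      have hn : D.IsNegRoot (A.neg (D.simple i)) :=
        isNeg_of_not_pos g (g.neg_lt _ hout.1.1) (not_pos_neg g hout.1)
      have h3 := Subgroup.mem_bot.1 ((borel_inf_negUnipotent h.std).le
        (Subgroup.mem_inf.2 ⟨h2, xG_mem_negUnipotent g hn _⟩))
      exact eta_ne_zero g hi hout.1.1 (xG_eq_one h.std (g.neg_lt _ hout.1.1) h3)
  exact hmap ⟨_, hyM, rfl⟩

end CfsgLib.Chev
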