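/-
The unipotent radical of a proper parabolic subgroup contains its centraliser up to unipotent elements.
-/
import Cfsg.Agent.Lib.Chev.Parabolic
import Cfsg.Agent.Lib.Chev.WeylN
import Cfsg.Agent.Lib.Chev.TorusCard
import Cfsg.Agent.Lib.Chev.Twist.Class

set_option autoImplicit false

namespace CfsgLib.Chev

open Cfsg.Lie Matrix

variable {D : ChevalleyDatum} {A : Aux} {F : Type*} [Field F]

variable (D A) in
/-- every fundamental root is the difference of two roots supported on any other given one -/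
noncomputable def diffCheck : Bool :=
  (List.range D.rank).all fun j => (List.range D.rank).all fun k => decide (j = k) ||
    (List.range D.nroots).any fun r => decide (0 < A.a r k ∧ ∀ l < D.rank, 0 ≤ A.a r l) &&
      (List.range D.nroots).any fun r' =>
        decide (∀ l < D.rank, A.a r' l = A.a r l + if l = j then 1 else 0)

lemma mem_posRoots_drop (h : Std D A) {r : ℕ} (hr : D.IsPosRoot r) : ∃ k,
    r ∈ D.posRoots.drop k ∧ (∀ q ∈ D.posRoots.drop k, r ≤ q) ∧
      (∀ q ∈ D.posRoots.drop (k + 1), r < q) ∧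
      ∀ q, D.IsPosRoot q → r < q → q ∈ D.posRoots.drop (k + 1) := by
  obtain ⟨k, hk, rfl⟩ := List.mem_iff_getElem.1 (posRoots_mem.2 hr)
  have hs : D.posRoots.Pairwise (· < ·) := List.pairwise_lt_range.filter _
  refine ⟨k, List.mem_drop_iff_getElem.2 ⟨0, by omega, by simp⟩, fun q hq => ?_, fun q hq => ?_,
    fun q hq hlt => ?_⟩
  · obtain ⟨i, hi, rfl⟩ := List.mem_drop_iff_getElem.1 hq
    rcases Nat.eq_zero_or_pos i with rfl | hpos
    · simp
    · exact (List.pairwise_iff_getElem.1 hs k (k + i) hk (by omega) (by omega)).le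
  · obtain ⟨i, hi, rfl⟩ := List.mem_drop_iff_getElem.1 hq
    exact List.pairwise_iff_getElem.1 hs k (k + 1 + i) hk (by omega) (by omega)
  · obtain ⟨m, hm, rfl⟩ := List.mem_iff_getElem.1 (posRoots_mem.2 hq)
    have hkm : k < m := by
      by_contra hle
      rcases (not_lt.1 hle).lt_or_eq with h' | h'
      · exact absurd (List.pairwise_iff_getElem.1 hs m k hm hk h') (by omega)
      · subst h'; omega
    exact List.mem_drop_iff_getElem.2 ⟨m - (k + 1), by omega, by
      simp only [show k + 1 + (m - (k + 1)) = m by omega]⟩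

/-- a root element in a filtration subgroup sits at an upper root -/
lemma le_of_xG_mem_UL (h : Std D A) {L : List ℕ} {r s : ℕ} (hL : ∀ q ∈ L, D.IsPosRoot q ∧ r ≤ q)
    (hs : s < D.nroots) (hr : r < D.nroots) {t : F} (ht : t ≠ 0)
    (hm : xG h.good s t ∈ UL F h.good L) (hsp : D.IsPosRoot s) : r ≤ s := by
  by_contra hlt
  have hc : code D A s < code D A r := code_mono h (not_le.1 hlt) hr
  have hb : (0 : ℤ) ≤ 1 * code D A s := by
    rw [one_mul]; exact ((pos_iff_code h hs).1 hsp).le
  refine ht (eq_zero_of_mem_triG h.good hs t hb ?_)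
  refine UL_le_triG h hb (fun q hq => (hL q hq).1.1) (fun q hq => ?_) hm
  rw [one_mul]
  rcases (hL q hq).2.lt_or_eq with h' | h'
  · exact hc.trans (code_mono h h' (hL q hq).1.1)
  · exact h' ▸ hc

lemma pos_of_xG_mem_pos (h : Std D A) {s : ℕ} (hs : s < D.nroots) {t : F} (ht : t ≠ 0)
    (hm : xG h.good s t ∈ D.posUnipotent F) : D.IsPosRoot s := by
  by_contra hp
  have h1 : xG h.good s t ∈ D.borelSubgroup F ⊓ D.negUnipotent F :=
    Subgroup.mem_inf.2 ⟨(le_sup_left : _ ≤ D.borelSubgroup F) hm,
      xG_mem_negUnipotent h.good (isNeg_of_not_pos h.good hs hp) t⟩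
  rw [borel_inf_negUnipotent h, Subgroup.mem_bot] at h1
  exact ht (xG_eq_one h hs h1)

lemma borel_conj_UL (h : Std D A) {L : List ℕ} (hL : UpList D L) {b : GL D.Idx F}
    (hb : b ∈ D.borelSubgroup F) {y : GL D.Idx F} (hy : y ∈ UL F h.good L) :
    b * y * b⁻¹ ∈ UL F h.good L := by
  have htor : ∀ c : Fin D.rank → Fˣ, ∀ z ∈ UL F h.good L,
      tor D A c * z * (tor D A c)⁻¹ ∈ UL F h.good L := by
    intro c z hz
    induction hz using Subgroup.closure_induction with
    | one => simp [one_mem]
    | mul a b _ _ ha hb =>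
      rw [show tor D A c * (a * b) * (tor D A c)⁻¹ = (tor D A c * a * (tor D A c)⁻¹) *
        (tor D A c * b * (tor D A c)⁻¹) by group]
      exact mul_mem ha hb
    | inv a _ ha =>
      rw [show tor D A c * a⁻¹ * (tor D A c)⁻¹ = (tor D A c * a * (tor D A c)⁻¹)⁻¹ by group]
      exact inv_mem ha
    | mem a ha =>
      obtain ⟨q, w, hq, rfl⟩ := ha
      rw [tor_conj_xG h.good c (hL.pos q hq).1]
      exact xG_mem_UL h.good hq _
  obtain ⟨u, hu, c, rfl⟩ := (mem_borel_iff h.good).1 hb
  rw [posUnipotent_eq h.good] at hu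
  rw [show u * tor D A c * y * (u * tor D A c)⁻¹ = u * (tor D A c * y * (tor D A c)⁻¹) * u⁻¹ by group]
  suffices ∀ z ∈ UL F h.good L, u * z * u⁻¹ ∈ UL F h.good L from this _ (htor c y hy)
  clear hb
  induction hu using Subgroup.closure_induction_left with
  | one => intro z hz; simpa using hz
  | mul_left a ha b _ ih =>
    intro z hz
    obtain ⟨r, t, hr, rfl⟩ := ha
    rw [show xG h.good r t * b * z * (xG h.good r t * b)⁻¹ =
      xG h.good r t * (b * z * b⁻¹) * (xG h.good r t)⁻¹ by group]
    exact UL_conj h hL hr t (ih z hz)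
  | inv_mul_cancel a ha b _ ih =>
    intro z hz
    obtain ⟨r, t, hr, rfl⟩ := ha
    rw [xG_inv, show xG h.good r (-t) * b * z * (xG h.good r (-t) * b)⁻¹ =
      xG h.good r (-t) * (b * z * b⁻¹) * (xG h.good r (-t))⁻¹ by group]
    exact UL_conj h hL hr (-t) (ih z hz)

/-- a monomial element whose conjugation of the radical is triangular is diagonal -/
theorem diag_of_centralizes (h : Para D A) (hd : diffCheck D A = true) {J : Set ℕ}
    (hJ : ∃ i, i < D.rank ∧ i ∉ J) {b n : GL D.Idx F} (hb : b ∈ D.borelSubgroup F)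
    (hn : n ∈ D.monomialSubgroup F)
    (hc : ∀ r t, OutJ D A J r → Commute (b * n) (xG h.std.good r t)) :
    n ∈ D.diagonalSubgroup F := by
  have hS := h.std
  have g := h.std.good
  obtain ⟨σ, hσ⟩ := exists_acts g hn
  -- images of radical roots lie above them in the radical
  have step : ∀ r, OutJ D A J r → OutJ D A J (σ r) ∧ r ≤ σ r := by
    intro r hr
    obtain ⟨k, hk, hkt⟩ := hσ.conj r hr.1.1
    have e := hkt 1
    have hcc : n * xG g r 1 * n⁻¹ = b⁻¹ * xG g r 1 * b := by
      have h1 := (hc r 1 hr).eq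
      rw [show n * xG g r 1 * n⁻¹ = b⁻¹ * ((b * n) * xG g r 1) * n⁻¹ by group, h1]
      group
    rw [hcc, mul_one] at e
    obtain ⟨m, hm1, hm2, -, -⟩ := mem_posRoots_drop hS hr.1
    have hUp := upList_posRoots.drop (D := D) m
    have hlt := hσ.map.1 r hr.1.1
    have hq : xG g (σ r) k ∈ UP F g (OutJ D A J) := by
      rw [← e]
      have hn' := parabolic_le_normalizer h J (borel_le_parabolic J (inv_mem hb))
      have := (hn' (xG g r 1)).1 (xG_mem_UP g hr 1)
      rwa [inv_inv] at this
    have hpos : D.IsPosRoot (σ r) :=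
      pos_of_xG_mem_pos hS hlt hk ((UP_le fun q t hq => xG_mem_posUnipotent g hq.1 t) hq)
    refine ⟨?_, ?_⟩
    · by_contra hout
      have hin : D.InRootSub J (σ r) := by
        by_contra hc'
        exact hout ((outJ_iff h).2 ⟨hpos, hc'⟩)
      have h1 : xG g (σ r) k ∈ D.unipotentRadical F J ⊓ D.leviSubgroup F J := by
        refine Subgroup.mem_inf.2 ⟨by rw [radical_eq h]; exact hq, ?_⟩
        rw [levi_eq h]
        exact (le_sup_right : _ ≤ D.diagonalSubgroup F ⊔ UP F g (InJ D A J))
          (xG_mem_UP g ((inRootSub_iff h).1 hin) k)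
      rw [radical_inf_levi h, Subgroup.mem_bot] at h1
      exact hk (xG_eq_one hS hlt h1)
    · refine le_of_xG_mem_UL hS (fun q hq' => ⟨hUp.pos q hq', hm2 q hq'⟩) hlt hr.1.1 hk ?_ hpos
      rw [← e]
      have := borel_conj_UL hS hUp (inv_mem hb) (xG_mem_UL (F := F) g hm1 1)
      rwa [inv_inv] at this
  -- hence they are fixed
  have fixed : ∀ r, OutJ D A J r → σ r = r := by
    classical
    set S := (Finset.range D.nroots).filter fun r => OutJ D A J r
    have hmS : ∀ r, r ∈ S ↔ OutJ D A J r := fun r =>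
      ⟨fun h' => (Finset.mem_filter.1 h').2, fun h' => Finset.mem_filter.2 ⟨Finset.mem_range.2 h'.1.1, h'⟩⟩
    have himg : S.image σ = S := by
      refine Finset.eq_of_subset_of_card_le (fun x hx => ?_) (le_of_eq ?_)
      · obtain ⟨r, hr, rfl⟩ := Finset.mem_image.1 hx
        exact (hmS _).2 (step r ((hmS r).1 hr)).1
      · refine (Finset.card_image_of_injOn fun a ha b hb e => ?_).symm
        exact hσ.inj ((hmS a).1 ha).1.1 ((hmS b).1 hb).1.1 e
    have hsum : ∑ r ∈ S, r = ∑ r ∈ S, σ r := by
      conv_lhs => rw [← himg]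
      rw [Finset.sum_image fun a ha b hb e => hσ.inj ((hmS a).1 ha).1.1 ((hmS b).1 hb).1.1 e]
    intro r hr
    have := (Finset.sum_eq_sum_iff_of_le fun x hx => (step x ((hmS x).1 hx)).2).1 hsum r ((hmS r).2 hr)
    exact this.symm
  -- and so is every root
  have hsimp : ∀ j < D.rank, σ (D.simple j) = D.simple j := by
    intro j hj
    by_cases hjJ : j ∈ J
    · obtain ⟨k, hk, hkJ⟩ := hJ
      have hne : j ≠ k := fun e => hkJ (e ▸ hjJ)
      simp only [diffCheck, List.all_eq_true, List.mem_range, Bool.or_eq_true, decide_eq_true_eq,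
        List.any_eq_true, Bool.and_eq_true] at hd
      rcases hd j hj k hk with e | ⟨r, hr, ⟨hrk, hrn⟩, r', hr', he⟩
      · exact absurd e hne
      have hp : D.IsPosRoot r := (g.pos_iff r hr).2 fun l => by
        by_cases hl : l < D.rank
        · exact hrn l hl
        · rw [g.a_zero _ hr l (not_lt.1 hl)]
      have hp' : D.IsPosRoot r' := (g.pos_iff r' hr').2 fun l => by
        by_cases hl : l < D.rank
        · rw [he l hl]; have := hrn l hl; split <;> omega
        · rw [g.a_zero _ hr' l (not_lt.1 hl)]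
      have hO : OutJ D A J r := ⟨hp, k, hk, hkJ, hrk⟩
      have hO' : OutJ D A J r' := ⟨hp', k, hk, hkJ, by rw [he k hk, if_neg (Ne.symm hne)]; omega⟩
      have hlin : ∀ l < D.rank, A.a (D.simple j) l = 1 * A.a r' l + (-1) * A.a r l := fun l hl => by
        rw [g.a_simple j hj l hl, he l hl]; ring
      have h2 := hσ.map.lin hr' hr (g.simple_lt j hj) hlin
      rw [fixed r hO, fixed r' hO'] at h2
      exact g.a_inj _ (hσ.map.1 _ (g.simple_lt j hj)) _ (g.simple_lt j hj)
        fun l hl => by rw [h2 l hl, hlin l hl]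
    · refine fixed _ ⟨simple_pos g hj, j, hj, hjJ, ?_⟩
      rw [g.a_simple j hj j hj, if_pos rfl]; omega
  refine mem_diag_of_id hS hn hσ fun r hr => g.a_inj _ (hσ.map.1 r hr) r hr fun l hl => ?_
  rw [simple_eq_sum g hσ.map hr l hl, Finset.sum_eq_single l]
  · rw [hsimp l hl, g.a_simple l hl l hl, if_pos rfl, mul_one]
  · intro i hi hil
    rw [hsimp i (Finset.mem_range.1 hi), g.a_simple i (Finset.mem_range.1 hi) l hl,
      if_neg (Ne.symm hil), mul_zero]
  · intro h'; exact absurd (Finset.mem_range.2 hl) h'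

/-- conjugating a root element by a positive unipotent element changes it only above it -/
lemma pos_comm_mem (h : Std D A) {m r : ℕ} (hUp : UpList D (D.posRoots.drop (m + 1)))
    (hr : D.IsPosRoot r) (hm4 : ∀ q, D.IsPosRoot q → r < q → q ∈ D.posRoots.drop (m + 1))
    {u : GL D.Idx F} (hu : u ∈ D.posUnipotent F) (k : F) :
    u * xG h.good r k * u⁻¹ * (xG h.good r k)⁻¹ ∈ UL F h.good (D.posRoots.drop (m + 1)) := by
  rw [posUnipotent_eq h.good] at hu
  induction hu using Subgroup.closure_induction_left with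
  | one => simp [one_mem]
  | mul_left a ha b _ ih =>
    obtain ⟨q, w, hq, rfl⟩ := ha
    rw [show xG h.good q w * b * xG h.good r k * (xG h.good q w * b)⁻¹ * (xG h.good r k)⁻¹ =
      (xG h.good q w * (b * xG h.good r k * b⁻¹ * (xG h.good r k)⁻¹) * (xG h.good q w)⁻¹) *
        (xG h.good q w * xG h.good r k * (xG h.good q w)⁻¹ * (xG h.good r k)⁻¹) by group]
    exact mul_mem (UL_conj h hUp hq w ih) (comm_mem h hUp hq hr hm4 w k)
  | inv_mul_cancel a ha b _ ih =>
    obtain ⟨q, w, hq, rfl⟩ := ha
    rw [xG_inv, show xG h.good q (-w) * b * xG h.good r k * (xG h.good q (-w) * b)⁻¹ * (xG h.good r k)⁻¹ =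
      (xG h.good q (-w) * (b * xG h.good r k * b⁻¹ * (xG h.good r k)⁻¹) * (xG h.good q (-w))⁻¹) *
        (xG h.good q (-w) * xG h.good r k * (xG h.good q (-w))⁻¹ * (xG h.good r k)⁻¹) by group]
    exact mul_mem (UL_conj h hUp hq (-w) ih) (comm_mem h hUp hq hr hm4 (-w) k)

/-- elements of the parabolic subgroup centralising the radical are unipotent -/
theorem centralizer_radical (h : Para D A) (hd : diffCheck D A = true) {J : Set ℕ}
    (hJ : ∃ i, i < D.rank ∧ i ∉ J) {y : GL D.Idx F} (hy : y ∈ D.parabolicSubgroup F J)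
    (hc : ∀ z ∈ D.unipotentRadical F J, y * z = z * y) : y ∈ D.posUnipotent F := by
  have hS := h.std
  have g := h.std.good
  have hxQ : ∀ r t, OutJ D A J r → xG g r t ∈ D.unipotentRadical F J := fun r t hr => by
    rw [radical_eq h]; exact xG_mem_UP g hr t
  have hyG : y ∈ D.group F := by
    rw [← normalizer_radical h J] at hy; exact (Subgroup.mem_inf.1 hy).2
  obtain ⟨b, hb, n, hn, b', hb', rfl⟩ := bruhat hS hyG
  have hyn : n ∈ D.diagonalSubgroup F := by
    refine diag_of_centralizes h hd hJ (b := b' * b) (mul_mem hb' hb) hn fun r t hr => ?_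
    have hnorm := parabolic_le_normalizer h J (borel_le_parabolic J (inv_mem hb'))
    have hz : b'⁻¹ * xG g r t * b' ∈ D.unipotentRadical F J := by
      rw [radical_eq h]
      have := (hnorm (xG g r t)).1 (xG_mem_UP g hr t)
      rwa [inv_inv] at this
    have e := hc _ hz
    show b' * b * n * xG g r t = xG g r t * (b' * b * n)
    calc b' * b * n * xG g r t
        = b' * ((b * n * b') * (b'⁻¹ * xG g r t * b')) * b'⁻¹ := by group
      _ = b' * ((b'⁻¹ * xG g r t * b') * (b * n * b')) * b'⁻¹ := by rw [e]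
      _ = _ := by group
  have hyB : b * n * b' ∈ D.borelSubgroup F :=
    mul_mem (mul_mem hb ((le_sup_right : _ ≤ D.borelSubgroup F) hyn)) hb'
  obtain ⟨u, hu, c, huc⟩ := (mem_borel_iff g).1 hyB
  rw [huc] at hc ⊢
  -- the torus part has trivial characters on the radical
  have hchi : ∀ r, OutJ D A J r → chi D A c r = 1 := by
    intro r hr
    set k : F := (chi D A c r : F)
    have e0 : u * xG g r k * u⁻¹ = xG g r 1 := by
      have h1 := hc _ (hxQ r 1 hr)
      calc u * xG g r k * u⁻¹ = u * (tor D A c * xG g r 1 * (tor D A c)⁻¹) * u⁻¹ := by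
            rw [tor_conj_xG g c hr.1.1, mul_one]
        _ = (u * tor D A c * xG g r 1) * (u * tor D A c)⁻¹ := by group
        _ = xG g r 1 := by rw [h1]; group
    obtain ⟨m, hm1, -, hm3, hm4⟩ := mem_posRoots_drop hS hr.1
    have hUp := upList_posRoots.drop (D := D) (m + 1)
    have hcomm : u * xG g r k * u⁻¹ * (xG g r k)⁻¹ ∈ UL F g (D.posRoots.drop (m + 1)) :=
      pos_comm_mem hS hUp hr.1 hm4 hu k
    rw [e0, xG_inv, xG_add] at hcomm
    by_contra hne
    have hb0 : (0 : ℤ) ≤ 1 * code D A r := by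
      rw [one_mul]; exact ((pos_iff_code hS hr.1.1).1 hr.1).le
    have h0 := eq_zero_of_mem_triG g hr.1.1 _ hb0
      (UL_le_triG hS hb0 (fun q hq => (hUp.pos q hq).1)
        (fun q hq => by rw [one_mul]; exact code_mono hS (hm3 q hq) (hUp.pos q hq).1) hcomm)
    exact hne (Units.ext (by rw [Units.val_one]; linear_combination -h0))
  have hone : tor D A c = (1 : GL D.Idx F) := by
    have hs : ∀ j < D.rank, chi D A c (D.simple j) = 1 := by
      intro j hj
      by_cases hjJ : j ∈ J
      · obtain ⟨k, hk, hkJ⟩ := hJ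
        have hne : j ≠ k := fun e => hkJ (e ▸ hjJ)
        simp only [diffCheck, List.all_eq_true, List.mem_range, Bool.or_eq_true, decide_eq_true_eq,
          List.any_eq_true, Bool.and_eq_true] at hd
        rcases hd j hj k hk with e | ⟨r, hr, ⟨hrk, hrn⟩, r', hr', he⟩
        · exact absurd e hne
        have hp : D.IsPosRoot r := (g.pos_iff r hr).2 fun l => by
          by_cases hl : l < D.rank
          · exact hrn l hl
          · rw [g.a_zero _ hr l (not_lt.1 hl)]
        have hp' : D.IsPosRoot r' := (g.pos_iff r' hr').2 fun l => by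
          by_cases hl : l < D.rank
          · rw [he l hl]; have := hrn l hl; split <;> omega
          · rw [g.a_zero _ hr' l (not_lt.1 hl)]
        have e1 := hchi r ⟨hp, k, hk, hkJ, hrk⟩
        have e2 := hchi r' ⟨hp', k, hk, hkJ, by rw [he k hk, if_neg (Ne.symm hne)]; omega⟩
        rw [chi_eq_wt g c hr, wt] at e1
        rw [chi_eq_wt g c hr', wt] at e2
        have hmul : ∀ i ∈ Finset.range D.rank, chi D A c (D.simple i) ^ A.a r' i =
            chi D A c (D.simple i) ^ A.a r i * if i = j then chi D A c (D.simple i) else 1 := by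
          intro i hi
          rw [he i (Finset.mem_range.1 hi)]
          split <;> simp [_root_.zpow_add]
        rw [Finset.prod_congr rfl hmul, Finset.prod_mul_distrib, e1, one_mul,
          Finset.prod_ite_eq' (Finset.range D.rank) j, if_pos (Finset.mem_range.2 hj)] at e2
        exact e2
      · exact hchi _ ⟨simple_pos g hj, j, hj, hjJ, by rw [g.a_simple j hj j hj, if_pos rfl]; omega⟩
    rw [tor_eq_one_iff g]
    funext k
    exact hs k k.isLt
  rw [hone, mul_one]
  exact hu

end CfsgLib.Chev
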