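/-
The Weyl group of a (B,N)-pair is a Coxeter group.
-/
import Cfsg.Agent.Lib.Chev.BNBasic
import Cfsg.Agent.Lib.Chev.Coxeter

set_option autoImplicit false

namespace CfsgLib.Chev.BN

open Cfsg

variable {G : Type*} [Group G] (P : Cfsg.BNPair G)

/-- the image of a distinguished representative in `N/(B ∩ N)` -/
def wMap [((P.B ⊓ P.N).subgroupOf P.N).Normal] (s : P.S) :
    P.N ⧸ (P.B ⊓ P.N).subgroupOf P.N :=
  QuotientGroup.mk (⟨(s : G), P.subset s.2⟩ : P.N)

variable {P}

lemma val_mem {l : List P.S} : ∀ x ∈ l.map Subtype.val, x ∈ P.S := fun x hx => by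
  obtain ⟨y, _, rfl⟩ := List.mem_map.1 hx
  exact y.2

lemma mk_eq_iff [((P.B ⊓ P.N).subgroupOf P.N).Normal] {a b : P.N} :
    (QuotientGroup.mk a : P.N ⧸ (P.B ⊓ P.N).subgroupOf P.N) = QuotientGroup.mk b ↔
      Eqv P (a : G) b := by
  rw [QuotientGroup.eq, Subgroup.mem_subgroupOf, Subgroup.mem_inf]
  push_cast
  exact ⟨fun h => h.1, fun h => ⟨h, mul_mem (inv_mem a.2) b.2⟩⟩

lemma wMap_prod [((P.B ⊓ P.N).subgroupOf P.N).Normal] (l : List P.S) :
    (l.map (wMap P)).prod =
      QuotientGroup.mk (⟨(l.map Subtype.val).prod, prod_mem_N (P := P) (l := l.map Subtype.val) val_mem⟩ : P.N) := by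
  induction l with
  | nil => rfl
  | cons s l ih =>
    rw [List.map_cons, List.prod_cons, ih, wMap, ← QuotientGroup.mk_mul]
    rfl

lemma exists_word_subtype {m : G} (hm : m ∈ P.N) :
    ∃ l : List P.S, l.length = len P m ∧ Eqv P (l.map Subtype.val).prod m := by
  obtain ⟨l, hr, he⟩ := exists_reduced (P := P) hm
  lift l to List P.S using fun x hx => hr.1 x hx
  have h2 := (len_congr he).symm.trans hr.2
  exact ⟨l, by simpa using h2.symm, he⟩

/-- the distinguished involutions of the quotient satisfy the exchange condition -/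
theorem wMap_props [hN : ((P.B ⊓ P.N).subgroupOf P.N).Normal] :
    (∀ s, wMap P s * wMap P s = 1) ∧ Function.Injective (wMap P) ∧
      (∀ w, ∃ l : List P.S, (l.map (wMap P)).prod = w) ∧ Cox.Exchange (wMap P) := by
  have hinv : ∀ s, wMap P s * wMap P s = 1 := fun s => by
    rw [wMap, ← QuotientGroup.mk_mul, QuotientGroup.eq_one_iff, Subgroup.mem_subgroupOf]
    exact sq_mem_T s.2
  have hinj : Function.Injective (wMap P) := fun s t h =>
    Subtype.ext (P.inj s s.2 t t.2 (mk_eq_iff.1 h))
  have hgen : ∀ w, ∃ l : List P.S, (l.map (wMap P)).prod = w := by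
    intro w
    obtain ⟨⟨n, hn⟩, rfl⟩ := QuotientGroup.mk_surjective w
    obtain ⟨l, _, he⟩ := exists_word_subtype (P := P) hn
    exact ⟨l, by rw [wMap_prod]; exact mk_eq_iff.2 he⟩
  have hlen : ∀ l : List P.S, Cox.Reduced (wMap P) l → len P (l.map Subtype.val).prod = l.length := by
    intro l hl
    refine le_antisymm ?_ ?_
    · simpa using len_le (P := P) (l := l.map Subtype.val) val_mem (eqv_refl _)
    · obtain ⟨l2, h2, he⟩ := exists_word_subtype (P := P)
        (prod_mem_N (P := P) (l := l.map Subtype.val) val_mem)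
      exact h2 ▸ hl l2 (by rw [wMap_prod, wMap_prod]; exact mk_eq_iff.2 he)
  have hex : Cox.Exchange (wMap P) := by
    rintro i l hl ⟨l', hl', hle⟩
    have hlN : (l.map Subtype.val).prod ∈ P.N := prod_mem_N val_mem
    have h1 : len P ((i : G) * (l.map Subtype.val).prod) ≤ len P (l.map Subtype.val).prod := by
      rw [hlen l hl]
      rw [wMap_prod, wMap_prod, wMap, ← QuotientGroup.mk_mul, mk_eq_iff] at hl'
      exact le_trans (by simpa using len_le (P := P) (l := l'.map Subtype.val) val_mem hl') hle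
    obtain ⟨a, x, c, e, he⟩ := exchange i.2 (l := l.map Subtype.val) val_mem h1
    obtain ⟨a', rest, rfl, ha, hrest⟩ := List.map_eq_append_iff.1 e
    cases rest with
    | nil => simp at hrest
    | cons x' c' =>
      simp only [List.map_cons, List.cons.injEq] at hrest
      obtain ⟨rfl, rfl⟩ := hrest
      subst ha
      refine ⟨a', x', c', rfl, ?_⟩
      have key : wMap P i * (a'.map (wMap P)).prod = (a'.map (wMap P)).prod * wMap P x' := by
        rw [wMap_prod, wMap, wMap, ← QuotientGroup.mk_mul, ← QuotientGroup.mk_mul, mk_eq_iff]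
        exact he
      simp only [List.map_append, List.map_cons, List.prod_append, List.prod_cons]
      rw [← mul_assoc, key, mul_assoc, ← mul_assoc (wMap P x'), hinv, one_mul]
  exact ⟨hinv, hinj, hgen, hex⟩

theorem coxeter [hN : ((P.B ⊓ P.N).subgroupOf P.N).Normal] :
    ∃ (M : CoxeterMatrix P.S) (cs : CoxeterSystem M (P.N ⧸ (P.B ⊓ P.N).subgroupOf P.N)),
      ∀ s : P.S, cs.simple s = QuotientGroup.mk (⟨(s : G), P.subset s.2⟩ : P.N) := by
  obtain ⟨hinv, hinj, hgen, hex⟩ := wMap_props (P := P)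
  obtain ⟨cs, hcs⟩ := Cox.exists_coxeterSystem (Cox.matrixOf (wMap P) hinv hinj) hinv
    (fun _ _ => rfl) hgen hex
  exact ⟨_, cs, hcs⟩

end CfsgLib.Chev.BN
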