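import Cfsg.Agent.Lib.Chev.SteinbergChar
import Cfsg.Agent.Lib.Chev.Parabolic

/-!
Steinberg's count of the elements of `p`-power order of a Chevalley group, by induction through the
parabolic subgroups: the alternating sum of permutation characters of `P_K` is supported, on
`p`-elements, on the unipotent radical.
-/

set_option autoImplicit false

namespace CfsgLib.Chev

open Cfsg Cfsg.Lie

variable {D : ChevalleyDatum} {A : Aux} {F : Type*} [Field F]

/-- the coset meets the standard parabolic subgroup -/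
def InP {H : Subgroup ↥(D.group F)} (K : Finset ℕ) (z : ↥(D.group F) ⧸ H) : Prop :=
  ∃ y ∈ D.parabolicIn F K, (y : ↥(D.group F) ⧸ H) = z

theorem parabolicIn_mono (g : Good D A) {L K : Finset ℕ} (hLK : L ⊆ K) :
    D.parabolicIn F L ≤ D.parabolicIn F K := fun x hx => by
  rw [mem_parabolicIn, parabolic_eq g] at hx ⊢
  refine sup_le_sup le_rfl (Subgroup.closure_mono ?_) hx
  rintro y ⟨j, hj, hj', e⟩
  exact ⟨j, hLK hj, hj', e⟩

theorem inP_mk {H : Subgroup ↥(D.group F)} {K : Finset ℕ} (hH : H ≤ D.parabolicIn F K)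
    {y : ↥(D.group F)} : InP K (y : ↥(D.group F) ⧸ H) ↔ y ∈ D.parabolicIn F K := by
  refine ⟨fun ⟨y', hy', e⟩ => ?_, fun hy => ⟨y, hy, rfl⟩⟩
  have := mul_mem hy' (hH (QuotientGroup.eq.1 e))
  rwa [mul_inv_cancel_left] at this

/-- the index of `P_L` in `P_K` -/
noncomputable def eIdx (D : ChevalleyDatum) (F : Type*) [Field F] (K L : Finset ℕ) : ℕ :=
  (D.parabolicIn F L).relIndex (D.parabolicIn F K)

theorem card_inP (g : Good D A) {L K : Finset ℕ} (hLK : L ⊆ K) :
    Nat.card {z : ↥(D.group F) ⧸ D.parabolicIn F L // InP K z} = eIdx D F K L := by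
  rw [eIdx, Subgroup.relIndex, Subgroup.index]
  symm
  let π : ↥(D.parabolicIn F K) ⧸ (D.parabolicIn F L).subgroupOf (D.parabolicIn F K) →
      ↥(D.group F) ⧸ D.parabolicIn F L :=
    Quotient.map' (fun y => (y : ↥(D.group F))) fun a b hab => by
      rw [QuotientGroup.leftRel_apply] at hab ⊢
      exact hab
  have hπ : ∀ y : ↥(D.parabolicIn F K), π y = ((y : ↥(D.group F)) : ↥(D.group F) ⧸ D.parabolicIn F L) :=
    fun y => rfl
  refine Nat.card_congr (Equiv.ofBijective (fun u => ⟨π u, ?_⟩) ⟨?_, ?_⟩)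
  · obtain ⟨y, rfl⟩ := QuotientGroup.mk_surjective u
    exact ⟨y, y.2, (hπ y).symm⟩
  · intro u u' e
    obtain ⟨y, rfl⟩ := QuotientGroup.mk_surjective u
    obtain ⟨y', rfl⟩ := QuotientGroup.mk_surjective u'
    have e' := congrArg Subtype.val e
    simp only [hπ] at e'
    rw [QuotientGroup.eq, Subgroup.mem_subgroupOf, Subgroup.coe_mul, Subgroup.coe_inv]
    exact QuotientGroup.eq.1 e'
  · rintro ⟨z, y, hy, rfl⟩
    exact ⟨((⟨y, hy⟩ : ↥(D.parabolicIn F K)) :
      ↥(D.parabolicIn F K) ⧸ (D.parabolicIn F L).subgroupOf (D.parabolicIn F K)), Subtype.ext (hπ _)⟩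

/-- the elements of `p`-power order of `P_K` -/
def PEl (D : ChevalleyDatum) (F : Type*) [Field F] (p : ℕ) (K : Finset ℕ) (u : ↥(D.group F)) : Prop :=
  u ∈ D.parabolicIn F K ∧ ∃ k : ℕ, orderOf u = p ^ k

theorem pEl_conj {p : ℕ} {K : Finset ℕ} {y u : ↥(D.group F)} (hy : y ∈ D.parabolicIn F K) :
    PEl D F p K (y * u * y⁻¹) ↔ PEl D F p K u := by
  have e : orderOf (y * u * y⁻¹) = orderOf u := (MulAut.conj y).orderOf_eq u
  rw [PEl, PEl, e]
  refine and_congr_left' ⟨fun h => ?_, fun h => mul_mem (mul_mem hy h) (inv_mem hy)⟩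
  have := mul_mem (mul_mem (inv_mem hy) h) hy
  simpa [mul_assoc] using this

/-- swapping the roles of the element and the coset -/
theorem card_fixers (g : Good D A) {p : ℕ} {L K : Finset ℕ} (hLK : L ⊆ K)
    {z : ↥(D.group F) ⧸ D.parabolicIn F L} (hz : InP K z) :
    Nat.card {u // PEl D F p K u ∧ u • z = z} = Nat.card {u // PEl D F p L u} := by
  obtain ⟨y, hy, rfl⟩ := hz
  refine Nat.card_congr ((MulAut.conj y⁻¹).toEquiv.subtypeEquiv fun u => ?_)
  show _ ↔ PEl D F p L (y⁻¹ * u * y⁻¹⁻¹)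
  rw [inv_inv, MulAction.Quotient.smul_mk, smul_eq_mul, QuotientGroup.eq]
  constructor
  · rintro ⟨⟨-, k, hk⟩, h⟩
    refine ⟨?_, k, ?_⟩
    · have := inv_mem h
      simpa [mul_assoc] using this
    · rw [← hk]; simpa using (MulAut.conj y⁻¹).orderOf_eq u
  · rintro ⟨h, k, hk⟩
    refine ⟨⟨?_, k, ?_⟩, ?_⟩
    · have := mul_mem (mul_mem hy (parabolicIn_mono g hLK h)) (inv_mem hy)
      simpa [mul_assoc] using this
    · rw [← hk]; simpa using ((MulAut.conj y⁻¹).orderOf_eq u).symm
    · have := inv_mem h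
      simpa [mul_assoc] using this

open Classical in
/-- the alternating sum of the permutation characters of `P_K` -/
noncomputable def altK (D : ChevalleyDatum) (F : Type*) [Field F] (K : Finset ℕ) (u : ↥(D.group F)) : ℤ :=
  ∑ L ∈ K.powerset, (-1 : ℤ) ^ L.card *
    (Nat.card {z : ↥(D.group F) ⧸ D.parabolicIn F L // u • z = z ∧ InP K z} : ℤ)

theorem altK_one (g : Good D A) (K : Finset ℕ) :
    altK D F K 1 = ∑ L ∈ K.powerset, (-1 : ℤ) ^ L.card * (eIdx D F K L : ℤ) := by
  refine Finset.sum_congr rfl fun L hL => ?_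
  simp only [one_smul, true_and, card_inP g (Finset.mem_powerset.1 hL)]

theorem altK_conj {K : Finset ℕ} {y : ↥(D.group F)} (hy : y ∈ D.parabolicIn F K) (u : ↥(D.group F)) :
    altK D F K (y * u * y⁻¹) = altK D F K u := by
  refine Finset.sum_congr rfl fun L hL => ?_
  congr 2
  refine (Nat.card_congr ((MulAction.toPerm y).subtypeEquiv fun z => ?_)).symm
  rw [MulAction.toPerm_apply, smul_smul, inv_mul_cancel_right, mul_smul]
  refine and_congr ⟨fun h => by rw [h], fun h => MulAction.injective y h⟩ ⟨?_, ?_⟩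
  · rintro ⟨x, hx, rfl⟩
    exact ⟨y * x, mul_mem hy hx, rfl⟩
  · rintro ⟨x, hx, e⟩
    refine ⟨y⁻¹ * x, mul_mem (inv_mem hy) hx, ?_⟩
    rw [← smul_eq_mul, ← MulAction.Quotient.smul_mk, e, inv_smul_smul]

theorem group_le_parabolic_range (h : Para D A) :
    D.group F ≤ D.parabolicSubgroup F ((Finset.range D.rank : Finset ℕ) : Set ℕ) := by
  rw [group_eq h.std.good]
  refine (Subgroup.closure_le _).2 ?_
  rintro y ⟨r, t, hr, rfl⟩
  exact inJ_mem_parabolic h ⟨hr, fun j hj hjn => absurd (Finset.mem_coe.2 (Finset.mem_range.2 hj)) hjn⟩ t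

section radical

theorem radical_le_posUnipotent (h : Para D A) (K : Finset ℕ) :
    D.unipotentRadical F (K : Set ℕ) ≤ D.posUnipotent F := by
  rw [radical_eq h, posUnipotent_eq h.std.good]
  exact Subgroup.closure_mono fun y ⟨r, t, hr, e⟩ => ⟨r, t, hr.1, e⟩

theorem radical_conj (h : Para D A) {K : Finset ℕ} {y x : GL D.Idx F}
    (hy : y ∈ D.parabolicSubgroup F (K : Set ℕ)) (hx : x ∈ D.unipotentRadical F (K : Set ℕ)) :
    y * x * y⁻¹ ∈ D.unipotentRadical F (K : Set ℕ) := by
  rw [radical_eq h] at hx ⊢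
  exact (Subgroup.mem_normalizer_iff.1 (parabolic_le_normalizer h _ hy) x).1 hx

/-- a monomial element of `W_K` with no positive fundamental root in `K` sends the positive roots
of `K` to negative roots -/
theorem neg_inJ (h : Std D A) {K : Finset ℕ} {σ : ℕ → ℕ} (hσ : RootMap D A σ)
    (hneg : ∀ j ∈ K, j < D.rank → ¬ D.IsPosRoot (σ (D.simple j))) {r : ℕ} (hr : D.IsPosRoot r)
    (hK : ∀ i < D.rank, i ∉ K → A.a r i = 0) : D.IsNegRoot (σ r) := by
  have g := h.good
  refine (g.negRoot_iff _ (hσ.1 r hr.1)).2 fun j => ?_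
  by_cases hj : j < D.rank
  · rw [simple_eq_sum g hσ hr.1 j hj]
    refine Finset.sum_nonpos fun k hk => ?_
    have hk := Finset.mem_range.1 hk
    by_cases hkJ : k ∈ K
    · refine mul_nonpos_of_nonneg_of_nonpos ((g.pos_iff r hr.1).1 hr k) ?_
      have hlt := hσ.1 _ (g.simple_lt k hk)
      exact (g.negRoot_iff _ hlt).1 (isNeg_of_not_pos h.good hlt (hneg k hkJ hk)) j
    · rw [hK k hk hkJ, zero_mul]
  · rw [g.a_zero _ (hσ.1 r hr.1) j (not_lt.1 hj)]

theorem exists_big (h : Std D A) (K : Finset ℕ) :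
    ∃ n ∈ WJ F h.good K, ∃ σ, Acts h.good n σ ∧
      ∀ j ∈ K, j < D.rank → ¬ D.IsPosRoot (σ (D.simple j)) := by
  suffices ∀ k, ∀ n ∈ WJ F h.good K, ∀ σ, Acts h.good n σ → posToPos D σ = k →
      ∃ n ∈ WJ F h.good K, ∃ σ, Acts h.good n σ ∧
        ∀ j ∈ K, j < D.rank → ¬ D.IsPosRoot (σ (D.simple j)) by
    obtain ⟨σ, hσ⟩ := exists_acts h.good (one_mem (D.monomialSubgroup F))
    exact this _ 1 (one_mem _) σ hσ rfl
  intro k
  induction k using Nat.strong_induction_on with
  | _ k ih =>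
    intro n hn σ hσ hk
    by_cases hneg : ∀ j ∈ K, j < D.rank → ¬ D.IsPosRoot (σ (D.simple j))
    · exact ⟨n, hn, σ, hσ, hneg⟩
    push Not at hneg
    obtain ⟨j, hj, hj', hp⟩ := hneg
    have e := posToPos_refl h.good hσ.map hj' hp
    exact ih _ (by omega) _ (mul_mem hn (nS_mem_WJ h.good hj hj')) _
      (hσ.mul (acts_nS h.good hj')) rfl

/-- an element of `U` conjugated into `B` by a big element lies in the radical -/
theorem mem_radical_of_conj (h : Para D A) {K : Finset ℕ} {n : GL D.Idx F}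
    (hn : n ∈ WJ F h.std.good K) {σ : ℕ → ℕ} (hσ : Acts h.std.good n σ)
    (hneg : ∀ j ∈ K, j < D.rank → ¬ D.IsPosRoot (σ (D.simple j))) {u : GL D.Idx F}
    (hu : u ∈ D.posUnipotent F) (hc : n⁻¹ * u * n ∈ D.borelSubgroup F) :
    u ∈ D.unipotentRadical F (K : Set ℕ) := by
  have g := h.std.good
  have hnN := WJ_le_monomial g K hn
  obtain ⟨τ, hτ, hτσ⟩ := acts_inv g hnN hσ
  obtain ⟨σ', hσ', hK'⟩ := WJ_acts g hn
  set Q : ℕ → Prop := fun r => InJ D A (K : Set ℕ) r ∧ D.IsPosRoot r
  have hQ : ∀ r, Q r → D.IsNegRoot (τ r) := by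
    rintro r ⟨hr, hp⟩
    have hlt := hτ.map.1 r hp.1
    refine isNeg_of_not_pos g hlt fun hpos => ?_
    have h1 := neg_inJ h.std hσ.map hneg hpos fun i hi hiK => by
      rw [← hK' _ hlt i hi hiK, ← hσ.unique hσ' hlt, (hτσ r hp.1).2]
      exact hr.2 i hi (by simpa using hiK)
    rw [(hτσ r hp.1).2] at h1
    exact not_pos_of_isNeg g h1 hp
  have hle : D.posUnipotent F ≤ UP F g (OutJ D A (K : Set ℕ)) ⊔ UP F g Q := by
    rw [posUnipotent_eq g]
    refine (Subgroup.closure_le _).2 ?_
    rintro y ⟨r, t, hr, rfl⟩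
    by_cases hin : InJ D A (K : Set ℕ) r
    · exact (le_sup_right : _ ≤ UP F g (OutJ D A (K : Set ℕ)) ⊔ UP F g Q) (xG_mem_UP g ⟨hin, hr⟩ t)
    · exact (le_sup_left : _ ≤ UP F g (OutJ D A (K : Set ℕ)) ⊔ UP F g Q)
        (xG_mem_UP g ((outJ_iff h).2 ⟨hr, fun hc => hin ((inRootSub_iff h).1 hc)⟩) t)
  have hu' : u ∈ ((UP F g (OutJ D A (K : Set ℕ)) ⊔ UP F g Q : Subgroup _) : Set (GL D.Idx F)) := hle hu
  rw [Subgroup.coe_mul_of_right_le_normalizer_left _ _ (le_trans ?_ (parabolic_le_normalizer h _))] at hu'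
  swap
  · exact UP_le fun r t hr => borel_le_parabolic _ (xG_mem_borel g hr.2 t)
  obtain ⟨r, hr, l, hl, rfl⟩ := hu'
  have hr' : r ∈ D.unipotentRadical F (K : Set ℕ) := by rw [radical_eq h]; exact hr
  have hnP : n⁻¹ ∈ D.parabolicSubgroup F (K : Set ℕ) := inv_mem (WJ_le_parabolic g K hn)
  have h1 : n⁻¹ * r * n⁻¹⁻¹ ∈ D.borelSubgroup F :=
    (le_sup_left : D.posUnipotent F ≤ D.borelSubgroup F) (radical_le_posUnipotent h K (radical_conj h hnP hr'))
  rw [inv_inv] at h1
  have h2 : n⁻¹ * l * n ∈ D.borelSubgroup F := by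
    have := mul_mem (inv_mem h1) hc
    rwa [show (n⁻¹ * r * n)⁻¹ * (n⁻¹ * (r * l) * n) = n⁻¹ * l * n by group] at this
  have h3 : n⁻¹ * l * n ∈ D.negUnipotent F := by
    have := conj_UP_le (P := Q) hτ (fun r hr => hr.2.1) (K := D.negUnipotent F) (fun r t hr => by
      rw [negUnipotent_eq g]
      exact Subgroup.subset_closure ⟨τ r, t, hQ r hr, rfl⟩) hl
    rwa [inv_inv] at this
  have h4 : n⁻¹ * l * n ∈ D.borelSubgroup F ⊓ D.negUnipotent F := ⟨h2, h3⟩
  rw [borel_inf_negUnipotent h.std, Subgroup.mem_bot] at h4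
  have : l = 1 := by
    rw [show l = n * (n⁻¹ * l * n) * n⁻¹ by group, h4]; group
  show r * l ∈ _
  rw [this, mul_one]
  exact hr'

end radical

section values

variable [Fintype F]

/-- two elements of `W_K` without positive fundamental roots in `K` agree modulo the diagonal group -/
theorem big_unique (h : Std D A) {K : Finset ℕ} {n₀ n : GL D.Idx F} (hn₀ : n₀ ∈ WJ F h.good K)
    (hn : n ∈ WJ F h.good K) {σ₀ σ : ℕ → ℕ} (hσ₀ : Acts h.good n₀ σ₀) (hσ : Acts h.good n σ)
    (hneg₀ : ∀ j ∈ K, j < D.rank → ¬ D.IsPosRoot (σ₀ (D.simple j)))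
    (hneg : ∀ j ∈ K, j < D.rank → ¬ D.IsPosRoot (σ (D.simple j))) :
    n₀⁻¹ * n ∈ D.diagonalSubgroup F := by
  have g := h.good
  have hN₀ := WJ_le_monomial g K hn₀
  have hN := WJ_le_monomial g K hn
  obtain ⟨τ, hτ, hτσ⟩ := acts_inv g hN₀ hσ₀
  obtain ⟨ω, hω, hωK⟩ := WJ_acts g (mul_mem (inv_mem hn₀) hn)
  obtain ⟨θ, hθ, hθK⟩ := WJ_acts g hn
  obtain ⟨θ₀, hθ₀, hθ₀K⟩ := WJ_acts g hn₀
  refine diag_of_pos h (mul_mem (inv_mem hN₀) hN) (hτ.mul hσ) fun i hi => ?_
  have hsi := g.simple_lt i hi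
  have hlt := hσ.map.1 _ hsi
  have hlt' := hτ.map.1 _ hlt
  by_cases hiK : i ∈ K
  · by_contra hcon
    have hp := (pos_or_pos_neg g hlt').resolve_left hcon
    have h1 := neg_inJ h hσ₀.map hneg₀ hp fun k hk hkK => by
      rw [g.a_neg _ hlt', ← hθ₀K _ hlt' k hk hkK, ← hσ₀.unique hθ₀ hlt', (hτσ _ hlt).2,
        hσ.unique hθ hsi, hθK _ hsi k hk hkK, g.a_simple i hi k hk,
        if_neg (fun e : k = i => hkK (e ▸ hiK)), neg_zero]
    rw [hσ₀.map.map_neg g hlt', (hτσ _ hlt).2] at h1
    exact not_pos_of_isNeg g h1 ((pos_or_pos_neg g hlt).resolve_left (hneg i hiK hi))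
  · by_contra hcon
    have h1 := (g.negRoot_iff _ hlt').1 (isNeg_of_not_pos g hlt' hcon) i
    rw [(hτ.mul hσ).unique hω hsi |> fun e => (e : τ (σ (D.simple i)) = ω (D.simple i)),
      hωK _ hsi i hi hiK, g.a_simple i hi i hi, if_pos rfl] at h1
    omega

open Classical in
/-- the values of the alternating sum on `U` -/
theorem altK_on_U (h : Para D A) {K : Finset ℕ} (hK : K ⊆ Finset.range D.rank)
    {u : ↥(D.group F)} (hu : (u : GL D.Idx F) ∈ D.posUnipotent F) :
    altK D F K u =
        (if (u : GL D.Idx F) ∈ D.unipotentRadical F (K : Set ℕ) then altK D F K 1 else 0) ∧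
      altK D F K 1 * (Nat.card ↥(D.unipotentRadical F (K : Set ℕ)) : ℤ) =
        (Fintype.card F : ℤ) ^ (D.nroots / 2) := by
  haveI : Finite (GL D.Idx F) := finite_GL
  haveI : Fintype (↥(D.group F) ⧸ BI D F) := Fintype.ofFinite _
  have g := h.std.good
  have hs := h.std
  let asc : ↥(D.group F) ⧸ BI D F → Finset ℕ := fun x => K.filter fun i => PosC g {i} x
  have hasc : ∀ x J, J ∈ K.powerset → (PosC g J x ↔ J ⊆ asc x) := by
    intro x J hJ
    obtain ⟨y, rfl⟩ := QuotientGroup.mk_surjective x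
    obtain ⟨c, hc, n, hn, c', hc', e⟩ := bruhat hs y.2
    have hcell : InCell D n (y : GL D.Idx F) := ⟨c, hc, c', hc', e⟩
    rw [posC_iff hs hn hcell]
    simp only [Finset.subset_iff, asc, Finset.mem_filter, posC_iff hs hn hcell, PosAt,
      Finset.mem_singleton, forall_eq]
    exact ⟨fun hp j hj => ⟨Finset.mem_powerset.1 hJ hj, fun σ hσ hj' => hp σ hσ j hj hj'⟩,
      fun hp σ hσ j hj hj' => (hp hj).2 σ hσ hj'⟩
  have hPK : BI D F ≤ D.parabolicIn F K := BI_le_parabolicIn K
  set S : Set (↥(D.group F) ⧸ BI D F) := {x | InP K x ∧ asc x = ∅} with hS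
  have halt : ∀ v : ↥(D.group F), v ∈ BI D F → altK D F K v =
      (Nat.card {x // v • x = x ∧ x ∈ S} : ℤ) := by
    intro v hv
    have hcount : ∀ P : ↥(D.group F) ⧸ BI D F → Prop,
        (Nat.card {x // P x} : ℤ) = ∑ x, if P x then (1 : ℤ) else 0 := fun P => by
      rw [Nat.card_eq_fintype_card, Fintype.card_subtype, Finset.sum_boole]
    have hinP : ∀ L ∈ K.powerset, ∀ x : ↥(D.group F) ⧸ BI D F,
        (InP K (Subgroup.quotientMapOfLE (BI_le_parabolicIn L) x) ↔ InP K x) := by
      intro L hL x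
      obtain ⟨y, rfl⟩ := QuotientGroup.mk_surjective x
      show InP K ((y : ↥(D.group F)) : ↥(D.group F) ⧸ D.parabolicIn F L) ↔ _
      rw [inP_mk (parabolicIn_mono g (Finset.mem_powerset.1 hL)), inP_mk hPK]
    rw [hcount, altK, Finset.sum_congr rfl fun L hL => by
      rw [card_fixed_parabolic' hs L hv (InP K), hcount, Finset.mul_sum], Finset.sum_comm]
    refine Finset.sum_congr rfl fun x _ => ?_
    by_cases hx : v • x = x ∧ InP K x
    · refine Eq.trans (Finset.sum_congr rfl (g := fun L => if L ⊆ asc x then (-1 : ℤ) ^ L.card else 0)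
        fun L hL => ?_) ?_
      · simp [hx.1, hx.2, hinP L hL x, hasc x L hL]
      · rw [← Finset.sum_filter, show K.powerset.filter (· ⊆ asc x) = (asc x).powerset by
          ext L; simp only [Finset.mem_filter, Finset.mem_powerset]
          exact ⟨fun h => h.2, fun h => ⟨h.trans (Finset.filter_subset _ _), h⟩⟩,
          Finset.sum_powerset_neg_one_pow_card]
        simp [hS, hx.1, hx.2]
    · rw [if_neg (fun hc => hx ⟨hc.1, hc.2.1⟩)]
      refine Finset.sum_eq_zero fun L hL => ?_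
      rw [if_neg (fun hc => hx ⟨hc.1, (hinP L hL x).1 hc.2.2⟩), mul_zero]
  obtain ⟨n₀, hn₀, σ₀, hσ₀, hneg₀⟩ := exists_big (F := F) hs K
  have hn₀N := WJ_le_monomial g K hn₀
  set N₀ : ↥(D.group F) := ⟨n₀, monomialSubgroup_le_group g hn₀N⟩
  set x₀ : ↥(D.group F) ⧸ BI D F := (N₀ : ↥(D.group F) ⧸ BI D F)
  set UI : Subgroup ↥(D.group F) := (D.posUnipotent F).subgroupOf (D.group F)
  have hUP : UI ≤ D.parabolicIn F K := fun v hv =>
    hPK ((le_sup_left : D.posUnipotent F ≤ D.borelSubgroup F) hv)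
  have hN₀P : N₀ ∈ D.parabolicIn F K := WJ_le_parabolic g K hn₀
  -- the big cosets form one orbit of `U`
  have horb : MulAction.orbit UI x₀ = S := by
    ext x
    constructor
    · rintro ⟨⟨v, hv⟩, rfl⟩
      refine ⟨⟨v * N₀, mul_mem (hUP hv) hN₀P, rfl⟩, Finset.filter_eq_empty_iff.2 fun i hi hp => ?_⟩
      have hcell : InCell D n₀ ((v * N₀ : ↥(D.group F)) : GL D.Idx F) :=
        ⟨_, (le_sup_left : D.posUnipotent F ≤ D.borelSubgroup F) hv, 1, one_mem _, by simp [N₀]⟩
      have hp' : PosC g {i} ((v * N₀ : ↥(D.group F)) : ↥(D.group F) ⧸ BI D F) := hp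
      rw [posC_iff hs hn₀N hcell, posAt_iff g hσ₀] at hp'
      exact hneg₀ i hi (Finset.mem_range.1 (hK hi))
        (hp' i (Finset.mem_singleton_self i) (Finset.mem_range.1 (hK hi)))
    · rintro ⟨hx, hasc0⟩
      obtain ⟨y, hy, rfl⟩ := hx
      obtain ⟨w, hw, hcell⟩ := mem_parabolic_cell hs K (mem_parabolicIn.1 hy)
      have hwN := WJ_le_monomial g K hw
      obtain ⟨σ, hσ⟩ := exists_acts g hwN
      have hneg : ∀ j ∈ K, j < D.rank → ¬ D.IsPosRoot (σ (D.simple j)) := fun j hj hj' hp => by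
        refine Finset.filter_eq_empty_iff.1 hasc0 hj ?_
        rw [posC_iff hs hwN hcell, posAt_iff g hσ]
        intro k hk _
        rw [Finset.mem_singleton.1 hk]
        exact hp
      obtain ⟨c₁, hc₁, c₂, hc₂, e₁⟩ :=
        hcell.congr hs (n' := n₀) (by
          have := inv_mem (big_unique hs hn₀ hw hσ₀ hσ hneg₀ hneg)
          simpa using this)
      obtain ⟨v, hv, c, hvc⟩ := (mem_borel_iff g).1 hc₁
      obtain ⟨d, hd⟩ := monomial_conj_tor g (inv_mem hn₀N) c
      rw [inv_inv] at hd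
      refine ⟨⟨⟨v, posUnipotent_le_group g hv⟩, hv⟩, ?_⟩
      show ((⟨v, _⟩ * N₀ : ↥(D.group F)) : ↥(D.group F) ⧸ BI D F) = _
      rw [QuotientGroup.eq, mem_BI, Subgroup.coe_mul, Subgroup.coe_inv, Subgroup.coe_mul, e₁, hvc]
      show (v * n₀)⁻¹ * (v * tor D A c * n₀ * c₂) ∈ _
      rw [show (v * n₀)⁻¹ * (v * tor D A c * n₀ * c₂) = n₀⁻¹ * tor D A c * n₀ * c₂ by group, hd]
      exact mul_mem (tor_mem_borel g d) hc₂
  -- the radical is the stabiliser
  have hfix : ∀ x ∈ S, ∀ v : ↥(D.group F), (v : GL D.Idx F) ∈ D.unipotentRadical F (K : Set ℕ) →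
      v • x = x := by
    rintro x ⟨⟨y, hy, rfl⟩, -⟩ v hv
    rw [MulAction.Quotient.smul_mk, smul_eq_mul, QuotientGroup.eq, mem_BI]
    have := radical_conj h (inv_mem (mem_parabolicIn.1 hy)) (inv_mem hv)
    refine (le_sup_left : D.posUnipotent F ≤ D.borelSubgroup F) ?_
    have h' := radical_le_posUnipotent h K this
    simpa [mul_assoc] using h'
  have hmove : ∀ v : ↥(D.group F), v ∈ UI → ∀ x ∈ S, v • x = x →
      (v : GL D.Idx F) ∈ D.unipotentRadical F (K : Set ℕ) := by
    intro v hv x hx hvx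
    rw [← horb] at hx
    obtain ⟨⟨a, ha⟩, rfl⟩ := hx
    change v • ((a * N₀ : ↥(D.group F)) : ↥(D.group F) ⧸ BI D F) = _ at hvx
    rw [MulAction.Quotient.smul_mk, smul_eq_mul] at hvx
    have h1 := mem_BI.1 (QuotientGroup.eq.1 hvx.symm)
    have h2 := mem_radical_of_conj h hn₀ hσ₀ hneg₀ (u := (a : GL D.Idx F)⁻¹ * v * a)
      (mul_mem (mul_mem (inv_mem ha) hv) ha) (by
        simp only [Subgroup.coe_mul, Subgroup.coe_inv, N₀] at h1
        simpa [mul_assoc] using h1)
    have h3 := radical_conj h (mem_parabolicIn.1 (hUP ha)) h2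
    simpa [mul_assoc] using h3
  have hval : ∀ v : ↥(D.group F), v ∈ UI → altK D F K v =
      if (v : GL D.Idx F) ∈ D.unipotentRadical F (K : Set ℕ) then altK D F K 1 else 0 := by
    intro v hv
    rw [halt v ((le_sup_left : D.posUnipotent F ≤ D.borelSubgroup F) hv), halt 1 (one_mem _)]
    split_ifs with hr
    · congr 1
      exact Nat.card_congr (Equiv.subtypeEquivRight fun x => by
        simp only [one_smul, true_and]
        exact and_iff_right_of_imp fun hx => hfix x hx v hr)
    · have : IsEmpty {x // v • x = x ∧ x ∈ S} := ⟨fun x => hr (hmove v hv x.1 x.2.2 x.2.1)⟩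
      simp
  refine ⟨hval u hu, ?_⟩
  rw [halt 1 (one_mem _)]
  have hst : Nat.card ↥(MulAction.stabilizer UI x₀) = Nat.card ↥(D.unipotentRadical F (K : Set ℕ)) := by
    have hx₀ : x₀ ∈ S := horb ▸ MulAction.mem_orbit_self x₀
    refine Nat.card_congr ⟨fun v => ⟨((v.1 : ↥(D.group F)) : GL D.Idx F), hmove v.1 v.1.2 x₀ hx₀ v.2⟩,
      fun v => ⟨⟨⟨v, posUnipotent_le_group g (radical_le_posUnipotent h K v.2)⟩,
        radical_le_posUnipotent h K v.2⟩, hfix x₀ hx₀ _ v.2⟩, fun v => rfl, fun v => rfl⟩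
  have hcardU : Nat.card UI = Fintype.card F ^ (D.nroots / 2) := by
    rw [Nat.card_congr (Subgroup.subgroupOfEquivOfLe (posUnipotent_le_group g)).toEquiv,
      card_posUnipotent hs]
  have := Subgroup.index_mul_card (MulAction.stabilizer UI x₀)
  rw [MulAction.index_stabilizer, horb, hst, hcardU, ← Nat.card_coe_set_eq] at this
  rw [← Nat.cast_pow, ← this, Nat.cast_mul]
  congr 2
  exact Nat.card_congr (Equiv.subtypeEquivRight fun x => by simp [hS])

end values

section count

variable [Fintype F] {p : ℕ} [Fact p.Prime] [CharP F p]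

theorem altK_on_PEl (h : Para D A) {K : Finset ℕ} (hK : K ⊆ Finset.range D.rank)
    {u : ↥(D.group F)} (hu : PEl D F p K u) [Decidable ((u : GL D.Idx F) ∈ D.unipotentRadical F (K : Set ℕ))] :
    altK D F K u =
      if (u : GL D.Idx F) ∈ D.unipotentRadical F (K : Set ℕ) then altK D F K 1 else 0 := by
  classical
  haveI : Finite (GL D.Idx F) := finite_GL
  have g := h.std.good
  obtain ⟨k, -, hq⟩ := FiniteField.card F p
  obtain ⟨m, hm, hcard⟩ := card_group_eq (F := F) h.std (p := p)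
  set P := D.parabolicIn F K
  set UI : Subgroup ↥(D.group F) := (D.posUnipotent F).subgroupOf (D.group F)
  have hUP : UI ≤ P := fun v hv =>
    BI_le_parabolicIn K ((le_sup_left : D.posUnipotent F ≤ D.borelSubgroup F) hv)
  have hcardU : Nat.card (UI.subgroupOf P) = Fintype.card F ^ (D.nroots / 2) := by
    rw [Nat.card_congr (Subgroup.subgroupOfEquivOfLe hUP).toEquiv,
      Nat.card_congr (Subgroup.subgroupOfEquivOfLe (posUnipotent_le_group g)).toEquiv,
      card_posUnipotent h.std]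
  have hU : IsPGroup p (UI.subgroupOf P) := IsPGroup.of_card (n := k * (D.nroots / 2)) (by
    rw [hcardU, hq, ← pow_mul])
  have hidx : ¬ p ∣ (UI.subgroupOf P).index := by
    intro hd
    refine hm (hd.trans (Nat.dvd_of_mul_dvd_mul_left (k := Fintype.card F ^ (D.nroots / 2))
      (pow_pos Fintype.card_pos _) ?_))
    rw [← hcard]
    nth_rw 1 [← hcardU]
    rw [Subgroup.card_mul_index]
    exact Subgroup.card_subgroup_dvd_card P
  set Q : Sylow p P := hU.toSylow hidx
  set up : P := ⟨u, hu.1⟩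
  obtain ⟨j, hj⟩ := hu.2
  have hz : IsPGroup p (Subgroup.zpowers up) := IsPGroup.of_card (n := j) (by
    rw [Nat.card_zpowers, ← Subgroup.orderOf_coe]; exact hj)
  obtain ⟨R, hR⟩ := hz.exists_le_sylow
  obtain ⟨y, hy⟩ := MulAction.exists_smul_eq P R Q
  have hmem : y * up * y⁻¹ ∈ UI.subgroupOf P := by
    have h1 : y * up * y⁻¹ ∈ (y • R : Sylow p P) := by
      rw [Sylow.smul_def]
      exact ⟨up, hR (Subgroup.mem_zpowers up), rfl⟩
    rw [hy] at h1
    exact h1
  have hv : ((y * up * y⁻¹ : P) : ↥(D.group F)) = (y : ↥(D.group F)) * u * (y : ↥(D.group F))⁻¹ := by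
    push_cast; rfl
  have h2 := (altK_on_U h hK (u := ((y * up * y⁻¹ : P) : ↥(D.group F))) hmem).1
  rw [hv, altK_conj y.2] at h2
  rw [h2]
  refine if_congr ⟨fun hr => ?_, fun hr => ?_⟩ rfl rfl
  · have := radical_conj h (inv_mem (mem_parabolicIn.1 y.2)) hr
    simpa [mul_assoc] using this
  · have := radical_conj h (mem_parabolicIn.1 y.2) hr
    simpa using this

open Classical in
/-- the recursion for the numbers of `p`-elements of the parabolic subgroups -/
theorem sum_pEl (h : Para D A) {K : Finset ℕ} (hK : K ⊆ Finset.range D.rank) :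
    ∑ L ∈ K.powerset, (-1 : ℤ) ^ L.card * (eIdx D F K L : ℤ) * (Nat.card {u // PEl D F p L u} : ℤ) =
      (Fintype.card F : ℤ) ^ (D.nroots / 2) := by
  haveI : Finite (GL D.Idx F) := finite_GL
  haveI := Fintype.ofFinite ↥(D.group F)
  haveI : ∀ L, Fintype (↥(D.group F) ⧸ D.parabolicIn F L) := fun L => Fintype.ofFinite _
  have g := h.std.good
  have hswap : ∀ L ∈ K.powerset, (eIdx D F K L : ℤ) * (Nat.card {u // PEl D F p L u} : ℤ) =
      ∑ u, if PEl D F p K u then
        (Nat.card {z : ↥(D.group F) ⧸ D.parabolicIn F L // u • z = z ∧ InP K z} : ℤ) else 0 := by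
    intro L hL
    have hLK := Finset.mem_powerset.1 hL
    have hc : ∀ u : ↥(D.group F), (Nat.card {z : ↥(D.group F) ⧸ D.parabolicIn F L // u • z = z ∧ InP K z} : ℤ) =
        ∑ z : ↥(D.group F) ⧸ D.parabolicIn F L, if u • z = z ∧ InP K z then 1 else 0 := fun u => by
      rw [Nat.card_eq_fintype_card, Fintype.card_subtype, Finset.sum_boole]
    calc (eIdx D F K L : ℤ) * (Nat.card {u // PEl D F p L u} : ℤ)
        = ∑ z : ↥(D.group F) ⧸ D.parabolicIn F L,
            if InP K z then (Nat.card {u // PEl D F p K u ∧ u • z = z} : ℤ) else 0 := by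
          rw [Finset.sum_congr rfl fun z _ => (show (if InP K z then
              (Nat.card {u // PEl D F p K u ∧ u • z = z} : ℤ) else 0) =
              if InP K z then (Nat.card {u // PEl D F p L u} : ℤ) else 0 by
            split_ifs with hz
            · rw [card_fixers g hLK hz]
            · rfl), ← Finset.sum_filter, Finset.sum_const, nsmul_eq_mul, ← card_inP g hLK,
            Nat.card_eq_fintype_card, Fintype.card_subtype]
      _ = ∑ z : ↥(D.group F) ⧸ D.parabolicIn F L, ∑ u,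
            if PEl D F p K u ∧ u • z = z ∧ InP K z then 1 else 0 := by
          refine Finset.sum_congr rfl fun z _ => ?_
          split_ifs with hz
          · rw [Nat.card_eq_fintype_card, Fintype.card_subtype, Finset.sum_boole]
            simp [hz]
          · simp [hz]
      _ = _ := by
          rw [Finset.sum_comm]
          refine Finset.sum_congr rfl fun u _ => ?_
          split_ifs with hu
          · rw [hc]; simp [hu]
          · simp [hu]
  rw [Finset.sum_congr rfl fun L hL => by rw [mul_assoc, hswap L hL, Finset.mul_sum],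
    Finset.sum_comm]
  have hone := (altK_on_U (F := F) h hK (u := 1) (one_mem _)).2
  refine Eq.trans (Finset.sum_congr rfl (g := fun u : ↥(D.group F) =>
      if (u : GL D.Idx F) ∈ D.unipotentRadical F (K : Set ℕ) then altK D F K 1 else 0) fun u _ => ?_) ?_
  rotate_left
  · rw [← Finset.sum_filter, Finset.sum_const, nsmul_eq_mul, ← hone, mul_comm]
    congr 2
    rw [← Fintype.card_subtype, ← Nat.card_eq_fintype_card]
    exact Nat.card_congr ⟨fun v => ⟨(v.1 : GL D.Idx F), v.2⟩,
      fun v => ⟨⟨v, posUnipotent_le_group g (radical_le_posUnipotent h K v.2)⟩, v.2⟩,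
      fun v => rfl, fun v => rfl⟩
  · by_cases hu : PEl D F p K u
    · simp only [hu, if_true]
      exact altK_on_PEl h hK hu
    · simp only [hu, if_false, mul_zero, Finset.sum_const_zero]
      rw [if_neg fun hr => hu ⟨?_, ?_⟩]
      · exact BI_le_parabolicIn K
          ((le_sup_left : D.posUnipotent F ≤ D.borelSubgroup F) (radical_le_posUnipotent h K hr))
      · obtain ⟨k, -, hq⟩ := FiniteField.card F p
        have hU : IsPGroup p ↥(D.posUnipotent F) := IsPGroup.of_card (n := k * (D.nroots / 2)) (by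
          rw [card_posUnipotent h.std, hq, ← pow_mul])
        obtain ⟨j, hj⟩ := IsPGroup.iff_orderOf.1 hU ⟨u, radical_le_posUnipotent h K hr⟩
        exact ⟨j, by rw [← hj, ← Subgroup.orderOf_coe u, Subgroup.orderOf_mk]⟩

/-- Steinberg's count, for the parabolic subgroups -/
theorem card_pEl (h : Para D A) : ∀ K : Finset ℕ, K ⊆ Finset.range D.rank →
    (Nat.card {u // PEl D F p K u} : ℤ) = (Fintype.card F : ℤ) ^ (D.nroots / 2) * altK D F K 1 := by
  intro K
  induction K using Finset.strongInduction with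
  | _ K ih =>
    intro hK
    have g := h.std.good
    set q := (Fintype.card F : ℤ) ^ (D.nroots / 2)
    have hid : ∑ L ∈ K.powerset, (-1 : ℤ) ^ L.card * (eIdx D F K L : ℤ) * (q * altK D F L 1) = q := by
      calc ∑ L ∈ K.powerset, (-1 : ℤ) ^ L.card * (eIdx D F K L : ℤ) * (q * altK D F L 1)
          = ∑ L ∈ K.powerset, ∑ M ∈ L.powerset,
              q * ((eIdx D F K M : ℤ) * ((-1 : ℤ) ^ M.card * (-1) ^ L.card)) := by
            refine Finset.sum_congr rfl fun L hL => ?_
            rw [altK_one g, Finset.mul_sum, Finset.mul_sum]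
            refine Finset.sum_congr rfl fun M hM => ?_
            rw [show eIdx D F K M = eIdx D F L M * eIdx D F K L from
              (Subgroup.relIndex_mul_relIndex _ _ _ (parabolicIn_mono g (Finset.mem_powerset.1 hM))
                (parabolicIn_mono g (Finset.mem_powerset.1 hL))).symm]
            push_cast
            ring
        _ = ∑ M ∈ K.powerset, ∑ L ∈ Finset.Icc M K,
              q * ((eIdx D F K M : ℤ) * ((-1 : ℤ) ^ M.card * (-1) ^ L.card)) := by
            refine Finset.sum_comm' fun L M => ?_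
            simp only [Finset.mem_powerset, Finset.mem_Icc, Finset.le_eq_subset]
            exact ⟨fun ⟨hL, hM⟩ => ⟨⟨hM, hL⟩, hM.trans hL⟩, fun ⟨⟨hM, hL⟩, _⟩ => ⟨hL, hM⟩⟩
        _ = q := by
            rw [Finset.sum_eq_single_of_mem K (Finset.mem_powerset_self K)]
            · rw [Finset.Icc_self, Finset.sum_singleton, ← pow_add, Even.neg_one_pow ⟨K.card, rfl⟩,
                eIdx, Subgroup.relIndex_self]
              simp
            · intro M hM hne
              have hMK := Finset.mem_powerset.1 hM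
              simp only [← Finset.mul_sum]
              rw [Finset.Icc_eq_image_powerset hMK, Finset.sum_image, Finset.sum_congr rfl
                  (fun L hL => by rw [Finset.card_union_of_disjoint
                    (Finset.disjoint_of_subset_right (Finset.mem_powerset.1 hL) Finset.disjoint_sdiff),
                    pow_add]), ← Finset.mul_sum, Finset.sum_powerset_neg_one_pow_card_of_nonempty]
              · simp
              · exact Finset.sdiff_nonempty.2 fun hle => hne (Finset.Subset.antisymm hMK hle)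
              · intro a ha b hb e
                rw [Finset.mem_coe, Finset.mem_powerset] at ha hb
                have := congrArg (fun s => s \ M) e
                simp only [Finset.union_sdiff_left] at this
                rwa [Finset.sdiff_eq_self_of_disjoint (Finset.disjoint_of_subset_left ha Finset.sdiff_disjoint),
                  Finset.sdiff_eq_self_of_disjoint (Finset.disjoint_of_subset_left hb Finset.sdiff_disjoint)]
                  at this
    have hs := sum_pEl (F := F) (p := p) h hK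
    rw [← Finset.add_sum_erase _ _ (Finset.mem_powerset_self K)] at hs hid
    rw [Finset.sum_congr rfl fun L hL => by
      rw [ih L (Finset.ssubset_iff_subset_ne.2 ⟨Finset.mem_powerset.1 (Finset.mem_of_mem_erase hL),
        Finset.ne_of_mem_erase hL⟩) ((Finset.mem_powerset.1 (Finset.mem_of_mem_erase hL)).trans hK)]]
      at hs
    have h1 := hs.trans hid.symm
    rw [eIdx, Subgroup.relIndex_self, Nat.cast_one, mul_one] at h1
    exact mul_left_cancel₀ (pow_ne_zero _ (by norm_num)) (add_right_cancel h1)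

/-- Steinberg's count of unipotent elements -/
theorem card_unipotent (h : Para D A) :
    Nat.card {g : ↥(D.group F) // ∃ k : ℕ, orderOf g = p ^ k} =
      Fintype.card F ^ (2 * (D.nroots / 2)) := by
  haveI : Finite (GL D.Idx F) := finite_GL
  have htop : ∀ x : ↥(D.group F), x ∈ D.parabolicIn F (Finset.range D.rank) := fun x =>
    group_le_parabolic_range h x.2
  have h1 := card_pEl (F := F) (p := p) h (Finset.range D.rank) subset_rfl
  have h2 : (altK D F (Finset.range D.rank) 1 : ℂ) = (Fintype.card F : ℂ) ^ (D.nroots / 2) := by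
    rw [← steinberg_one h.std, altK]
    push_cast
    refine Finset.sum_congr rfl fun L _ => ?_
    rw [fixedPointCharacter]
    congr 2
    exact Nat.card_congr (Equiv.subtypeEquivRight fun z => and_iff_left (by
      obtain ⟨y, rfl⟩ := QuotientGroup.mk_surjective z
      exact ⟨y, htop y, rfl⟩))
  have h3 : (Nat.card {g : ↥(D.group F) // ∃ k : ℕ, orderOf g = p ^ k} : ℤ) =
      (Nat.card {u // PEl D F p (Finset.range D.rank) u} : ℤ) := by
    rw [Nat.card_congr (Equiv.subtypeEquivRight fun x => (and_iff_right (htop x)).symm)]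
    rfl
  rw [h1] at h3
  have h4 : altK D F (Finset.range D.rank) 1 = (Fintype.card F : ℤ) ^ (D.nroots / 2) := by
    exact_mod_cast h2
  rw [h4, ← pow_add, ← two_mul] at h3
  exact_mod_cast h3

end count

end CfsgLib.Chev
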