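/-
The centraliser of a regular torus element is the torus.
-/
import Cfsg.Agent.Lib.Chev.BN2
import Cfsg.Agent.Lib.Chev.WeylN
import Cfsg.Agent.Lib.Chev.ParaCells

set_option autoImplicit false

namespace CfsgLib.Chev

open Cfsg.Lie Matrix

variable {D : ChevalleyDatum} {A : Aux} {F : Type*} [Field F]

lemma tor_conj_pw (g : Good D A) (c : Fin D.rank → Fˣ) (T : ℕ → F) :
    ∀ {L : List ℕ}, (∀ r ∈ L, r < D.nroots) →
      tor D A c * pw g L T * (tor D A c)⁻¹ = pw g L fun r => (chi D A c r : F) * T r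
  | [], _ => by simp [pw]
  | x :: L, hL => by
    have h1 := tor_conj_xG g c (hL x List.mem_cons_self) (T x)
    have h2 := tor_conj_pw g c T (L := L) fun r hr => hL r (List.mem_cons_of_mem _ hr)
    simp only [pw, List.map_cons, List.prod_cons] at h2 ⊢
    rw [← h1, ← h2]; group

/-- a torus element without eigenvalue `1` on the roots fixes nothing in `U` -/
lemma pos_fixed_eq_one (h : Std D A) (c : Fin D.rank → Fˣ)
    (hreg : ∀ r < D.nroots, chi D A c r ≠ 1) {u : GL D.Idx F} (hu : u ∈ D.posUnipotent F)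
    (hfix : tor D A c * u * (tor D A c)⁻¹ = u) : u = 1 := by
  rw [← UL_posRoots h.good] at hu
  obtain ⟨T, rfl⟩ := exists_pw h upList_posRoots hu
  have hn : ∀ r ∈ D.posRoots, r < D.nroots := fun r hr => (posRoots_mem.1 hr).1
  rw [tor_conj_pw h.good c T hn] at hfix
  have hT := pw_inj h upList_posRoots hfix
  refine List.prod_eq_one fun y hy => ?_
  obtain ⟨r, hr, rfl⟩ := List.mem_map.1 hy
  have h0 : T r = 0 := by
    by_contra h0
    exact hreg r (hn r hr) (Units.ext (mul_right_cancel₀ h0 ((hT r hr).trans (one_mul _).symm)))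
  rw [h0, xG_zero]

/-- the centraliser of a torus element which is `1` on no root and whose stabiliser fixes
the fundamental roots -/
theorem commute_regular_stab (h : Std D A) (c : Fin D.rank → Fˣ)
    (hreg : ∀ r < D.nroots, chi D A c r ≠ 1)
    (hstab : ∀ w, Letters D w → (∀ r < D.nroots, chi D A c (wf A w r) = chi D A c r) →
      ∀ i < D.rank, wf A w (D.simple i) = D.simple i)
    {y : GL D.Idx F} (hy : y ∈ D.group F) (hcomm : tor D A c * y = y * tor D A c) :
    ∃ a, y = tor D A a := by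
  have g := h.good
  set t : GL D.Idx F := tor D A c with ht
  obtain ⟨b, hb, n, hn, σ, hσ, u, hu, e⟩ := normal_form_exists h hy
  obtain ⟨d, hd⟩ := monomial_conj_tor g hn c
  rw [← ht] at hd
  have hu' : t * u * t⁻¹ ∈ UP F g (toNeg D σ) :=
    conj_UP_le (σ := id) (acts_tor g c) (fun r hr => hr.1.1)
      (fun r s hr => xG_mem_UP g hr s) hu
  have hb' : t * b * t⁻¹ * tor D A (c * d⁻¹) ∈ D.borelSubgroup F :=
    mul_mem (mul_mem (mul_mem (tor_mem_borel g c) hb) (inv_mem (tor_mem_borel g c)))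
      (tor_mem_borel g _)
  have e2 : b * n * u = (t * b * t⁻¹ * tor D A (c * d⁻¹)) * n * (t * u * t⁻¹) := by
    rw [map_mul, map_inv, ← ht, ← hd, ← e]
    calc y = t * y * t⁻¹ := by rw [hcomm, mul_inv_cancel_right]
      _ = _ := by rw [e]; group
  obtain ⟨hb2, hu2⟩ := normal_form_unique h hσ hb hb' hu hu' e2
  have hu1 : u = 1 := pos_fixed_eq_one h c hreg (UP_toNeg_le g σ hu) hu2.symm
  obtain ⟨v, hv, a, rfl⟩ := (mem_borel_iff g).1 hb
  have hvt : t * v * t⁻¹ ∈ D.posUnipotent F := tor_conj_posUnipotent g c hv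
  have e3 : v * tor D A a = (t * v * t⁻¹) * tor D A (a * (c * d⁻¹)) := by
    conv_lhs => rw [hb2]
    rw [map_mul _ a, ht, show tor D A c * (v * tor D A a) * (tor D A c)⁻¹ =
      tor D A c * v * (tor D A c)⁻¹ * (tor D A c * tor D A a * (tor D A c)⁻¹) by group,
      tor_mul_comm c a, mul_inv_cancel_right]
    group
  have hv1 : t * v * t⁻¹ = v := by
    refine (inv_mul_eq_one.1 (Subgroup.mem_bot.1 ((posUnipotent_inf_diagonal (F := F) h).le
      (Subgroup.mem_inf.2 ⟨mul_mem (inv_mem hv) hvt, ?_⟩)))).symm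
    rw [diagonalSubgroup_eq g]
    refine ⟨a * (a * (c * d⁻¹))⁻¹, ?_⟩
    rw [map_mul, map_inv, eq_comm, eq_mul_inv_iff_mul_eq, mul_assoc, ← e3, inv_mul_cancel_left]
  have hv0 : v = 1 := pos_fixed_eq_one h c hreg hv hv1
  rw [hu1, hv0, one_mul, mul_one] at e
  have hnc : t * n = n * t := by
    have h1 : n = (tor D A a)⁻¹ * y := by rw [e]; group
    rw [h1, ← mul_assoc, ← map_inv, ht, tor_mul_comm, mul_assoc, ← ht, hcomm, ← mul_assoc]
  have hchi : ∀ r < D.nroots, chi D A c (σ r) = chi D A c r := by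
    intro r hr
    obtain ⟨k, hk, hroot⟩ := hσ.root r hr
    have h1 := congrArg (fun z : GL D.Idx F =>
      (z : Matrix D.Idx D.Idx F) *ᵥ ev D F (D.rank + r)) hnc
    simp only [Units.val_mul, ← Matrix.mulVec_mulVec, hroot, ht, tor_val, dia_mulVec_root,
      Matrix.mulVec_smul, smul_smul] at h1
    have hσr := hσ.map.1 r hr
    have h2 := congrFun h1 (Sum.inr ⟨σ r, hσr⟩)
    simp [ev, idx, mul_comm k] at h2
    rcases h2 with h2 | h2
    · exact Units.ext h2
    · exact absurd h2 hk
  obtain ⟨w, hw, cw, ew⟩ := monomial_exists_word g hn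
  have hsw : ∀ r < D.nroots, σ r = wf A w r := fun r hr =>
    hσ.unique (ew ▸ (acts_tor g cw).mul (nW_acts g hw)) hr
  have hid : ∀ i < D.rank, D.IsPosRoot (σ (D.simple i)) := by
    intro i hi
    rw [hsw _ (g.simple_lt i hi), hstab w hw (fun r hr => by rw [← hsw r hr]; exact hchi r hr) i hi]
    exact simple_pos g hi
  obtain ⟨a', ha'⟩ : n ∈ (tor D A).range := by
    rw [← diagonalSubgroup_eq g]; exact diag_of_pos h hn hσ hid
  exact ⟨a * a', by rw [e, ← ha', map_mul]⟩

/-- the centraliser of a torus element which is `1` on no root and fixed by no Weyl element -/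
theorem commute_regular_sep (h : Std D A) (c : Fin D.rank → Fˣ)
    (hreg : ∀ r < D.nroots, chi D A c r ≠ 1)
    (hsep : ∀ r < D.nroots, ∀ s < D.nroots, chi D A c r = chi D A c s → r ≠ s →
      ∃ u < D.nroots, (∀ v < D.nroots, chi D A c v = chi D A c u → v = u) ∧
        pr D A r u ≠ pr D A s u)
    {y : GL D.Idx F} (hy : y ∈ D.group F) (hcomm : tor D A c * y = y * tor D A c) :
    ∃ a, y = tor D A a := by
  refine commute_regular_stab h c hreg (fun w hw hchi i hi => ?_) hy hcomm
  have g := h.good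
  have hr := g.simple_lt i hi
  by_contra hne
  have hσr := wf_lt g hw hr
  obtain ⟨v, hv, hone, hpr⟩ := hsep _ hσr _ hr (hchi _ hr) hne
  have hv' : wf A w v = v := hone _ (wf_lt g hw hv) (hchi v hv)
  refine hpr ?_
  conv_lhs => rw [← hv']
  exact pr_wf g hw hr hv

/-- the centraliser of a regular torus element -/
theorem commute_regular (h : Std D A) (c : Fin D.rank → Fˣ)
    (hreg : ∀ r < D.nroots, chi D A c r ≠ 1)
    (hinj : ∀ r < D.nroots, ∀ s < D.nroots, chi D A c r = chi D A c s → r = s)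
    {y : GL D.Idx F} (hy : y ∈ D.group F) (hcomm : tor D A c * y = y * tor D A c) :
    ∃ a, y = tor D A a :=
  commute_regular_sep h c hreg (fun r hr s hs e hne => absurd (hinj r hr s hs e) hne) hy hcomm

end CfsgLib.Chev
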