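/-
Orders of elements of Weyl groups given by words.
-/
import Cfsg.Agent.Lib.Chev.WeylTypes

set_option autoImplicit false
set_option maxRecDepth 100000

namespace CfsgLib.Chev

open Cfsg.Lie

variable {D : ChevalleyDatum} {A : Aux}

/-- the check that a word has order `h` -/
noncomputable def orderCheck (D : ChevalleyDatum) (A : Aux) (w : List ℕ) (h : ℕ) : Bool :=
  decide (0 < h) && (List.range (h + 1)).all fun k =>
    decide (0 < k → (((List.range D.rank).all fun m =>
      decide (wf A (List.replicate k w).flatten (D.simple m) = D.simple m)) = decide (k = h)))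

lemma orderOf_word (g : Good D A) (l : List (Fin D.rank)) {n : ℕ}
    (hc : orderCheck D A (l.map Fin.val) n = true) : orderOf (l.map (wS g)).prod = n := by
  simp only [orderCheck, List.all_eq_true, Bool.and_eq_true, decide_eq_true_eq, List.mem_range] at hc
  obtain ⟨hn, hk⟩ := hc
  have key : ∀ k : ℕ, ((l.map (wS g)).prod) ^ k = 1 ↔ ∀ m < D.rank,
      wf A (List.replicate k (l.map Fin.val)).flatten (D.simple m) = D.simple m := by
    intro k
    have hpow : ((l.map (wS g)).prod) ^ k = ((List.replicate k l).flatten.map (wS g)).prod := by
      induction k with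
      | zero => rfl
      | succ k ih =>
        rw [pow_succ', ih, List.replicate_succ, List.flatten_cons, List.map_append, List.prod_append]
    have hmap : (List.replicate k l).flatten.map Fin.val =
        (List.replicate k (l.map Fin.val)).flatten := by simp [List.map_flatten]
    rw [hpow, show (1 : Weyl g) = (([] : List (Fin D.rank)).map (wS g)).prod from rfl,
      wS_prod_eq, hmap]
    have hl : Letters D (List.replicate k (l.map Fin.val)).flatten := hmap ▸ letters_map _
    exact ⟨fun h m hm => h _ (g.simple_lt m hm),
      fun h => sameOn_of_simple g (wf_rootMap g hl) rootMap_id h⟩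
  rw [orderOf_eq_iff hn]
  refine ⟨(key _).2 ?_, fun m hlt hpos hone => ?_⟩
  · simpa [List.all_eq_true] using hk n (by omega) hn
  · have := hk m (by omega) hpos
    rw [decide_eq_false (show ¬ m = n by omega)] at this
    have h2 := (key m).1 hone
    simp only [List.all_eq_false, List.mem_range, decide_eq_true_eq] at this
    obtain ⟨x, hx, hne⟩ := this
    exact hne (h2 x hx)

/-- the order of the Coxeter element -/
theorem coxeterElt_order (g : Good D A) (M : CoxeterMatrix (Fin D.rank))
    (hM : coxCheck D A (fun i j => M i j) = true) {n : ℕ}
    (hc : orderCheck D A ((List.finRange D.rank).map Fin.val) n = true) :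
    orderOf ((List.finRange D.rank).map M.simple).prod = n := by
  obtain ⟨cs, hcs⟩ := weyl_coxeter g M hM
  rw [← orderOf_word g _ hc,
    ← orderOf_injective cs.mulEquiv.toMonoidHom cs.mulEquiv.injective, map_list_prod, List.map_map]
  refine congrArg orderOf (congrArg List.prod (List.map_congr_left fun i _ => ?_))
  simp only [Function.comp_apply, MulEquiv.coe_toMonoidHom, ← hcs i]
  exact (cs.mulEquiv.apply_symm_apply _).symm

end CfsgLib.Chev
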