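/-
Certificates that Weyl groups are generated by the Coxeter element and one or two reflections.
-/
import Mathlib.Init

set_option autoImplicit false

namespace CfsgLib.Chev

/-- certificate for type B2: the conjugates of simple reflections -/
def genB2T : List (List Nat) := [[0]]

/-- certificate for type B2: the products -/
def genB2S : List (List Nat × Nat × Nat) :=
  [([1], 2, 0)]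

/-- certificate for type G2: the conjugates of simple reflections -/
def genG2T : List (List Nat) := [[0]]

/-- certificate for type G2: the products -/
def genG2S : List (List Nat × Nat × Nat) :=
  [([1], 2, 0)]

/-- certificate for type D4: the conjugates of simple reflections -/
def genD4T : List (List Nat) := [[0], [2]]

/-- certificate for type D4: the products -/
def genD4S : List (List Nat × Nat × Nat) :=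
  [([0, 1, 2, 3, 0], 0, 2),
   ([1], 4, 1),
   ([0, 1, 2, 3, 2], 0, 3),
   ([2, 1, 0, 1, 2], 6, 1),
   ([0, 1, 2, 3, 1], 0, 5),
   ([3, 2, 1, 0, 1, 2, 3], 8, 1),
   ([2, 1, 0, 1, 2, 3, 2, 1, 0, 1, 2, 3], 7, 9),
   ([3], 10, 7)]

/-- certificate for type F4: the conjugates of simple reflections -/
def genF4T : List (List Nat) := [[0], [2]]

/-- certificate for type F4: the products -/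
def genF4S : List (List Nat × Nat × Nat) :=
  [([0, 1, 2, 3, 0], 0, 2),
   ([1], 4, 1),
   ([0, 1, 2, 3, 2], 0, 3),
   ([3], 6, 1)]

/-- certificate for type E6: the conjugates of simple reflections -/
def genE6T : List (List Nat) := [[0]]

/-- certificate for type E6: the products -/
def genE6S : List (List Nat × Nat × Nat) :=
  [([0, 1, 2, 3, 4, 5, 0], 0, 2),
   ([2], 3, 1),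
   ([0, 1, 2, 3, 4, 5, 2], 0, 4),
   ([3, 1, 3], 5, 1),
   ([0, 1, 2, 3, 4, 5, 3, 1, 3], 0, 6),
   ([4, 3, 2, 0, 2, 3, 4], 7, 1),
   ([0, 1, 2, 3, 4, 5, 4, 3, 2, 0, 2, 3, 4], 0, 8),
   ([5, 4, 2, 3, 1, 3, 2, 4, 5], 9, 1),
   ([0, 1, 2, 3, 4, 5, 5, 4, 2, 3, 1, 3, 2, 4, 5], 0, 10),
   ([3], 11, 1),
   ([3, 1, 3, 3], 6, 12),
   ([1], 13, 6),
   ([0, 2], 2, 4),
   ([2, 0, 2], 15, 2),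
   ([2, 0, 2, 3], 16, 12),
   ([3, 2, 0, 2, 3], 17, 16),
   ([4, 3, 2, 0, 2, 3, 4, 3, 2, 0, 2, 3], 8, 18),
   ([4], 19, 8),
   ([0, 4, 3, 2, 0, 2, 3, 4], 2, 8),
   ([4, 3, 2, 3, 4], 21, 2),
   ([4, 3, 2, 3, 4, 1], 22, 14),
   ([4, 2, 3, 1, 3, 2, 4], 23, 22),
   ([5, 4, 2, 3, 1, 3, 2, 4, 5, 4, 2, 3, 1, 3, 2, 4], 10, 24),
   ([5], 25, 10)]

/-- certificate for type E7: the conjugates of simple reflections -/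
def genE7T : List (List Nat) := [[1]]

/-- certificate for type E7: the products -/
def genE7S : List (List Nat × Nat × Nat) :=
  [([0, 1, 2, 3, 4, 5, 6, 1], 0, 2),
   ([3, 2, 0, 2, 3], 3, 1),
   ([0, 1, 2, 3, 4, 5, 6, 3, 2, 0, 2, 3], 0, 4),
   ([4, 2, 3, 1, 3, 2, 4], 5, 1),
   ([0, 1, 2, 3, 4, 5, 6, 4, 2, 3, 1, 3, 2, 4], 0, 6),
   ([5, 3, 4, 1, 3, 2, 0, 2, 3, 1, 4, 3, 5], 7, 1),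
   ([0, 1, 2, 3, 4, 5, 6, 5, 3, 4, 1, 3, 2, 0, 2, 3, 1, 4, 3, 5], 0, 8),
   ([6, 4, 5, 2, 3, 4, 1, 3, 2, 0, 2, 3, 1, 4, 3, 2, 5, 4, 6], 9, 1),
   ([0, 1, 2, 3, 4, 5, 6, 6, 4, 5, 2, 3, 4, 1, 3, 2, 0, 2, 3, 1, 4, 3, 2, 5, 4, 6], 0, 10),
   ([5, 3, 4, 2, 3, 1, 3, 2, 4, 3, 5], 11, 1),
   ([5, 3, 4, 1, 3, 2, 0, 2, 3, 1, 4, 3, 5, 5, 3, 4, 2, 3, 1, 3, 2, 4, 3, 5], 8, 12),
   ([0], 13, 8),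
   ([0, 1, 2, 3, 4, 5, 6, 5, 3, 4, 2, 3, 1, 3, 2, 4, 3, 5], 0, 12),
   ([6, 4, 5, 3, 4, 1, 3, 2, 0, 2, 3, 1, 4, 3, 5, 4, 6], 15, 1),
   ([6, 4, 5, 2, 3, 4, 1, 3, 2, 0, 2, 3, 1, 4, 3, 2, 5, 4, 6, 6, 4, 5, 3, 4, 1, 3, 2, 0, 2, 3, 1, 4, 3, 5, 4, 6], 10, 16),
   ([2], 17, 10),
   ([3, 2, 0, 2, 3, 5, 3, 4, 1, 3, 2, 0, 2, 3, 1, 4, 3, 5], 4, 8),
   ([5, 4, 3, 1, 3, 4, 5], 19, 4),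
   ([5, 4, 3, 1, 3, 4, 5, 6, 4, 5, 2, 3, 4, 1, 3, 2, 0, 2, 3, 1, 4, 3, 2, 5, 4, 6], 20, 10),
   ([4, 5, 6, 1, 3, 4, 5, 2, 3, 4, 1, 3, 2, 0, 2, 3, 1, 4, 3, 2, 5, 4, 3, 1, 6, 5, 4], 21, 20),
   ([4, 5, 6, 1, 3, 4, 5, 2, 3, 4, 1, 3, 2, 0, 2, 3, 1, 4, 3, 2, 5, 4, 3, 1, 6, 5, 4, 6, 4, 5, 3, 4, 1, 3, 2, 0, 2, 3, 1, 4, 3, 5, 4, 6], 22, 16),
   ([5, 4, 2, 3, 1, 3, 2, 4, 5], 23, 22),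
   ([5, 3, 4, 2, 3, 1, 3, 2, 4, 3, 5, 5, 4, 2, 3, 1, 3, 2, 4, 5], 12, 24),
   ([3], 25, 12),
   ([1, 3, 2, 0, 2, 3], 2, 4),
   ([1, 3, 2, 0, 2, 3, 1], 27, 2),
   ([1, 3, 2, 0, 2, 3, 1, 5, 3, 4, 1, 3, 2, 0, 2, 3, 1, 4, 3, 5], 28, 8),
   ([5, 4, 3, 4, 5], 29, 28),
   ([4, 2, 3, 1, 3, 2, 4, 5, 4, 3, 4, 5], 6, 30),
   ([4, 5, 3, 4, 2, 3, 1, 3, 2, 4, 3, 5, 4], 31, 6),
   ([4, 5, 3, 4, 2, 3, 1, 3, 2, 4, 3, 5, 4, 5, 3, 4, 2, 3, 1, 3, 2, 4, 3, 5], 32, 12),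
   ([4], 33, 32),
   ([3, 2, 0, 2, 3, 4, 2, 3, 1, 3, 2, 4], 4, 6),
   ([2, 3, 4, 1, 3, 2, 0, 2, 3, 1, 4, 3, 2], 35, 4),
   ([2, 3, 4, 1, 3, 2, 0, 2, 3, 1, 4, 3, 2, 6, 4, 5, 2, 3, 4, 1, 3, 2, 0, 2, 3, 1, 4, 3, 2, 5, 4, 6], 36, 10),
   ([6, 5, 4, 5, 6], 37, 36),
   ([5, 3, 4, 1, 3, 2, 0, 2, 3, 1, 4, 3, 5, 6, 5, 4, 5, 6], 8, 38),
   ([5, 6, 4, 5, 3, 4, 1, 3, 2, 0, 2, 3, 1, 4, 3, 5, 4, 6, 5], 39, 8),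
   ([5, 6, 4, 5, 3, 4, 1, 3, 2, 0, 2, 3, 1, 4, 3, 5, 4, 6, 5, 6, 4, 5, 3, 4, 1, 3, 2, 0, 2, 3, 1, 4, 3, 5, 4, 6], 40, 16),
   ([5], 41, 40),
   ([4, 2, 3, 1, 3, 2, 4, 5, 3, 4, 1, 3, 2, 0, 2, 3, 1, 4, 3, 5], 6, 8),
   ([1, 3, 4, 5, 2, 3, 4, 1, 3, 2, 0, 2, 3, 1, 4, 3, 2, 5, 4, 3, 1], 43, 6),
   ([5, 4, 3, 4, 5, 5, 3, 4, 2, 3, 1, 3, 2, 4, 3, 5], 30, 12),
   ([2, 3, 1, 3, 2], 45, 30),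
   ([1, 3, 4, 5, 2, 3, 4, 1, 3, 2, 0, 2, 3, 1, 4, 3, 2, 5, 4, 3, 1, 2, 3, 1, 3, 2], 44, 46),
   ([4, 5, 3, 4, 1, 3, 2, 0, 2, 3, 1, 4, 3, 5, 4], 47, 44),
   ([4, 5, 3, 4, 1, 3, 2, 0, 2, 3, 1, 4, 3, 5, 4, 6, 4, 5, 3, 4, 1, 3, 2, 0, 2, 3, 1, 4, 3, 5, 4, 6], 48, 16),
   ([6], 49, 48)]

/-- certificate for type E8: the conjugates of simple reflections -/
def genE8T : List (List Nat) := [[0]]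

/-- certificate for type E8: the products -/
def genE8S : List (List Nat × Nat × Nat) :=
  [([0, 1, 2, 3, 4, 5, 6, 7, 0], 0, 2),
   ([2], 3, 1),
   ([0, 1, 2, 3, 4, 5, 6, 7, 2], 0, 4),
   ([3, 1, 3], 5, 1),
   ([0, 1, 2, 3, 4, 5, 6, 7, 3, 1, 3], 0, 6),
   ([4, 3, 2, 0, 2, 3, 4], 7, 1),
   ([0, 1, 2, 3, 4, 5, 6, 7, 4, 3, 2, 0, 2, 3, 4], 0, 8),
   ([5, 4, 2, 3, 1, 3, 2, 4, 5], 9, 1),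
   ([0, 1, 2, 3, 4, 5, 6, 7, 5, 4, 2, 3, 1, 3, 2, 4, 5], 0, 10),
   ([6, 5, 3, 4, 1, 3, 2, 0, 2, 3, 1, 4, 3, 5, 6], 11, 1),
   ([0, 1, 2, 3, 4, 5, 6, 7, 6, 5, 3, 4, 1, 3, 2, 0, 2, 3, 1, 4, 3, 5, 6], 0, 12),
   ([7, 6, 4, 5, 2, 3, 4, 1, 3, 2, 0, 2, 3, 1, 4, 3, 2, 5, 4, 6, 7], 13, 1),
   ([0, 1, 2, 3, 4, 5, 6, 7, 7, 6, 4, 5, 2, 3, 4, 1, 3, 2, 0, 2, 3, 1, 4, 3, 2, 5, 4, 6, 7], 0, 14),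
   ([5, 3, 4, 2, 3, 1, 3, 2, 4, 3, 5], 15, 1),
   ([3, 1, 3, 5, 3, 4, 2, 3, 1, 3, 2, 4, 3, 5], 6, 16),
   ([5, 4, 3, 2, 3, 4, 5], 17, 6),
   ([5, 4, 2, 3, 1, 3, 2, 4, 5, 5, 4, 3, 2, 3, 4, 5], 10, 18),
   ([1], 19, 10),
   ([5, 4, 2, 3, 1, 3, 2, 4, 5, 5, 3, 4, 2, 3, 1, 3, 2, 4, 3, 5], 10, 16),
   ([3], 21, 10),
   ([2, 5, 4, 2, 3, 1, 3, 2, 4, 5], 4, 10),
   ([5, 4, 3, 1, 3, 4, 5], 23, 4),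
   ([3, 1, 3, 5, 4, 3, 1, 3, 4, 5], 6, 24),
   ([5, 4, 5], 25, 6),
   ([0, 5, 3, 4, 2, 3, 1, 3, 2, 4, 3, 5], 2, 16),
   ([5, 3, 4, 1, 3, 2, 0, 2, 3, 1, 4, 3, 5], 27, 2),
   ([3, 1, 3, 5, 3, 4, 1, 3, 2, 0, 2, 3, 1, 4, 3, 5], 6, 28),
   ([5, 4, 3, 2, 0, 2, 3, 4, 5], 29, 6),
   ([4, 3, 2, 0, 2, 3, 4, 5, 4, 3, 2, 0, 2, 3, 4, 5], 8, 30),
   ([5], 31, 8),
   ([5, 4, 5, 5], 26, 32),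
   ([4], 33, 26),
   ([6, 5, 3, 4, 1, 3, 2, 0, 2, 3, 1, 4, 3, 5, 6, 5, 3, 4, 1, 3, 2, 0, 2, 3, 1, 4, 3, 5], 12, 28),
   ([6], 35, 12),
   ([2, 6, 5, 3, 4, 1, 3, 2, 0, 2, 3, 1, 4, 3, 5, 6], 4, 12),
   ([6, 5, 2, 3, 4, 1, 3, 2, 0, 2, 3, 1, 4, 3, 2, 5, 6], 37, 4),
   ([6, 5, 2, 3, 4, 1, 3, 2, 0, 2, 3, 1, 4, 3, 2, 5, 6, 4], 38, 34),
   ([6, 4, 5, 2, 3, 4, 1, 3, 2, 0, 2, 3, 1, 4, 3, 2, 5, 4, 6], 39, 38),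
   ([7, 6, 4, 5, 2, 3, 4, 1, 3, 2, 0, 2, 3, 1, 4, 3, 2, 5, 4, 6, 7, 6, 4, 5, 2, 3, 4, 1, 3, 2, 0, 2, 3, 1, 4, 3, 2, 5, 4, 6], 14, 40),
   ([7], 41, 14)]

end CfsgLib.Chev
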