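import Cfsg.Agent.Lib.KnownB.ChevRoots
import Cfsg.Agent.Lib.Chev.Unip

/-!
Root group products along an arbitrary ordering of positive roots with commutators pushed forward.
-/

set_option autoImplicit false

namespace CfsgLib.Chev.OrdList

open Cfsg.Lie Matrix CfsgLib.Chev
open scoped commutatorElement

variable {D : ChevalleyDatum} {A : Aux} {F : Type*} [Field F]

variable (D A) in
/-- two roots whose commutator terms lie in the list `K` -/
noncomputable def pairChk (r s : ℕ) (K : List ℕ) : Bool :=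
  decide (r < D.nroots) && decide (s < D.nroots) &&
    (decide (s = r) || (decide (s ≠ A.neg r) && (A.terms r s).all fun c => K.contains c.1))

variable (D A) in
/-- every head has its commutators with the tail in the tail -/
noncomputable def ordChk : List ℕ → Bool
  | [] => true
  | x :: L => decide (D.IsPosRoot x) && !L.contains x && L.all (fun s => pairChk D A x s L) && ordChk L

variable (D A) in
/-- commutators of two lists lie in `K`, which both normalise -/
noncomputable def commChk (L L' K : List ℕ) : Bool :=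
  L.all (fun r => L'.all fun s => pairChk D A r s K) &&
    L.all (fun r => K.all fun s => pairChk D A r s K) && L'.all (fun r => K.all fun s => pairChk D A r s K)

variable (D A) in
/-- the sorted list is ordered as well -/
noncomputable def sepChk (L : List ℕ) : Bool :=
  ordChk D A (D.posRoots.filter fun r => L.contains r)

theorem pair_conj (h : Std D A) {r s : ℕ} {K : List ℕ} (hc : pairChk D A r s K = true) (t u : F) :
    ∃ w ∈ UL F h.good K, xG h.good r t * xG h.good s u * (xG h.good r t)⁻¹ = xG h.good s u * w := by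
  simp only [pairChk, Bool.and_eq_true, Bool.or_eq_true, decide_eq_true_eq, List.all_eq_true,
    List.contains_iff_mem] at hc
  obtain ⟨⟨hr, hs⟩, rfl | ⟨hsn, hT⟩⟩ := hc
  · exact ⟨1, one_mem _, by rw [mul_one, xG_inv, xG_add, xG_add]; congr 1; ring⟩
  by_cases hsr : s = r
  · subst hsr
    exact ⟨1, one_mem _, by rw [mul_one, xG_inv, xG_add, xG_add]; congr 1; ring⟩
  refine ⟨((A.terms r s).map fun c =>
      xG h.good c.1 ((c.2.1 : F) * (-(-t)) ^ c.2.2.1 * u ^ c.2.2.2)).prod, list_prod_mem fun y hy => ?_, ?_⟩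
  · obtain ⟨c, hc, rfl⟩ := List.mem_map.1 hy
    exact xG_mem_UL h.good (hT c hc) _
  · rw [xG_inv, mul_assoc, KnownB.ChevField.comm_word h hr hs hsr hsn (-t) u,
      mul_assoc (xG h.good r (-t)), ← mul_assoc, xG_add, add_neg_cancel, xG_zero, one_mul]

theorem conj_UL {g : Good D A} {y : GL D.Idx F} {L : List ℕ} {K : Subgroup (GL D.Idx F)}
    (hK : ∀ r ∈ L, ∀ t, y * xG g r t * y⁻¹ ∈ K) {z : GL D.Idx F} (hz : z ∈ UL F g L) : y * z * y⁻¹ ∈ K := by
  have : UL F g L ≤ K.comap (MulAut.conj y).toMonoidHom := by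
    refine (Subgroup.closure_le _).2 ?_
    rintro _ ⟨r, t, hr, rfl⟩
    exact hK r hr t
  exact this hz

theorem ord_head (h : Std D A) {x : ℕ} {L : List ℕ} (hL : ordChk D A (x :: L) = true) (t : F)
    {z : GL D.Idx F} (hz : z ∈ UL F h.good L) :
    xG h.good x t * z * (xG h.good x t)⁻¹ ∈ UL F h.good L := by
  simp only [ordChk, Bool.and_eq_true, List.all_eq_true] at hL
  refine conj_UL (fun s hs u => ?_) hz
  obtain ⟨w, hw, e⟩ := pair_conj h (hL.1.2 s hs) t u
  rw [e]
  exact mul_mem (xG_mem_UL h.good hs u) hw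

theorem ord_tail {x : ℕ} {L : List ℕ} (hL : ordChk D A (x :: L) = true) :
    ordChk D A L = true ∧ x ∉ L ∧ D.IsPosRoot x := by
  simp only [ordChk, Bool.and_eq_true, Bool.not_eq_true', decide_eq_true_eq] at hL
  refine ⟨hL.2, fun hm => ?_, hL.1.1.1⟩
  simpa [hm] using hL.1.1.2

theorem exists_head (h : Std D A) {x : ℕ} {L : List ℕ} (hL : ordChk D A (x :: L) = true)
    {y : GL D.Idx F} (hy : y ∈ UL F h.good (x :: L)) :
    ∃ t, ∃ v ∈ UL F h.good L, y = xG h.good x t * v := by
  have g := h.good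
  induction hy using Subgroup.closure_induction with
  | one => exact ⟨0, 1, one_mem _, by simp [xG_zero]⟩
  | mul a b _ _ ha hb =>
    obtain ⟨t, v, hv, rfl⟩ := ha
    obtain ⟨u, w, hw, rfl⟩ := hb
    refine ⟨t + u, (xG g x (-u) * v * (xG g x (-u))⁻¹) * w,
      mul_mem (ord_head h hL (-u) hv) hw, ?_⟩
    rw [← xG_add, ← xG_inv g x u, inv_inv]; group
  | inv a _ ha =>
    obtain ⟨t, v, hv, rfl⟩ := ha
    refine ⟨-t, xG g x t * v⁻¹ * (xG g x t)⁻¹, ord_head h hL t (inv_mem hv), ?_⟩
    rw [← xG_inv]; group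
  | mem a ha =>
    obtain ⟨r, w, hr, rfl⟩ := ha
    rcases List.mem_cons.1 hr with rfl | hr
    · exact ⟨w, 1, one_mem _, by simp⟩
    · exact ⟨0, _, xG_mem_UL g hr w, by simp [xG_zero]⟩

theorem exists_pw_ord (h : Std D A) : ∀ {L : List ℕ}, ordChk D A L = true → ∀ {y : GL D.Idx F},
    y ∈ UL F h.good L → ∃ T, y = pw h.good L T
  | [], _, y, hy => ⟨0, by rw [UL_nil, Subgroup.mem_bot] at hy; simpa [pw] using hy⟩
  | x :: L, hL, y, hy => by
    classical
    obtain ⟨t, v, hv, rfl⟩ := exists_head h hL hy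
    obtain ⟨hL', hx, -⟩ := ord_tail hL
    obtain ⟨T, rfl⟩ := exists_pw_ord h hL' hv
    refine ⟨Function.update T x t, ?_⟩
    simp only [pw, List.map_cons, List.prod_cons, Function.update_self]
    congr 2
    refine List.map_congr_left fun r hr => ?_
    rw [Function.update_of_ne]
    exact fun e => hx (e ▸ hr)

theorem pw_filter (g : Good D A) (P : ℕ → Bool) (T : ℕ → F) : ∀ L : List ℕ,
    pw g (L.filter P) T = pw g L (fun r => if P r then T r else 0)
  | [] => rfl
  | x :: L => by
    have ih := pw_filter g P T L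
    cases hx : P x <;> simp [pw, List.filter_cons, hx, xG_zero] at ih ⊢ <;> simp [ih]

theorem pw_single (g : Good D A) {x : ℕ} (t : F) : ∀ L : List ℕ, L.Nodup → x ∈ L →
    pw g L (fun r => if r = x then t else 0) = xG g x t
  | [], _, hx => absurd hx List.not_mem_nil
  | y :: L, hn, hx => by
    obtain ⟨h1, h2⟩ := List.nodup_cons.1 hn
    rcases List.mem_cons.1 hx with rfl | hx'
    · have : pw g L (fun r => if r = x then t else 0) = 1 := List.prod_eq_one fun z hz => by
        obtain ⟨r, hr, rfl⟩ := List.mem_map.1 hz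
        beta_reduce; rw [if_neg (fun e : r = x => h1 (e ▸ hr)), xG_zero]
      simp only [pw] at this
      simp [pw, this]
    · have hyx : y ≠ x := fun e => h1 (e ▸ hx')
      have := pw_single g t L h2 hx'
      simp only [pw] at this
      simp [pw, hyx, xG_zero, this]

/-- a root outside the list has only trivial elements in its product group -/
theorem eq_zero_of_mem (h : Std D A) {L : List ℕ} (hL : sepChk D A L = true) {x : ℕ}
    (hx : D.IsPosRoot x) (hxL : x ∉ L) {t : F} (ht : xG h.good x t ∈ UL F h.good L)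
    (hsub : ∀ r ∈ L, D.IsPosRoot r) : t = 0 := by
  have ht' : xG h.good x t ∈ UL F h.good (D.posRoots.filter fun r => L.contains r) :=
    UL_mono h.good (fun r hr => List.mem_filter.2 ⟨posRoots_mem.2 (hsub r hr),
      by simpa [List.contains_iff_mem] using hr⟩) ht
  obtain ⟨T, e⟩ := exists_pw_ord h hL ht'
  rw [pw_filter, ← pw_single h.good t D.posRoots (List.Nodup.filter _ List.nodup_range) (posRoots_mem.2 hx)] at e
  simpa [hxL] using pw_inj h upList_posRoots e x (posRoots_mem.2 hx)

/-- `xG r` conjugates `xG s` to itself up to the group of `K`. -/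
def PairOK (g : Good D A) (r s : ℕ) (K : List ℕ) : Prop :=
  ∀ t u : F, ∃ w ∈ UL F g K, xG g r t * xG g s u * (xG g r t)⁻¹ = xG g s u * w

theorem comm_UL_of (h : Std D A) {L L' K : List ℕ} (h1 : ∀ r ∈ L, ∀ s ∈ L', PairOK (F := F) h.good r s K)
    (h2 : ∀ r ∈ L, ∀ s ∈ K, PairOK (F := F) h.good r s K)
    (h3 : ∀ r ∈ L', ∀ s ∈ K, PairOK (F := F) h.good r s K)
    {y : GL D.Idx F} (hy : y ∈ UL F h.good L) {z : GL D.Idx F} (hz : z ∈ UL F h.good L') :
    ⁅y, z⁆ ∈ UL F h.good K := by
  have hn : ∀ M : List ℕ, (∀ r ∈ M, ∀ s ∈ K, PairOK (F := F) h.good r s K) →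
      ∀ a ∈ UL F h.good M, ∀ k ∈ UL F h.good K, a * k * a⁻¹ ∈ UL F h.good K := by
    intro M hM a ha
    induction ha using Subgroup.closure_induction_left with
    | one => intro k hk; simpa using hk
    | mul_left a ha b _ ih =>
      obtain ⟨r, t, hr, rfl⟩ := ha
      intro k hk
      rw [show xG h.good r t * b * k * (xG h.good r t * b)⁻¹ =
        xG h.good r t * (b * k * b⁻¹) * (xG h.good r t)⁻¹ by group]
      refine conj_UL (fun s hs u => ?_) (ih k hk)
      obtain ⟨w, hw, e⟩ := hM r hr s hs t u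
      rw [e]; exact mul_mem (xG_mem_UL h.good hs u) hw
    | inv_mul_cancel a ha b _ ih =>
      obtain ⟨r, t, hr, rfl⟩ := ha
      intro k hk
      rw [xG_inv, show xG h.good r (-t) * b * k * (xG h.good r (-t) * b)⁻¹ =
        xG h.good r (-t) * (b * k * b⁻¹) * (xG h.good r (-t))⁻¹ by group]
      refine conj_UL (fun s hs u => ?_) (ih k hk)
      obtain ⟨w, hw, e⟩ := hM r hr s hs (-t) u
      rw [e]; exact mul_mem (xG_mem_UL h.good hs u) hw
  have key : ∀ r ∈ L, ∀ t : F, ∀ z ∈ UL F h.good L', ⁅xG h.good r t, z⁆ ∈ UL F h.good K := by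
    intro r hr t z hz
    induction hz using Subgroup.closure_induction with
    | one => simp [one_mem]
    | mul a b ha _ iha ihb =>
      rw [show ⁅xG h.good r t, a * b⁆ = ⁅xG h.good r t, a⁆ * (a * ⁅xG h.good r t, b⁆ * a⁻¹) by
        simp only [commutatorElement_def]; group]
      exact mul_mem iha (hn L' h3 a ha _ ihb)
    | inv a ha iha =>
      rw [show ⁅xG h.good r t, a⁻¹⁆ = a⁻¹ * ⁅xG h.good r t, a⁆⁻¹ * a⁻¹⁻¹ by
        simp only [commutatorElement_def]; group]
      exact hn L' h3 _ (inv_mem ha) _ (inv_mem iha)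
    | mem a ha =>
      obtain ⟨s, u, hs, rfl⟩ := ha
      obtain ⟨w, hw, e⟩ := h1 r hr s hs t u
      rw [commutatorElement_def, e]
      exact hn L' h3 _ (xG_mem_UL h.good hs u) w hw
  induction hy using Subgroup.closure_induction with
  | one => simp [one_mem]
  | mul a b ha _ iha ihb =>
    rw [show ⁅a * b, z⁆ = a * ⁅b, z⁆ * a⁻¹ * ⁅a, z⁆ by simp only [commutatorElement_def]; group]
    exact mul_mem (hn L h2 a ha _ ihb) iha
  | inv a ha iha =>
    rw [show ⁅a⁻¹, z⁆ = a⁻¹ * ⁅a, z⁆⁻¹ * a⁻¹⁻¹ by simp only [commutatorElement_def]; group]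
    exact hn L h2 _ (inv_mem ha) _ (inv_mem iha)
  | mem a ha =>
    obtain ⟨r, t, hr, rfl⟩ := ha
    exact key r hr t z hz

theorem comm_UL (h : Std D A) {L L' K : List ℕ} (hc : commChk D A L L' K = true)
    {y : GL D.Idx F} (hy : y ∈ UL F h.good L) {z : GL D.Idx F} (hz : z ∈ UL F h.good L') :
    ⁅y, z⁆ ∈ UL F h.good K := by
  simp only [commChk, Bool.and_eq_true, List.all_eq_true] at hc
  obtain ⟨⟨h1, h2⟩, h3⟩ := hc
  exact comm_UL_of h (fun r hr s hs => pair_conj h (h1 r hr s hs))
    (fun r hr s hs => pair_conj h (h2 r hr s hs)) (fun r hr s hs => pair_conj h (h3 r hr s hs)) hy hz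

end CfsgLib.Chev.OrdList
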