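/-
Involutions of the Chevalley group of type G2 in characteristic two.
-/
import Cfsg.Agent.Lib.KnownB.ChevRootsData
import Cfsg.Agent.Lib.Chev.WeylN

set_option autoImplicit false
set_option maxRecDepth 100000

namespace CfsgLib.Chev.G2Invol

open Cfsg.Lie Matrix CfsgLib.KnownB.ChevField

variable {F : Type*} [Field F]

local notation "g₂" => stdG2.good

/-- root elements of type G2 -/
noncomputable abbrev X (r : ℕ) (t : F) : GL chevG2.Idx F := xG g₂ r t

lemma terms_tab : ∀ p ∈ ([(6, 7, [(8, 1, 1, 1), (9, 1, 1, 2), (10, -1, 1, 3), (11, -2, 2, 3)]),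
    (7, 8, [(9, -2, 1, 1), (10, -3, 2, 1), (11, 3, 1, 2)]), (7, 9, [(10, 3, 1, 1)]),
    (8, 9, [(11, 3, 1, 1)]), (6, 10, [(11, 1, 1, 1)]),
    (6, 8, []), (6, 9, []), (6, 11, []), (7, 10, []), (7, 11, []), (8, 10, []), (8, 11, []),
    (9, 10, []), (9, 11, []), (10, 11, []), (5, 9, []), (5, 10, [])] :
      List (ℕ × ℕ × List (ℕ × ℤ × ℕ × ℕ))),
    auxG2.terms p.1 p.2.1 = p.2.2 := by decide +kernel

lemma range_facts : ∀ r ∈ [5, 6, 7, 8, 9, 10, 11], r < chevG2.nroots ∧
    ∀ s ∈ [5, 6, 7, 8, 9, 10, 11], s ≠ r → r + s ≠ 11 → s ≠ auxG2.neg r := by decide +kernel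

variable [CharP F 2]

/-- the commutator formula in characteristic two -/
lemma rel (r s : ℕ) (L : List (ℕ × ℤ × ℕ × ℕ)) (hL : auxG2.terms r s = L)
    (hr : r ∈ [5, 6, 7, 8, 9, 10, 11]) (hs : s ∈ [5, 6, 7, 8, 9, 10, 11]) (hne : s ≠ r)
    (hn : r + s ≠ 11) (t u : F) :
    X s u * X r t = X r t * (X s u * (L.map fun c =>
      X c.1 ((c.2.1 : F) * t ^ c.2.2.1 * u ^ c.2.2.2)).prod) := by
  have h := comm_word stdG2 (range_facts r hr).1 (range_facts s hs).1 hne
    ((range_facts r hr).2 s hs hne hn) t u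
  simp only [CharTwo.neg_eq, hL] at h
  rw [h, mul_assoc]

lemma comm_of_nil (r s : ℕ) (hL : auxG2.terms r s = [])
    (hr : r ∈ [5, 6, 7, 8, 9, 10, 11]) (hs : s ∈ [5, 6, 7, 8, 9, 10, 11]) (hne : s ≠ r)
    (hn : r + s ≠ 11) (t u : F) : X s u * X r t = X r t * X s u := by
  simpa using rel r s [] hL hr hs hne hn t u

lemma c68 (t u : F) : X 8 u * X 6 t = X 6 t * X 8 u :=
  comm_of_nil 6 8 (terms_tab (6, 8, []) (by decide)) (by decide) (by decide) (by decide) (by decide) t u
lemma c69 (t u : F) : X 9 u * X 6 t = X 6 t * X 9 u :=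
  comm_of_nil 6 9 (terms_tab (6, 9, []) (by decide)) (by decide) (by decide) (by decide) (by decide) t u
lemma c611 (t u : F) : X 11 u * X 6 t = X 6 t * X 11 u :=
  comm_of_nil 6 11 (terms_tab (6, 11, []) (by decide)) (by decide) (by decide) (by decide) (by decide) t u
lemma c710 (t u : F) : X 10 u * X 7 t = X 7 t * X 10 u :=
  comm_of_nil 7 10 (terms_tab (7, 10, []) (by decide)) (by decide) (by decide) (by decide) (by decide) t u
lemma c711 (t u : F) : X 11 u * X 7 t = X 7 t * X 11 u :=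
  comm_of_nil 7 11 (terms_tab (7, 11, []) (by decide)) (by decide) (by decide) (by decide) (by decide) t u
lemma c810 (t u : F) : X 10 u * X 8 t = X 8 t * X 10 u :=
  comm_of_nil 8 10 (terms_tab (8, 10, []) (by decide)) (by decide) (by decide) (by decide) (by decide) t u
lemma c811 (t u : F) : X 11 u * X 8 t = X 8 t * X 11 u :=
  comm_of_nil 8 11 (terms_tab (8, 11, []) (by decide)) (by decide) (by decide) (by decide) (by decide) t u
lemma c910 (t u : F) : X 10 u * X 9 t = X 9 t * X 10 u :=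
  comm_of_nil 9 10 (terms_tab (9, 10, []) (by decide)) (by decide) (by decide) (by decide) (by decide) t u
lemma c911 (t u : F) : X 11 u * X 9 t = X 9 t * X 11 u :=
  comm_of_nil 9 11 (terms_tab (9, 11, []) (by decide)) (by decide) (by decide) (by decide) (by decide) t u
lemma c1011 (t u : F) : X 11 u * X 10 t = X 10 t * X 11 u :=
  comm_of_nil 10 11 (terms_tab (10, 11, []) (by decide)) (by decide) (by decide) (by decide) (by decide) t u
lemma c59 (t u : F) : X 9 u * X 5 t = X 5 t * X 9 u :=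
  comm_of_nil 5 9 (terms_tab (5, 9, []) (by decide)) (by decide) (by decide) (by decide) (by decide) t u

lemma c79 (t u : F) : X 9 u * X 7 t = X 7 t * (X 9 u * X 10 (t * u)) := by
  rw [rel 7 9 _ (terms_tab (7, 9, [(10, 3, 1, 1)]) (by decide)) (by decide) (by decide) (by decide)
    (by decide) t u]
  simp [show (3 : F) = 1 by linear_combination CharTwo.two_eq_zero (R := F)]

lemma c89 (t u : F) : X 9 u * X 8 t = X 8 t * (X 9 u * X 11 (t * u)) := by
  rw [rel 8 9 _ (terms_tab (8, 9, [(11, 3, 1, 1)]) (by decide)) (by decide) (by decide) (by decide)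
    (by decide) t u]
  simp [show (3 : F) = 1 by linear_combination CharTwo.two_eq_zero (R := F)]

lemma c610 (t u : F) : X 10 u * X 6 t = X 6 t * (X 10 u * X 11 (t * u)) := by
  rw [rel 6 10 _ (terms_tab (6, 10, [(11, 1, 1, 1)]) (by decide)) (by decide) (by decide) (by decide)
    (by decide) t u]
  simp

lemma c78 (t u : F) : X 8 u * X 7 t = X 7 t * (X 8 u * (X 10 (t ^ 2 * u) * X 11 (t * u ^ 2))) := by
  rw [rel 7 8 _ (terms_tab (7, 8, [(9, -2, 1, 1), (10, -3, 2, 1), (11, 3, 1, 2)]) (by decide))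
    (by decide) (by decide) (by decide) (by decide) t u]
  simp [xG_zero, CharTwo.neg_eq, CharTwo.two_eq_zero (R := F),
    show (3 : F) = 1 by linear_combination CharTwo.two_eq_zero (R := F)]

lemma c67 (t u : F) : X 7 u * X 6 t =
    X 6 t * (X 7 u * (X 8 (t * u) * (X 9 (t * u ^ 2) * X 10 (t * u ^ 3)))) := by
  rw [rel 6 7 _ (terms_tab (6, 7, [(8, 1, 1, 1), (9, 1, 1, 2), (10, -1, 1, 3), (11, -2, 2, 3)])
    (by decide)) (by decide) (by decide) (by decide) (by decide) t u]
  simp [xG_zero, CharTwo.neg_eq, CharTwo.two_eq_zero (R := F)]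

lemma mm (r : ℕ) (t u : F) : X r t * X r u = X r (t + u) := xG_add g₂ r t u
lemma X_zero (r : ℕ) : X r (0 : F) = 1 := xG_zero g₂ r
lemma inv_eq (r : ℕ) (t : F) : (X r t)⁻¹ = X r t := by rw [xG_inv, CharTwo.neg_eq]

lemma push {G : Type*} [Monoid G] {a b c : G} (h : a * b = c) (z : G) : a * (b * z) = c * z := by
  rw [← mul_assoc, h]

lemma congr_cons {r : ℕ} {t u : F} {z w : GL chevG2.Idx F} (h : t = u) (h' : z = w) :
    X r t * z = X r u * w := by rw [h, h']

/-- the upper part with no `a`-component -/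
noncomputable def Q (b c d e f : F) : GL chevG2.Idx F :=
  X 6 b * (X 8 c * (X 9 d * (X 10 e * X 11 f)))

/-- the upper part with no `b`-component -/
noncomputable def R (a c d e f : F) : GL chevG2.Idx F :=
  X 7 a * (X 8 c * (X 9 d * (X 10 e * X 11 f)))

/-- collection of products into sorted form -/
macro "sortX" : tactic => `(tactic|
  simp only [mul_assoc, c67, push (c67 _ _), c68, push (c68 _ _), c69, push (c69 _ _),
    c610, push (c610 _ _), c611, push (c611 _ _), c78, push (c78 _ _), c79, push (c79 _ _),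
    c710, push (c710 _ _), c711, push (c711 _ _), c89, push (c89 _ _), c810, push (c810 _ _),
    c811, push (c811 _ _), c910, push (c910 _ _), c911, push (c911 _ _),
    c1011, push (c1011 _ _), mm, push (mm _ _ _)])

lemma Q_mul (b c d e f b' c' d' e' f' : F) : Q b c d e f * Q b' c' d' e' f' =
    Q (b + b') (c + c') (d + d') (e + e') (f + f' + e * b' + d * c') := by
  unfold Q; sortX
  refine congr_cons rfl (congr_cons rfl (congr_cons rfl (congr_cons rfl ?_)))
  congr 1; ring

lemma R_mul (a c d e f a' c' d' e' f' : F) : R a c d e f * R a' c' d' e' f' =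
    R (a + a') (c + c') (d + d') (e + e' + a' * d + a' ^ 2 * c)
      (f + f' + a' * c ^ 2 + d * c') := by
  unfold R; sortX
  refine congr_cons rfl (congr_cons rfl (congr_cons rfl (congr_cons ?_ ?_)))
  · ring
  · congr 1; ring

lemma x6_R (t a c d e f : F) : X 6 t * R a c d e f * X 6 t =
    R a (c + t * a) (d + t * a ^ 2) (e + t * a ^ 3) (f + e * t + t * a ^ 2 * c) := by
  unfold R; sortX
  rw [CharTwo.add_self_eq_zero, X_zero, one_mul]
  refine congr_cons rfl (congr_cons ?_ (congr_cons ?_ (congr_cons ?_ ?_)))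
  · ring
  · ring
  · ring
  · congr 1; ring

lemma split78 (a c d e f : F) :
    R a c d e f = X 7 a * X 8 c * (X 9 d * (X 10 e * X 11 f)) := by
  unfold R; simp only [mul_assoc]

lemma posRoots_eq : chevG2.posRoots = [6, 7, 8, 9, 10, 11] := by decide +kernel

lemma pw_eq (T : ℕ → F) : pw g₂ chevG2.posRoots T = X 6 (T 6) * R (T 7) (T 8) (T 9) (T 10) (T 11) := by
  simp [pw, posRoots_eq, R, X, mul_assoc]

lemma exists_coords {y : GL chevG2.Idx F} (hy : y ∈ chevG2.posUnipotent F) :
    ∃ b a c d e f : F, y = X 6 b * R a c d e f := by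
  rw [← UL_posRoots g₂] at hy
  obtain ⟨T, rfl⟩ := exists_pw stdG2 upList_posRoots hy
  exact ⟨_, _, _, _, _, _, pw_eq T⟩

lemma coords_inj {b a c d e f b' a' c' d' e' f' : F}
    (h : X 6 b * R a c d e f = X 6 b' * R a' c' d' e' f') :
    b = b' ∧ a = a' ∧ c = c' ∧ d = d' ∧ e = e' ∧ f = f' := by
  let T : F → F → F → F → F → F → ℕ → F := fun p q r s t u k =>
    if k = 6 then p else if k = 7 then q else if k = 8 then r else if k = 9 then s
    else if k = 10 then t else u
  have h' : pw g₂ chevG2.posRoots (T b a c d e f) = pw g₂ chevG2.posRoots (T b' a' c' d' e' f') := by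
    simpa [pw_eq, T] using h
  have := pw_inj stdG2 upList_posRoots h'
  rw [posRoots_eq] at this
  simpa [T] using this

lemma Q_eq (b c d e f : F) : Q b c d e f = X 6 b * R 0 c d e f := by
  simp [Q, R, xG_zero]

lemma R_eq (a c d e f : F) : R a c d e f = X 6 0 * R a c d e f := by simp [X_zero]

lemma R_inj {a c d e f a' c' d' e' f' : F} (h : R a c d e f = R a' c' d' e' f') :
    a = a' ∧ c = c' ∧ d = d' ∧ e = e' ∧ f = f' :=
  (coords_inj (b := 0) (b' := 0) (by rw [← R_eq, ← R_eq, h])).2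

lemma one_eq : (1 : GL chevG2.Idx F) = X 6 0 * R 0 0 0 0 0 := by simp [R, X_zero]

lemma pos_of_mem {r : ℕ} (hr : r ∈ [6, 7, 8, 9, 10, 11]) : chevG2.IsPosRoot r :=
  posRoots_mem.1 (by rw [posRoots_eq]; exact hr)

lemma xmem {r : ℕ} (hr : r ∈ [6, 7, 8, 9, 10, 11]) (t : F) : X r t ∈ chevG2.posUnipotent F :=
  xG_mem_posUnipotent g₂ (pos_of_mem hr) t

lemma Q_mem (b c d e f : F) : Q b c d e f ∈ chevG2.posUnipotent F :=
  mul_mem (xmem (by decide) _) (mul_mem (xmem (by decide) _)
    (mul_mem (xmem (by decide) _) (mul_mem (xmem (by decide) _) (xmem (by decide) _))))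

lemma R_mem (a c d e f : F) : R a c d e f ∈ chevG2.posUnipotent F :=
  mul_mem (xmem (by decide) _) (mul_mem (xmem (by decide) _)
    (mul_mem (xmem (by decide) _) (mul_mem (xmem (by decide) _) (xmem (by decide) _))))

end CfsgLib.Chev.G2Invol
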