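/-
Classes and centralisers of involutions of G2 in characteristic two.
-/
import Cfsg.Agent.Lib.Chev.G2Invol
import Cfsg.Agent.Lib.Chev.TorusCard

set_option autoImplicit false
set_option maxRecDepth 100000

namespace CfsgLib.Chev.G2Invol

open Cfsg.Lie Matrix CfsgLib.KnownB.ChevField

variable {F : Type*} [Field F]

local notation "g₂" => stdG2.good

/-- conjugacy inside the group -/
def Cj (x y : GL chevG2.Idx F) : Prop := ∃ g ∈ chevG2.group F, g * x * g⁻¹ = y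

lemma Cj.refl (x : GL chevG2.Idx F) : Cj x x := ⟨1, one_mem _, by simp⟩

lemma Cj.trans {x y z : GL chevG2.Idx F} (h : Cj x y) (h' : Cj y z) : Cj x z := by
  obtain ⟨g, hg, rfl⟩ := h
  obtain ⟨k, hk, rfl⟩ := h'
  exact ⟨k * g, mul_mem hk hg, by group⟩

lemma Cj.orderOf_eq {x y : GL chevG2.Idx F} (h : Cj x y) : orderOf y = orderOf x := by
  obtain ⟨g, -, rfl⟩ := h
  exact orderOf_injective (MulAut.conj g).toMonoidHom (MulAut.conj g).injective x

lemma cj_nS {i r : ℕ} (hi : i < chevG2.rank) (hr : r < chevG2.nroots) (t : F) :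
    ∃ k : F, k ≠ 0 ∧ nS F g₂ i * X r t * (nS F g₂ i)⁻¹ = X (auxG2.refl i r) (k * t) := by
  obtain ⟨k, hk, e⟩ := (acts_nS (F := F) g₂ hi).conj r hr
  exact ⟨k, hk, e t⟩

variable [CharP F 2]

lemma cj_X (r : ℕ) (t : F) (x : GL chevG2.Idx F) : Cj x (X r t * x * X r t) :=
  ⟨X r t, xG_mem_group g₂ r t, by rw [inv_eq]⟩

/-- being conjugate to a non-trivial root element -/
def RootCj (y : GL chevG2.Idx F) : Prop :=
  ∃ r ∈ [6, 8, 9, 10, 11], ∃ k : F, k ≠ 0 ∧ Cj y (X r k)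

lemma RootCj.of_cj {x y : GL chevG2.Idx F} (h : Cj x y) (h' : RootCj y) : RootCj x := by
  obtain ⟨r, hr, k, hk, e⟩ := h'
  exact ⟨r, hr, k, hk, h.trans e⟩

variable [Finite F]

lemma exists_sq (a : F) : ∃ s : F, s ^ 2 = a := by
  obtain ⟨s, hs⟩ := isSquare_of_charTwo' a
  exact ⟨s, by rw [sq, hs]⟩

lemma rootCj_short (c e f : F) (hc : c ≠ 0) : RootCj (R 0 c 0 e f) := by
  obtain ⟨t, ht⟩ := exists_sq (e / c)
  have h1 : X 7 t * R 0 c 0 e f * X 7 t = R 0 c 0 0 (f + t * c ^ 2) := by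
    rw [show X 7 t = R t 0 0 0 0 by simp [R, X_zero], R_mul, R_mul]
    congr 1
    all_goals simp [CharTwo.add_self_eq_zero]
    rw [ht, div_mul_cancel₀ e hc, CharTwo.add_self_eq_zero]
  set f' := f + t * c ^ 2
  have h2 : X 9 (f' / c) * R 0 c 0 0 f' * X 9 (f' / c) = X 8 c := by
    rw [show R 0 c 0 0 f' = Q 0 c 0 0 f' by simp [R, Q, X_zero],
      show X 9 (f' / c) = Q 0 0 (f' / c) 0 0 by simp [Q, X_zero], Q_mul, Q_mul]
    simp [Q, X_zero, CharTwo.add_self_eq_zero, div_mul_cancel₀ f' hc]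
  exact RootCj.of_cj (h1 ▸ cj_X _ _ _)
    (RootCj.of_cj (h2 ▸ cj_X _ _ _) ⟨8, by decide, c, hc, Cj.refl _⟩)

lemma rootCj_case_b (b c d e f : F) (hb : b ≠ 0) (h : e * b + d * c = 0) : RootCj (Q b c d e f) := by
  obtain ⟨d', f', h1⟩ : ∃ d' f', X 7 (c / b) * Q b c d e f * X 7 (c / b) = Q b 0 d' 0 f' := by
    set t := c / b
    have ht : b * t = c := mul_div_cancel₀ c hb
    have flip : X 7 t * X 6 b = X 6 b * R t (b * t) (b * t ^ 2) (b * t ^ 3) 0 := by
      rw [c67]; simp [R, X_zero]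
    refine ⟨b * t ^ 2 + d, f + b * t ^ 2 * c + t * (b * t + c) ^ 2, ?_⟩
    rw [Q_eq, Q_eq, ← mul_assoc, flip, mul_assoc, mul_assoc,
      show X 7 t = R t 0 0 0 0 by simp [R, X_zero], R_mul, R_mul]
    congr 1
    rw [ht]
    have hcd : e = d * t := mul_right_cancel₀ hb (by
      linear_combination h - d * c * CharTwo.two_eq_zero (R := F) - d * ht)
    have h2 := CharTwo.two_eq_zero (R := F)
    congr 1
    · linear_combination t * h2
    · linear_combination c * h2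
    · ring
    · linear_combination hcd + (b * t ^ 3 + d * t + t ^ 2 * c) * h2
    · linear_combination -t * c ^ 2 * h2
  have h2 : X 10 (f' / b) * Q b 0 d' 0 f' * X 10 (f' / b) = X 6 b * X 9 d' := by
    rw [show X 10 (f' / b) = Q 0 0 0 (f' / b) 0 by simp [Q, X_zero], Q_mul, Q_mul]
    simp [Q, X_zero, CharTwo.add_self_eq_zero, div_mul_cancel₀ f' hb]
  refine RootCj.of_cj (h1 ▸ cj_X _ _ _) (RootCj.of_cj (h2 ▸ cj_X _ _ _) ?_)
  rcases eq_or_ne d' 0 with rfl | hd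
  · rw [X_zero, mul_one]
    exact ⟨6, by decide, b, hb, Cj.refl _⟩
  obtain ⟨k, hk, e6⟩ := cj_nS (F := F) (i := 0) (by decide) (show 6 < chevG2.nroots by decide) b
  obtain ⟨l, hl, e9⟩ := cj_nS (F := F) (i := 0) (by decide) (show 9 < chevG2.nroots by decide) d'
  rw [show auxG2.refl 0 6 = 10 by decide +kernel] at e6
  rw [show auxG2.refl 0 9 = 8 by decide +kernel] at e9
  refine RootCj.of_cj (y := R 0 (l * d') 0 (k * b) 0)
    ⟨nS F g₂ 0, nS_mem_group g₂ 0, ?_⟩ (rootCj_short _ _ _ (mul_ne_zero hl hd))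
  rw [show nS F g₂ 0 * (X 6 b * X 9 d') * (nS F g₂ 0)⁻¹ =
    nS F g₂ 0 * X 6 b * (nS F g₂ 0)⁻¹ * (nS F g₂ 0 * X 9 d' * (nS F g₂ 0)⁻¹) by group, e6, e9]
  simp [R, X_zero, c810]

lemma rootCj_of_sq {y : GL chevG2.Idx F} (hy : y ∈ chevG2.posUnipotent F) (h2 : y * y = 1)
    (h1 : y ≠ 1) : RootCj y := by
  obtain ⟨b, a, c, d, e, f, rfl⟩ := exists_coords hy
  have hab : a * b = 0 := by
    have h3 := h2
    rw [← mul_assoc, x6_R, R_mul] at h3
    have := (R_inj (h3.trans (show (1 : GL chevG2.Idx F) = R 0 0 0 0 0 by simp [R, X_zero]))).2.1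
    linear_combination this - c * CharTwo.two_eq_zero (R := F)
  rcases eq_or_ne a 0 with rfl | ha
  · rw [← Q_eq] at h1 h2 ⊢
    rw [Q_mul] at h2
    have hinv : e * b + d * c = 0 := by
      rw [Q_eq, one_eq] at h2
      linear_combination (coords_inj h2).2.2.2.2.2 - f * CharTwo.two_eq_zero (R := F)
    rcases ne_or_eq b 0 with hb | rfl
    · exact rootCj_case_b b c d e f hb hinv
    rcases ne_or_eq c 0 with hc | rfl
    · obtain rfl : d = 0 := by simpa [hc] using hinv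
      rw [show Q 0 c 0 e f = R 0 c 0 e f by simp [Q, R, X_zero]]
      exact rootCj_short c e f hc
    rcases ne_or_eq d 0 with hd | rfl
    · have e1 : X 7 (e / d) * R 0 0 d e f * X 7 (e / d) = R 0 0 d 0 f := by
        rw [show X 7 (e / d) = R (e / d) 0 0 0 0 by simp [R, X_zero], R_mul, R_mul]
        simp [CharTwo.add_self_eq_zero, div_mul_cancel₀ e hd]
      have e2 : X 8 (f / d) * Q 0 0 d 0 f * X 8 (f / d) = X 9 d := by
        rw [show X 8 (f / d) = Q 0 (f / d) 0 0 0 by simp [Q, X_zero], Q_mul, Q_mul]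
        simp [Q, X_zero, CharTwo.add_self_eq_zero, mul_div_cancel₀ f hd]
      rw [show Q 0 0 d e f = R 0 0 d e f by simp [Q, R, X_zero]]
      refine RootCj.of_cj (e1 ▸ cj_X _ _ _) ?_
      rw [show R 0 0 d 0 f = Q 0 0 d 0 f by simp [Q, R, X_zero]]
      exact RootCj.of_cj (e2 ▸ cj_X _ _ _) ⟨9, by decide, d, hd, Cj.refl _⟩
    rcases ne_or_eq e 0 with he | rfl
    · have e1 : X 6 (f / e) * Q 0 0 0 e f * X 6 (f / e) = X 10 e := by
        rw [show X 6 (f / e) = Q (f / e) 0 0 0 0 by simp [Q, X_zero], Q_mul, Q_mul]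
        simp [Q, X_zero, CharTwo.add_self_eq_zero, mul_div_cancel₀ f he]
      exact RootCj.of_cj (e1 ▸ cj_X _ _ _) ⟨10, by decide, e, he, Cj.refl _⟩
    · have hf : f ≠ 0 := fun hf => h1 (by simp [Q, X_zero, hf])
      exact ⟨11, by decide, f, hf, by simpa [Q, X_zero] using Cj.refl (X 11 f)⟩
  · obtain rfl : b = 0 := (mul_eq_zero.1 hab).resolve_left ha
    simp only [X_zero, one_mul] at h1 h2 ⊢
    obtain ⟨d', e', f', e1⟩ :
        ∃ d' e' f', X 6 (c / a) * R a c d e f * X 6 (c / a) = R a 0 d' e' f' := by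
      rw [x6_R, div_mul_cancel₀ c ha, CharTwo.add_self_eq_zero]
      exact ⟨_, _, _, rfl⟩
    have h3 : R a 0 d' e' f' * R a 0 d' e' f' = 1 := by
      rw [← e1]
      calc _ = X 6 (c / a) * R a c d e f * (X 6 (c / a) * X 6 (c / a)) * R a c d e f * X 6 (c / a) := by
            simp only [mul_assoc]
        _ = X 6 (c / a) * (R a c d e f * R a c d e f) * X 6 (c / a) := by
            rw [mm, CharTwo.add_self_eq_zero, X_zero]; simp only [mul_assoc, one_mul, mul_one]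
        _ = 1 := by rw [h2, mul_one, mm, CharTwo.add_self_eq_zero, X_zero]
    obtain rfl : d' = 0 := by
      rw [R_mul] at h3
      have := (R_inj (h3.trans (show (1 : GL chevG2.Idx F) = R 0 0 0 0 0 by simp [R, X_zero]))).2.2.2.1
      have h4 : a * d' = 0 := by linear_combination this - e' * CharTwo.two_eq_zero (R := F)
      simpa [ha] using h4
    have e2 : X 9 (e' / a) * R a 0 0 e' f' * X 9 (e' / a) = X 7 a * X 11 f' := by
      rw [show X 9 (e' / a) = R 0 0 (e' / a) 0 0 by simp [R, X_zero], R_mul, R_mul]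
      simp [R, X_zero, CharTwo.add_self_eq_zero, mul_div_cancel₀ e' ha]
    refine RootCj.of_cj (e1 ▸ cj_X _ _ _) (RootCj.of_cj (e2 ▸ cj_X _ _ _) ?_)
    obtain ⟨k1, hk1, u1⟩ := cj_nS (F := F) (i := 1) (by decide) (show 7 < chevG2.nroots by decide) a
    rw [show auxG2.refl 1 7 = 8 by decide +kernel] at u1
    obtain ⟨l1, hl1, v1⟩ := cj_nS (F := F) (i := 1) (by decide) (show 11 < chevG2.nroots by decide) f'
    rw [show auxG2.refl 1 11 = 10 by decide +kernel] at v1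
    obtain ⟨k0, hk0, u0⟩ := cj_nS (F := F) (i := 0) (by decide) (show 8 < chevG2.nroots by decide) (k1 * a)
    rw [show auxG2.refl 0 8 = 9 by decide +kernel] at u0
    obtain ⟨l0, hl0, v0⟩ := cj_nS (F := F) (i := 0) (by decide) (show 10 < chevG2.nroots by decide) (l1 * f')
    rw [show auxG2.refl 0 10 = 6 by decide +kernel] at v0
    refine RootCj.of_cj (y := Q (l0 * (l1 * f')) 0 (k0 * (k1 * a)) 0 0)
      ⟨nS F g₂ 0 * nS F g₂ 1, mul_mem (nS_mem_group g₂ 0) (nS_mem_group g₂ 1), ?_⟩ ?_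
    · rw [show nS F g₂ 0 * nS F g₂ 1 * (X 7 a * X 11 f') * (nS F g₂ 0 * nS F g₂ 1)⁻¹ =
        nS F g₂ 0 * (nS F g₂ 1 * X 7 a * (nS F g₂ 1)⁻¹) * (nS F g₂ 0)⁻¹ *
          (nS F g₂ 0 * (nS F g₂ 1 * X 11 f' * (nS F g₂ 1)⁻¹) * (nS F g₂ 0)⁻¹) by group,
        u1, v1, u0, v0, c69]
      simp [Q, X_zero]
    · rcases eq_or_ne f' 0 with rfl | hf'
      · exact ⟨9, by decide, k0 * (k1 * a), mul_ne_zero hk0 (mul_ne_zero hk1 ha),
          by simpa [Q, X_zero] using Cj.refl (X 9 (k0 * (k1 * a)))⟩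
      · exact rootCj_case_b _ _ _ _ _ (mul_ne_zero hl0 (mul_ne_zero hl1 hf')) (by ring)

end CfsgLib.Chev.G2Invol
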