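/-
The two classes of involutions of G2 in characteristic two and their centralisers.
-/
import Cfsg.Agent.Lib.Chev.G2InvolClass
import Cfsg.Agent.Lib.Chev.SteinbergChar

set_option autoImplicit false
set_option maxRecDepth 100000

namespace CfsgLib.Chev.G2Invol

open Cfsg.Lie Matrix CfsgLib.KnownB.ChevField

variable {F : Type*} [Field F] [CharP F 2]

local notation "g₂" => stdG2.good

lemma tor_scale {r : ℕ} (hr : r = 9 ∨ r = 11) {k : F} (hk : k ≠ 0) : Cj (X r k) (X r 1) := by
  obtain ⟨c, hc⟩ : ∃ c : Fin chevG2.rank → Fˣ, chi chevG2 auxG2 c r = (Units.mk0 k hk)⁻¹ := by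
    rcases hr with rfl | rfl
    · refine ⟨fun i => if i.val = 0 then (Units.mk0 k hk)⁻¹ else 1, ?_⟩
      rw [chi]
      show ∏ i : Fin 2, (if i.val = 0 then (Units.mk0 k hk)⁻¹ else 1) ^ auxG2.cart i.val 9 = _
      simp [Fin.prod_univ_two, show auxG2.cart 0 9 = 1 by decide +kernel]
    · refine ⟨fun i => if i.val = 0 then 1 else (Units.mk0 k hk)⁻¹, ?_⟩
      rw [chi]
      show ∏ i : Fin 2, (if i.val = 0 then 1 else (Units.mk0 k hk)⁻¹) ^ auxG2.cart i.val 11 = _
      simp [Fin.prod_univ_two, show auxG2.cart 1 11 = 1 by decide +kernel]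
  refine ⟨tor chevG2 auxG2 c,
    monomialSubgroup_le_group g₂ (tor_mem_monomial g₂ c), ?_⟩
  rw [tor_conj_xG g₂ c (show r < chevG2.nroots by rcases hr with rfl | rfl <;> decide), hc,
    Units.val_inv_eq_inv_val, Units.val_mk0, inv_mul_cancel₀ hk]

lemma nS_step {i r s : ℕ} (hi : i < chevG2.rank) (hr : r < chevG2.nroots)
    (hs : auxG2.refl i r = s) {k : F} (hk : k ≠ 0) : ∃ l : F, l ≠ 0 ∧ Cj (X r k) (X s l) := by
  obtain ⟨l, hl, e⟩ := cj_nS (F := F) hi hr k
  exact ⟨l * k, mul_ne_zero hl hk, nS F g₂ i, nS_mem_group g₂ i, by rw [e, hs]⟩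

lemma exists_class [Fintype F] {y : GL chevG2.Idx F} (hy : y ∈ chevG2.group F) (h2 : orderOf y = 2) :
    Cj y (X 11 1) ∨ Cj y (X 9 1) := by
  classical
  have : Fact (Nat.Prime 2) := ⟨Nat.prime_two⟩
  haveI : Finite ↥(chevG2.group F) := Finite.of_injective _ Subtype.val_injective
  set U := (chevG2.posUnipotent F).subgroupOf (chevG2.group F)
  obtain ⟨m, hm, hcard⟩ := card_group_eq (F := F) stdG2 (p := 2)
  have hUcard : Nat.card U = Fintype.card F ^ (chevG2.nroots / 2) := by
    rw [Nat.card_congr (Subgroup.subgroupOfEquivOfLe (posUnipotent_le_group g₂)).toEquiv,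
      card_posUnipotent stdG2]
  obtain ⟨n, -, hn⟩ := FiniteField.card F 2
  have hUp : IsPGroup 2 U :=
    IsPGroup.of_card (n := (n : ℕ) * (chevG2.nroots / 2)) (by rw [hUcard, hn, ← pow_mul])
  have hidx : ¬ 2 ∣ U.index := by
    have h1 := U.card_mul_index
    rw [hUcard, hcard] at h1
    rwa [Nat.eq_of_mul_eq_mul_left (pow_pos Fintype.card_pos _) h1]
  set P : Sylow 2 ↥(chevG2.group F) := hUp.toSylow hidx
  set z : ↥(chevG2.group F) := ⟨y, hy⟩
  have hz : IsPGroup 2 (Subgroup.zpowers z) := IsPGroup.of_card (n := 1) (by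
    rw [Nat.card_zpowers, pow_one]
    exact (Subgroup.orderOf_mk y hy).trans h2)
  obtain ⟨S, hS⟩ := hz.exists_le_sylow
  obtain ⟨k, hk⟩ := MulAction.exists_smul_eq ↥(chevG2.group F) S P
  have h3 : k * z * k⁻¹ ∈ U := by
    have h4 : (P : Subgroup ↥(chevG2.group F)) = U := rfl
    rw [← h4, ← hk, Sylow.coe_subgroup_smul]
    exact ⟨z, hS (Subgroup.mem_zpowers z), rfl⟩
  have hc : Cj y ((k : GL chevG2.Idx F) * y * (k : GL chevG2.Idx F)⁻¹) := ⟨k, k.2, rfl⟩
  set w := (k : GL chevG2.Idx F) * y * (k : GL chevG2.Idx F)⁻¹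
  have hw2 : orderOf w = 2 := hc.orderOf_eq.trans h2
  have hww : w * w = 1 := by rw [← sq, ← hw2, pow_orderOf_eq_one]
  have hw1 : w ≠ 1 := fun e => by rw [e, orderOf_one] at hw2; omega
  obtain ⟨r, hr, t, ht, e⟩ := rootCj_of_sq (Subgroup.mem_subgroupOf.1 h3) hww hw1
  simp only [List.mem_cons, List.not_mem_nil, or_false] at hr
  rcases hr with rfl | rfl | rfl | rfl | rfl
  · obtain ⟨l, hl, e1⟩ := nS_step (i := 0) (r := 6) (s := 10) (by decide) (by decide) (by decide +kernel) ht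
    obtain ⟨l', hl', e2⟩ := nS_step (i := 1) (r := 10) (s := 11) (by decide) (by decide) (by decide +kernel) hl
    exact .inl (hc.trans (e.trans (e1.trans (e2.trans (tor_scale (.inr rfl) hl')))))
  · obtain ⟨l, hl, e1⟩ := nS_step (i := 0) (r := 8) (s := 9) (by decide) (by decide) (by decide +kernel) ht
    exact .inr (hc.trans (e.trans (e1.trans (tor_scale (.inl rfl) hl))))
  · exact .inr (hc.trans (e.trans (tor_scale (.inl rfl) ht)))
  · obtain ⟨l, hl, e1⟩ := nS_step (i := 1) (r := 10) (s := 11) (by decide) (by decide) (by decide +kernel) ht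
    exact .inl (hc.trans (e.trans (e1.trans (tor_scale (.inr rfl) hl))))
  · exact .inl (hc.trans (e.trans (tor_scale (.inr rfl) ht)))

/-- the short roots -/
def Short (r : ℕ) : Prop := r ∈ [2, 3, 4, 7, 8, 9]

instance : DecidablePred Short := fun r => inferInstanceAs (Decidable (r ∈ [2, 3, 4, 7, 8, 9]))

lemma short_perm {n : GL chevG2.Idx F} (hn : n ∈ chevG2.monomialSubgroup F) {σ : ℕ → ℕ}
    (hσ : Acts g₂ n σ) {q : ℕ} (hq : q < chevG2.nroots) : Short (σ q) ↔ Short q := by
  have key : ∀ i < chevG2.rank, ∀ r < chevG2.nroots, (Short r → Short (auxG2.refl i r)) ∧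
      (¬ Short r → ¬ Short (auxG2.refl i r)) := by decide +kernel
  refine ⟨fun h => ?_, fun h => acts_preserves g₂ (fun i hi r hr => (key i hi r hr).1) hn hσ hq h⟩
  by_contra hc
  exact acts_preserves g₂ (Q := fun r => ¬ Short r) (fun i hi r hr => (key i hi r hr).2) hn hσ hq hc h

lemma long_pos_mem {r : ℕ} (hr : ¬ Short r) (hp : chevG2.IsPosRoot r) (t : F) :
    ∃ b e f : F, X r t = Q b 0 0 e f := by
  have h := posRoots_mem.2 hp
  rw [posRoots_eq] at h
  simp only [List.mem_cons, List.not_mem_nil, or_false] at h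
  rcases h with rfl | rfl | rfl | rfl | rfl | rfl
  · exact ⟨t, 0, 0, by simp [Q, X_zero]⟩
  · exact absurd (by decide) hr
  · exact absurd (by decide) hr
  · exact absurd (by decide) hr
  · exact ⟨0, t, 0, by simp [Q, X_zero]⟩
  · exact ⟨0, 0, t, by simp [Q, X_zero]⟩

/-- three commuting root elements, one short, with product in the unipotent group -/
lemma short_root_eq {q p r : ℕ} (hq : q < chevG2.nroots) (hp : p < chevG2.nroots) (hr : r < chevG2.nroots)
    (hqs : Short q) (hps : ¬ Short p) (hrs : ¬ Short r) {k l m : F} (hk : k ≠ 0)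
    (hqp : Commute (X q k) (X p l)) (hqr : Commute (X q k) (X r m)) (hpr : Commute (X p l) (X r m))
    {a c : F} (h : X q k * X p l * X r m = R 0 0 1 a c) : q = 9 := by
  classical
  -- split every factor into a positive and a negative part
  let P : ℕ → F → GL chevG2.Idx F := fun s t => if chevG2.IsPosRoot s then X s t else 1
  let N : ℕ → F → GL chevG2.Idx F := fun s t => if chevG2.IsPosRoot s then 1 else X s t
  have hPN : ∀ s t, X s t = P s t * N s t := fun s t => by simp only [P, N]; split_ifs <;> simp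
  have hcomm : ∀ {s t s' t'}, Commute (X s t) (X s' t') → Commute (N s t) (P s' t') := by
    intro s t s' t' hc
    simp only [N, P]
    split_ifs
    exacts [Commute.one_left _, Commute.one_left _, hc, Commute.one_right _]
  have hNneg : ∀ s t, s < chevG2.nroots → N s t ∈ chevG2.negUnipotent F := fun s t hs => by
    simp only [N]
    split_ifs with hsp
    · exact one_mem _
    · exact xG_mem_negUnipotent g₂ (isNeg_of_not_pos g₂ hs hsp) t
  have hPpos : ∀ s t, P s t ∈ chevG2.posUnipotent F := fun s t => by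
    simp only [P]
    split_ifs with hsp
    · exact xG_mem_posUnipotent g₂ hsp t
    · exact one_mem _
  have e1 : P q k * P p l * P r m * (N q k * N p l * N r m) = R 0 0 1 a c := by
    rw [← h, hPN q k, hPN p l, hPN r m]
    have c1 := (hcomm hqp).eq
    have c2 := (hcomm hqr).eq
    have c3 := (hcomm hpr).eq
    simp only [mul_assoc]
    rw [← mul_assoc (N q k) (P p l), c1, mul_assoc (P p l), ← mul_assoc (N p l) (P r m), c3,
      mul_assoc (P r m), ← mul_assoc (N q k) (P r m), c2, mul_assoc (P r m)]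
  have hN1 : N q k * N p l * N r m = 1 := by
    have hm : N q k * N p l * N r m ∈ chevG2.borelSubgroup F ⊓ chevG2.negUnipotent F := by
      refine Subgroup.mem_inf.2 ⟨(le_sup_left : _ ≤ chevG2.borelSubgroup F) ?_,
        mul_mem (mul_mem (hNneg q k hq) (hNneg p l hp)) (hNneg r m hr)⟩
      rw [eq_inv_mul_of_mul_eq e1]
      exact mul_mem (inv_mem (mul_mem (mul_mem (hPpos _ _) (hPpos _ _)) (hPpos _ _))) (R_mem _ _ _ _ _)
    rwa [borel_inf_negUnipotent stdG2, Subgroup.mem_bot] at hm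
  rw [hN1, mul_one, mul_assoc] at e1
  have hQ1 : ∀ s t, ¬ Short s → ∃ b e f : F, P s t = Q b 0 0 e f := fun s t hs => by
    simp only [P]
    split_ifs with hsp
    · exact long_pos_mem hs hsp t
    · exact ⟨0, 0, 0, by simp [Q, X_zero]⟩
  obtain ⟨b1, u1, v1, w1⟩ := hQ1 p l hps
  obtain ⟨b2, u2, v2, w2⟩ := hQ1 r m hrs
  rw [w1, w2, Q_mul, R_eq (F := F) 0 0 1 a c] at e1
  simp only [Q_eq] at e1
  simp only [P] at e1
  split_ifs at e1 with hqp'
  · have h' := posRoots_mem.2 hqp'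
    rw [posRoots_eq] at h'
    simp only [Short, List.mem_cons, List.not_mem_nil, or_false] at h' hqs
    rcases (show q = 7 ∨ q = 8 ∨ q = 9 by omega) with rfl | rfl | rfl
    · rw [← mul_assoc, c67, mul_assoc, show X 8 ((b1 + b2) * k) *
        (X 9 ((b1 + b2) * k ^ 2) * X 10 ((b1 + b2) * k ^ 3)) =
        R 0 ((b1 + b2) * k) ((b1 + b2) * k ^ 2) ((b1 + b2) * k ^ 3) 0 by simp [R, X_zero],
        show X 7 k = R k 0 0 0 0 by simp [R, X_zero], R_mul, R_mul] at e1
      exact absurd (by simpa using (coords_inj e1).2.1) hk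
    · rw [← mul_assoc, c68, mul_assoc,
        show X 8 k = R 0 k 0 0 0 by simp [R, X_zero], R_mul] at e1
      exact absurd (by simpa using (coords_inj e1).2.2.1) hk
    · rfl
  · rw [one_mul] at e1
    exact absurd (coords_inj e1).2.2.2.1 (by simp)

lemma conj_R (v : GL chevG2.Idx F) (hv : v ∈ chevG2.posUnipotent F) :
    ∃ a c : F, v * X 9 1 * v⁻¹ = R 0 0 1 a c := by
  obtain ⟨b, a, c, d, e, f, rfl⟩ := exists_coords hv
  refine ⟨a, b * a + c, ?_⟩
  rw [show X 9 (1 : F) = R 0 0 1 0 0 by simp [R, X_zero]]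
  have hi : R a c d e f * R 0 0 1 0 0 = R 0 0 1 a c * R a c d e f := by
    rw [R_mul, R_mul]
    congr 1
    · simp
    · simp
    · ring
    · linear_combination (-a) * CharTwo.two_eq_zero (R := F)
    · linear_combination (-c) * CharTwo.two_eq_zero (R := F)
  rw [_root_.mul_inv_rev, inv_eq, mul_assoc (X 6 b), hi, mul_assoc (X 6 b), mul_assoc (R 0 0 1 a c),
    mul_inv_cancel_left, ← mul_assoc (X 6 b), x6_R]
  congr 1
  · simp
  · simp
  · simp
  · simp; ring

/-- the two involutions are not conjugate -/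
lemma not_cj : ¬ Cj (X 11 (1 : F)) (X 9 1) := by
  rintro ⟨y, hy, h⟩
  obtain ⟨bb, hbb, n, hn, τ, hτ, u, hu, rfl⟩ := normal_form_exists stdG2 hy
  obtain ⟨v, hv, c, rfl⟩ := (mem_borel_iff g₂).1 hbb
  have hu' : u ∈ chevG2.posUnipotent F := UP_toNeg_le g₂ τ hu
  have hz : u * X 11 1 * u⁻¹ = X 11 1 := by
    obtain ⟨b, a, c', d, e, f, rfl⟩ := exists_coords hu'
    rw [mul_inv_eq_iff_eq_mul]
    simp only [R, mul_assoc]
    sortX
    refine congr_cons rfl (congr_cons rfl (congr_cons rfl (congr_cons rfl (congr_cons rfl ?_))))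
    rw [add_comm]
  have h' : tor chevG2 auxG2 c * (n * X 11 1 * n⁻¹) * (tor chevG2 auxG2 c)⁻¹ = v⁻¹ * X 9 1 * v := by
    rw [← h]
    conv_lhs => rw [← hz]
    group
  obtain ⟨k, hk, e⟩ := hτ.conj 11 (by decide)
  rw [e 1, tor_conj_xG g₂ c (hτ.map.1 11 (by decide))] at h'
  obtain ⟨a, c', e'⟩ := conj_R v⁻¹ (inv_mem hv)
  rw [inv_inv, ← h'] at e'
  have hl : ¬ Short (τ 11) := fun hs => by
    have := (short_perm hn hτ (q := 11) (by decide)).1 hs
    revert this
    decide
  by_cases hp : chevG2.IsPosRoot (τ 11)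
  · obtain ⟨b1, u1, v1, w1⟩ := long_pos_mem hl hp ((chi chevG2 auxG2 c (τ 11) : F) * (k * 1))
    change X (τ 11) _ = _ at e'
    rw [w1, Q_eq, R_eq (F := F) 0 0 1 a c'] at e'
    exact absurd (coords_inj e').2.2.2.1 (by simp)
  · refine hp (pos_of_xG_mem_posUnipotent (hτ.map.1 11 (by decide)) ?_ (e' ▸ R_mem _ _ _ _ _))
    exact mul_ne_zero (Units.ne_zero _) (mul_ne_zero hk one_ne_zero)
where
  pos_of_xG_mem_posUnipotent {s : ℕ} (hs : s < chevG2.nroots) {t : F} (ht : t ≠ 0)
      (hm : X s t ∈ chevG2.posUnipotent F) : chevG2.IsPosRoot s := by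
    by_contra hp
    have h1 : X s t ∈ chevG2.borelSubgroup F ⊓ chevG2.negUnipotent F :=
      Subgroup.mem_inf.2 ⟨(le_sup_left : _ ≤ chevG2.borelSubgroup F) hm,
        xG_mem_negUnipotent g₂ (isNeg_of_not_pos g₂ hs hp) t⟩
    rw [borel_inf_negUnipotent stdG2, Subgroup.mem_bot] at h1
    exact ht (CfsgLib.KnownB.ChevField.xG_inj stdG2 hs (h1.trans (X_zero s).symm))

end CfsgLib.Chev.G2Invol
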