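/-
The centraliser of a short root involution of G2 in characteristic two.
-/
import Cfsg.Agent.Lib.Chev.G2InvolMain

set_option autoImplicit false
set_option maxRecDepth 100000

namespace CfsgLib.Chev.G2Invol

open Cfsg.Lie Matrix CfsgLib.KnownB.ChevField

variable {F : Type*} [Field F] [CharP F 2]

local notation "g₂" => stdG2.good

lemma short_pos_check : ∀ p < chevG2.nroots, ∀ q < chevG2.nroots, Short p →
    (∀ l < chevG2.rank, auxG2.a 9 l = 2 * auxG2.a p l + 1 * auxG2.a q l) →
    chevG2.IsPosRoot p := by decide +kernel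

lemma refl_facts : auxG2.refl 1 9 = 9 ∧ auxG2.refl 1 6 = auxG2.neg 6 ∧ chevG2.simple 0 = 7 ∧
    chevG2.simple 1 = 6 ∧ chevG2.neg 6 = 5 ∧ chevG2.rank = 2 := by decide +kernel

/-- a monomial element fixing the root `9` and keeping `6` positive is diagonal -/
lemma diag_of_fix {n : GL chevG2.Idx F} (hn : n ∈ chevG2.monomialSubgroup F) {σ : ℕ → ℕ}
    (hσ : Acts g₂ n σ) (h9 : σ 9 = 9) (h6 : chevG2.IsPosRoot (σ 6)) :
    n ∈ chevG2.diagonalSubgroup F := by
  obtain ⟨-, -, h0, h1, -, hr⟩ := refl_facts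
  refine diag_of_simple_pos stdG2 hn hσ fun i hi => ?_
  rw [hr] at hi
  rcases (show i = 0 ∨ i = 1 by omega) with rfl | rfl
  · rw [h0]
    refine short_pos_check _ (hσ.map.1 7 (by decide)) _ (hσ.map.1 6 (by decide))
      ((short_perm hn hσ (by decide)).2 (by decide)) fun l hl => ?_
    have := hσ.map.lin (i := 2) (k := 1) (show 7 < chevG2.nroots by decide)
      (show 6 < chevG2.nroots by decide) (show 9 < chevG2.nroots by decide)
      (fun j hj => by revert j; decide +kernel) l hl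
    rwa [h9] at this
  · rwa [h1]

/-- the subgroup centralising `x₉(1)` -/
noncomputable def CT (F : Type*) [Field F] : Subgroup (GL chevG2.Idx F) :=
  chevG2.rootSubgroup F 9 ⊔ chevG2.rootSubgroup F 10 ⊔ chevG2.rootSubgroup F 11 ⊔
    chevG2.rootSubgroup F 6 ⊔ chevG2.rootSubgroup F 5

omit [CharP F 2] in
lemma xG_mem_CT {r : ℕ} (hr : r ∈ [9, 10, 11, 6, 5]) (t : F) : X r t ∈ CT F := by
  have h := xG_mem_rootSubgroup (F := F) g₂ r t
  simp only [List.mem_cons, List.not_mem_nil, or_false] at hr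
  unfold CT
  rcases hr with rfl | rfl | rfl | rfl | rfl
  · exact (le_sup_left.trans (le_sup_left.trans (le_sup_left.trans le_sup_left)) :
      chevG2.rootSubgroup F 9 ≤ _) h
  · exact (le_sup_right.trans (le_sup_left.trans (le_sup_left.trans le_sup_left)) :
      chevG2.rootSubgroup F 10 ≤ _) h
  · exact (le_sup_right.trans (le_sup_left.trans le_sup_left) : chevG2.rootSubgroup F 11 ≤ _) h
  · exact (le_sup_right.trans le_sup_left : chevG2.rootSubgroup F 6 ≤ _) h
  · exact (le_sup_right : chevG2.rootSubgroup F 5 ≤ _) h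

lemma CT_le : CT F ≤ chevG2.group F ⊓ Subgroup.centralizer {X 9 (1 : F)} := by
  have key : ∀ r ∈ [9, 10, 11, 6, 5], chevG2.rootSubgroup F r ≤
      chevG2.group F ⊓ Subgroup.centralizer {X 9 (1 : F)} := by
    intro r hr y hy
    obtain ⟨t, rfl⟩ := (mem_rootSubgroup_iff g₂).1 hy
    refine Subgroup.mem_inf.2 ⟨xG_mem_group g₂ r t, Subgroup.mem_centralizer_singleton_iff.2 ?_⟩
    simp only [List.mem_cons, List.not_mem_nil, or_false] at hr
    rcases hr with rfl | rfl | rfl | rfl | rfl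
    · rw [xG_add, xG_add, add_comm]
    · exact c910 1 t
    · exact c911 1 t
    · exact (c69 t 1).symm
    · exact (c59 t 1).symm
  exact sup_le (sup_le (sup_le (sup_le (key 9 (by decide)) (key 10 (by decide))) (key 11 (by decide)))
    (key 6 (by decide))) (key 5 (by decide))

lemma cent_le [Finite F] : chevG2.group F ⊓ Subgroup.centralizer {X 9 (1 : F)} ≤ CT F := by
  intro y hy
  obtain ⟨hyG, hyc⟩ := Subgroup.mem_inf.1 hy
  obtain ⟨bb, hbb, n, hn, σ, hσ, u, hu, rfl⟩ := normal_form_exists stdG2 hyG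
  obtain ⟨v, hv, c, rfl⟩ := (mem_borel_iff g₂).1 hbb
  rw [Subgroup.mem_centralizer_singleton_iff] at hyc
  obtain ⟨a1, c1, e1⟩ := conj_R u (UP_toNeg_le g₂ σ hu)
  obtain ⟨a2, c2, e2⟩ := conj_R v⁻¹ (inv_mem hv)
  have hm : tor chevG2 auxG2 c * n * R 0 0 1 a1 c1 * (tor chevG2 auxG2 c * n)⁻¹ = R 0 0 1 a2 c2 := by
    rw [← e1, ← e2, inv_inv]
    calc _ = v⁻¹ * (v * tor chevG2 auxG2 c * n * u * X 9 1) * u⁻¹ *
          (tor chevG2 auxG2 c * n)⁻¹ := by group
      _ = v⁻¹ * (X 9 1 * (v * tor chevG2 auxG2 c * n * u)) * u⁻¹ *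
          (tor chevG2 auxG2 c * n)⁻¹ := by rw [hyc]
      _ = _ := by group
  have hmA : Acts g₂ (tor chevG2 auxG2 c * n) (id ∘ σ) := (acts_tor g₂ c).mul hσ
  set m := tor chevG2 auxG2 c * n
  obtain ⟨k9, hk9, E9⟩ := hmA.conj 9 (by decide)
  obtain ⟨k10, hk10, E10⟩ := hmA.conj 10 (by decide)
  obtain ⟨k11, hk11, E11⟩ := hmA.conj 11 (by decide)
  have hcm : ∀ {r s : ℕ} {p q : F}, X s q * X r p = X r p * X s q →
      Commute (m * X r p * m⁻¹) (m * X s q * m⁻¹) := fun {r s p q} h =>
    (Commute.map (show Commute (X r p) (X s q) from h.symm) (MulAut.conj m).toMonoidHom)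
  have h9 : σ 9 = 9 := by
    refine short_root_eq (k := k9 * 1) (l := k10 * a1) (m := k11 * c1) (a := a2) (c := c2)
      (hσ.map.1 9 (by decide)) (hσ.map.1 10 (by decide)) (hσ.map.1 11 (by decide))
      ((short_perm hn hσ (by decide)).2 (by decide))
      (fun h => absurd ((short_perm hn hσ (by decide)).1 h) (by decide))
      (fun h => absurd ((short_perm hn hσ (by decide)).1 h) (by decide))
      (mul_ne_zero hk9 one_ne_zero) ?_ ?_ ?_ ?_
    · have := hcm (c910 (1 : F) a1); rwa [E9, E10] at this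
    · have := hcm (c911 (1 : F) c1); rwa [E9, E11] at this
    · have := hcm (c1011 a1 c1); rwa [E10, E11] at this
    · rw [← hm, show R 0 0 (1 : F) a1 c1 = X 9 1 * X 10 a1 * X 11 c1 by
        simp [R, X_zero, mul_assoc]]
      rw [show m * (X 9 1 * X 10 a1 * X 11 c1) * m⁻¹ =
        m * X 9 1 * m⁻¹ * (m * X 10 a1 * m⁻¹) * (m * X 11 c1 * m⁻¹) by group, E9, E10, E11]
      rfl
  obtain ⟨f9, f6, -, h1, h5, -⟩ := refl_facts
  have hnS : nS F g₂ 1 ∈ CT F := by
    unfold nS
    rw [h1]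
    unfold nG
    rw [h5]
    exact mul_mem (mul_mem (xG_mem_CT (by decide) _) (xG_mem_CT (by decide) _))
      (xG_mem_CT (by decide) _)
  obtain ⟨d, z, hz, rfl⟩ : ∃ d, ∃ z ∈ CT F, n = tor chevG2 auxG2 d * z := by
    have hd := fun {x : GL chevG2.Idx F} (hx : x ∈ chevG2.diagonalSubgroup F) => by
      rw [diagonalSubgroup_eq g₂] at hx; exact hx
    by_cases h6 : chevG2.IsPosRoot (σ 6)
    · obtain ⟨d, hd'⟩ := hd (diag_of_fix hn hσ h9 h6)
      exact ⟨d, 1, one_mem _, by rw [mul_one, hd']⟩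
    · have hσ' : Acts g₂ (n * nS F g₂ 1) (σ ∘ auxG2.refl 1) := hσ.mul (acts_nS g₂ (by decide))
      obtain ⟨d, hd'⟩ := hd (diag_of_fix (mul_mem hn (nS_mem_monomial g₂ (by decide))) hσ'
        (by rw [Function.comp_apply, f9, h9]) (by
          rw [Function.comp_apply, f6, hσ.map.map_neg g₂ (by decide)]
          exact (pos_or_pos_neg g₂ (hσ.map.1 6 (by decide))).resolve_left h6))
      exact ⟨d, (nS F g₂ 1)⁻¹, inv_mem hnS, by rw [hd']; group⟩
  have huC : u ∈ CT F := by
    refine UP_le (K := CT F) (fun r t hr => xG_mem_CT ?_ t) hu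
    have hr' := posRoots_mem.2 hr.1
    rw [posRoots_eq] at hr'
    have hz0 : ∀ s, s ∈ [7, 8] → ¬ chevG2.IsNegRoot (σ s) := by
      intro s hs hneg
      simp only [List.mem_cons, List.not_mem_nil, or_false] at hs
      refine not_pos_of_isNeg g₂ hneg ?_
      rcases hs with rfl | rfl
      · refine short_pos_check _ (hσ.map.1 7 (by decide)) _ (hσ.map.1 6 (by decide))
          ((short_perm hn hσ (by decide)).2 (by decide)) fun l hl => ?_
        have := hσ.map.lin (i := 2) (k := 1) (show 7 < chevG2.nroots by decide)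
          (show 6 < chevG2.nroots by decide) (show 9 < chevG2.nroots by decide)
          (fun j hj => by revert j; decide +kernel) l hl
        rwa [h9] at this
      · refine short_pos_check _ (hσ.map.1 8 (by decide)) _ (hσ.map.1 5 (by decide))
          ((short_perm hn hσ (by decide)).2 (by decide)) fun l hl => ?_
        have := hσ.map.lin (i := 2) (k := 1) (show 8 < chevG2.nroots by decide)
          (show 5 < chevG2.nroots by decide) (show 9 < chevG2.nroots by decide)
          (fun j hj => by revert j; decide +kernel) l hl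
        rwa [h9] at this
    simp only [List.mem_cons, List.not_mem_nil, or_false] at hr' ⊢
    rcases hr' with h | h | h | h | h | h
    · omega
    · exact absurd (h ▸ hr.2) (hz0 7 (by decide))
    · exact absurd (h ▸ hr.2) (hz0 8 (by decide))
    all_goals omega
  have hCc : ∀ x ∈ CT F, x * X 9 1 = X 9 1 * x := fun x hx =>
    Subgroup.mem_centralizer_singleton_iff.1 (Subgroup.mem_inf.1 (CT_le hx)).2
  -- the remaining element is torus times unipotent
  set e := c * d with he
  have hw : v * tor chevG2 auxG2 e * X 9 1 = X 9 1 * (v * tor chevG2 auxG2 e) := by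
    have hzu : z * u ∈ CT F := mul_mem hz huC
    refine mul_right_cancel (b := z * u) ?_
    rw [mul_assoc _ (X 9 1), ← hCc _ hzu, ← mul_assoc _ (z * u), mul_assoc (X 9 1)]
    have e3 : v * tor chevG2 auxG2 e * (z * u) = v * tor chevG2 auxG2 c * (tor chevG2 auxG2 d * z) * u := by
      rw [he, map_mul]; group
    rw [e3]
    exact hyc
  have e4 : tor chevG2 auxG2 e * X 9 1 * (tor chevG2 auxG2 e)⁻¹ = v⁻¹ * X 9 1 * v := by
    rw [mul_inv_eq_iff_eq_mul]
    calc tor chevG2 auxG2 e * X 9 1 = v⁻¹ * (v * tor chevG2 auxG2 e * X 9 1) := by group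
      _ = v⁻¹ * (X 9 1 * (v * tor chevG2 auxG2 e)) := by rw [hw]
      _ = _ := by group
  obtain ⟨a, c', e5⟩ := conj_R v⁻¹ (inv_mem hv)
  rw [inv_inv] at e5
  rw [tor_conj_xG g₂ e (show 9 < chevG2.nroots by decide), e5, mul_one] at e4
  have e6 : R 0 0 ((chi chevG2 auxG2 e 9 : Fˣ) : F) 0 0 = R 0 0 1 a c' := by
    rw [← e4]; simp [R, X_zero]
  obtain ⟨-, -, hchi, rfl, rfl⟩ := R_inj e6
  have hvC : v ∈ CT F := by
    obtain ⟨b, a, c'', d', e', f', hv'⟩ := exists_coords (inv_mem hv)
    have h7 : R a c'' d' e' f' * R 0 0 1 0 0 = R 0 0 1 0 0 * R a c'' d' e' f' := by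
      have hb := hCc (X 6 b) (xG_mem_CT (by decide) b)
      have h8 : v⁻¹ * X 9 1 * v = R 0 0 1 0 0 := e5
      have h9' : X 9 (1 : F) = R 0 0 1 0 0 := by simp [R, X_zero]
      refine mul_left_cancel (a := X 6 b) ?_
      rw [← mul_assoc, ← hv', ← h9', ← mul_assoc, hb, mul_assoc, ← hv']
      calc v⁻¹ * X 9 1 = v⁻¹ * X 9 1 * v * v⁻¹ := by group
        _ = _ := by rw [h8, h9']
    rw [R_mul, R_mul] at h7
    obtain ⟨-, -, -, he7, hf7⟩ := R_inj h7
    have ha : a = 0 := by linear_combination -he7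
    subst ha
    have hc : c'' = 0 := by linear_combination -hf7
    subst hc
    have : v⁻¹ ∈ CT F := by
      rw [hv']
      simp only [R, X_zero, one_mul]
      exact mul_mem (xG_mem_CT (by decide) _) (mul_mem (xG_mem_CT (by decide) _)
        (mul_mem (xG_mem_CT (by decide) _) (xG_mem_CT (by decide) _)))
    exact inv_mem_iff.1 this
  have heC : tor chevG2 auxG2 e ∈ CT F := by
    obtain ⟨hr, hcart⟩ : chevG2.rank = 2 ∧ auxG2.cart 0 9 = 1 ∧ auxG2.cart 1 9 = 0 := by decide +kernel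
    have he0 : e ⟨0, by omega⟩ = 1 := by
      refine Units.ext ?_
      rw [Units.val_one, ← hchi]
      congr 1
      rw [chi]
      show _ = ∏ i : Fin 2, e i ^ auxG2.cart i.val 9
      rw [Fin.prod_univ_two]
      simp [hcart.1, hcart.2]
      rfl
    have : e = Pi.mulSingle (M := fun _ : Fin chevG2.rank => Fˣ) ⟨1, by omega⟩ (e ⟨1, by omega⟩) := by
      funext i
      rcases (show i.val = 0 ∨ i.val = 1 by omega) with h | h
      · rw [show i = (⟨0, by omega⟩ : Fin chevG2.rank) from Fin.ext h, he0, Pi.mulSingle_eq_of_ne (by simp)]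
      · rw [show i = (⟨1, by omega⟩ : Fin chevG2.rank) from Fin.ext h, Pi.mulSingle_eq_same]
    rw [this, ← hG_simple g₂]
    show hG g₂ (chevG2.simple 1) _ ∈ _
    unfold hG nG
    rw [h1, h5]
    exact mul_mem (mul_mem (mul_mem (xG_mem_CT (by decide) _) (xG_mem_CT (by decide) _))
      (xG_mem_CT (by decide) _)) (mul_mem (mul_mem (xG_mem_CT (by decide) _)
      (xG_mem_CT (by decide) _)) (xG_mem_CT (by decide) _))
  have e8 : v * tor chevG2 auxG2 c * (tor chevG2 auxG2 d * z) * u =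
      v * tor chevG2 auxG2 e * z * u := by rw [he, map_mul]; group
  rw [e8]
  exact mul_mem (mul_mem (mul_mem hvC heC) hz) huC

end CfsgLib.Chev.G2Invol
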