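/-
Alternating counts of the Weyl group elements carrying fundamental roots onto a given set of fundamental roots.
-/
import Cfsg.Agent.Lib.Chev.Unipotents

set_option autoImplicit false

namespace CfsgLib.Chev

open Cfsg.Lie Matrix

variable {D : ChevalleyDatum} {A : Aux} {F : Type*} [Field F]

variable (D) in
/-- `σ` carries fundamental roots of `L` onto those of `J` and those of `L` to positive roots -/
def GoodW (J L : Finset ℕ) (σ : ℕ → ℕ) : Prop :=
  (∀ l ∈ L, D.IsPosRoot (σ (D.simple l))) ∧ ∀ j ∈ J, ∃ l ∈ L, σ (D.simple l) = D.simple j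

variable (D) in
/-- `σ` carries fundamental roots onto those of `J` and all others to negative roots -/
def SpecW (J : Finset ℕ) (σ : ℕ → ℕ) : Prop :=
  (∀ j ∈ J, ∃ k < D.rank, σ (D.simple k) = D.simple j) ∧
    ∀ k < D.rank, D.IsPosRoot (σ (D.simple k)) → ∃ j ∈ J, σ (D.simple k) = D.simple j

theorem simple_index_inj (g : Good D A) {k l : ℕ} (hk : k < D.rank) (hl : l < D.rank)
    (e : D.simple k = D.simple l) : k = l := by
  by_contra hne
  have h1 := g.a_simple k hk l hl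
  have h2 := g.a_simple l hl l hl
  rw [e, h2, if_pos rfl, if_neg (Ne.symm hne)] at h1
  omega

/-- a positive root carried to a fundamental root by a map of constant sign on its support is fundamental -/
theorem simple_of_ht (g : Good D A) {ρ : ℕ → ℕ} (hρ : RootMap D A ρ) (e : ℤ) {β : ℕ}
    (hβ : D.IsPosRoot β) (hsupp : ∀ k < D.rank, A.a β k ≠ 0 → 1 ≤ e * htR D A (ρ (D.simple k)))
    (h1 : e * htR D A (ρ β) = 1) : ∃ k < D.rank, β = D.simple k := by
  have hexp : e * htR D A (ρ β) =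
      ∑ k ∈ Finset.range D.rank, A.a β k * (e * htR D A (ρ (D.simple k))) := by
    simp only [htR, Finset.mul_sum]
    rw [Finset.sum_comm]
    refine Finset.sum_congr rfl fun j hj => ?_
    rw [simple_eq_sum g hρ hβ.1 j (Finset.mem_range.1 hj), Finset.mul_sum]
    exact Finset.sum_congr rfl fun k _ => by ring
  have hnn := fun k => (g.pos_iff β hβ.1).1 hβ k
  have hterm : ∀ k ∈ Finset.range D.rank,
      A.a β k ≤ A.a β k * (e * htR D A (ρ (D.simple k))) := by
    intro k hk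
    by_cases h0 : A.a β k = 0
    · simp [h0]
    · exact le_mul_of_one_le_right (hnn k) (hsupp k (Finset.mem_range.1 hk) h0)
  have hsum : htR D A β ≤ 1 := by
    rw [← h1, hexp]; exact Finset.sum_le_sum hterm
  obtain ⟨k, hk, hk0⟩ : ∃ k < D.rank, A.a β k ≠ 0 := by
    by_contra hcon
    push Not at hcon
    refine g.neg_ne β hβ.1 (g.a_inj _ (g.neg_lt β hβ.1) β hβ.1 fun j hj => ?_)
    rw [g.a_neg β hβ.1, hcon j hj, neg_zero]
  refine ⟨k, hk, g.a_inj _ hβ.1 _ (g.simple_lt k hk) fun l hl => ?_⟩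
  have hk1 := hnn k
  have hle : A.a β k + ∑ m ∈ (Finset.range D.rank).erase k, A.a β m ≤ 1 := by
    rw [Finset.add_sum_erase _ _ (Finset.mem_range.2 hk)]; exact hsum
  have hrest := Finset.sum_nonneg (s := (Finset.range D.rank).erase k) fun m _ => hnn m
  rw [g.a_simple k hk l hl]
  by_cases hlk : l = k
  · subst hlk; rw [if_pos rfl]; omega
  · rw [if_neg hlk]
    have := Finset.single_le_sum (s := (Finset.range D.rank).erase k) (fun m _ => hnn m)
      (Finset.mem_erase.2 ⟨hlk, Finset.mem_range.2 hl⟩)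
    have := hnn l
    omega

theorem htR_simple (g : Good D A) {j : ℕ} (hj : j < D.rank) : htR D A (D.simple j) = 1 := by
  rw [htR, Finset.sum_eq_single j]
  · rw [g.a_simple j hj j hj, if_pos rfl]
  · intro l hl hlj; rw [g.a_simple j hj l (Finset.mem_range.1 hl), if_neg hlj]
  · intro h; exact absurd (Finset.mem_range.2 hj) h

theorem one_le_htR (g : Good D A) {r : ℕ} (hr : D.IsPosRoot r) : 1 ≤ htR D A r := by
  obtain ⟨k, hk, h0⟩ : ∃ k < D.rank, A.a r k ≠ 0 := by
    by_contra hcon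
    push Not at hcon
    refine g.neg_ne r hr.1 (g.a_inj _ (g.neg_lt r hr.1) r hr.1 fun j hj => ?_)
    rw [g.a_neg r hr.1, hcon j hj, neg_zero]
  have hnn := fun k => (g.pos_iff r hr.1).1 hr k
  have := Finset.single_le_sum (s := Finset.range D.rank) (fun m _ => hnn m) (Finset.mem_range.2 hk)
  have := hnn k
  simp only [htR]
  omega

theorem htR_neg (g : Good D A) {r : ℕ} (hr : r < D.nroots) : htR D A (A.neg r) = - htR D A r := by
  simp [htR, g.a_neg r hr, Finset.sum_neg_distrib]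

theorem not_pos_of_nonpos (g : Good D A) {r : ℕ} (hn : ∀ i < D.rank, A.a r i ≤ 0) :
    ¬ D.IsPosRoot r := fun hp => by
  have h1 : htR D A r ≤ 0 := Finset.sum_nonpos fun i hi => hn i (Finset.mem_range.1 hi)
  have := one_le_htR g hp
  omega

/-- the unique element of a special shape -/
theorem spec_longest (h : Std D A) {J : Finset ℕ} (hJ : J ⊆ Finset.range D.rank) {n n₀ : GL D.Idx F}
    {σ σ₀ : ℕ → ℕ} (hn : n ∈ D.monomialSubgroup F) (hσ : Acts h.good n σ) (hs : SpecW D J σ)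
    (hn₀ : n₀ ∈ D.monomialSubgroup F) (hσ₀ : Acts h.good n₀ σ₀)
    (hw : ∀ r, D.IsPosRoot r → D.IsNegRoot (σ₀ r)) {M : Finset ℕ}
    (hM : ∀ k, k ∈ M ↔ k < D.rank ∧ D.IsPosRoot (σ (D.simple k))) {ν : GL D.Idx F} {υ : ℕ → ℕ}
    (hν : ν ∈ WJ F h.good M) (hυ : Acts h.good ν υ)
    (hneg : ∀ k ∈ M, k < D.rank → ¬ D.IsPosRoot (υ (D.simple k))) :
    n₀⁻¹ * (n * ν) ∈ D.diagonalSubgroup F ∧
      ∀ k < D.rank, k ∈ M ↔ InJ D A (J : Set ℕ) (σ₀ (D.simple k)) := by
  have g := h.good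
  obtain ⟨υ', hυ', hυM⟩ := WJ_acts g hν
  have hcoord : ∀ r < D.nroots, ∀ i < D.rank, i ∉ M → A.a (υ r) i = A.a r i := fun r hr i hi hiM => by
    rw [hυ.unique hυ' hr]; exact hυM r hr i hi hiM
  have hJlt : ∀ j ∈ J, j < D.rank := fun j hj => Finset.mem_range.1 (hJ hj)
  obtain ⟨τ, hτ, hτσ⟩ := acts_inv g hn hσ
  have hMJ : ∀ k, k ∈ M → ∀ i < D.rank, i ∉ J → A.a (σ (D.simple k)) i = 0 := by
    intro k hk i hi hiJ
    obtain ⟨hk', hp⟩ := (hM k).1 hk
    obtain ⟨j, hj, e⟩ := hs.2 k hk' hp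
    rw [e, g.a_simple j (hJlt j hj) i hi, if_neg fun e' : i = j => hiJ (e' ▸ hj)]
  have hout : ∀ k < D.rank, k ∉ M → ∃ i < D.rank, i ∉ J ∧ A.a (σ (D.simple k)) i < 0 := by
    intro k hk hkM
    have hlt := hσ.map.1 _ (g.simple_lt k hk)
    have hnp : ¬ D.IsPosRoot (σ (D.simple k)) := fun hp => hkM ((hM k).2 ⟨hk, hp⟩)
    have hle := (g.negRoot_iff _ hlt).1 (isNeg_of_not_pos g hlt hnp)
    by_contra hcon
    push Not at hcon
    have h1 := simple_eq_sum g hτ.map hlt k hk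
    rw [(hτσ _ (g.simple_lt k hk)).1, g.a_simple k hk k hk, if_pos rfl, Finset.sum_eq_zero] at h1
    · omega
    intro l hl
    have hl' := Finset.mem_range.1 hl
    by_cases hlJ : l ∈ J
    · obtain ⟨m, hm, e⟩ := hs.1 l hlJ
      rw [← e, (hτσ _ (g.simple_lt m hm)).1, g.a_simple m hm k hk, if_neg, mul_zero]
      rintro rfl
      exact hkM ((hM k).2 ⟨hk, by rw [e]; exact simple_pos g hl'⟩)
    · rw [le_antisymm (hle l) (hcon l hl' hlJ), zero_mul]
  have hprod := hσ.mul hυ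
  have hin : ∀ k < D.rank, k ∈ M → ∀ i < D.rank,
      A.a (σ (υ (D.simple k))) i ≤ 0 ∧ (i ∉ J → A.a (σ (υ (D.simple k))) i = 0) := by
    intro k hk hkM i hi
    have hlt := hυ.map.1 _ (g.simple_lt k hk)
    have hle := (g.negRoot_iff _ hlt).1 (isNeg_of_not_pos g hlt (hneg k hkM hk))
    have hz : ∀ m < D.rank, m ∉ M → A.a (υ (D.simple k)) m = 0 := fun m hm hmM => by
      rw [hcoord _ (g.simple_lt k hk) m hm hmM, g.a_simple k hk m hm,
        if_neg fun e : m = k => hmM (e ▸ hkM)]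
    rw [simple_eq_sum g hσ.map hlt i hi]
    refine ⟨Finset.sum_nonpos fun m hm => ?_, fun hiJ => Finset.sum_eq_zero fun m hm => ?_⟩
    · by_cases hmM : m ∈ M
      · have hp := ((hM m).1 hmM).2
        exact mul_nonpos_of_nonpos_of_nonneg (hle m) ((g.pos_iff _ hp.1).1 hp i)
      · rw [hz m (Finset.mem_range.1 hm) hmM, zero_mul]
    · by_cases hmM : m ∈ M
      · rw [hMJ m hmM i hi hiJ, mul_zero]
      · rw [hz m (Finset.mem_range.1 hm) hmM, zero_mul]
  have houtυ : ∀ k < D.rank, k ∉ M → ∃ i < D.rank, i ∉ J ∧ A.a (σ (υ (D.simple k))) i < 0 := by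
    intro k hk hkM
    obtain ⟨i, hi, hiJ, hlt'⟩ := hout k hk hkM
    refine ⟨i, hi, hiJ, ?_⟩
    rw [simple_eq_sum g hσ.map (hυ.map.1 _ (g.simple_lt k hk)) i hi, Finset.sum_eq_single k]
    · rw [hcoord _ (g.simple_lt k hk) k hk hkM, g.a_simple k hk k hk, if_pos rfl, one_mul]
      exact hlt'
    · intro m hm hmk
      have hm' := Finset.mem_range.1 hm
      by_cases hmM : m ∈ M
      · rw [hMJ m hmM i hi hiJ, mul_zero]
      · rw [hcoord _ (g.simple_lt k hk) m hm' hmM, g.a_simple k hk m hm', if_neg hmk, zero_mul]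
    · intro hh; exact absurd (Finset.mem_range.2 hk) hh
  have hnN : n * ν ∈ D.monomialSubgroup F := mul_mem hn (WJ_le_monomial g M hν)
  have hd : n₀⁻¹ * (n * ν) ∈ D.diagonalSubgroup F := by
    refine longest_unique h hn₀ hnN hσ₀ hw hprod fun k hk => ?_
    by_cases hkM : k ∈ M
    · exact not_pos_of_nonpos g fun i hi => (hin k hk hkM i hi).1
    · obtain ⟨i, hi, -, hlt⟩ := houtυ k hk hkM
      intro hp
      have := (g.pos_iff _ hp.1).1 hp i
      simp only [Function.comp_apply] at this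
      omega
  refine ⟨hd, fun k hk => ?_⟩
  have heq : σ (υ (D.simple k)) = σ₀ (D.simple k) := by
    have := hσ₀.mul (acts_diag g hd)
    rw [mul_inv_cancel_left] at this
    exact hprod.unique this (g.simple_lt k hk)
  refine ⟨fun hkM => ⟨hσ₀.map.1 _ (g.simple_lt k hk), fun i hi hiJ => ?_⟩, fun hInJ => ?_⟩
  · rw [← heq]
    exact (hin k hk hkM i hi).2 (by simpa using hiJ)
  · by_contra hkM
    obtain ⟨i, hi, hiJ, hlt⟩ := houtυ k hk hkM
    rw [heq, hInJ.2 i hi (by simpa using hiJ)] at hlt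
    omega

theorem exists_spec (h : Std D A) {J : Finset ℕ} (hJ : J ⊆ Finset.range D.rank) {n₀ : GL D.Idx F}
    {σ₀ : ℕ → ℕ} (hn₀ : n₀ ∈ D.monomialSubgroup F) (hσ₀ : Acts h.good n₀ σ₀)
    (hw : ∀ r, D.IsPosRoot r → D.IsNegRoot (σ₀ r)) :
    ∃ n ∈ D.monomialSubgroup F, ∃ σ, Acts h.good n σ ∧ SpecW D J σ := by
  classical
  have g := h.good
  set M : Finset ℕ := (Finset.range D.rank).filter fun k => InJ D A (J : Set ℕ) (σ₀ (D.simple k))
  have hM : ∀ k, k ∈ M ↔ k < D.rank ∧ InJ D A (J : Set ℕ) (σ₀ (D.simple k)) := fun k => by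
    simp [M, Finset.mem_range]
  obtain ⟨ν, hν, υ, hυ, hneg⟩ := exists_big (F := F) h M
  have hνN := WJ_le_monomial g M hν
  obtain ⟨υ', hυ', hυυ'⟩ := acts_inv g hνN hυ
  obtain ⟨ω, hω, hωM⟩ := WJ_acts g hν
  obtain ⟨τ₀, hτ₀, hτσ₀⟩ := acts_inv g hn₀ hσ₀
  have hcoord : ∀ r < D.nroots, ∀ i < D.rank, i ∉ M → A.a (υ r) i = A.a r i := fun r hr i hi hiM => by
    rw [hυ.unique hω hr]; exact hωM r hr i hi hiM
  have hcoord' : ∀ r < D.nroots, ∀ i < D.rank, i ∉ M → A.a (υ' r) i = A.a r i :=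
    fun r hr i hi hiM => by
      rw [← hcoord _ (hυ'.map.1 r hr) i hi hiM, (hυυ' r hr).2]
  refine ⟨n₀ * ν⁻¹, mul_mem hn₀ (inv_mem hνN), σ₀ ∘ υ', hσ₀.mul hυ', ?_⟩
  have hJlt : ∀ j ∈ J, j < D.rank := fun j hj => Finset.mem_range.1 (hJ hj)
  -- the images of the fundamental roots
  have hoff : ∀ k < D.rank, k ∉ M → ¬ D.IsPosRoot (σ₀ (υ' (D.simple k))) := by
    intro k hk hkM
    have hlt := hυ'.map.1 _ (g.simple_lt k hk)
    refine not_pos_of_isNeg g (hw _ ?_)
    by_contra hnp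
    have := (g.negRoot_iff _ hlt).1 (isNeg_of_not_pos g hlt hnp) k
    rw [hcoord' _ (g.simple_lt k hk) k hk hkM, g.a_simple k hk k hk, if_pos rfl] at this
    omega
  have hon : ∀ k < D.rank, k ∈ M → D.IsPosRoot (σ₀ (υ' (D.simple k))) ∧
      ∀ i < D.rank, i ∉ J → A.a (σ₀ (υ' (D.simple k))) i = 0 := by
    intro k hk hkM
    have hs := g.simple_lt k hk
    have hlt := hυ'.map.1 _ hs
    have hz : ∀ m < D.rank, m ∉ M → A.a (υ' (D.simple k)) m = 0 := fun m hm hmM => by
      rw [hcoord' _ hs m hm hmM, g.a_simple k hk m hm, if_neg fun e : m = k => hmM (e ▸ hkM)]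
    have hn : ¬ D.IsPosRoot (υ' (D.simple k)) := fun hp => by
      have := neg_inJ h hυ.map hneg hp hz
      rw [(hυυ' _ hs).2] at this
      exact not_pos_of_isNeg g this (simple_pos g hk)
    refine ⟨?_, fun i hi hiJ => ?_⟩
    · have hp := (pos_or_pos_neg g hlt).resolve_left hn
      have := hw _ hp
      rw [hσ₀.map.map_neg g hlt] at this
      exact (pos_or_pos_neg g (hσ₀.map.1 _ hlt)).resolve_right (not_pos_of_isNeg g this)
    · rw [simple_eq_sum g hσ₀.map hlt i hi]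
      refine Finset.sum_eq_zero fun m hm => ?_
      by_cases hmM : m ∈ M
      · rw [((hM m).1 hmM).2.2 i hi (by simpa using hiJ), mul_zero]
      · rw [hz m (Finset.mem_range.1 hm) hmM, zero_mul]
  -- the preimages of the fundamental roots of `J`
  have honto : ∀ j ∈ J, ∃ k < D.rank, σ₀ (υ' (D.simple k)) = D.simple j := by
    intro j hj
    have hj' := hJlt j hj
    have hsj := simple_pos g hj'
    have hδ := hτ₀.map.1 _ hsj.1
    have hδn : ¬ D.IsPosRoot (τ₀ (D.simple j)) := fun hp => by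
      have := hw _ hp
      rw [(hτσ₀ _ hsj.1).2] at this
      exact not_pos_of_isNeg g this hsj
    have hβ := (pos_or_pos_neg g hδ).resolve_left hδn
    obtain ⟨m, hm, em⟩ := simple_of_ht g hσ₀.map (-1) hβ (fun k hk _ => by
        have hk' := hw _ (simple_pos g hk)
        have hp := (pos_or_pos_neg g (hσ₀.map.1 _ (g.simple_lt k hk))).resolve_left
          (not_pos_of_isNeg g hk')
        have := one_le_htR g hp
        rw [htR_neg g (hσ₀.map.1 _ (g.simple_lt k hk))] at this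
        omega)
      (by rw [hσ₀.map.map_neg g hδ, (hτσ₀ _ hsj.1).2, htR_neg g hsj.1, htR_simple g hj']; ring)
    have hσm : σ₀ (D.simple m) = A.neg (D.simple j) := by
      rw [← em, hσ₀.map.map_neg g hδ, (hτσ₀ _ hsj.1).2]
    have hmM : m ∈ M := (hM m).2 ⟨hm, by
      rw [hσm]
      exact ⟨g.neg_lt _ hsj.1, fun i hi hiJ => by
        rw [g.a_neg _ hsj.1, g.a_simple j hj' i hi,
          if_neg fun e : i = j => hiJ (by simpa [e] using hj), neg_zero]⟩⟩
    have hsm := g.simple_lt m hm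
    have hγ : D.IsPosRoot (υ (A.neg (D.simple m))) := by
      rw [hυ.map.map_neg g hsm]
      exact (pos_or_pos_neg g (hυ.map.1 _ hsm)).resolve_left (hneg m hmM hm)
    have hγlt := g.neg_lt _ hsm
    have hρ : σ₀ (υ' (υ (A.neg (D.simple m)))) = D.simple j := by
      rw [(hυυ' _ hγlt).1, hσ₀.map.map_neg g hsm, hσm, g.neg_neg _ hsj.1]
    obtain ⟨k, hk, ek⟩ := simple_of_ht g (hσ₀.mul hυ').map 1 hγ (fun k hk hk0 => by
        rw [one_mul]
        refine one_le_htR g (hon k hk ?_).1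
        by_contra hkM
        refine hk0 ?_
        rw [hcoord _ hγlt k hk hkM, g.a_neg _ hsm, g.a_simple m hm k hk,
          if_neg fun e : k = m => hkM (e ▸ hmM), neg_zero])
      (by rw [one_mul, Function.comp_apply, hρ, htR_simple g hj'])
    exact ⟨k, hk, by rw [← ek]; exact hρ⟩
  refine ⟨honto, fun k hk hp => ?_⟩
  have hkM : k ∈ M := by
    by_contra hkM
    exact hoff k hk hkM hp
  -- a positive root supported on `J`, pulled back
  by_contra hcon
  push Not at hcon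
  have hσ := hσ₀.mul hυ'
  obtain ⟨τ, hτ, hτσ⟩ := acts_inv g (mul_mem hn₀ (inv_mem hνN)) hσ
  have h1 := simple_eq_sum g hτ.map hp.1 k hk
  simp only [Function.comp_apply] at h1 hcon
  rw [show τ (σ₀ (υ' (D.simple k))) = D.simple k from (hτσ _ (g.simple_lt k hk)).1,
    g.a_simple k hk k hk, if_pos rfl, Finset.sum_eq_zero] at h1
  · omega
  intro l hl
  have hl' := Finset.mem_range.1 hl
  by_cases hlJ : l ∈ J
  · obtain ⟨m, hm, em⟩ := honto l hlJ
    rw [← em, show τ (σ₀ (υ' (D.simple m))) = D.simple m from (hτσ _ (g.simple_lt m hm)).1,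
      g.a_simple m hm k hk, if_neg fun e : k = m => hcon l hlJ (by rw [e]; exact em), mul_zero]
  · rw [(hon k hk hkM).2 l hl' hlJ, zero_mul]

theorem spec_unique (h : Std D A) {J : Finset ℕ} (hJ : J ⊆ Finset.range D.rank) {n n' n₀ : GL D.Idx F}
    {σ σ' σ₀ : ℕ → ℕ} (hn : n ∈ D.monomialSubgroup F) (hσ : Acts h.good n σ) (hs : SpecW D J σ)
    (hn' : n' ∈ D.monomialSubgroup F) (hσ' : Acts h.good n' σ') (hs' : SpecW D J σ')
    (hn₀ : n₀ ∈ D.monomialSubgroup F) (hσ₀ : Acts h.good n₀ σ₀)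
    (hw : ∀ r, D.IsPosRoot r → D.IsNegRoot (σ₀ r)) {r : ℕ} (hr : r < D.nroots) : σ r = σ' r := by
  classical
  have g := h.good
  set M : Finset ℕ := (Finset.range D.rank).filter fun k => D.IsPosRoot (σ (D.simple k))
  set M' : Finset ℕ := (Finset.range D.rank).filter fun k => D.IsPosRoot (σ' (D.simple k))
  have hM : ∀ k, k ∈ M ↔ k < D.rank ∧ D.IsPosRoot (σ (D.simple k)) := fun k => by simp [M]
  have hM' : ∀ k, k ∈ M' ↔ k < D.rank ∧ D.IsPosRoot (σ' (D.simple k)) := fun k => by simp [M']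
  obtain ⟨ν, hν, υ, hυ, hneg⟩ := exists_big (F := F) h M
  obtain ⟨h1, h2⟩ := spec_longest h hJ hn hσ hs hn₀ hσ₀ hw hM hν hυ hneg
  obtain ⟨ν', hν', υ', hυ', hneg'⟩ := exists_big (F := F) h M'
  obtain ⟨-, h2'⟩ := spec_longest h hJ hn' hσ' hs' hn₀ hσ₀ hw hM' hν' hυ' hneg'
  have hMM : M' = M := by
    ext k
    constructor <;> intro hk
    · have hk' := ((hM' k).1 hk).1
      exact (h2 k hk').2 ((h2' k hk').1 hk)
    · have hk' := ((hM k).1 hk).1
      exact (h2' k hk').2 ((h2 k hk').1 hk)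
  have hM'' : ∀ k, k ∈ M ↔ k < D.rank ∧ D.IsPosRoot (σ' (D.simple k)) := fun k => by
    rw [← hMM]; exact hM' k
  obtain ⟨h1', -⟩ := spec_longest h hJ hn' hσ' hs' hn₀ hσ₀ hw hM'' hν hυ hneg
  have hd := mul_mem (inv_mem h1) h1'
  rw [show (n₀⁻¹ * (n * ν))⁻¹ * (n₀⁻¹ * (n' * ν)) = ν⁻¹ * (n⁻¹ * n') * ν by group] at hd
  rw [diagonalSubgroup_eq g] at hd
  obtain ⟨c, hc⟩ := hd
  obtain ⟨d, hd⟩ := monomial_conj_tor g (WJ_le_monomial g M hν) c
  rw [hc, show ν * (ν⁻¹ * (n⁻¹ * n') * ν) * ν⁻¹ = n⁻¹ * n' by group] at hd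
  have := hσ.mul (acts_tor g d)
  rw [← hd, mul_inv_cancel_left] at this
  exact this.unique hσ' hr

variable (D A F) in
/-- the value table of an element of the Weyl group of a given shape -/
def GoodF (g : Good D A) (J L : Finset ℕ) (f : Fin D.nroots → Fin D.nroots) : Prop :=
  ∃ n ∈ D.monomialSubgroup F, ∃ σ, Acts (F := F) g n σ ∧ (∀ r, (f r).val = σ r) ∧ GoodW D J L σ

theorem neg_one_powerset_sandwich {M S N : Finset ℕ} (hMS : M ⊆ S) (hS : S ⊆ N) :
    ∑ L ∈ N.powerset, (if M ⊆ L ∧ L ⊆ S then (-1 : ℤ) ^ L.card else 0) =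
      if S = M then (-1 : ℤ) ^ M.card else 0 := by
  classical
  rw [← Finset.sum_filter]
  have hmap : ∑ L ∈ N.powerset.filter (fun L => M ⊆ L ∧ L ⊆ S), (-1 : ℤ) ^ L.card =
      ∑ K ∈ (S \ M).powerset, (-1 : ℤ) ^ M.card * (-1 : ℤ) ^ K.card := by
    refine Finset.sum_nbij' (fun L => L \ M) (fun K => M ∪ K) (fun L hL => ?_) (fun K hK => ?_)
      (fun L hL => ?_) (fun K hK => ?_) (fun L hL => ?_)
    · obtain ⟨-, -, h2⟩ := Finset.mem_filter.1 hL
      exact Finset.mem_powerset.2 (Finset.sdiff_subset_sdiff h2 le_rfl)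
    · have := (Finset.mem_powerset.1 hK).trans Finset.sdiff_subset
      exact Finset.mem_filter.2 ⟨Finset.mem_powerset.2 ((Finset.union_subset hMS this).trans hS),
        Finset.subset_union_left, Finset.union_subset hMS this⟩
    · exact Finset.union_sdiff_of_subset (Finset.mem_filter.1 hL).2.1
    · exact Finset.union_sdiff_cancel_left
        (Finset.disjoint_of_subset_right (Finset.mem_powerset.1 hK) Finset.disjoint_sdiff)
    · rw [← pow_add, add_comm, Finset.card_sdiff_add_card_eq_card (Finset.mem_filter.1 hL).2.1]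
  rw [hmap, ← Finset.mul_sum, Finset.sum_powerset_neg_one_pow_card]
  by_cases hSM : S = M
  · subst hSM; simp
  · rw [if_neg hSM, if_neg, mul_zero]
    intro h0
    exact hSM (Finset.Subset.antisymm (Finset.sdiff_eq_empty_iff_subset.1 h0) hMS)

open Classical in
theorem card_goodF_alt (h : Std D A) {J : Finset ℕ} (hJ : J ⊆ Finset.range D.rank) :
    ∑ L ∈ (Finset.range D.rank).powerset,
      (-1 : ℤ) ^ L.card * (Nat.card {f // GoodF D A F h.good J L f} : ℤ) = (-1) ^ J.card := by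
  have g := h.good
  obtain ⟨n₀, hn₀, σ₀, hσ₀, hw⟩ := exists_longest (F := F) g
  let SP : (Fin D.nroots → Fin D.nroots) → Prop := fun f =>
    ∃ n ∈ D.monomialSubgroup F, ∃ σ, Acts (F := F) g n σ ∧ (∀ r, (f r).val = σ r) ∧ SpecW D J σ
  have key : ∀ f, (∑ L ∈ (Finset.range D.rank).powerset,
      if GoodF D A F g J L f then (-1 : ℤ) ^ L.card else 0) = if SP f then (-1) ^ J.card else 0 := by
    intro f
    by_cases hex : ∃ n ∈ D.monomialSubgroup F, ∃ σ, Acts (F := F) g n σ ∧ ∀ r, (f r).val = σ r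
    swap
    · rw [if_neg fun ⟨n, hn, σ, hσ, hf, _⟩ => hex ⟨n, hn, σ, hσ, hf⟩]
      exact Finset.sum_eq_zero fun L _ => if_neg fun ⟨n, hn, σ, hσ, hf, _⟩ => hex ⟨n, hn, σ, hσ, hf⟩
    obtain ⟨n, hn, σ, hσ, hf⟩ := hex
    have hsame : ∀ {n' : GL D.Idx F} {σ' : ℕ → ℕ}, Acts g n' σ' → (∀ r, (f r).val = σ' r) →
        ∀ k < D.rank, σ' (D.simple k) = σ (D.simple k) := fun _ hf' k hk => by
      rw [← hf' ⟨_, g.simple_lt k hk⟩, hf]
    by_cases hall : ∀ j ∈ J, ∃ k < D.rank, σ (D.simple k) = D.simple j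
    swap
    · rw [if_neg]
      swap
      · rintro ⟨n', hn', σ', hσ', hf', hs⟩
        refine hall fun j hj => ?_
        obtain ⟨k, hk, e⟩ := hs.1 j hj
        exact ⟨k, hk, by rw [← hsame hσ' hf' k hk]; exact e⟩
      refine Finset.sum_eq_zero fun L hL => if_neg ?_
      rintro ⟨n', hn', σ', hσ', hf', hgd⟩
      refine hall fun j hj => ?_
      obtain ⟨k, hk, e⟩ := hgd.2 j hj
      have hk' := Finset.mem_range.1 (Finset.mem_powerset.1 hL hk)
      exact ⟨k, hk', by rw [← hsame hσ' hf' k hk']; exact e⟩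
    set S := (Finset.range D.rank).filter fun k => D.IsPosRoot (σ (D.simple k))
    set M := (Finset.range D.rank).filter fun k => ∃ j ∈ J, σ (D.simple k) = D.simple j
    have hMS : M ⊆ S := fun k hk => by
      obtain ⟨hk', j, hj, e⟩ := Finset.mem_filter.1 hk
      exact Finset.mem_filter.2 ⟨hk', by rw [e]; exact simple_pos g (Finset.mem_range.1 (hJ hj))⟩
    have hiff : ∀ L ∈ (Finset.range D.rank).powerset,
        (GoodF D A F g J L f ↔ M ⊆ L ∧ L ⊆ S) := by
      intro L hL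
      have hLr := Finset.mem_powerset.1 hL
      constructor
      · rintro ⟨n', hn', σ', hσ', hf', hgd⟩
        refine ⟨fun k hk => ?_, fun l hl => Finset.mem_filter.2 ⟨hLr hl, ?_⟩⟩
        · obtain ⟨hk', j, hj, e⟩ := Finset.mem_filter.1 hk
          obtain ⟨l, hl, e'⟩ := hgd.2 j hj
          have hl' := Finset.mem_range.1 (hLr hl)
          have hk'' := Finset.mem_range.1 hk'
          rw [hsame hσ' hf' l hl', ← e] at e'
          rwa [← simple_index_inj g hl' hk'' (hσ.inj (g.simple_lt l hl') (g.simple_lt k hk'') e')]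
        · rw [← hsame hσ' hf' l (Finset.mem_range.1 (hLr hl))]
          exact hgd.1 l hl
      · rintro ⟨h1, h2⟩
        refine ⟨n, hn, σ, hσ, hf, fun l hl => (Finset.mem_filter.1 (h2 hl)).2, fun j hj => ?_⟩
        obtain ⟨k, hk, e⟩ := hall j hj
        exact ⟨k, h1 (Finset.mem_filter.2 ⟨Finset.mem_range.2 hk, j, hj, e⟩), e⟩
    rw [Finset.sum_congr rfl fun L hL => by rw [if_congr (hiff L hL) rfl rfl],
      neg_one_powerset_sandwich hMS (Finset.filter_subset _ _)]
    have hcard : M.card = J.card := by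
      refine Finset.card_bij (fun k hk => (Finset.mem_filter.1 hk).2.choose) (fun k hk =>
        (Finset.mem_filter.1 hk).2.choose_spec.1) (fun a ha b hb e => ?_) (fun j hj => ?_)
      · have e1 := (Finset.mem_filter.1 ha).2.choose_spec.2
        have e2 := (Finset.mem_filter.1 hb).2.choose_spec.2
        rw [e, ← e2] at e1
        have ha' := Finset.mem_range.1 (Finset.mem_filter.1 ha).1
        have hb' := Finset.mem_range.1 (Finset.mem_filter.1 hb).1
        exact simple_index_inj g ha' hb' (hσ.inj (g.simple_lt a ha') (g.simple_lt b hb') e1)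
      · obtain ⟨k, hk, e⟩ := hall j hj
        have hkM : k ∈ M := Finset.mem_filter.2 ⟨Finset.mem_range.2 hk, j, hj, e⟩
        refine ⟨k, hkM, ?_⟩
        have e1 := (Finset.mem_filter.1 hkM).2.choose_spec
        exact simple_index_inj g (Finset.mem_range.1 (hJ e1.1)) (Finset.mem_range.1 (hJ hj))
          (e1.2.symm.trans e)
    rw [hcard]
    refine if_congr ⟨fun hSM => ⟨n, hn, σ, hσ, hf, hall, fun k hk hp => ?_⟩, ?_⟩ rfl rfl
    · have : k ∈ M := hSM ▸ (Finset.mem_filter.2 ⟨Finset.mem_range.2 hk, hp⟩ : k ∈ S)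
      exact (Finset.mem_filter.1 this).2
    · rintro ⟨n', hn', σ', hσ', hf', hs⟩
      refine Finset.Subset.antisymm (fun k hk => ?_) hMS
      obtain ⟨hk', hp⟩ := Finset.mem_filter.1 hk
      have hk'' := Finset.mem_range.1 hk'
      obtain ⟨j, hj, e⟩ := hs.2 k hk'' (by rw [hsame hσ' hf' k hk'']; exact hp)
      exact Finset.mem_filter.2 ⟨hk', j, hj, by rw [← hsame hσ' hf' k hk'']; exact e⟩
  calc ∑ L ∈ (Finset.range D.rank).powerset,
      (-1 : ℤ) ^ L.card * (Nat.card {f // GoodF D A F g J L f} : ℤ)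
      = ∑ L ∈ (Finset.range D.rank).powerset, ∑ f,
          if GoodF D A F g J L f then (-1 : ℤ) ^ L.card else 0 := Finset.sum_congr rfl fun L _ => by
        rw [Nat.card_eq_fintype_card, Fintype.card_subtype, ← Finset.sum_filter, Finset.sum_const,
          nsmul_eq_mul, mul_comm]
    _ = ∑ f, if SP f then (-1 : ℤ) ^ J.card else 0 := by
        rw [Finset.sum_comm]; exact Finset.sum_congr rfl fun f _ => key f
    _ = (-1) ^ J.card := by
        obtain ⟨n, hn, σ, hσ, hs⟩ := exists_spec h hJ hn₀ hσ₀ hw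
        rw [Finset.sum_eq_single (fun r : Fin D.nroots => (⟨σ r, hσ.map.1 r r.isLt⟩ : Fin D.nroots))]
        · exact if_pos ⟨n, hn, σ, hσ, fun _ => rfl, hs⟩
        · intro f _ hne
          refine if_neg ?_
          rintro ⟨n', hn', σ', hσ', hf', hs'⟩
          refine hne (funext fun r => Fin.ext ?_)
          rw [hf']
          exact spec_unique h hJ hn' hσ' hs' hn hσ hs hn₀ hσ₀ hw r.isLt
        · exact fun h' => absurd (Finset.mem_univ _) h'

end CfsgLib.Chev
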