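/-
The value of the Steinberg character at an element of order prime to `p`.
-/
import Cfsg.Agent.Lib.Chev.StSigns
import Cfsg.Agent.Lib.Chev.BorelTits
import Cfsg.Agent.Lib.Coprime.SchurZassenhaus

set_option autoImplicit false

namespace CfsgLib.Chev.StVal

open Cfsg Cfsg.Lie

/-- counting the fixed points over a coset of a normalised subgroup -/
theorem sum_fix {G X : Type*} [Group G] [MulAction G X] [Finite X] (U : Subgroup G) [Fintype U] (g : G)
    (hnorm : ∀ u ∈ U, g⁻¹ * u * g ∈ U) :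
    ∑ u : U, Nat.card {x : X // (g * (u : G)) • x = x} =
      Nat.card U * Nat.card {ω : MulAction.orbitRel.Quotient U X //
        g⁻¹ • ω.out ∈ MulAction.orbit U ω.out} := by
  classical
  haveI := Fintype.ofFinite X
  haveI := Fintype.ofFinite (MulAction.orbitRel.Quotient U X)
  have e1 : ∑ u : U, Nat.card {x : X // (g * (u : G)) • x = x} =
      ∑ x : X, Nat.card {u : U // u • x = g⁻¹ • x} := by
    simp only [Nat.card_eq_fintype_card, Fintype.card_subtype, Finset.card_filter]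
    rw [Finset.sum_comm]
    refine Finset.sum_congr rfl fun x _ => Finset.sum_congr rfl fun u _ => if_congr ?_ rfl rfl
    rw [mul_smul, eq_inv_smul_iff]
    rfl
  rw [e1, ← Finset.sum_fiberwise Finset.univ (fun x => (Quotient.mk'' x : MulAction.orbitRel.Quotient U X))]
  have key : ∀ ω : MulAction.orbitRel.Quotient U X,
      (∑ x ∈ Finset.univ.filter (fun x => (Quotient.mk'' x : MulAction.orbitRel.Quotient U X) = ω),
        Nat.card {u : U // u • x = g⁻¹ • x}) =
      if g⁻¹ • ω.out ∈ MulAction.orbit U ω.out then Nat.card U else 0 := by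
    intro ω
    set x₀ := ω.out
    have hfib : ∀ x, (Quotient.mk'' x : MulAction.orbitRel.Quotient U X) = ω ↔
        x ∈ MulAction.orbit U x₀ := fun x => by
      rw [← Quotient.out_eq' ω, Quotient.eq'', MulAction.orbitRel_apply]
    by_cases h0 : g⁻¹ • x₀ ∈ MulAction.orbit U x₀
    swap
    · rw [if_neg h0]
      refine Finset.sum_eq_zero fun x hx => ?_
      rw [Finset.mem_filter, hfib] at hx
      obtain ⟨v, rfl⟩ := hx.2
      rw [Nat.card_eq_zero]
      refine Or.inl ⟨fun ⟨u, hu⟩ => h0 ?_⟩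
      have hw : g⁻¹ * ((v : G)⁻¹) * g ∈ U := hnorm _ (inv_mem v.2)
      refine ⟨⟨_, mul_mem (mul_mem hw u.2) v.2⟩, ?_⟩
      show (g⁻¹ * (v : G)⁻¹ * g * u * v) • x₀ = g⁻¹ • x₀
      have hu' : (u : G) • (v : G) • x₀ = g⁻¹ • (v : G) • x₀ := hu
      rw [mul_smul, mul_smul, hu', ← mul_smul, ← mul_smul]
      congr 1
      group
    rw [if_pos h0]
    obtain ⟨u₀, hu₀⟩ := h0
    have hstab : ∀ x ∈ MulAction.orbit U x₀, Nat.card {u : U // u • x = g⁻¹ • x} =
        Nat.card (MulAction.stabilizer U x) := by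
      rintro x ⟨v, rfl⟩
      have hw : g⁻¹ * (v : G) * g ∈ U := hnorm _ v.2
      set w : U := ⟨_, hw⟩ * u₀ * v⁻¹
      have hwx : w • (v • x₀) = g⁻¹ • (v • x₀) := by
        have hu₀' : (u₀ : G) • x₀ = g⁻¹ • x₀ := hu₀
        show ((g⁻¹ * (v : G) * g) * u₀ * (v : G)⁻¹) • (v : G) • x₀ = g⁻¹ • (v : G) • x₀
        rw [← mul_smul, inv_mul_cancel_right, mul_smul, hu₀', ← mul_smul, ← mul_smul]
        congr 1
        group
      refine Nat.card_congr ((Equiv.mulLeft w⁻¹).subtypeEquiv fun u => ?_)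
      show u • (v • x₀) = _ ↔ w⁻¹ * u ∈ MulAction.stabilizer U (v • x₀)
      rw [MulAction.mem_stabilizer_iff, mul_smul, inv_smul_eq_iff, hwx]
    have hconst : ∀ x ∈ MulAction.orbit U x₀,
        Nat.card (MulAction.orbit U x₀) * Nat.card (MulAction.stabilizer U x) = Nat.card U := by
      intro x hx
      rw [← MulAction.orbit_eq_iff.2 hx, ← Nat.card_prod]
      exact Nat.card_congr (MulAction.orbitProdStabilizerEquivGroup U x)
    have hpos : 0 < Nat.card (MulAction.orbit U x₀) := by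
      haveI : Nonempty (MulAction.orbit U x₀) := ⟨⟨x₀, MulAction.mem_orbit_self _⟩⟩
      exact Nat.card_pos
    refine Nat.eq_of_mul_eq_mul_left hpos ?_
    rw [Finset.mul_sum, Finset.sum_congr rfl (g := fun _ => Nat.card U) fun x hx => by
      rw [Finset.mem_filter, hfib] at hx
      rw [hstab x hx.2]
      exact hconst x hx.2]
    rw [Finset.sum_const, smul_eq_mul, Nat.card_eq_fintype_card (α := MulAction.orbit U x₀),
      ← Set.toFinset_card]
    congr 2
    ext x
    simp [hfib]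
  rw [Finset.sum_congr rfl fun ω _ => key ω, ← Finset.sum_filter, Finset.sum_const, smul_eq_mul,
    mul_comm, Nat.card_eq_fintype_card (α := {ω : MulAction.orbitRel.Quotient U X // _}),
    Fintype.card_subtype]

variable {D : ChevalleyDatum} {A : Aux} {F : Type*} [Field F]

/-- a fundamental monomial element lies in `P_J` only for `j ∈ J` -/
theorem mem_J_of_nS_mem (h : Para D A) {J : Set ℕ} {i : ℕ} (hi : i < D.rank)
    (hm : nS F h.std.good i ∈ D.parabolicSubgroup F J) : i ∈ J := by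
  have g := h.std.good
  by_contra hiJ
  have hout : OutJ D A J (D.simple i) := ⟨simple_pos g hi, i, hi, hiJ, by
    rw [g.a_simple i hi i hi, if_pos rfl]; omega⟩
  have h1 := (Subgroup.mem_normalizer_iff.1 (parabolic_le_normalizer h J hm)
    (xG g (D.simple i) 1)).1 (xG_mem_UP g hout 1)
  rw [nS_conj_xG g hi hout.1.1, refl_simple g hi, mul_one] at h1
  have h2 : xG g (A.neg (D.simple i)) (A.eta i (D.simple i) : F) ∈ D.borelSubgroup F :=
    pos_le_borel ((UP_le fun r t hr => xG_mem_posUnipotent g hr.1 t) h1)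
  have hn : D.IsNegRoot (A.neg (D.simple i)) :=
    isNeg_of_not_pos g (g.neg_lt _ hout.1.1) (not_pos_neg g hout.1)
  have h3 := Subgroup.mem_bot.1 ((borel_inf_negUnipotent h.std).le
    (Subgroup.mem_inf.2 ⟨h2, xG_mem_negUnipotent g hn _⟩))
  exact eta_ne_zero g hi hout.1.1 (xG_eq_one h.std (g.neg_lt _ hout.1.1) h3)

theorem parabolic_le_group (g : Good D A) (J : Set ℕ) : D.parabolicSubgroup F J ≤ D.group F := by
  rw [parabolic_eq g]
  refine sup_le (borel_le_group g) ((Subgroup.closure_le _).2 ?_)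
  rintro y ⟨j, _, _, rfl⟩
  exact nS_mem_group g j

theorem radical_le_parabolic (h : Para D A) (J : Finset ℕ) :
    D.unipotentRadical F (J : Set ℕ) ≤ D.parabolicSubgroup F (J : Set ℕ) :=
  (radical_le_posUnipotent h J).trans (pos_le_borel.trans (borel_le_parabolic _))

theorem diag_mem_conj (g : Good D A) {n : GL D.Idx F} (hn : n ∈ D.monomialSubgroup F)
    {K : Subgroup (GL D.Idx F)} (hK : D.diagonalSubgroup F ≤ K) {t : GL D.Idx F}
    (ht : t ∈ D.diagonalSubgroup F) : t ∈ K.map (MulAut.conj n).toMonoidHom := by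
  rw [diagonalSubgroup_eq g] at ht
  obtain ⟨c, rfl⟩ := ht
  obtain ⟨d, hd⟩ := monomial_conj_tor g (inv_mem hn) c
  rw [inv_inv] at hd
  refine ⟨tor D A d, hK (by rw [diagonalSubgroup_eq g]; exact ⟨d, rfl⟩), ?_⟩
  simp only [MulEquiv.coe_toMonoidHom, MulAut.conj_apply, ← hd]
  group

/-- for a good element the whole parabolic orbit is an orbit of the radical -/
theorem para_orbit (h : Para D A) {J L : Finset ℕ} (hL : L ⊆ Finset.range D.rank) {n : GL D.Idx F}
    (hn : n ∈ D.monomialSubgroup F) {σ : ℕ → ℕ} (hσ : Acts h.std.good n σ) (hg : GoodW D J L σ)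
    {y : GL D.Idx F} (hy : y ∈ D.parabolicSubgroup F (J : Set ℕ)) :
    ∃ u ∈ D.unipotentRadical F (J : Set ℕ), n⁻¹ * u⁻¹ * y * n ∈ D.parabolicSubgroup F (L : Set ℕ) := by
  have g := h.std.good
  obtain ⟨τ, hτ, hτσ⟩ := acts_inv g hn hσ
  set S := D.diagonalSubgroup F ⊔ UP F g (InJ D A (J : Set ℕ))
  have hS : S ≤ (D.parabolicSubgroup F (L : Set ℕ)).map (MulAut.conj n).toMonoidHom := by
    refine sup_le (fun t ht => diag_mem_conj g hn
      (diagonal_le_borel.trans (borel_le_parabolic _)) ht) (UP_le fun r t hr => ?_)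
    obtain ⟨k, hk, e⟩ := hτ.conj r hr.1
    refine ⟨_, ?_, show (MulAut.conj n).toMonoidHom (n⁻¹ * xG g r t * n⁻¹⁻¹) = _ by
      simp only [MulEquiv.coe_toMonoidHom, MulAut.conj_apply]; group⟩
    rw [SetLike.mem_coe, e]
    refine inJ_mem_parabolic h ⟨hτ.map.1 r hr.1, fun i hi hiL => ?_⟩ _
    rw [simple_eq_sum g hτ.map hr.1 i hi]
    refine Finset.sum_eq_zero fun m hm => ?_
    have hm' := Finset.mem_range.1 hm
    by_cases hmJ : m ∈ J
    · obtain ⟨l, hl, el⟩ := hg.2 m hmJ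
      have hl' := Finset.mem_range.1 (hL hl)
      rw [← el, (hτσ _ (g.simple_lt l hl')).1, g.a_simple l hl' i hi,
        if_neg (fun e : i = l => hiL (e ▸ hl)), mul_zero]
    · rw [hr.2 m hm' (by simpa using hmJ), zero_mul]
  have hle : D.parabolicSubgroup F (J : Set ℕ) ≤ UP F g (OutJ D A (J : Set ℕ)) ⊔ S := by
    rw [parabolic_gen h]
    refine sup_le (le_sup_left.trans le_sup_right) (UP_le fun r t hr => ?_)
    by_cases hin : InJ D A (J : Set ℕ) r
    · exact (le_sup_right : S ≤ _) ((le_sup_right : UP F g (InJ D A (J : Set ℕ)) ≤ S) (xG_mem_UP g hin t))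
    · exact (le_sup_left : UP F g (OutJ D A (J : Set ℕ)) ≤ _) (xG_mem_UP g
        ((outJ_iff h).2 ⟨hr.resolve_right hin, fun hc => hin ((inRootSub_iff h).1 hc)⟩) t)
  have hSP : S ≤ D.parabolicSubgroup F (J : Set ℕ) :=
    sup_le (diagonal_le_borel.trans (borel_le_parabolic _)) (UP_le fun r t hr => inJ_mem_parabolic h hr t)
  have hy' : y ∈ ((UP F g (OutJ D A (J : Set ℕ)) ⊔ S : Subgroup _) : Set (GL D.Idx F)) := hle hy
  rw [Subgroup.coe_mul_of_right_le_normalizer_left _ _ (hSP.trans (parabolic_le_normalizer h _))] at hy'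
  obtain ⟨u, hu, s, hs, rfl⟩ := hy'
  refine ⟨u, by rw [radical_eq h]; exact hu, ?_⟩
  obtain ⟨q, hq, e⟩ := hS hs
  have e' : n * q * n⁻¹ = s := e
  rw [show n⁻¹ * u⁻¹ * (u * s) * n = n⁻¹ * s * n by group, ← e',
    show n⁻¹ * (n * q * n⁻¹) * n = q by group]
  exact hq

/-- a shortest representative of a double coset -/
theorem exists_short (h : Para D A) {J L : Finset ℕ} (hJ : J ⊆ Finset.range D.rank)
    (hL : L ⊆ Finset.range D.rank) {y : GL D.Idx F} (hy : y ∈ D.group F) :
    ∃ p ∈ D.parabolicSubgroup F (J : Set ℕ), ∃ n ∈ D.monomialSubgroup F,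
      n⁻¹ * p⁻¹ * y ∈ D.parabolicSubgroup F (L : Set ℕ) ∧ ∃ σ τ, Acts h.std.good n σ ∧
        Acts h.std.good n⁻¹ τ ∧ (∀ l ∈ L, D.IsPosRoot (σ (D.simple l))) ∧
        ∀ j ∈ J, D.IsPosRoot (τ (D.simple j)) := by
  classical
  have g := h.std.good
  let P : ℕ → Prop := fun c => ∃ p ∈ D.parabolicSubgroup F (J : Set ℕ),
    ∃ n ∈ D.monomialSubgroup F, ∃ σ, Acts g n σ ∧
      n⁻¹ * p⁻¹ * y ∈ D.parabolicSubgroup F (L : Set ℕ) ∧
      ((Finset.range D.nroots).filter fun r => D.IsPosRoot r ∧ ¬ D.IsPosRoot (σ r)).card = c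
  have hP : ∃ c, P c := by
    obtain ⟨b, hb, n, hn, b', hb', e⟩ := bruhat h.std hy
    obtain ⟨σ, hσ⟩ := exists_acts g hn
    refine ⟨_, b, borel_le_parabolic _ hb, n, hn, σ, hσ, ?_, rfl⟩
    rw [e, show n⁻¹ * b⁻¹ * (b * n * b') = b' by group]
    exact borel_le_parabolic _ hb'
  obtain ⟨p, hp, n, hn, σ, hσ, hmem, hc⟩ := Nat.find_spec hP
  obtain ⟨τ, hτ, hτσ⟩ := acts_inv g hn hσ
  refine ⟨p, hp, n, hn, hmem, σ, τ, hσ, hτ, fun l hl => ?_, fun j hj => ?_⟩
  · have hl' := Finset.mem_range.1 (hL hl)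
    have hsl := simple_pos g hl'
    by_contra hneg
    refine Nat.find_min hP ?_ ⟨p, hp, n * nS F g l, mul_mem hn (nS_mem_monomial g hl'),
      σ ∘ A.refl l, hσ.mul (acts_nS g hl'), ?_, rfl⟩
    · rw [← hc]
      refine Grade.card_refl_lt g hl' (fun r => ¬ D.IsPosRoot r) hneg ?_
      rw [hσ.map.map_neg g hsl.1, not_not]
      exact (pos_or_pos_neg g (hσ.map.1 _ hsl.1)).resolve_left hneg
    · rw [show (n * nS F g l)⁻¹ * p⁻¹ * y = (nS F g l)⁻¹ * (n⁻¹ * p⁻¹ * y) by group]
      exact mul_mem (inv_mem (nS_mem_parabolic g hl' (Finset.mem_coe.2 hl))) hmem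
  · have hj' := Finset.mem_range.1 (hJ hj)
    have hsj := simple_pos g hj'
    by_contra hneg
    have hlt := hτ.map.1 _ hsj.1
    refine Nat.find_min hP ?_ ⟨p * (nS F g j)⁻¹, mul_mem hp (inv_mem (nS_mem_parabolic g hj'
      (Finset.mem_coe.2 hj))), nS F g j * n, mul_mem (nS_mem_monomial g hj') hn,
      A.refl j ∘ σ, (acts_nS g hj').mul hσ, ?_, rfl⟩
    · rw [← hc]
      refine Finset.card_lt_card ⟨fun r hr => ?_, fun hss => ?_⟩
      · obtain ⟨hr1, hr2, hr3⟩ := Finset.mem_filter.1 hr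
        refine Finset.mem_filter.2 ⟨hr1, hr2, fun hσr => hr3 (refl_pos g hj' hσr fun e => hneg ?_).1⟩
        rw [← e, (hτσ r hr2.1).1]
        exact hr2
      · have h0 := (pos_or_pos_neg g hlt).resolve_left hneg
        have hmem' : A.neg (τ (D.simple j)) ∈ (Finset.range D.nroots).filter fun r =>
            D.IsPosRoot r ∧ ¬ D.IsPosRoot (σ r) := by
          refine Finset.mem_filter.2 ⟨Finset.mem_range.2 h0.1, h0, ?_⟩
          rw [hσ.map.map_neg g hlt, (hτσ _ hsj.1).2]
          exact not_pos_neg g hsj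
        refine (Finset.mem_filter.1 (hss hmem')).2.2 ?_
        rw [Function.comp_apply, hσ.map.map_neg g hlt, (hτσ _ hsj.1).2, g.refl_neg j hj' _ hsj.1,
          refl_simple g hj', g.neg_neg _ hsj.1]
        exact hsj
    · rw [show (nS F g j * n)⁻¹ * (p * (nS F g j)⁻¹)⁻¹ * y = n⁻¹ * p⁻¹ * y by group]
      exact hmem

variable [Fintype F]

/-- `g` lies in no conjugate of a smaller parabolic subgroup -/
def Elliptic (D : ChevalleyDatum) (F : Type*) [Field F] (J : Finset ℕ) (g : ↥(D.group F)) : Prop :=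
  ∀ M : Finset ℕ, M ⊂ J → ∀ y : ↥(D.group F), y * g * y⁻¹ ∉ D.parabolicIn F M

/-- an orbit of the radical fixed by an elliptic element comes from a good element -/
theorem good_of_fixed (h : Para D A) {J L : Finset ℕ} (hJ : J ⊆ Finset.range D.rank)
    (hL : L ⊆ Finset.range D.rank) {x : ↥(D.group F)}
    (hxJ : (x : GL D.Idx F) ∈ D.parabolicSubgroup F (J : Set ℕ)) (hel : Elliptic D F J x)
    {y u : GL D.Idx F} (hy : y ∈ D.group F) (hu : u ∈ D.unipotentRadical F (J : Set ℕ))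
    (hfix : ((x : GL D.Idx F)⁻¹ * y)⁻¹ * (u * y) ∈ D.parabolicSubgroup F (L : Set ℕ)) :
    ∃ n ∈ D.monomialSubgroup F, ∃ σ, Acts h.std.good n σ ∧ GoodW D J L σ ∧
      ∃ v ∈ D.unipotentRadical F (J : Set ℕ), (v * n)⁻¹ * y ∈ D.parabolicSubgroup F (L : Set ℕ) := by
  classical
  have g := h.std.good
  obtain ⟨p, hp, n, hn, hmem, σ, τ, hσ, hτ, hposL, hposJ⟩ := exists_short h hJ hL hy
  set S := D.unipotentRadical F (J : Set ℕ) ⊔
    (D.parabolicSubgroup F (J : Set ℕ) ⊓
      (D.parabolicSubgroup F (L : Set ℕ)).map (MulAut.conj n).toMonoidHom) with hSdef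
  have hSJ : S ≤ D.parabolicSubgroup F (J : Set ℕ) := sup_le (radical_le_parabolic h J) inf_le_left
  have hBS : D.borelSubgroup F ≤ S := by
    refine sup_le ?_ ?_
    · rw [posUnipotent_eq g]
      refine (Subgroup.closure_le _).2 ?_
      rintro z ⟨r, t, hr, rfl⟩
      by_cases hin : InJ D A (J : Set ℕ) r
      · refine (le_sup_right : _ ≤ S) (Subgroup.mem_inf.2 ⟨borel_le_parabolic _ (xG_mem_borel g hr t), ?_⟩)
        obtain ⟨k, hk, e⟩ := hτ.conj r hr.1
        refine ⟨_, ?_, show (MulAut.conj n).toMonoidHom (n⁻¹ * xG g r t * n⁻¹⁻¹) = _ by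
          simp only [MulEquiv.coe_toMonoidHom, MulAut.conj_apply]; group⟩
        rw [SetLike.mem_coe, e]
        refine borel_le_parabolic _ (xG_mem_borel g ((g.pos_iff _ (hτ.map.1 r hr.1)).2 fun i => ?_) _)
        by_cases hi : i < D.rank
        · rw [simple_eq_sum g hτ.map hr.1 i hi]
          refine Finset.sum_nonneg fun m hm => ?_
          by_cases hmJ : m ∈ J
          · have hpm := hposJ m hmJ
            exact mul_nonneg ((g.pos_iff r hr.1).1 hr m) ((g.pos_iff _ hpm.1).1 hpm i)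
          · rw [hin.2 m (Finset.mem_range.1 hm) (by simpa using hmJ), zero_mul]
        · rw [g.a_zero _ (hτ.map.1 r hr.1) i (not_lt.1 hi)]
      · refine (le_sup_left : _ ≤ S) ?_
        rw [radical_eq h]
        exact xG_mem_UP g ((outJ_iff h).2 ⟨hr, fun hc => hin ((inRootSub_iff h).1 hc)⟩) t
    · exact fun t ht => (le_sup_right : _ ≤ S) (Subgroup.mem_inf.2
        ⟨borel_le_parabolic _ (diagonal_le_borel ht),
          diag_mem_conj g hn (diagonal_le_borel.trans (borel_le_parabolic _)) ht⟩)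
  have hxS : p⁻¹ * (x : GL D.Idx F) * p ∈ S := by
    have h1 : p⁻¹ * u⁻¹ * (x : GL D.Idx F)⁻¹ * p ∈
        (D.parabolicSubgroup F (L : Set ℕ)).map (MulAut.conj n).toMonoidHom := by
      refine ⟨(n⁻¹ * p⁻¹ * y) * (((x : GL D.Idx F)⁻¹ * y)⁻¹ * (u * y))⁻¹ * (n⁻¹ * p⁻¹ * y)⁻¹,
        mul_mem (mul_mem hmem (inv_mem hfix)) (inv_mem hmem), ?_⟩
      simp only [MulEquiv.coe_toMonoidHom, MulAut.conj_apply]
      group
    have h2 : p⁻¹ * u⁻¹ * (x : GL D.Idx F)⁻¹ * p ∈ D.parabolicSubgroup F (J : Set ℕ) :=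
      mul_mem (mul_mem (mul_mem (inv_mem hp) (inv_mem (radical_le_parabolic h J hu))) (inv_mem hxJ)) hp
    have h3 : p⁻¹ * u⁻¹ * p⁻¹⁻¹ ∈ D.unipotentRadical F (J : Set ℕ) :=
      radical_conj h (inv_mem hp) (inv_mem hu)
    have h4 := mul_mem (inv_mem ((le_sup_right : _ ≤ S) (Subgroup.mem_inf.2 ⟨h2, h1⟩)))
      ((le_sup_left : _ ≤ S) h3)
    rwa [show (p⁻¹ * u⁻¹ * (x : GL D.Idx F)⁻¹ * p)⁻¹ * (p⁻¹ * u⁻¹ * p⁻¹⁻¹) =
      p⁻¹ * (x : GL D.Idx F) * p by group] at h4
  -- the subgroup `S` is the whole parabolic subgroup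
  have hall : ∀ j ∈ J, nS F g j ∈ S := by
    intro j hj
    by_contra hjS
    have hpG : p ∈ D.group F := parabolic_le_group g _ hp
    set M := J.filter fun i => nS F g i ∈ S
    refine hel M (Finset.filter_ssubset.2 ⟨j, hj, hjS⟩) ⟨p⁻¹, inv_mem hpG⟩ ?_
    show p⁻¹ * (x : GL D.Idx F) * p⁻¹⁻¹ ∈ D.parabolicSubgroup F (M : Set ℕ)
    rw [inv_inv]
    have hB : (bnPair (F := F) h.std).B ≤ S.subgroupOf (D.group F) := fun z hz => hBS hz
    have hzG : p⁻¹ * (x : GL D.Idx F) * p ∈ D.group F := mul_mem (mul_mem (inv_mem hpG) x.2) hpG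
    have hmem' : (⟨_, hzG⟩ : ↥(D.group F)) ∈ S.subgroupOf (D.group F) := hxS
    rw [BN.eq_parabolic_of_le (P := bnPair h.std) hB] at hmem'
    have hmap : ((bnPair (F := F) h.std).parabolic (BN.gens (bnPair h.std) (S.subgroupOf (D.group F)))).map
        (D.group F).subtype ≤ D.parabolicSubgroup F (M : Set ℕ) := by
      rw [Cfsg.BNPair.parabolic, Subgroup.map_sup]
      refine sup_le ?_ ?_
      · rintro z ⟨w, hw, rfl⟩
        exact borel_le_parabolic _ hw
      · rw [MonoidHom.map_closure, Subgroup.closure_le]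
        rintro z ⟨w, ⟨⟨i, hi, e⟩, hwM⟩, rfl⟩
        show (w : GL D.Idx F) ∈ D.parabolicSubgroup F (M : Set ℕ)
        rw [e]
        rw [Subgroup.mem_subgroupOf, e] at hwM
        exact nS_mem_parabolic g hi (Finset.mem_coe.2 (Finset.mem_filter.2
          ⟨Finset.mem_coe.1 (mem_J_of_nS_mem h hi (hSJ hwM)), hwM⟩))
    exact hmap ⟨_, hmem', rfl⟩
  have hgood : GoodW D J L σ := by
    refine ⟨hposL, fun j hj => ?_⟩
    have hj' := Finset.mem_range.1 (hJ hj)
    have hnj : nS F g j ∈ ((S : Subgroup _) : Set (GL D.Idx F)) := hall j hj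
    rw [hSdef, Subgroup.coe_mul_of_right_le_normalizer_left _ _ (inf_le_left.trans
      (by rw [radical_eq h]; exact parabolic_le_normalizer h _))] at hnj
    obtain ⟨v, hv, s, ⟨-, q, hq, hqs⟩, hvs⟩ := hnj
    have hqs' : n * q * n⁻¹ = s := hqs
    have hvB : v ∈ D.borelSubgroup F := pos_le_borel (radical_le_posUnipotent h J hv)
    by_contra hcon
    push Not at hcon
    have hpos' : PosAt g L (nS F g j * n) := (posAt_iff g ((acts_nS g hj').mul hσ)).2 fun l hl _ =>
      (refl_pos g hj' (hposL l hl) (hcon l hl)).1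
    have hpos : PosAt g L n := (posAt_iff g hσ).2 fun l hl _ => hposL l hl
    have hyq : v * n * q = nS F g j * n := by
      have hvs' : v * s = nS F g j := hvs
      rw [← hvs', ← hqs']; group
    have hqB : q ∈ D.borelSubgroup F := parabolic_pos_unique h.std (y := v * n) hn
      (mul_mem (nS_mem_monomial g hj') hn) hpos hpos' ((inCell_self n).left hvB) hq
      (by rw [hyq]; exact inCell_self _)
    have hd := inCell_unique h.std hn (mul_mem (nS_mem_monomial g hj') hn)
      (((inCell_self n).left hvB).right hqB : InCell D n (v * n * q)) (by rw [hyq]; exact inCell_self _)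
    rw [diagonalSubgroup_eq g] at hd
    obtain ⟨c, hc⟩ := hd
    obtain ⟨d, hd⟩ := monomial_conj_tor g hn c
    rw [hc, show n * (n⁻¹ * (nS F g j * n)) * n⁻¹ = nS F g j by group] at hd
    have := (acts_nS (F := F) g hj').unique (hd ▸ acts_tor g d) (simple_pos g hj').1
    rw [refl_simple g hj'] at this
    exact g.neg_ne _ (simple_pos g hj').1 this
  obtain ⟨v, hv, hvn⟩ := para_orbit h hL hn hσ hgood hp
  refine ⟨n, hn, σ, hσ, hgood, v, hv, ?_⟩
  rw [show (v * n)⁻¹ * y = (n⁻¹ * v⁻¹ * p * n) * (n⁻¹ * p⁻¹ * y) by group]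
  exact mul_mem hvn hmem

/-- the radical inside the group -/
noncomputable abbrev RI (D : ChevalleyDatum) (F : Type*) [Field F] (J : Finset ℕ) :
    Subgroup ↥(D.group F) := (D.unipotentRadical F (J : Set ℕ)).subgroupOf (D.group F)

theorem card_fixed_orbits (h : Para D A) {J L : Finset ℕ} (hJ : J ⊆ Finset.range D.rank)
    (hL : L ⊆ Finset.range D.rank) {x : ↥(D.group F)}
    (hxJ : (x : GL D.Idx F) ∈ D.parabolicSubgroup F (J : Set ℕ)) (hel : Elliptic D F J x) :
    Nat.card {ω : MulAction.orbitRel.Quotient (RI D F J) (↥(D.group F) ⧸ D.parabolicIn F L) //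
        x⁻¹ • ω.out ∈ MulAction.orbit (RI D F J) ω.out} =
      Nat.card {f // GoodF D A F h.std.good J L f} := by
  classical
  have g := h.std.good
  have hG : ∀ {n : GL D.Idx F}, n ∈ D.monomialSubgroup F → n ∈ D.group F :=
    fun hn => monomialSubgroup_le_group g hn
  let cl : {f // GoodF D A F g J L f} →
      MulAction.orbitRel.Quotient (RI D F J) (↥(D.group F) ⧸ D.parabolicIn F L) := fun f =>
    Quotient.mk'' ((⟨f.2.choose, hG f.2.choose_spec.1⟩ : ↥(D.group F)) :
      ↥(D.group F) ⧸ D.parabolicIn F L)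
  have hcl : ∀ f, x⁻¹ • (cl f).out ∈ MulAction.orbit (RI D F J) (cl f).out := by
    intro f
    obtain ⟨hn, σ, hσ, -, hgd⟩ := f.2.choose_spec
    set nG : ↥(D.group F) := ⟨f.2.choose, hG f.2.choose_spec.1⟩
    have hout : (cl f).out ∈ MulAction.orbit (RI D F J) (nG : ↥(D.group F) ⧸ D.parabolicIn F L) := by
      rw [← MulAction.orbitRel_apply, ← Quotient.eq'', Quotient.out_eq']
    obtain ⟨v, hv⟩ := hout
    rw [← hv, MulAction.orbit_smul]
    obtain ⟨w, hw, hwn⟩ := para_orbit h hL hn hσ hgd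
      (y := (x : GL D.Idx F)⁻¹ * ((v : ↥(D.group F)) : GL D.Idx F))
      (mul_mem (inv_mem hxJ) (radical_le_parabolic h J v.2))
    have hwG : w ∈ D.group F := parabolic_le_group g _ (radical_le_parabolic h J hw)
    refine ⟨⟨⟨w, hwG⟩, hw⟩, ?_⟩
    show ((⟨w, hwG⟩ * nG : ↥(D.group F)) : ↥(D.group F) ⧸ D.parabolicIn F L) =
      ((x⁻¹ * (v * nG) : ↥(D.group F)) : ↥(D.group F) ⧸ D.parabolicIn F L)
    rw [QuotientGroup.eq]
    show (w * f.2.choose)⁻¹ * ((x : GL D.Idx F)⁻¹ * (((v : ↥(D.group F)) : GL D.Idx F) * f.2.choose)) ∈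
      D.parabolicSubgroup F (L : Set ℕ)
    convert hwn using 1
    group
  symm
  refine Nat.card_congr (Equiv.ofBijective (fun f => ⟨cl f, hcl f⟩) ⟨?_, ?_⟩)
  · intro f f' e
    obtain ⟨hn, σ, hσ, hf, hgd⟩ := f.2.choose_spec
    obtain ⟨hn', σ', hσ', hf', hgd'⟩ := f'.2.choose_spec
    have e' := Quotient.eq''.1 (congrArg Subtype.val e)
    obtain ⟨u, hu⟩ := e'
    have hu2 : (((u : ↥(D.group F)) * (⟨f'.2.choose, hG f'.2.choose_spec.1⟩ : ↥(D.group F)) :
        ↥(D.group F)) : ↥(D.group F) ⧸ D.parabolicIn F L) =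
        ((⟨f.2.choose, hG f.2.choose_spec.1⟩ : ↥(D.group F)) : ↥(D.group F) ⧸ D.parabolicIn F L) := hu
    have hu' : (((u : ↥(D.group F)) : GL D.Idx F) * f'.2.choose)⁻¹ * f.2.choose ∈
        D.parabolicSubgroup F (L : Set ℕ) := (QuotientGroup.eq.1 hu2 :)
    have hp : PosAt g L f.2.choose := (posAt_iff g hσ).2 fun l hl _ => hgd.1 l hl
    have hp' : PosAt g L f'.2.choose := (posAt_iff g hσ').2 fun l hl _ => hgd'.1 l hl
    have huB : ((u : ↥(D.group F)) : GL D.Idx F) ∈ D.borelSubgroup F :=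
      pos_le_borel (radical_le_posUnipotent h J u.2)
    have hc : InCell D f'.2.choose (((u : ↥(D.group F)) : GL D.Idx F) * f'.2.choose) :=
      (inCell_self _).left huB
    have hB := parabolic_pos_unique h.std hn' hn hp' hp hc hu'
      (by rw [mul_inv_cancel_left]; exact inCell_self _)
    have hd := inCell_unique h.std hn' hn (hc.right hB)
      (by rw [mul_inv_cancel_left]; exact inCell_self _)
    refine Subtype.ext (funext fun r => Fin.ext ?_)
    rw [hf, hf']
    have := hσ'.mul (acts_diag g hd)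
    rw [mul_inv_cancel_left] at this
    exact (this.unique hσ r.isLt).symm
  · rintro ⟨ω, hω⟩
    obtain ⟨y, hy⟩ := QuotientGroup.mk_surjective ω.out
    obtain ⟨u, hu⟩ := hω
    rw [← hy] at hu
    have hu' : ((u : ↥(D.group F)) * y)⁻¹ * (x⁻¹ * y) ∈ D.parabolicIn F L := QuotientGroup.eq.1 hu
    obtain ⟨n, hn, σ, hσ, hgd, v, hv, hvn⟩ := good_of_fixed h hJ hL hxJ hel y.2 u.2 (by
      have := inv_mem hu'
      rw [_root_.mul_inv_rev, inv_inv] at this
      exact this)
    let f : Fin D.nroots → Fin D.nroots := fun r => ⟨σ r, hσ.map.1 r r.isLt⟩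
    have hf : GoodF D A F g J L f := ⟨n, hn, σ, hσ, fun _ => rfl, hgd⟩
    refine ⟨⟨f, hf⟩, Subtype.ext ?_⟩
    show Quotient.mk'' _ = ω
    rw [← Quotient.out_eq' ω, Quotient.eq'', MulAction.orbitRel_apply, ← hy]
    obtain ⟨hm, σ', hσ', hf', -⟩ := hf.choose_spec
    have hd := diag_of_same h.std hm hn hσ' hσ fun r hr => (hf' ⟨r, hr⟩).symm
    have hvG : v ∈ D.group F := parabolic_le_group g _ (radical_le_parabolic h J hv)
    refine ⟨⟨⟨v, hvG⟩⁻¹, inv_mem hv⟩, ?_⟩
    show (((⟨v, hvG⟩⁻¹ : ↥(D.group F)) * y : ↥(D.group F)) : ↥(D.group F) ⧸ D.parabolicIn F L) = _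
    rw [QuotientGroup.eq]
    show (v⁻¹ * (y : GL D.Idx F))⁻¹ * hf.choose ∈ D.parabolicSubgroup F (L : Set ℕ)
    have hd' : n⁻¹ * hf.choose ∈ D.parabolicSubgroup F (L : Set ℕ) := by
      have := inv_mem (diagonal_le_borel.trans (borel_le_parabolic (L : Set ℕ)) hd)
      simpa using this
    convert mul_mem (inv_mem hvn) hd' using 1
    group

open Classical in
/-- the Steinberg character summed over a coset of a normalised subgroup -/
theorem sum_steinberg (U : Subgroup ↥(D.group F)) [Fintype U] (x : ↥(D.group F))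
    (hnorm : ∀ u ∈ U, x⁻¹ * u * x ∈ U) :
    ∑ u : U, D.steinbergCharacter F (x * (u : ↥(D.group F))) =
      ((Nat.card U : ℤ) * ∑ L ∈ (Finset.range D.rank).powerset, (-1 : ℤ) ^ L.card *
        (Nat.card {ω : MulAction.orbitRel.Quotient U (↥(D.group F) ⧸ D.parabolicIn F L) //
          x⁻¹ • ω.out ∈ MulAction.orbit U ω.out} : ℤ) : ℤ) := by
  haveI : Finite (GL D.Idx F) := finite_GL
  simp only [ChevalleyDatum.steinbergCharacter, fixedPointCharacter]
  rw [Finset.sum_comm, Finset.mul_sum]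
  push_cast
  refine Finset.sum_congr rfl fun L _ => ?_
  rw [← Finset.mul_sum]
  have h1 := congrArg (fun m : ℕ => (m : ℂ))
    (sum_fix (X := ↥(D.group F) ⧸ D.parabolicIn F L) U x hnorm)
  simp only [Nat.cast_sum, Nat.cast_mul] at h1
  rw [show (∑ u : U, (Nat.card ↑(MulAction.fixedBy (↥(D.group F) ⧸ D.parabolicIn F L)
    (x * (u : ↥(D.group F)))) : ℂ)) = _ from h1]
  ring_nf
  rfl

theorem steinberg_conj (x y : ↥(D.group F)) :
    D.steinbergCharacter F (y * x * y⁻¹) = D.steinbergCharacter F x := by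
  haveI : Finite (GL D.Idx F) := finite_GL
  simp only [ChevalleyDatum.steinbergCharacter]
  exact Finset.sum_congr rfl fun J _ => by rw [isClassFunction_fixed _ x y]

/-- **the value at an element of order prime to `p`** -/
theorem steinberg_value (h : Para D A) {p : ℕ} [Fact p.Prime] [CharP F p] {x₀ : ↥(D.group F)}
    (hx₀ : ¬ p ∣ orderOf x₀) :
    D.steinbergCharacter F x₀ =
        ((p ^ (Nat.card ↥(Subgroup.centralizer ({x₀} : Set ↥(D.group F)))).factorization p : ℕ) : ℂ) ∨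
      D.steinbergCharacter F x₀ =
        -((p ^ (Nat.card ↥(Subgroup.centralizer ({x₀} : Set ↥(D.group F)))).factorization p : ℕ) : ℂ) := by
  classical
  haveI : Finite (GL D.Idx F) := finite_GL
  have g := h.std.good
  have hp : p.Prime := Fact.out
  -- an elliptic conjugate
  let P : ℕ → Prop := fun c => ∃ J : Finset ℕ, J ⊆ Finset.range D.rank ∧ J.card = c ∧
    ∃ y : ↥(D.group F), y * x₀ * y⁻¹ ∈ D.parabolicIn F J
  have hP : ∃ c, P c := ⟨_, Finset.range D.rank, subset_rfl, rfl, 1,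
    group_le_parabolic_range h ((1 : ↥(D.group F)) * x₀ * 1⁻¹).2⟩
  obtain ⟨J, hJ, hJc, y, hy⟩ := Nat.find_spec hP
  set x := y * x₀ * y⁻¹ with hx
  have hel : Elliptic D F J x := fun M hM z hz => by
    refine Nat.find_min hP (m := M.card) (hJc ▸ Finset.card_lt_card hM)
      ⟨M, hM.subset.trans hJ, rfl, z * y, ?_⟩
    convert hz using 1
    rw [hx]; group
  have hxord : ¬ p ∣ orderOf x := by
    rw [show orderOf x = orderOf x₀ from (MulAut.conj y).orderOf_eq x₀]; exact hx₀
  suffices D.steinbergCharacter F x =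
      ((p ^ (Nat.card ↥(Subgroup.centralizer ({x} : Set ↥(D.group F)))).factorization p : ℕ) : ℂ) ∨
    D.steinbergCharacter F x =
      -((p ^ (Nat.card ↥(Subgroup.centralizer ({x} : Set ↥(D.group F)))).factorization p : ℕ) : ℂ) by
    have hC : (Subgroup.centralizer ({x₀} : Set ↥(D.group F))).map (MulAut.conj y).toMonoidHom =
        Subgroup.centralizer ({x} : Set ↥(D.group F)) := by
      ext z
      simp only [Subgroup.mem_map, Subgroup.mem_centralizer_singleton_iff,
        MulEquiv.coe_toMonoidHom, MulAut.conj_apply]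
      constructor
      · rintro ⟨w, hw, rfl⟩
        calc _ = y * (w * x₀) * y⁻¹ := by rw [hx]; group
          _ = y * (x₀ * w) * y⁻¹ := by rw [hw]
          _ = _ := by rw [hx]; group
      · intro hz
        refine ⟨y⁻¹ * z * y, ?_, by group⟩
        calc y⁻¹ * z * y * x₀ = y⁻¹ * (z * x) * y := by rw [hx]; group
          _ = y⁻¹ * (x * z) * y := by rw [hz]
          _ = _ := by rw [hx]; group
    rwa [hx, steinberg_conj, ← hx, ← hC,
      ← Nat.card_congr ((Subgroup.centralizer ({x₀} : Set ↥(D.group F))).equivMapOfInjective _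
        (MulAut.conj y).injective).toEquiv] at this
  set C := Subgroup.centralizer ({x} : Set ↥(D.group F))
  haveI : Fintype ↥(D.group F) := Fintype.ofFinite _
  -- divisibility by the `p`-part of the centralizer
  obtain ⟨Q₀⟩ : Nonempty (Sylow p C) := inferInstance
  set Q : Subgroup ↥(D.group F) := (Q₀ : Subgroup C).map C.subtype
  have hQcard : Nat.card Q = p ^ (Nat.card C).factorization p := by
    rw [← Sylow.card_eq_multiplicity Q₀]
    exact (Nat.card_congr ((Q₀ : Subgroup C).equivMapOfInjective _ C.subtype_injective).toEquiv).symm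
  have hQC : Q ≤ C := Subgroup.map_subtype_le _
  have hcommQ : ∀ u ∈ Q, x * u = u * x := fun u hu =>
    (Subgroup.mem_centralizer_singleton_iff.1 (hQC hu)).symm
  obtain ⟨z, hz⟩ : ∃ z : ℤ, D.steinbergCharacter F x = ((Nat.card Q : ℤ) * z : ℤ) := by
    refine ⟨_, Eq.trans ?_ (sum_steinberg Q x fun u hu => ?_)⟩
    · rw [Finset.sum_eq_single (1 : Q)]
      · simp
      · intro u _ hu
        refine steinberg_vanishes h.std (p := p) ?_
        have hc : Commute x (u : ↥(D.group F)) := hcommQ u u.2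
        obtain ⟨k, hk⟩ := (Q₀.2.map C.subtype) u
        have hu1 : orderOf (u : ↥(D.group F)) ∣ p ^ k :=
          orderOf_dvd_of_pow_eq_one (congrArg Subtype.val hk)
        obtain ⟨i, -, hi⟩ := (Nat.dvd_prime_pow hp).1 hu1
        have hcop : (orderOf x).Coprime (orderOf (u : ↥(D.group F))) := by
          rw [hi]; exact Nat.Coprime.pow_right _ ((hp.coprime_iff_not_dvd.2 hxord).symm)
        rw [hc.orderOf_mul_eq_mul_orderOf_of_coprime hcop, hi]
        refine dvd_mul_of_dvd_right (dvd_pow_self p ?_) _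
        rintro rfl
        rw [pow_zero, orderOf_eq_one_iff] at hi
        exact hu (Subtype.ext hi)
      · simp
    · rw [mul_assoc, ← hcommQ u hu, inv_mul_cancel_left]; exact hu
  -- the value up to sign
  set U := RI D F J
  have hnormx : ∀ w : ↥(D.group F), w ∈ D.parabolicIn F J → ∀ u ∈ U, w * u * w⁻¹ ∈ U :=
    fun w hw u hu => radical_conj h hw hu
  have hnorm : ∀ u ∈ U, x⁻¹ * u * x ∈ U := fun u hu => by
    have := hnormx x⁻¹ (inv_mem hy) u hu
    rwa [inv_inv] at this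
  obtain ⟨k, -, hq⟩ := FiniteField.card F p
  have hposU : IsPGroup p (D.posUnipotent F) := IsPGroup.of_card (n := k * (D.nroots / 2)) (by
    rw [card_posUnipotent h.std, hq, ← pow_mul])
  have hUp : IsPGroup p U := (hposU.to_le (radical_le_posUnipotent h J)).of_equiv
    (Subgroup.subgroupOfEquivOfLe ((radical_le_parabolic h J).trans (parabolic_le_group g _))).symm
  have hsum := sum_steinberg U x hnorm
  rw [Finset.sum_congr rfl fun L hL => congrArg (fun m : ℕ => (-1 : ℤ) ^ L.card * (m : ℤ))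
    (card_fixed_orbits h hJ (L := L) (Finset.mem_powerset.1 hL) (mem_parabolicIn.1 hy) hel),
    card_goodF_alt h.std hJ] at hsum
  set C₀ : Subgroup ↥(D.group F) := U ⊓ C
  have hconj : ∀ u : U, ¬ p ∣ orderOf (x * (u : ↥(D.group F))) →
      ∃ v : U, (v : ↥(D.group F)) * x * (v : ↥(D.group F))⁻¹ = x * u := by
    intro u hu
    obtain ⟨m, hm⟩ := IsPGroup.iff_card.1 hUp
    have hcop : ∀ w : ↥(D.group F), ¬ p ∣ orderOf w →
        (Nat.card U).Coprime (Nat.card (Subgroup.zpowers w)) := fun w hw => by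
      rw [hm, Nat.card_zpowers]
      exact Nat.Coprime.pow_left _ (hp.coprime_iff_not_dvd.2 hw)
    have hN : Subgroup.zpowers x ≤ Subgroup.normalizer (U : Set ↥(D.group F)) := by
      rw [Subgroup.zpowers_le, Subgroup.mem_normalizer_iff]
      refine fun w => ⟨fun hw => hnormx x hy w hw, fun hw => ?_⟩
      have := hnorm _ hw
      simpa [mul_assoc] using this
    haveI : Group.IsNilpotent U := hUp.isNilpotent
    obtain ⟨a, ha, hle⟩ := Coprime.sz_conj_le (N := U) (H := Subgroup.zpowers x)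
      (U := Subgroup.zpowers (x * (u : ↥(D.group F)))) hN
      (by rw [Subgroup.zpowers_le]
          exact mul_mem (Subgroup.mem_sup_right (Subgroup.mem_zpowers x)) (Subgroup.mem_sup_left u.2))
      (hcop x hxord) (hcop _ hu) (Or.inl inferInstance)
    have h1 : a * (x * u) * a⁻¹ ∈ Subgroup.zpowers x :=
      hle (Subgroup.smul_mem_pointwise_smul _ _ _ (Subgroup.mem_zpowers _))
    have h2 : x⁻¹ * (a * (x * u) * a⁻¹) ∈ U := by
      rw [show x⁻¹ * (a * (x * u) * a⁻¹) = (x⁻¹ * a * x) * u * a⁻¹ by group]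
      exact mul_mem (mul_mem (hnorm a ha) u.2) (inv_mem ha)
    have h3 : x⁻¹ * (a * (x * u) * a⁻¹) = 1 := orderOf_eq_one_iff.1
      (Nat.eq_one_of_dvd_coprimes (hcop x hxord) (U.orderOf_dvd_natCard h2)
        ((Subgroup.zpowers x).orderOf_dvd_natCard (mul_mem (inv_mem (Subgroup.mem_zpowers x)) h1)))
    refine ⟨⟨a⁻¹, inv_mem ha⟩, ?_⟩
    have h4 := congrArg (fun w => a⁻¹ * (x * w) * a) h3
    simp only [mul_one, mul_inv_cancel_left] at h4
    simp only [inv_inv]
    rw [← h4]; group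
  let T := Finset.univ.filter fun u : U => ¬ p ∣ orderOf (x * (u : ↥(D.group F)))
  have hTsum : ∑ u : U, D.steinbergCharacter F (x * (u : ↥(D.group F))) =
      (T.card : ℂ) * D.steinbergCharacter F x := by
    rw [← Finset.sum_subset (Finset.subset_univ T) fun u _ hu =>
      steinberg_vanishes h.std (p := p) (by simpa [T] using hu)]
    rw [Finset.sum_congr rfl fun u hu => ?_, Finset.sum_const, nsmul_eq_mul]
    obtain ⟨v, hv⟩ := hconj u (Finset.mem_filter.1 hu).2
    rw [← hv, steinberg_conj]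
  let φ : U → U := fun v => ⟨x⁻¹ * (v : ↥(D.group F)) * x * (v : ↥(D.group F))⁻¹,
    mul_mem (hnorm v v.2) (inv_mem v.2)⟩
  have hφ : ∀ v : U, x * (φ v : ↥(D.group F)) = (v : ↥(D.group F)) * x * (v : ↥(D.group F))⁻¹ :=
    fun v => by simp only [φ]; group
  have hφT : ∀ v, φ v ∈ T := fun v => by
    simp only [T, Finset.mem_filter, Finset.mem_univ, true_and, hφ]
    rwa [show orderOf ((v : ↥(D.group F)) * x * (v : ↥(D.group F))⁻¹) = orderOf x from
      (MulAut.conj (v : ↥(D.group F))).orderOf_eq x]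
  have hcardU : Nat.card U = T.card * Nat.card C₀ := by
    rw [Nat.card_eq_fintype_card, ← Finset.card_univ,
      Finset.card_eq_sum_card_fiberwise (t := T) (f := φ) (fun v _ => hφT v)]
    rw [Finset.sum_congr rfl fun u hu => ?_, Finset.sum_const, smul_eq_mul]
    obtain ⟨v₀, hv₀⟩ := hconj u (Finset.mem_filter.1 hu).2
    rw [← Fintype.card_subtype, ← Nat.card_eq_fintype_card]
    refine Nat.card_congr
      { toFun := fun v => ⟨(v₀ : ↥(D.group F))⁻¹ * (v.1 : ↥(D.group F)),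
          Subgroup.mem_inf.2 ⟨mul_mem (inv_mem v₀.2) v.1.2, ?_⟩⟩
        invFun := fun c => ⟨v₀ * ⟨c.1, c.2.1⟩, ?_⟩
        left_inv := fun v => by ext1; ext1; simp
        right_inv := fun c => by ext1; simp }
    · have h1 := hφ v.1
      rw [v.2, ← hv₀] at h1
      rw [Subgroup.mem_centralizer_singleton_iff]
      calc (v₀ : ↥(D.group F))⁻¹ * v.1 * x
          = (v₀ : ↥(D.group F))⁻¹ * ((v.1 : ↥(D.group F)) * x * (v.1 : ↥(D.group F))⁻¹) * v.1 := by group
        _ = (v₀ : ↥(D.group F))⁻¹ * ((v₀ : ↥(D.group F)) * x * (v₀ : ↥(D.group F))⁻¹) * v.1 := by rw [← h1]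
        _ = _ := by group
    · refine Subtype.ext (mul_left_cancel (a := x) ?_)
      rw [hφ, ← hv₀]
      have hc := Subgroup.mem_centralizer_singleton_iff.1 c.2.2
      simp only [Subgroup.coe_mul]
      calc _ = (v₀ : ↥(D.group F)) * ((c : ↥(D.group F)) * x) * (c : ↥(D.group F))⁻¹ *
            (v₀ : ↥(D.group F))⁻¹ := by group
        _ = (v₀ : ↥(D.group F)) * (x * c) * (c : ↥(D.group F))⁻¹ * (v₀ : ↥(D.group F))⁻¹ := by rw [hc]
        _ = _ := by group
  have hT0 : T.card ≠ 0 := Finset.card_ne_zero.2 ⟨φ 1, hφT 1⟩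
  have hval : D.steinbergCharacter F x = (((Nat.card C₀ : ℤ) * (-1) ^ J.card : ℤ) : ℂ) := by
    refine mul_left_cancel₀ (Nat.cast_ne_zero.2 hT0) ?_
    rw [← hTsum, hsum, hcardU]
    push_cast; ring
  have hdvd : Nat.card Q ∣ Nat.card C₀ := by
    have : ((Nat.card Q : ℤ) * z) = (Nat.card C₀ : ℤ) * (-1) ^ J.card :=
      Int.cast_injective (α := ℂ) (hz.symm.trans hval)
    have h1 := congrArg Int.natAbs this
    simp only [Int.natAbs_mul, Int.natAbs_natCast, Int.natAbs_pow, Int.natAbs_neg, Int.natAbs_one,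
      one_pow, mul_one] at h1
    exact ⟨_, h1.symm⟩
  have hdvd' : Nat.card C₀ ∣ Nat.card Q := by
    obtain ⟨m, hm⟩ := IsPGroup.iff_card.1 (hUp.to_le (inf_le_left : C₀ ≤ U))
    rw [hQcard, hm]
    exact pow_dvd_pow p ((hp.pow_dvd_iff_le_factorization Nat.card_pos.ne').1
      (hm ▸ Subgroup.card_dvd_of_le inf_le_right))
  rw [← hQcard, Nat.dvd_antisymm hdvd hdvd', hval]
  rcases Nat.even_or_odd J.card with he | ho
  · left; rw [he.neg_one_pow]; simp
  · right; rw [ho.neg_one_pow]; simp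

end CfsgLib.Chev.StVal
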