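/-
Conjugate torus elements are conjugate in the monomial subgroup.
-/
import Cfsg.Agent.Lib.Chev.BN2

set_option autoImplicit false

namespace CfsgLib.Chev

open Cfsg.Lie Matrix

variable {D : ChevalleyDatum} {A : Aux} {F : Type*} [Field F]

/-- weakly triangular matrices with zero entries inside the weight blocks off the diagonal -/
def WTri (w : D.Idx → ℤ) (M : Matrix D.Idx D.Idx F) : Prop :=
  ∀ x y, w x ≤ w y → x ≠ y → M x y = 0

lemma wtri_mul {w : D.Idx → ℤ} {M N : Matrix D.Idx D.Idx F} (hM : WTri w M) (hN : WTri w N) :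
    WTri w (M * N) := by
  intro x y hxy hne
  rw [Matrix.mul_apply]
  refine Finset.sum_eq_zero fun z _ => ?_
  by_cases hxz : x = z
  · subst hxz; rw [hN x y hxy hne, mul_zero]
  · by_cases hw : w x ≤ w z
    · rw [hM x z hw hxz, zero_mul]
    · rw [hN z y (by omega) (fun e => by subst e; omega), mul_zero]

lemma wtri_mul_diag {w : D.Idx → ℤ} {M N : Matrix D.Idx D.Idx F} (hM : WTri w M) (hN : WTri w N)
    (x : D.Idx) : (M * N) x x = M x x * N x x := by
  rw [Matrix.mul_apply, Finset.sum_eq_single x]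
  · intro z _ hzx
    by_cases hw : w x ≤ w z
    · rw [hM x z hw (Ne.symm hzx), zero_mul]
    · rw [hN z x (by omega) hzx, mul_zero]
  · simp

lemma wtri_pow {w : D.Idx → ℤ} {M : Matrix D.Idx D.Idx F} (hM : WTri w M) (k : ℕ) :
    WTri w (M ^ k) ∧ ∀ x, (M ^ k) x x = M x x ^ k := by
  induction k with
  | zero => exact ⟨fun x y _ hne => by simp [Matrix.one_apply_ne hne], fun x => by simp⟩
  | succ k ih =>
    refine ⟨by rw [pow_succ]; exact wtri_mul ih.1 hM, fun x => ?_⟩
    rw [pow_succ, wtri_mul_diag ih.1 hM, ih.2, pow_succ]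

/-- a conjugate of a unipotent element lying in `U tor(e)` forces `tor e = 1` -/
lemma tor_eq_one_of_conj (h : Std D A) {x y m : GL D.Idx F} (hx : x ∈ D.posUnipotent F)
    (hy : y ∈ D.posUnipotent F) {e : Fin D.rank → Fˣ} (he : m * x * m⁻¹ = y * tor D A e) :
    (tor D A e : GL D.Idx F) = 1 := by
  classical
  have hxt := (posUnipotent_le_triG h hx).1
  have hyt := (posUnipotent_le_triG h hy).1
  set w : D.Idx → ℤ := fun z => 1 * wgt D A z
  set k := Fintype.card D.Idx
  have hnil : ((x : Matrix D.Idx D.Idx F) - 1) ^ k = 0 :=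
    pow_eq_zero_of_lt (w := w) (fun a b hab => by
      rw [Matrix.sub_apply, hxt a b (by simpa using hab), Matrix.one_apply, sub_self]) le_rfl
  have hconj : ∀ j : ℕ, (((m * x * m⁻¹ : GL D.Idx F) : Matrix D.Idx D.Idx F) - 1) ^ j =
      (m : Matrix D.Idx D.Idx F) * ((x : Matrix D.Idx D.Idx F) - 1) ^ j *
        ((m⁻¹ : GL D.Idx F) : Matrix D.Idx D.Idx F) := by
    have e1 : ((m * x * m⁻¹ : GL D.Idx F) : Matrix D.Idx D.Idx F) - 1 =
        (m : Matrix D.Idx D.Idx F) * ((x : Matrix D.Idx D.Idx F) - 1) *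
          ((m⁻¹ : GL D.Idx F) : Matrix D.Idx D.Idx F) := by
      rw [Matrix.mul_sub, Matrix.sub_mul, mul_one, Units.mul_inv]; rfl
    intro j
    induction j with
    | zero => simp
    | succ j ih =>
      rw [pow_succ, ih, e1, pow_succ]
      simp only [mul_assoc, Units.inv_mul_cancel_left]
  set T := ((m * x * m⁻¹ : GL D.Idx F) : Matrix D.Idx D.Idx F) - 1
  have hT : T ^ k = 0 := by rw [hconj k, hnil]; simp
  have hW : WTri w T ∧ ∀ a, T a a =
      (tor D A e : GL D.Idx F).val a a - 1 := by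
    have hT' : T = (y : Matrix D.Idx D.Idx F) * dia D (fun s => (chi D A e s : F)) - 1 := by
      show _ - 1 = _ - 1
      rw [he, Units.val_mul, tor_val]
    refine ⟨fun a b hab hne => ?_, fun a => ?_⟩
    · rw [hT', Matrix.sub_apply, Matrix.one_apply_ne hne, dia, Matrix.mul_diagonal,
        hyt a b (by simpa using hab), if_neg hne, zero_mul, sub_zero]
    · rw [hT', Matrix.sub_apply, Matrix.one_apply_eq, tor_val, dia, Matrix.mul_diagonal,
        hyt a a (by simp), if_pos rfl, one_mul, Matrix.diagonal_apply_eq]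
  apply Units.ext
  ext a b
  rw [tor_val, Units.val_one, Matrix.one_apply]
  by_cases hab : a = b
  · subst hab
    have := (wtri_pow hW.1 k).2 a
    rw [hT, hW.2, Matrix.zero_apply, eq_comm] at this
    have := sub_eq_zero.1 (eq_zero_of_pow_eq_zero this)
    rw [if_pos rfl, ← tor_val]; exact this
  · rw [if_neg hab, dia, Matrix.diagonal_apply_ne _ hab]

lemma diagonal_mem_iff (g : Good D A) {y : GL D.Idx F} :
    y ∈ D.diagonalSubgroup F ↔ ∃ c, tor D A c = y := by
  rw [diagonalSubgroup_eq g]; rfl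

theorem torus_conj (h : Std D A) {h₁ h₂ y : GL D.Idx F} (h1 : h₁ ∈ D.diagonalSubgroup F)
    (h2 : h₂ ∈ D.diagonalSubgroup F) (hy : y ∈ D.group F) (hc : y * h₁ * y⁻¹ = h₂) :
    ∃ n ∈ D.monomialSubgroup F, n * h₁ * n⁻¹ = h₂ := by
  obtain ⟨b, hb, n, hn, b', hb', rfl⟩ := bruhat h hy
  obtain ⟨c₁, rfl⟩ := (diagonal_mem_iff h.good).1 h1
  obtain ⟨c₂, rfl⟩ := (diagonal_mem_iff h.good).1 h2
  obtain ⟨u, hu, c, rfl⟩ := (mem_borel_iff h.good).1 hb
  obtain ⟨v, hv, c', rfl⟩ := (mem_borel_iff h.good).1 hb'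
  -- absorb the torus part of `b` into `n`
  set m := tor D A c * n
  have hm : m ∈ D.monomialSubgroup F := mul_mem (tor_mem_monomial h.good c) hn
  obtain ⟨d, hd⟩ := monomial_conj_tor h.good (inv_mem hm) c₂
  rw [inv_inv] at hd
  refine ⟨m, hm, ?_⟩
  set x := u⁻¹ * (tor D A c₂ * u * (tor D A c₂)⁻¹)
  have hx : x ∈ D.posUnipotent F := mul_mem (inv_mem hu) (tor_conj_posUnipotent h.good c₂ hu)
  set z := v * (tor D A c₁ * v⁻¹ * (tor D A c₁)⁻¹)
  have hz : z ∈ D.posUnipotent F := mul_mem hv (tor_conj_posUnipotent h.good c₁ (inv_mem hv))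
  have e : m * (z * tor D A c₁) * m⁻¹ = x * tor D A c₂ := by
    have hcomm : tor D A c' * tor D A c₁ * (tor D A c')⁻¹ = (tor D A c₁ : GL D.Idx F) := by
      rw [tor_mul_comm, mul_inv_cancel_right]
    rw [show m * (z * tor D A c₁) * m⁻¹ = u⁻¹ * ((u * m * v) * tor D A c₁ * (u * m * v)⁻¹) * u by
      simp only [z, m]; group]
    rw [show u * m * v * tor D A c₁ * (u * m * v)⁻¹ = tor D A c₂ by
      rw [← hc]; conv_lhs => rw [← hcomm]
      simp only [m]; group]
    simp only [x]; group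
  have e' : m⁻¹ * x * m = z * tor D A (c₁ * d⁻¹) := by
    rw [map_mul, map_inv, ← hd]
    calc m⁻¹ * x * m = (m⁻¹ * (x * tor D A c₂) * m) * (m⁻¹ * tor D A c₂ * m)⁻¹ := by group
      _ = (m⁻¹ * (m * (z * tor D A c₁) * m⁻¹) * m) * (m⁻¹ * tor D A c₂ * m)⁻¹ := by rw [e]
      _ = z * (tor D A c₁ * (m⁻¹ * tor D A c₂ * m)⁻¹) := by group
  have h1' := tor_eq_one_of_conj h (m := m⁻¹) hx hz (by rwa [inv_inv])
  rw [map_mul, map_inv, mul_inv_eq_one] at h1'
  rw [h1', ← hd]; group

end CfsgLib.Chev
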